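import Mathlib
import Cfsg.Agent.Lib.Lie.CentralTable

/-!
Data for the multiplier of the Higman–Sims group: the alternating group of degree seven.
-/

set_option autoImplicit false
set_option maxRecDepth 40000
set_option maxHeartbeats 4000000

namespace Cfsg.Agent.Lie.HigmanSimsMult

open Cfsg.Agent.Lie

def certANext0 : Janko.Tree (ℕ) :=
  (.node (.node (.node (.node (.node (.leaf 0) (.leaf 47)) (.leaf 199)) (.node (.node (.leaf 80) (.leaf 305)) (.leaf 273))) (.node (.node (.node (.leaf 58) (.leaf 311)) (.leaf 146)) (.node (.node (.leaf 150) (.leaf 157)) (.leaf 303)))) (.node (.node (.node (.node (.leaf 30) (.leaf 45)) (.leaf 112)) (.node (.node (.leaf 127) (.leaf 124)) (.leaf 288))) (.node (.node (.node (.leaf 84) (.leaf 344)) (.leaf 256)) (.node (.leaf 173) (.leaf 174)))))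

def certANext1 : Janko.Tree (ℕ) :=
  (.node (.node (.node (.node (.node (.leaf 1) (.leaf 237)) (.leaf 200)) (.node (.node (.leaf 106) (.leaf 352)) (.leaf 94))) (.node (.node (.node (.leaf 59) (.leaf 338)) (.leaf 148)) (.node (.node (.leaf 51) (.leaf 241)) (.leaf 304)))) (.node (.node (.node (.node (.leaf 4) (.leaf 244)) (.leaf 222)) (.node (.node (.leaf 24) (.leaf 353)) (.leaf 83))) (.node (.node (.node (.leaf 37) (.leaf 145)) (.leaf 257)) (.node (.leaf 174) (.leaf 317)))))

def certANext2 : Janko.Tree (ℕ) :=
  (.node (.node (.node (.node (.node (.leaf 2) (.leaf 252)) (.leaf 201)) (.node (.node (.leaf 52) (.leaf 183)) (.leaf 274))) (.node (.node (.node (.leaf 60) (.leaf 149)) (.leaf 239)) (.node (.node (.leaf 151) (.leaf 350)) (.leaf 276)))) (.node (.node (.node (.node (.leaf 31) (.leaf 139)) (.leaf 223)) (.node (.node (.leaf 128) (.leaf 187)) (.leaf 135))) (.node (.node (.node (.leaf 85) (.leaf 104)) (.leaf 258)) (.node (.leaf 175) (.leaf 122)))))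

def certANext3 : Janko.Tree (ℕ) :=
  (.node (.node (.node (.node (.node (.leaf 3) (.leaf 113)) (.leaf 202)) (.node (.node (.leaf 107) (.leaf 235)) (.leaf 243))) (.node (.node (.node (.leaf 61) (.leaf 344)) (.leaf 62)) (.node (.node (.leaf 30) (.leaf 301)) (.leaf 305)))) (.node (.node (.node (.node (.leaf 32) (.leaf 260)) (.leaf 224)) (.node (.node (.leaf 129) (.leaf 357)) (.leaf 289))) (.node (.node (.node (.leaf 86) (.leaf 350)) (.leaf 259)) (.node (.leaf 176) (.leaf 320)))))

def certANext4 : Janko.Tree (ℕ) :=
  (.node (.node (.node (.node (.node (.leaf 4) (.leaf 42)) (.leaf 203)) (.node (.node (.leaf 108) (.leaf 211)) (.leaf 228))) (.node (.node (.node (.leaf 62) (.leaf 341)) (.leaf 88)) (.node (.node (.leaf 152) (.leaf 181)) (.leaf 75)))) (.node (.node (.node (.node (.leaf 33) (.leaf 337)) (.leaf 225)) (.node (.node (.leaf 130) (.leaf 222)) (.leaf 290))) (.node (.node (.node (.leaf 87) (.leaf 238)) (.leaf 8)) (.node (.leaf 177) (.leaf 192)))))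

def certANext5 : Janko.Tree (ℕ) :=
  (.node (.node (.node (.node (.node (.leaf 5) (.leaf 330)) (.leaf 204)) (.node (.node (.leaf 19) (.leaf 288)) (.leaf 76))) (.node (.node (.node (.leaf 9) (.leaf 169)) (.leaf 240)) (.node (.node (.leaf 109) (.leaf 356)) (.leaf 306)))) (.node (.node (.node (.node (.leaf 34) (.leaf 339)) (.leaf 53)) (.node (.node (.leaf 131) (.leaf 322)) (.leaf 291))) (.node (.node (.node (.leaf 88) (.leaf 205)) (.leaf 71)) (.node (.leaf 178) (.leaf 165)))))

def certANext6 : Janko.Tree (ℕ) :=
  (.node (.node (.node (.node (.node (.leaf 6) (.leaf 70)) (.leaf 205)) (.node (.node (.leaf 109) (.leaf 353)) (.leaf 275))) (.node (.node (.node (.leaf 63) (.leaf 297)) (.leaf 68)) (.node (.node (.leaf 153) (.leaf 310)) (.leaf 307)))) (.node (.node (.node (.node (.leaf 35) (.leaf 340)) (.leaf 226)) (.node (.node (.leaf 132) (.leaf 269)) (.leaf 292))) (.node (.node (.node (.leaf 89) (.leaf 281)) (.leaf 260)) (.node (.leaf 168) (.leaf 32)))))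

def certANext7 : Janko.Tree (ℕ) :=
  (.node (.node (.node (.node (.node (.leaf 0) (.leaf 324)) (.leaf 46)) (.node (.node (.leaf 96) (.leaf 167)) (.leaf 276))) (.node (.node (.node (.leaf 64) (.leaf 134)) (.leaf 63)) (.node (.node (.leaf 154) (.leaf 262)) (.leaf 193)))) (.node (.node (.node (.node (.leaf 36) (.leaf 217)) (.leaf 115)) (.node (.node (.leaf 133) (.leaf 358)) (.leaf 84))) (.node (.node (.node (.leaf 67) (.leaf 277)) (.leaf 141)) (.node (.leaf 108) (.leaf 227)))))

def certANext8 : Janko.Tree (ℕ) :=
  (.node (.node (.node (.node (.node (.leaf 7) (.leaf 118)) (.leaf 206)) (.node (.node (.leaf 110) (.leaf 216)) (.leaf 277))) (.node (.node (.node (.leaf 65) (.leaf 345)) (.leaf 241)) (.node (.node (.leaf 155) (.leaf 346)) (.leaf 308)))) (.node (.node (.node (.node (.leaf 37) (.leaf 320)) (.leaf 227)) (.node (.node (.leaf 134) (.leaf 352)) (.leaf 236))) (.node (.node (.node (.leaf 90) (.leaf 212)) (.leaf 261)) (.node (.leaf 179) (.leaf 321)))))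

def certANext9 : Janko.Tree (ℕ) :=
  (.node (.node (.node (.node (.node (.leaf 8) (.leaf 331)) (.leaf 207)) (.node (.node (.leaf 48) (.leaf 177)) (.leaf 278))) (.node (.node (.node (.leaf 66) (.leaf 213)) (.leaf 153)) (.node (.node (.leaf 44) (.leaf 359)) (.leaf 160)))) (.node (.node (.node (.node (.leaf 38) (.leaf 263)) (.leaf 228)) (.node (.node (.leaf 135) (.leaf 348)) (.leaf 293))) (.node (.node (.node (.leaf 91) (.leaf 239)) (.leaf 132)) (.node (.leaf 39) (.leaf 190)))))

def certANext10 : Janko.Tree (ℕ) :=
  (.node (.node (.node (.node (.node (.leaf 9) (.leaf 272)) (.leaf 120)) (.node (.node (.leaf 111) (.leaf 354)) (.leaf 279))) (.node (.node (.node (.leaf 67) (.leaf 313)) (.leaf 242)) (.node (.node (.leaf 156) (.leaf 332)) (.leaf 309)))) (.node (.node (.node (.node (.leaf 39) (.leaf 172)) (.leaf 229)) (.node (.node (.leaf 136) (.leaf 283)) (.leaf 294))) (.node (.node (.node (.leaf 92) (.leaf 291)) (.leaf 262)) (.node (.leaf 180) (.leaf 322)))))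

def certANext11 : Janko.Tree (ℕ) :=
  (.node (.node (.node (.node (.node (.leaf 10) (.leaf 117)) (.leaf 208)) (.node (.node (.leaf 112) (.leaf 300)) (.leaf 280))) (.node (.node (.node (.leaf 68) (.leaf 136)) (.leaf 229)) (.node (.node (.leaf 157) (.leaf 268)) (.leaf 242)))) (.node (.node (.node (.node (.leaf 40) (.leaf 341)) (.leaf 55)) (.node (.node (.leaf 137) (.leaf 307)) (.leaf 279))) (.node (.node (.node (.leaf 93) (.leaf 308)) (.leaf 261)) (.node (.leaf 181) (.leaf 323)))))

def certANext12 : Janko.Tree (ℕ) :=
  (.node (.node (.node (.node (.node (.leaf 11) (.leaf 306)) (.leaf 209)) (.node (.node (.leaf 25) (.leaf 278)) (.leaf 154))) (.node (.node (.node (.leaf 69) (.leaf 189)) (.leaf 243)) (.node (.node (.leaf 158) (.leaf 333)) (.leaf 248)))) (.node (.node (.node (.node (.leaf 41) (.leaf 61)) (.leaf 230)) (.node (.node (.leaf 138) (.leaf 359)) (.leaf 29))) (.node (.node (.node (.leaf 94) (.leaf 295)) (.leaf 263)) (.node (.leaf 182) (.leaf 302)))))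

def certANext13 : Janko.Tree (ℕ) :=
  (.node (.node (.node (.node (.node (.leaf 12) (.leaf 332)) (.leaf 210)) (.node (.node (.leaf 20) (.leaf 258)) (.leaf 156))) (.node (.node (.node (.leaf 70) (.leaf 346)) (.leaf 65)) (.node (.node (.leaf 57) (.leaf 274)) (.leaf 164)))) (.node (.node (.node (.node (.leaf 42) (.leaf 125)) (.leaf 231)) (.node (.node (.leaf 26) (.leaf 287)) (.leaf 85))) (.node (.node (.node (.leaf 15) (.leaf 150)) (.leaf 220)) (.node (.leaf 183) (.leaf 312)))))

def certANext14 : Janko.Tree (ℕ) :=
  (.node (.node (.node (.node (.node (.leaf 13) (.leaf 327)) (.leaf 14)) (.node (.node (.leaf 113) (.leaf 116)) (.leaf 259))) (.node (.node (.node (.leaf 71) (.leaf 331)) (.leaf 244)) (.node (.node (.leaf 159) (.leaf 357)) (.leaf 133)))) (.node (.node (.node (.node (.leaf 43) (.leaf 267)) (.leaf 23)) (.node (.node (.leaf 131) (.leaf 351)) (.leaf 107))) (.node (.node (.node (.leaf 93) (.leaf 233)) (.leaf 264)) (.node (.leaf 184) (.leaf 324)))))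

def certANext15 : Janko.Tree (ℕ) :=
  (.node (.node (.node (.node (.node (.leaf 14) (.leaf 195)) (.leaf 211)) (.node (.node (.leaf 114) (.leaf 223)) (.leaf 281))) (.node (.node (.node (.leaf 72) (.leaf 271)) (.leaf 245)) (.node (.node (.leaf 33) (.leaf 354)) (.leaf 310)))) (.node (.node (.node (.node (.leaf 6) (.leaf 292)) (.leaf 232)) (.node (.node (.leaf 139) (.leaf 265)) (.leaf 295))) (.node (.node (.node (.leaf 95) (.leaf 151)) (.leaf 73)) (.node (.leaf 185) (.leaf 325)))))

def certANext16 : Janko.Tree (ℕ) :=
  (.node (.node (.node (.node (.node (.leaf 15) (.leaf 66)) (.leaf 10)) (.node (.node (.leaf 115) (.leaf 208)) (.leaf 282))) (.node (.node (.node (.leaf 73) (.leaf 347)) (.leaf 246)) (.node (.leaf 160) (.leaf 280)))) (.node (.node (.node (.node (.leaf 44) (.leaf 342)) (.leaf 5)) (.node (.node (.leaf 140) (.leaf 221)) (.leaf 163))) (.node (.node (.node (.leaf 96) (.leaf 250)) (.leaf 265)) (.node (.leaf 186) (.leaf 161)))))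

def certANext17 : Janko.Tree (ℕ) :=
  (.node (.node (.node (.node (.node (.leaf 16) (.leaf 333)) (.leaf 212)) (.node (.node (.leaf 116) (.leaf 298)) (.leaf 283))) (.node (.node (.node (.leaf 11) (.leaf 340)) (.leaf 98)) (.node (.leaf 161) (.leaf 311)))) (.node (.node (.node (.node (.leaf 45) (.leaf 126)) (.leaf 233)) (.node (.node (.leaf 138) (.leaf 209)) (.leaf 87))) (.node (.node (.node (.leaf 97) (.leaf 351)) (.leaf 266)) (.node (.leaf 187) (.leaf 290)))))

def certANext18 : Janko.Tree (ℕ) :=
  (.node (.node (.node (.node (.node (.leaf 17) (.leaf 12)) (.leaf 213)) (.node (.node (.leaf 117) (.leaf 339)) (.leaf 284))) (.node (.node (.node (.leaf 74) (.leaf 348)) (.leaf 247)) (.node (.leaf 162) (.leaf 312)))) (.node (.node (.node (.node (.leaf 46) (.leaf 343)) (.leaf 234)) (.node (.node (.leaf 141) (.leaf 334)) (.leaf 296))) (.node (.node (.node (.leaf 98) (.leaf 197)) (.leaf 38)) (.node (.leaf 188) (.leaf 326)))))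

def certANext19 : Janko.Tree (ℕ) :=
  (.node (.node (.node (.node (.node (.leaf 18) (.leaf 334)) (.leaf 214)) (.node (.node (.leaf 118) (.leaf 318)) (.leaf 285))) (.node (.node (.node (.leaf 75) (.leaf 275)) (.leaf 248)) (.node (.leaf 163) (.leaf 313)))) (.node (.node (.node (.node (.leaf 47) (.leaf 253)) (.leaf 230)) (.node (.node (.leaf 130) (.leaf 264)) (.leaf 297))) (.node (.node (.node (.leaf 92) (.leaf 152)) (.leaf 267)) (.node (.leaf 189) (.leaf 327)))))

def certANext20 : Janko.Tree (ℕ) :=
  (.node (.node (.node (.node (.node (.leaf 19) (.leaf 16)) (.leaf 72)) (.node (.node (.leaf 119) (.leaf 198)) (.leaf 255))) (.node (.node (.node (.leaf 76) (.leaf 315)) (.leaf 249)) (.node (.leaf 164) (.leaf 314)))) (.node (.node (.node (.node (.leaf 48) (.leaf 304)) (.leaf 235)) (.node (.node (.leaf 142) (.leaf 355)) (.leaf 298))) (.node (.node (.node (.leaf 82) (.leaf 18)) (.leaf 59)) (.node (.leaf 190) (.leaf 328)))))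

def certANext21 : Janko.Tree (ℕ) :=
  (.node (.node (.node (.node (.node (.leaf 2) (.leaf 335)) (.leaf 50)) (.node (.node (.leaf 120) (.leaf 326)) (.leaf 81))) (.node (.node (.node (.leaf 31) (.leaf 347)) (.leaf 250)) (.node (.leaf 35) (.leaf 303)))) (.node (.node (.node (.node (.leaf 49) (.leaf 175)) (.leaf 58)) (.node (.node (.leaf 143) (.leaf 270)) (.leaf 299))) (.node (.node (.node (.leaf 99) (.leaf 342)) (.leaf 182)) (.node (.leaf 41) (.leaf 110)))))

def certANext22 : Janko.Tree (ℕ) :=
  (.node (.node (.node (.node (.node (.leaf 20) (.leaf 299)) (.leaf 215)) (.node (.node (.leaf 121) (.leaf 335)) (.leaf 166))) (.node (.node (.node (.leaf 77) (.leaf 349)) (.leaf 143)) (.node (.leaf 165) (.leaf 218)))) (.node (.node (.node (.node (.leaf 50) (.leaf 329)) (.leaf 231)) (.node (.node (.leaf 144) (.leaf 105)) (.leaf 106))) (.node (.node (.node (.leaf 100) (.leaf 330)) (.leaf 268)) (.node (.leaf 191) (.leaf 232)))))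

def certANext23 : Janko.Tree (ℕ) :=
  (.node (.node (.node (.node (.node (.leaf 21) (.leaf 119)) (.leaf 216)) (.node (.node (.leaf 122) (.leaf 273)) (.leaf 286))) (.node (.node (.node (.leaf 78) (.leaf 140)) (.leaf 251)) (.node (.leaf 166) (.leaf 315)))) (.node (.node (.node (.node (.leaf 7) (.leaf 128)) (.leaf 236)) (.node (.node (.leaf 28) (.leaf 328)) (.leaf 179))) (.node (.node (.node (.leaf 17) (.leaf 321)) (.leaf 74)) (.node (.leaf 192) (.leaf 158)))))

def certANext24 : Janko.Tree (ℕ) :=
  (.node (.node (.node (.node (.node (.leaf 22) (.leaf 336)) (.leaf 217)) (.node (.node (.leaf 123) (.leaf 251)) (.leaf 64))) (.node (.node (.node (.leaf 1) (.leaf 36)) (.leaf 204)) (.node (.leaf 167) (.leaf 202)))) (.node (.node (.node (.node (.leaf 51) (.leaf 214)) (.leaf 21)) (.node (.node (.leaf 129) (.leaf 289)) (.leaf 300))) (.node (.node (.node (.leaf 99) (.leaf 245)) (.leaf 54)) (.node (.leaf 193) (.leaf 323)))))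

def certANext25 : Janko.Tree (ℕ) :=
  (.node (.node (.node (.node (.node (.leaf 23) (.leaf 337)) (.leaf 218)) (.node (.node (.leaf 124) (.leaf 355)) (.leaf 89))) (.node (.node (.node (.leaf 79) (.leaf 247)) (.leaf 252)) (.node (.leaf 147) (.leaf 316)))) (.node (.node (.node (.node (.leaf 52) (.leaf 256)) (.leaf 127)) (.node (.node (.leaf 102) (.leaf 296)) (.leaf 186))) (.node (.node (.node (.leaf 101) (.leaf 155)) (.leaf 269)) (.node (.leaf 194) (.leaf 111)))))

def certANext26 : Janko.Tree (ℕ) :=
  (.node (.node (.node (.node (.node (.leaf 24) (.leaf 210)) (.leaf 178)) (.node (.node (.leaf 79) (.leaf 257)) (.leaf 224))) (.node (.node (.node (.leaf 40) (.leaf 319)) (.leaf 253)) (.node (.leaf 3) (.leaf 317)))) (.node (.node (.node (.node (.leaf 53) (.leaf 285)) (.leaf 78)) (.node (.node (.leaf 145) (.leaf 293)) (.leaf 301))) (.node (.node (.node (.leaf 102) (.leaf 240)) (.leaf 270)) (.node (.leaf 195) (.leaf 34)))))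

def certANext27 : Janko.Tree (ℕ) :=
  (.node (.node (.node (.node (.node (.leaf 25) (.leaf 206)) (.leaf 219)) (.node (.node (.leaf 43) (.leaf 345)) (.leaf 226))) (.node (.node (.node (.leaf 80) (.leaf 336)) (.leaf 201)) (.node (.leaf 168) (.leaf 284)))) (.node (.node (.node (.node (.leaf 54) (.leaf 173)) (.leaf 60)) (.node (.node (.leaf 146) (.leaf 234)) (.leaf 90))) (.node (.node (.node (.leaf 103) (.leaf 162)) (.leaf 142)) (.node (.leaf 196) (.leaf 199)))))

def certANext28 : Janko.Tree (ℕ) :=
  (.node (.node (.node (.node (.node (.leaf 26) (.leaf 338)) (.leaf 220)) (.node (.node (.leaf 125) (.leaf 316)) (.leaf 287))) (.node (.node (.node (.leaf 81) (.leaf 86)) (.leaf 254)) (.node (.leaf 169) (.leaf 318)))) (.node (.node (.node (.node (.leaf 55) (.leaf 286)) (.leaf 170)) (.node (.node (.leaf 147) (.leaf 358)) (.leaf 137))) (.node (.node (.node (.leaf 91) (.leaf 325)) (.leaf 271)) (.node (.leaf 97) (.leaf 103)))))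

def certANext29 : Janko.Tree (ℕ) :=
  (.node (.node (.node (.node (.node (.leaf 27) (.leaf 294)) (.leaf 121)) (.node (.node (.leaf 77) (.leaf 343)) (.leaf 188))) (.node (.node (.node (.leaf 82) (.leaf 144)) (.leaf 69)) (.node (.leaf 170) (.leaf 319)))) (.node (.node (.node (.node (.leaf 56) (.leaf 191)) (.leaf 171)) (.node (.node (.leaf 123) (.leaf 225)) (.leaf 302))) (.node (.node (.node (.leaf 104) (.leaf 254)) (.leaf 272)) (.node (.leaf 197) (.leaf 329)))))

def certANext30 : Janko.Tree (ℕ) :=
  (.node (.node (.node (.node (.node (.leaf 28) (.leaf 219)) (.leaf 207)) (.node (.node (.leaf 126) (.leaf 356)) (.leaf 185))) (.node (.node (.node (.leaf 83) (.leaf 27)) (.leaf 101)) (.node (.leaf 171) (.leaf 56)))) (.node (.node (.node (.node (.leaf 57) (.leaf 176)) (.leaf 237)) (.node (.node (.leaf 148) (.leaf 95)) (.leaf 266))) (.node (.node (.node (.leaf 49) (.leaf 200)) (.leaf 114)) (.node (.leaf 196) (.leaf 194)))))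

def certANext31 : Janko.Tree (ℕ) :=
  (.node (.node (.node (.node (.node (.leaf 29) (.leaf 215)) (.leaf 221)) (.node (.node (.leaf 100) (.leaf 184)) (.leaf 180))) (.node (.node (.node (.leaf 13) (.leaf 349)) (.leaf 255)) (.node (.leaf 172) (.leaf 309)))) (.node (.node (.node (.node (.leaf 22) (.leaf 314)) (.leaf 238)) (.node (.node (.leaf 149) (.leaf 246)) (.leaf 249))) (.node (.node (.node (.leaf 105) (.leaf 159)) (.leaf 203)) (.node (.leaf 198) (.leaf 282)))))

def certANext : Janko.Tree (ℕ) :=
  (.node (.node (.node (.node (.node certANext0 certANext16) (.node certANext8 certANext24)) (.node (.node certANext4 certANext20) (.node certANext12 certANext28))) (.node (.node (.node certANext2 certANext18) (.node certANext10 certANext26)) (.node (.node certANext6 certANext22) (.node certANext14 certANext30)))) (.node (.node (.node (.node certANext1 certANext17) (.node certANext9 certANext25)) (.node (.node certANext5 certANext21) (.node certANext13 certANext29))) (.node (.node (.node certANext3 certANext19) (.node certANext11 certANext27)) (.node (.node certANext7 certANext23) (.node certANext15 certANext31)))))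

def certALab0 : Janko.Tree (List Bool) :=
  (.node (.node (.node (.node (.node (.leaf [false]) (.leaf [])) (.leaf [])) (.node (.node (.leaf [false, false, false, false, false, false]) (.leaf [false])) (.leaf []))) (.node (.node (.node (.leaf []) (.leaf [])) (.leaf [false, false, false, false])) (.node (.node (.leaf []) (.leaf [false, false])) (.leaf [])))) (.node (.node (.node (.node (.leaf []) (.leaf [])) (.leaf [false, false, false, false])) (.node (.node (.leaf []) (.leaf [false, false, false, false, false])) (.leaf []))) (.node (.node (.node (.leaf []) (.leaf [false, false, false, false])) (.leaf [])) (.node (.leaf []) (.leaf [false, false, false])))))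

def certALab1 : Janko.Tree (List Bool) :=
  (.node (.node (.node (.node (.node (.leaf []) (.leaf [false, false, false, false])) (.leaf [])) (.node (.node (.leaf []) (.leaf [])) (.leaf [false, false, false, false, false]))) (.node (.node (.node (.leaf []) (.leaf [false])) (.leaf [false])) (.node (.node (.leaf [false, false]) (.leaf [])) (.leaf [])))) (.node (.node (.node (.node (.leaf []) (.leaf [])) (.leaf [])) (.node (.node (.leaf []) (.leaf [false, false, false, false, false])) (.leaf []))) (.node (.node (.node (.leaf [false, false, false, false, false]) (.leaf [])) (.leaf [])) (.node (.leaf []) (.leaf [false, false, false])))))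

def certALab2 : Janko.Tree (List Bool) :=
  (.node (.node (.node (.node (.node (.leaf []) (.leaf [false])) (.leaf [])) (.node (.node (.leaf [false, false, false, false, false]) (.leaf [])) (.leaf []))) (.node (.node (.node (.leaf []) (.leaf [])) (.leaf [])) (.node (.node (.leaf []) (.leaf [false, false, false, false, false])) (.leaf [])))) (.node (.node (.node (.node (.leaf []) (.leaf [])) (.leaf [])) (.node (.node (.leaf []) (.leaf [false, false, false, false, false])) (.leaf [false]))) (.node (.node (.node (.leaf []) (.leaf [false])) (.leaf [])) (.node (.leaf []) (.leaf [false, false, false])))))

def certALab3 : Janko.Tree (List Bool) :=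
  (.node (.node (.node (.node (.node (.leaf []) (.leaf [])) (.leaf [])) (.node (.node (.leaf []) (.leaf [false, false])) (.leaf []))) (.node (.node (.node (.leaf []) (.leaf [])) (.leaf [])) (.node (.node (.leaf []) (.leaf [false, false])) (.leaf [])))) (.node (.node (.node (.node (.leaf []) (.leaf [false, false, false, false, false])) (.leaf [])) (.node (.node (.leaf []) (.leaf [])) (.leaf []))) (.node (.node (.node (.leaf []) (.leaf [])) (.leaf [])) (.node (.leaf []) (.leaf [])))))

def certALab4 : Janko.Tree (List Bool) :=
  (.node (.node (.node (.node (.node (.leaf []) (.leaf [false, false])) (.leaf [])) (.node (.node (.leaf []) (.leaf [false])) (.leaf [false, false, false]))) (.node (.node (.node (.leaf []) (.leaf [false])) (.leaf [false, false])) (.node (.node (.leaf []) (.leaf [false, false, false])) (.leaf [false, false, false, false])))) (.node (.node (.node (.node (.leaf []) (.leaf [false, false, false, false])) (.leaf [])) (.node (.node (.leaf []) (.leaf [false])) (.leaf []))) (.node (.node (.node (.leaf []) (.leaf [false, false, false])) (.leaf [false, false, false, false, false, false])) (.node (.leaf []) (.leaf [false, false, false, false, false])))))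

def certALab5 : Janko.Tree (List Bool) :=
  (.node (.node (.node (.node (.node (.leaf []) (.leaf [])) (.leaf [])) (.node (.node (.leaf []) (.leaf [])) (.leaf []))) (.node (.node (.node (.leaf []) (.leaf [false, false, false, false, false, false])) (.leaf [])) (.node (.node (.leaf [false, false]) (.leaf [false, false, false])) (.leaf [])))) (.node (.node (.node (.node (.leaf []) (.leaf [])) (.leaf [])) (.node (.node (.leaf []) (.leaf [false, false, false, false, false, false])) (.leaf []))) (.node (.node (.node (.leaf []) (.leaf [false, false, false, false, false, false])) (.leaf [])) (.node (.leaf []) (.leaf [false, false, false, false, false, false])))))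

def certALab6 : Janko.Tree (List Bool) :=
  (.node (.node (.node (.node (.node (.leaf []) (.leaf [false, false])) (.leaf [])) (.node (.node (.leaf []) (.leaf [])) (.leaf []))) (.node (.node (.node (.leaf []) (.leaf [false, false, false])) (.leaf [])) (.node (.node (.leaf []) (.leaf [false, false, false, false, false, false])) (.leaf [])))) (.node (.node (.node (.node (.leaf []) (.leaf [])) (.leaf [])) (.node (.node (.leaf []) (.leaf [false, false, false, false, false])) (.leaf []))) (.node (.node (.node (.leaf []) (.leaf [false, false, false])) (.leaf [])) (.node (.leaf [false, false, false, false, false, false]) (.leaf [false, false])))))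

def certALab7 : Janko.Tree (List Bool) :=
  (.node (.node (.node (.node (.node (.leaf []) (.leaf [false, false, false])) (.leaf [])) (.node (.node (.leaf [false]) (.leaf [])) (.leaf []))) (.node (.node (.node (.leaf []) (.leaf [])) (.leaf [])) (.node (.node (.leaf []) (.leaf [])) (.leaf [false, false, false, false, false])))) (.node (.node (.node (.node (.leaf []) (.leaf [false, false])) (.leaf [false, false, false])) (.node (.node (.leaf []) (.leaf [])) (.leaf []))) (.node (.node (.node (.leaf [false, false, false, false]) (.leaf [false, false, false, false, false, false])) (.leaf [false, false])) (.node (.leaf [false, false, false, false, false, false]) (.leaf [false, false])))))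

def certALab8 : Janko.Tree (List Bool) :=
  (.node (.node (.node (.node (.node (.leaf []) (.leaf [false, false, false])) (.leaf [])) (.node (.node (.leaf []) (.leaf [false, false, false, false, false])) (.leaf []))) (.node (.node (.node (.leaf []) (.leaf [])) (.leaf [])) (.node (.node (.leaf []) (.leaf [false, false, false, false])) (.leaf [])))) (.node (.node (.node (.node (.leaf []) (.leaf [false])) (.leaf [])) (.node (.node (.leaf []) (.leaf [false, false, false, false])) (.leaf [false, false, false, false]))) (.node (.node (.node (.leaf []) (.leaf [false, false, false, false, false, false])) (.leaf [])) (.node (.leaf []) (.leaf [])))))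

def certALab9 : Janko.Tree (List Bool) :=
  (.node (.node (.node (.node (.node (.leaf []) (.leaf [])) (.leaf [])) (.node (.node (.leaf [false, false]) (.leaf [false, false, false, false])) (.leaf []))) (.node (.node (.node (.leaf []) (.leaf [false, false])) (.leaf [false])) (.node (.node (.leaf [false, false, false, false, false]) (.leaf [false, false, false, false, false])) (.leaf [false, false, false, false, false, false])))) (.node (.node (.node (.node (.leaf []) (.leaf [false, false, false, false, false, false])) (.leaf [])) (.node (.node (.leaf []) (.leaf [])) (.leaf []))) (.node (.node (.node (.leaf []) (.leaf [])) (.leaf [false, false, false, false, false])) (.node (.leaf []) (.leaf [])))))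

def certALab10 : Janko.Tree (List Bool) :=
  (.node (.node (.node (.node (.node (.leaf []) (.leaf [false])) (.leaf [])) (.node (.node (.leaf []) (.leaf [])) (.leaf []))) (.node (.node (.node (.leaf []) (.leaf [])) (.leaf [])) (.node (.node (.leaf []) (.leaf [])) (.leaf [])))) (.node (.node (.node (.node (.leaf []) (.leaf [false, false, false, false])) (.leaf [])) (.node (.node (.leaf []) (.leaf [false, false])) (.leaf []))) (.node (.node (.node (.leaf []) (.leaf [false, false])) (.leaf [])) (.node (.leaf []) (.leaf [])))))

def certALab11 : Janko.Tree (List Bool) :=
  (.node (.node (.node (.node (.node (.leaf []) (.leaf [false, false, false])) (.leaf [])) (.node (.node (.leaf []) (.leaf [false])) (.leaf []))) (.node (.node (.node (.leaf []) (.leaf [])) (.leaf [false, false, false])) (.node (.node (.leaf []) (.leaf [])) (.leaf [false, false, false, false, false])))) (.node (.node (.node (.node (.leaf []) (.leaf [])) (.leaf [])) (.node (.node (.leaf []) (.leaf [false])) (.leaf [false, false]))) (.node (.node (.node (.leaf []) (.leaf [false, false, false, false, false])) (.leaf [false, false, false, false])) (.node (.leaf []) (.leaf [])))))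

def certALab12 : Janko.Tree (List Bool) :=
  (.node (.node (.node (.node (.node (.leaf []) (.leaf [false, false, false])) (.leaf [])) (.node (.node (.leaf [false, false, false, false, false, false]) (.leaf [])) (.leaf [false, false, false, false]))) (.node (.node (.node (.leaf []) (.leaf [])) (.leaf [])) (.node (.node (.leaf []) (.leaf [])) (.leaf [false])))) (.node (.node (.node (.node (.leaf []) (.leaf [false])) (.leaf [])) (.node (.node (.leaf []) (.leaf [])) (.leaf [false, false, false, false]))) (.node (.node (.node (.leaf []) (.leaf [false, false])) (.leaf [])) (.node (.leaf []) (.leaf [])))))

def certALab13 : Janko.Tree (List Bool) :=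
  (.node (.node (.node (.node (.node (.leaf []) (.leaf [])) (.leaf [])) (.node (.node (.leaf []) (.leaf [false, false, false])) (.leaf [false, false, false, false, false]))) (.node (.node (.node (.leaf []) (.leaf [])) (.leaf [])) (.node (.node (.leaf [false, false, false, false]) (.leaf [])) (.leaf [false, false, false, false])))) (.node (.node (.node (.node (.leaf []) (.leaf [])) (.leaf [])) (.node (.node (.leaf []) (.leaf [false, false, false])) (.leaf []))) (.node (.node (.node (.leaf []) (.leaf [])) (.leaf [])) (.node (.leaf []) (.leaf [false, false, false, false, false, false])))))

def certALab14 : Janko.Tree (List Bool) :=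
  (.node (.node (.node (.node (.node (.leaf []) (.leaf [false, false, false, false, false, false])) (.leaf [false, false, false, false, false, false])) (.node (.node (.leaf []) (.leaf [false, false, false, false, false])) (.leaf [false, false, false, false, false, false]))) (.node (.node (.node (.leaf []) (.leaf [])) (.leaf [])) (.node (.node (.leaf []) (.leaf [false, false, false, false, false, false])) (.leaf [false, false, false])))) (.node (.node (.node (.node (.leaf []) (.leaf [false, false, false, false, false])) (.leaf [false])) (.node (.node (.leaf [false]) (.leaf [false, false, false, false, false])) (.leaf [false, false]))) (.node (.node (.node (.leaf [false, false]) (.leaf [])) (.leaf [])) (.node (.leaf []) (.leaf [])))))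

def certALab15 : Janko.Tree (List Bool) :=
  (.node (.node (.node (.node (.node (.leaf []) (.leaf [false])) (.leaf [])) (.node (.node (.leaf []) (.leaf [false, false, false, false])) (.leaf []))) (.node (.node (.node (.leaf []) (.leaf [false])) (.leaf [])) (.node (.node (.leaf []) (.leaf [false, false, false, false, false, false])) (.leaf [])))) (.node (.node (.node (.node (.leaf []) (.leaf [false, false, false])) (.leaf [])) (.node (.node (.leaf []) (.leaf [false, false, false, false, false])) (.leaf []))) (.node (.node (.node (.leaf []) (.leaf [])) (.leaf [])) (.node (.leaf []) (.leaf [])))))

def certALab16 : Janko.Tree (List Bool) :=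
  (.node (.node (.node (.node (.node (.leaf []) (.leaf [])) (.leaf [false])) (.node (.node (.leaf []) (.leaf [false, false])) (.leaf []))) (.node (.node (.node (.leaf []) (.leaf [])) (.leaf [])) (.node (.leaf []) (.leaf [false, false])))) (.node (.node (.node (.node (.leaf []) (.leaf [])) (.leaf [])) (.node (.node (.leaf []) (.leaf [false, false])) (.leaf [false, false]))) (.node (.node (.node (.leaf []) (.leaf [false, false, false, false, false])) (.leaf [])) (.node (.leaf []) (.leaf [false, false, false])))))

def certALab17 : Janko.Tree (List Bool) :=
  (.node (.node (.node (.node (.node (.leaf []) (.leaf [])) (.leaf [])) (.node (.node (.leaf []) (.leaf [false, false, false, false])) (.leaf []))) (.node (.node (.node (.leaf []) (.leaf [false])) (.leaf [false, false, false, false, false])) (.node (.leaf []) (.leaf [])))) (.node (.node (.node (.node (.leaf []) (.leaf [])) (.leaf [])) (.node (.node (.leaf [false, false, false]) (.leaf [])) (.leaf []))) (.node (.node (.node (.leaf []) (.leaf [])) (.leaf [])) (.node (.leaf []) (.leaf [false])))))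

def certALab18 : Janko.Tree (List Bool) :=
  (.node (.node (.node (.node (.node (.leaf []) (.leaf [])) (.leaf [])) (.node (.node (.leaf []) (.leaf [false, false])) (.leaf []))) (.node (.node (.node (.leaf []) (.leaf [])) (.leaf [])) (.node (.leaf []) (.leaf [])))) (.node (.node (.node (.node (.leaf []) (.leaf [])) (.leaf [])) (.node (.node (.leaf []) (.leaf [false, false, false, false, false])) (.leaf []))) (.node (.node (.node (.leaf []) (.leaf [false])) (.leaf [false, false, false])) (.node (.leaf []) (.leaf [])))))

def certALab19 : Janko.Tree (List Bool) :=
  (.node (.node (.node (.node (.node (.leaf []) (.leaf [])) (.leaf [])) (.node (.node (.leaf []) (.leaf [false, false, false])) (.leaf []))) (.node (.node (.node (.leaf []) (.leaf [false, false, false, false, false])) (.leaf [])) (.node (.leaf []) (.leaf [])))) (.node (.node (.node (.node (.leaf []) (.leaf [false, false, false, false, false])) (.leaf [false, false])) (.node (.node (.leaf [false]) (.leaf [false, false, false, false, false])) (.leaf []))) (.node (.node (.node (.leaf [false, false]) (.leaf [])) (.leaf [])) (.node (.leaf []) (.leaf [])))))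

def certALab20 : Janko.Tree (List Bool) :=
  (.node (.node (.node (.node (.node (.leaf []) (.leaf [])) (.leaf [false, false, false, false, false])) (.node (.node (.leaf []) (.leaf [false, false, false])) (.leaf [false]))) (.node (.node (.node (.leaf []) (.leaf [])) (.leaf [])) (.node (.leaf []) (.leaf [])))) (.node (.node (.node (.node (.leaf []) (.leaf [false, false])) (.leaf [])) (.node (.node (.leaf []) (.leaf [false, false])) (.leaf []))) (.node (.node (.node (.leaf [false, false, false, false, false]) (.leaf [false, false, false])) (.leaf [false, false, false, false, false])) (.node (.leaf []) (.leaf [])))))

def certALab21 : Janko.Tree (List Bool) :=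
  (.node (.node (.node (.node (.node (.leaf []) (.leaf [])) (.leaf [false, false, false, false])) (.node (.node (.leaf []) (.leaf [false, false, false, false])) (.leaf []))) (.node (.node (.node (.leaf [false, false, false]) (.leaf [false])) (.leaf [])) (.node (.leaf []) (.leaf [])))) (.node (.node (.node (.node (.leaf []) (.leaf [false, false, false, false, false, false])) (.leaf [])) (.node (.node (.leaf []) (.leaf [false])) (.leaf []))) (.node (.node (.node (.leaf []) (.leaf [false])) (.leaf [false, false, false])) (.node (.leaf []) (.leaf [])))))

def certALab22 : Janko.Tree (List Bool) :=
  (.node (.node (.node (.node (.node (.leaf []) (.leaf [false, false])) (.leaf [])) (.node (.node (.leaf []) (.leaf [])) (.leaf []))) (.node (.node (.node (.leaf []) (.leaf [])) (.leaf [false, false, false, false])) (.node (.leaf []) (.leaf [false, false, false, false])))) (.node (.node (.node (.node (.leaf []) (.leaf [])) (.leaf [false, false, false, false, false, false])) (.node (.node (.leaf []) (.leaf [false, false, false, false, false])) (.leaf []))) (.node (.node (.node (.leaf []) (.leaf [false, false, false])) (.leaf [])) (.node (.leaf []) (.leaf [false, false])))))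

def certALab23 : Janko.Tree (List Bool) :=
  (.node (.node (.node (.node (.node (.leaf []) (.leaf [])) (.leaf [])) (.node (.node (.leaf []) (.leaf [false, false])) (.leaf []))) (.node (.node (.node (.leaf []) (.leaf [])) (.leaf [])) (.node (.leaf []) (.leaf [])))) (.node (.node (.node (.node (.leaf []) (.leaf [])) (.leaf [])) (.node (.node (.leaf []) (.leaf [false, false])) (.leaf [false, false, false, false, false]))) (.node (.node (.node (.leaf []) (.leaf [false, false, false, false, false])) (.leaf [])) (.node (.leaf []) (.leaf [false, false])))))

def certALab24 : Janko.Tree (List Bool) :=
  (.node (.node (.node (.node (.node (.leaf []) (.leaf [])) (.leaf [])) (.node (.node (.leaf []) (.leaf [false, false, false, false])) (.leaf [false, false, false]))) (.node (.node (.node (.leaf []) (.leaf [false, false])) (.leaf [false, false, false, false, false])) (.node (.leaf []) (.leaf [false, false])))) (.node (.node (.node (.node (.leaf []) (.leaf [false, false, false, false, false, false])) (.leaf [false, false, false])) (.node (.node (.leaf [false, false, false, false]) (.leaf [false, false])) (.leaf []))) (.node (.node (.node (.leaf [false, false, false, false]) (.leaf [false, false, false, false, false])) (.leaf [false, false,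 false])) (.node (.leaf []) (.leaf [false])))))

def certALab25 : Janko.Tree (List Bool) :=
  (.node (.node (.node (.node (.node (.leaf []) (.leaf [])) (.leaf [])) (.node (.node (.leaf []) (.leaf [])) (.leaf [false, false, false, false, false, false]))) (.node (.node (.node (.leaf []) (.leaf [false, false, false, false, false, false])) (.leaf [])) (.node (.leaf [false, false, false, false, false]) (.leaf [])))) (.node (.node (.node (.node (.leaf []) (.leaf [false, false, false])) (.leaf [false, false])) (.node (.node (.leaf [false]) (.leaf [false, false, false, false, false, false])) (.leaf [false, false, false, false]))) (.node (.node (.node (.leaf []) (.leaf [])) (.leaf [])) (.node (.leaf []) (.leaf [])))))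

def certALab26 : Janko.Tree (List Bool) :=
  (.node (.node (.node (.node (.node (.leaf []) (.leaf [false, false, false, false])) (.leaf [false])) (.node (.node (.leaf [false, false, false, false]) (.leaf [false])) (.leaf [false, false, false]))) (.node (.node (.node (.leaf [false, false, false, false, false, false]) (.leaf [false, false, false, false])) (.leaf [])) (.node (.leaf []) (.leaf [])))) (.node (.node (.node (.node (.leaf []) (.leaf [false, false])) (.leaf [false])) (.node (.node (.leaf []) (.leaf [false, false, false, false, false, false])) (.leaf []))) (.node (.node (.node (.leaf []) (.leaf [])) (.leaf [])) (.node (.leaf []) (.leaf [])))))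

def certALab27 : Janko.Tree (List Bool) :=
  (.node (.node (.node (.node (.node (.leaf []) (.leaf [false, false, false, false])) (.leaf [])) (.node (.node (.leaf [false, false, false, false, false]) (.leaf [false, false])) (.leaf [false]))) (.node (.node (.node (.leaf []) (.leaf [])) (.leaf [false, false, false, false, false])) (.node (.leaf []) (.leaf [])))) (.node (.node (.node (.node (.leaf []) (.leaf [false, false])) (.leaf [])) (.node (.node (.leaf []) (.leaf [])) (.leaf []))) (.node (.node (.node (.leaf []) (.leaf [false, false, false, false])) (.leaf [false, false])) (.node (.leaf []) (.leaf [false, false])))))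

def certALab28 : Janko.Tree (List Bool) :=
  (.node (.node (.node (.node (.node (.leaf []) (.leaf [])) (.leaf [])) (.node (.node (.leaf []) (.leaf [false, false, false])) (.leaf []))) (.node (.node (.node (.leaf []) (.leaf [false, false, false])) (.leaf [])) (.node (.leaf []) (.leaf [])))) (.node (.node (.node (.node (.leaf []) (.leaf [false, false, false, false])) (.leaf [false, false, false, false, false, false])) (.node (.node (.leaf []) (.leaf [false, false, false, false, false, false])) (.leaf [false, false, false, false, false, false]))) (.node (.node (.node (.leaf [false, false, false]) (.leaf [false, false, false, false, false])) (.leaf [])) (.node (.leaf [false, false]) (.leaf [false, false, false, false])))))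

def certALab29 : Janko.Tree (List Bool) :=
  (.node (.node (.node (.node (.node (.leaf []) (.leaf [false, false, false, false, false, false])) (.leaf [false, false, false, false, false])) (.node (.node (.leaf [false, false]) (.leaf [false, false])) (.leaf [false, false, false]))) (.node (.node (.node (.leaf []) (.leaf [])) (.leaf [])) (.node (.leaf []) (.leaf [])))) (.node (.node (.node (.node (.leaf []) (.leaf [false, false, false])) (.leaf [false, false, false, false, false])) (.node (.node (.leaf [false, false]) (.leaf [])) (.leaf []))) (.node (.node (.node (.leaf []) (.leaf [false, false, false, false])) (.leaf [])) (.node (.leaf []) (.leaf [])))))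

def certALab30 : Janko.Tree (List Bool) :=
  (.node (.node (.node (.node (.node (.leaf []) (.leaf [false, false, false, false])) (.leaf [false, false, false, false, false])) (.node (.node (.leaf []) (.leaf [])) (.leaf [false, false]))) (.node (.node (.node (.leaf []) (.leaf [false, false, false])) (.leaf [false, false, false, false])) (.node (.leaf []) (.leaf [false, false, false])))) (.node (.node (.node (.node (.leaf []) (.leaf [])) (.leaf [])) (.node (.node (.leaf []) (.leaf [false, false, false, false, false, false])) (.leaf [false, false, false, false, false]))) (.node (.node (.node (.leaf [false, false, false, false, false, false]) (.leaf [false, false])) (.leaf [false, false, false, false, false])) (.node (.leaf [false, false, false]) (.leaf [false, false, false, false, false])))))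

def certALab31 : Janko.Tree (List Bool) :=
  (.node (.node (.node (.node (.node (.leaf []) (.leaf [false, false, false, false, false, false])) (.leaf [])) (.node (.node (.leaf [false, false]) (.leaf [])) (.leaf [false, false]))) (.node (.node (.node (.leaf []) (.leaf [])) (.leaf [])) (.node (.leaf []) (.leaf [false, false])))) (.node (.node (.node (.node (.leaf [false, false, false, false]) (.leaf [false, false, false])) (.leaf [])) (.node (.node (.leaf []) (.leaf [false])) (.leaf [false, false, false]))) (.node (.node (.node (.leaf []) (.leaf [])) (.leaf [false, false, false, false])) (.node (.leaf []) (.leaf [false])))))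

def certALab : Janko.Tree (List Bool) :=
  (.node (.node (.node (.node (.node certALab0 certALab16) (.node certALab8 certALab24)) (.node (.node certALab4 certALab20) (.node certALab12 certALab28))) (.node (.node (.node certALab2 certALab18) (.node certALab10 certALab26)) (.node (.node certALab6 certALab22) (.node certALab14 certALab30)))) (.node (.node (.node (.node certALab1 certALab17) (.node certALab9 certALab25)) (.node (.node certALab5 certALab21) (.node certALab13 certALab29))) (.node (.node (.node certALab3 certALab19) (.node certALab11 certALab27)) (.node (.node certALab7 certALab23) (.node certALab15 certALab31)))))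

def certAWord0 : Janko.Tree (List Bool) :=
  (.node (.node (.node (.node (.node (.leaf []) (.leaf [true, true, false, false, true, false, false, false, true, false])) (.leaf [true, false, false, false, false, true, false, false, false])) (.node (.node (.leaf [true, false, true, true, false, false, true]) (.leaf [true, false, true, true, false, false, true, true, false, false, true])) (.leaf [true, true, false, true, false, true, false, false, true]))) (.node (.node (.node (.leaf [true, false, true, false, false, true]) (.leaf [true, false, false, false, false, true, true, false, true, true, false])) (.leaf [true, false, true, false, true, true, false, true, false])) (.node (.node (.leaf [true, false, false, true, true, false, true, false]) (.leaf [true, false, true, true, false, false, true, true, false, false, true, true])) (.leaf [true, false, false, true, false, true, false, true, false, true])))) (.node (.node (.node (.node (.leaf [true, false, false, true, true]) (.leaf [true, true, false, true, false, false, true, true, false, true])) (.leaf [true, false, false, true, false, false, true, true, false])) (.node (.node (.leaf [true, false, false, false, false, false, true, true]) (.leaf [true, true, false, true, false, false,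 false, true, true, false, false])) (.leaf [true, false, false, false, false, true, true, false, true, true]))) (.node (.node (.node (.leaf [true, false, false, false, true, false, false]) (.leaf [true, false, false, true, false, true, false, true, false, true, true])) (.leaf [true, true, false, false, true, false, false, false, true])) (.node (.leaf [true, true, false, false, false, true, false, true]) (.leaf [true, false, true, true, false, false, false, true, false, true])))))

def certAWord1 : Janko.Tree (List Bool) :=
  (.node (.node (.node (.node (.node (.leaf [true]) (.leaf [true, true, false, false, true, false, false, false, true, true])) (.leaf [true, false, false, false, false, true, false, false, true])) (.node (.node (.leaf [true, false, true, true, false, true, false]) (.leaf [true, false, true, true, false, true, true, false, false, false, false])) (.leaf [true, true, false, true, false, true, false, true, false]))) (.node (.node (.node (.leaf [true, false, true, false, true, false]) (.leaf [true, false, false, false, true, false, false, false, false, false, true])) (.leaf [true, false, true, false, true, true, false, true, true])) (.node (.node (.leaf [true, false, false, true, true, false, true, true]) (.leaf [true,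 false, true, true, false, true, true, false, false, true, true, false])) (.leaf [true, false, false, true, false, true, false, true, true, false])))) (.node (.node (.node (.node (.leaf [true, false, true, false, false]) (.leaf [true, true, false, true, false, true, false, false, true, false])) (.leaf [true, false, false, true, false, true, false, true, false])) (.node (.node (.leaf [true, false, false, false, false, true, false, false]) (.leaf [true, true, false, true, false, false, false, true, true, false, true])) (.leaf [true, false, false, false, true, false, false, false, false, false]))) (.node (.node (.node (.leaf [true, false, false, false, true, false, true]) (.leaf [true, false, false, true, false, true, false, true, true, false, true])) (.leaf [true, true, false, false, true, false, false, true, false])) (.node (.leaf [true, true, false, false, true, false, false, false]) (.leaf [true, false, true, true, false, false, true, true, false, false])))))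

def certAWord2 : Janko.Tree (List Bool) :=
  (.node (.node (.node (.node (.node (.leaf [true, false]) (.leaf [true, true, false, false, true, false, false, true, false, false])) (.leaf [true, false, false, false, false, true, false, true, false])) (.node (.node (.leaf [true, false, true, true, false, true, true]) (.leaf [true, false, true, true, false, true, true, false, false, true, false])) (.leaf [true, true, false, true, false, true, false, true, true]))) (.node (.node (.node (.leaf [true, false, true, false, true, true]) (.leaf [true, false, false, false, true, false, false, false, false, true, false])) (.leaf [true, false, true, true, false, false, false, true, false])) (.node (.node (.leaf [true, false, true, false, false, false, false, false]) (.leaf [true, true, false, false, false, false, true, false, false, false, true, false])) (.leaf [true, false, false, true, false, true, true, false, false, false])))) (.node (.node (.node (.node (.leaf [true, false, true, false, true]) (.leaf [true, true, false, true, false, true, false, true, false, false])) (.leaf [true, false, false, true, false, true, false, true, true])) (.node (.node (.leaf [true, false, false, false, false, true, false, true]) (.leaf [true, true, false, true,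 false, false, true, false, true, false, false])) (.leaf [true, false, false, false, true, false, false, false, false, true]))) (.node (.node (.node (.leaf [true, false, false, false, true, true, false]) (.leaf [true, false, false, true, false, true, true, false, false, false, true])) (.leaf [true, true, false, false, true, false, false, true, true])) (.node (.leaf [true, true, false, false, true, false, false, true]) (.leaf [true, false, true, true, false, true, false, true, false, false])))))

def certAWord3 : Janko.Tree (List Bool) :=
  (.node (.node (.node (.node (.node (.leaf [true, true]) (.leaf [true, true, false, false, true, false, false, true, false, true])) (.leaf [true, false, false, false, false, true, false, true, true])) (.node (.node (.leaf [true, true, false, false, false, false, false]) (.leaf [true, false, true, true, false, true, true, false, false, true, true])) (.leaf [true, true, false, true, true, false, true, false, false]))) (.node (.node (.node (.leaf [true, false, true, true, false, false]) (.leaf [true, false, false, false, true, false, false, false, false, true, true])) (.leaf [true, false, true, true, false, false, false, true, true])) (.node (.node (.leaf [true, false, true, false, false, true, false,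 true]) (.leaf [true, true, false, false, true, true, false, false, true, false, true, true])) (.leaf [true, false, false, true, true, false, false, true, false, false])))) (.node (.node (.node (.node (.leaf [true, false, true, true, false]) (.leaf [true, true, false, true, true, false, true, false, false, false])) (.leaf [true, false, false, true, false, true, true, false, false])) (.node (.node (.leaf [true, false, false, false, false, true, true, false]) (.leaf [true, true, false, true, false, true, false, true, false, false, true])) (.leaf [true, false, false, false, true, false, false, false, true, true]))) (.node (.node (.node (.leaf [true, false, false, true, false, false, false]) (.leaf [true, false, false, true, true, false, false, true, false, false, false])) (.leaf [true, true, false, false, true, false, true, true, false])) (.node (.leaf [true, true, false, false, true, false, true, false]) (.leaf [true, false, true, true, false, true, false, true, true, false])))))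

def certAWord4 : Janko.Tree (List Bool) :=
  (.node (.node (.node (.node (.node (.leaf [true, false, false]) (.leaf [true, true, false, false, true, false, true, true, false, false])) (.leaf [true, false, false, false, false, true, true, false, false])) (.node (.node (.leaf [true, true, false, false, false, false, true]) (.leaf [true, true, false, false, false, false, true, false, false, false, false])) (.leaf [true, true, false, true, true, false, true, false, true]))) (.node (.node (.node (.leaf [true, false, true, true, false, true]) (.leaf [true, false, false, false, true, false, false, false, true, true, false])) (.leaf [true, false, true, true, false, false, true, true, false])) (.node (.node (.leaf [true, false, true, false, false, true, true, false]) (.leaf [true, true, false, true, false, false, false, false, false, true, true, false])) (.leaf [true, false, false, true, true, false, false, true, false, true])))) (.node (.node (.node (.node (.leaf [true, true, false, false, false]) (.leaf [true, true, false, true, true, false, true, false, false, true])) (.leaf [true, false, false, true, true, false, false, true, false])) (.node (.node (.leaf [true, false, false, false, true, false, false, false]) (.leaf [true, true, false,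 true, true, false, true, false, false, false, false])) (.leaf [true, false, false, false, true, false, true, false, false, true]))) (.node (.node (.node (.leaf [true, false, false, true, false, false, true]) (.leaf [true, false, false, true, true, false, false, true, false, true, false])) (.leaf [true, true, false, false, true, true, false, false, false])) (.node (.leaf [true, true, false, false, true, false, true, true]) (.leaf [true, false, true, true, false, true, true, false, false, false])))))

def certAWord5 : Janko.Tree (List Bool) :=
  (.node (.node (.node (.node (.node (.leaf [true, false, true]) (.leaf [true, true, false, false, true, true, false, false, false, false])) (.leaf [true, false, false, false, false, true, true, false, true])) (.node (.node (.leaf [true, true, false, false, false, true, false]) (.leaf [true, true, false, false, false, false, true, false, false, false, true])) (.leaf [true, false, false, false, false, false, false, true, false, true]))) (.node (.node (.node (.leaf [true, true, false, false, false, false]) (.leaf [true, false, false, false, true, false, true, false, false, true, true])) (.leaf [true, false, true, true, false, true, false, true, false])) (.node (.node (.leaf [true, false, true,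 false, true, false, false, true]) (.leaf [true, true, false, true, false, false, false, true, true, false, true, true])) (.leaf [true, false, false, true, true, false, false, true, true, false])))) (.node (.node (.node (.node (.leaf [true, true, false, false, true]) (.leaf [true, true, false, true, true, false, true, false, true, false])) (.leaf [true, false, false, true, true, false, false, true, true])) (.node (.node (.leaf [true, false, false, false, true, false, true, false]) (.leaf [true, true, false, true, true, false, true, false, true, false, true])) (.leaf [true, false, false, false, true, false, true, false, true, false]))) (.node (.node (.node (.leaf [true, false, false, true, false, true, false]) (.leaf [true, false, false, true, true, false, false, true, true, false, false])) (.leaf [true, true, false, false, true, true, false, false, true])) (.node (.leaf [true, true, false, false, true, true, false, false]) (.leaf [true, false, true, true, false, true, true, false, false, true])))))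

def certAWord6 : Janko.Tree (List Bool) :=
  (.node (.node (.node (.node (.node (.leaf [true, true, false]) (.leaf [true, true, false, false, true, true, false, false, true, false])) (.leaf [true, false, false, false, true, false, false, false, false])) (.node (.node (.leaf [true, true, false, false, false, true, true]) (.leaf [true, true, false, false, false, false, true, false, true, false, false])) (.leaf [true, false, false, false, false, false, true, true, false, true]))) (.node (.node (.node (.leaf [true, true, false, false, false, true]) (.leaf [true, false, false, false, true, false, true, false, true, false, false])) (.leaf [true, false, true, true, false, true, false, true, true])) (.node (.node (.leaf [true, false, true, false, true, false, true, false]) (.leaf [true, true, false, true, false, true, false, true, false, false, true, true])) (.leaf [true, false, false, true, true, false, true, false, false, false])))) (.node (.node (.node (.node (.leaf [true, true, false, true, false]) (.leaf [true, true, false, true, true, false, true, false, true, true])) (.leaf [true, false, false, true, true, false, true, false, false])) (.node (.node (.leaf [true, false, false, false, true, false, true, true]) (.leaf [true, false,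 false, false, false, false, false, true, false, true, true, false])) (.leaf [true, false, false, false, true, false, true, false, true, true]))) (.node (.node (.node (.leaf [true, false, false, true, false, true, true]) (.leaf [true, false, false, true, true, false, true, false, false, true, true])) (.leaf [true, true, false, false, true, true, false, true, false])) (.node (.leaf [true, true, false, false, true, true, false, true]) (.leaf [true, true, false, false, false, false, false, false, true, false])))))

def certAWord7 : Janko.Tree (List Bool) :=
  (.node (.node (.node (.node (.node (.leaf [true, false, false, false]) (.leaf [true, true, false, false, true, true, false, true, false, false])) (.leaf [true, false, false, false, true, false, false, false, true])) (.node (.node (.leaf [true, true, false, false, true, false, false]) (.leaf [true, true, false, false, false, false, true, false, true, false, true])) (.leaf [true, false, false, false, false, true, false, false, false, false]))) (.node (.node (.node (.leaf [true, true, false, false, true, false]) (.leaf [true, false, false, false, true, true, false, false, true, false, true])) (.leaf [true, false, true, true, false, true, true, false, false])) (.node (.node (.leaf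 [true, false, true, false, true, false, true, true]) (.leaf [true, false, false, false, false, false, false, true, false, true, true, false, false])) (.leaf [true, false, false, true, true, false, true, false, false, true])))) (.node (.node (.node (.node (.leaf [true, true, false, true, true]) (.leaf [true, false, false, false, false, false, false, true, false, true, false])) (.leaf [true, false, false, true, true, false, true, true, false])) (.node (.node (.leaf [true, false, false, false, true, true, false, false]) (.leaf [true, false, false, false, false, true, false, false, false, false, true, false])) (.leaf [true, false, false, false, true, true, false, false, true, false]))) (.node (.node (.node (.leaf [true, false, false, true, true, false, false]) (.leaf [true, false, false, true, true, false, true, true, false, true, true])) (.leaf [true, true, false, false, true, true, false, true, true])) (.node (.leaf [true, true, false, true, false, false, false, false]) (.leaf [true, true, false, false, false, false, true, false, false, false])))))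

def certAWord8 : Janko.Tree (List Bool) :=
  (.node (.node (.node (.node (.node (.leaf [true, false, false, true]) (.leaf [true, true, false, false, true, true, false, true, true, false])) (.leaf [true, false, false, false, true, false, true, false, false])) (.node (.node (.leaf [true, true, false, false, true, false, true]) (.leaf [true, true, false, false, false, false, true, false, true, true, false])) (.leaf [true, false, false, false, false, true, false, false, false, true]))) (.node (.node (.node (.leaf [true, true, false, false, true, true]) (.leaf [true, false, false, false, true, true, false, true, false, false, false])) (.leaf [true, true, false, false, false, false, false, false, true])) (.node (.leaf [true, false, true, false, true, true, false, true]) (.leaf [true, false, false, true, true, false, true, true, false, true])))) (.node (.node (.node (.node (.leaf [true, false, false, false, false, false]) (.leaf [true, false, false, false, false, false, false, true, false, true, true])) (.leaf [true, false, true, false, false, false, false, false, false])) (.node (.node (.leaf [true, false, false, false, true, true, false, true]) (.leaf [true, false, false, false, true, false, false, false, false, false, true, true]))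 (.leaf [true, false, false, false, true, true, false, false, true, true]))) (.node (.node (.node (.leaf [true, false, false, true, true, false, true]) (.leaf [true, false, true, false, false, false, false, false, false, true, false])) (.leaf [true, true, false, true, false, false, false, false, false])) (.node (.leaf [true, true, false, true, false, false, false, true]) (.leaf [true, true, false, false, false, false, true, false, false, true])))))

def certAWord9 : Janko.Tree (List Bool) :=
  (.node (.node (.node (.node (.node (.leaf [true, false, true, false]) (.leaf [true, true, false, true, false, false, false, false, false, false])) (.leaf [true, false, false, false, true, false, true, false, true])) (.node (.node (.leaf [true, true, false, false, true, true, false]) (.leaf [true, true, false, false, false, true, false, true, true, false, true])) (.leaf [true, false, false, false, false, true, false, false, true, false]))) (.node (.node (.node (.leaf [true, true, false, true, false, false]) (.leaf [true, false, false, false, true, true, false, true, false, false, true])) (.leaf [true, true, false, false, false, false, true, false, false])) (.node (.leaf [true, false, true, true, false, false, false, true]) (.leaf [true, false,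 true, false, false, false, false, false, false, true])))) (.node (.node (.node (.node (.leaf [true, false, false, false, false, true]) (.leaf [true, false, false, false, false, true, false, false, false, false, true])) (.leaf [true, false, true, false, false, true, false, true, false])) (.node (.node (.leaf [true, false, false, true, false, false, false, false]) (.leaf [true, false, false, false, true, false, false, false, true, true, false, false])) (.leaf [true, false, false, false, true, true, false, true, false, false]))) (.node (.node (.node (.leaf [true, false, true, false, false, false, false]) (.leaf [true, false, true, false, false, false, false, false, false, true, true])) (.leaf [true, true, false, true, false, false, false, false, true])) (.node (.leaf [true, true, false, true, false, false, true, false]) (.leaf [true, true, false, false, false, false, true, false, true, false])))))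

def certAWord10 : Janko.Tree (List Bool) :=
  (.node (.node (.node (.node (.node (.leaf [true, false, true, true]) (.leaf [true, true, false, true, false, false, false, false, false, true])) (.leaf [true, false, false, false, true, false, true, true, false])) (.node (.node (.leaf [true, true, false, true, false, false, false]) (.leaf [true, true, false, false, true, false, false, true, false, false, true])) (.leaf [true, false, false, false, false, true, false, false, true, true]))) (.node (.node (.node (.leaf [true, true, false, true, false, true]) (.leaf [true, false, false, false, true, true, false, true, false, true, false])) (.leaf [true, true, false, false, false, false, true, false, true])) (.node (.leaf [true, false, true, true, false, false, true, true]) (.leaf [true, false, true, false, false, true, false, true, false, false])))) (.node (.node (.node (.node (.leaf [true, false, false, false, true, false]) (.leaf [true, false, false, false, false, true, false, false, false, true, false])) (.leaf [true, false, true, false, false, true, false, true, true])) (.node (.node (.leaf [true, false, false, true, false, false, true, false]) (.leaf [true, false, false, false, true, false, true, false, true, false, false, true]))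 (.leaf [true, false, false, false, true, true, false, true, false, true]))) (.node (.node (.node (.leaf [true, false, true, false, false, true, false]) (.leaf [true, false, true, false, false, true, false, true, false, false, false])) (.leaf [true, true, false, true, false, false, false, true, false])) (.node (.leaf [true, true, false, true, false, false, true, true]) (.leaf [true, true, false, false, false, false, true, false, true, true])))))

def certAWord11 : Janko.Tree (List Bool) :=
  (.node (.node (.node (.node (.node (.leaf [true, true, false, false]) (.leaf [true, true, false, true, false, false, false, false, true, true])) (.leaf [true, false, false, false, true, true, false, false, true])) (.node (.node (.leaf [true, true, false, true, false, false, true]) (.leaf [true, true, false, false, true, false, true, true, false, false, true])) (.leaf [true, false, false, false, false, true, false, true, false, false]))) (.node (.node (.node (.leaf [true, true, false, true, true, false]) (.leaf [true, false, false, false, true, true, false, true, false, true, true])) (.leaf [true, true, false, false, false, true, false, false, false])) (.node (.leaf [true, false, true, true, false, true, false, true]) (.leaf [true, false, true,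 false, false, true, false, true, true, false])))) (.node (.node (.node (.node (.leaf [true, false, false, false, true, true]) (.leaf [true, false, false, false, false, true, false, false, false, true, true])) (.leaf [true, false, true, false, false, true, true, false, false])) (.node (.node (.leaf [true, false, false, true, false, false, true, true]) (.leaf [true, false, false, false, true, true, false, true, false, false, false, false])) (.leaf [true, false, false, true, false, false, false, false, false, true]))) (.node (.node (.node (.leaf [true, false, true, false, false, true, true]) (.leaf [true, false, true, false, false, true, false, true, true, false, true])) (.leaf [true, true, false, true, false, false, false, true, true])) (.node (.leaf [true, true, false, true, false, true, false, false]) (.leaf [true, true, false, false, false, true, false, false, false, true])))))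

def certAWord12 : Janko.Tree (List Bool) :=
  (.node (.node (.node (.node (.node (.leaf [true, true, false, true]) (.leaf [true, true, false, true, false, false, false, true, true, false])) (.leaf [true, false, false, false, true, true, false, true, false])) (.node (.node (.leaf [true, true, false, true, false, true, false]) (.leaf [true, true, false, false, true, true, false, false, true, false, true])) (.leaf [true, false, false, false, false, true, false, true, false, true]))) (.node (.node (.node (.leaf [true, false, false, false, false, false, false]) (.leaf [true, false, false, true, false, false, true, false, false, false, false])) (.leaf [true, true, false, false, false, true, false, false, true])) (.node (.leaf [true, false, true, true, false, true, true, false]) (.leaf [true, false, true, false, false, true, true, false, false, true])))) (.node (.node (.node (.node (.leaf [true, false, false, true, false, false]) (.leaf [true, false, false, false, false, true, false, false, true, false, false])) (.leaf [true, false, true, false, true, false, false, true, false])) (.node (.node (.leaf [true, false, false, true, false, true, false, false]) (.leaf [true, false, false, false, true, true, false, true, false, false, true,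 false])) (.leaf [true, false, false, true, false, false, true, false, false, false]))) (.node (.node (.node (.leaf [true, false, true, false, true, false, false]) (.leaf [true, false, true, false, false, true, true, false, false, true, true])) (.leaf [true, true, false, true, false, false, true, false, false])) (.node (.leaf [true, true, false, true, false, true, false, true]) (.leaf [true, true, false, false, false, true, false, false, true, true])))))

def certAWord13 : Janko.Tree (List Bool) :=
  (.node (.node (.node (.node (.node (.leaf [true, false, false, false, false]) (.leaf [true, true, false, true, false, false, true, false, false, true])) (.leaf [true, false, false, true, false, false, false, false, false])) (.node (.node (.leaf [true, true, false, true, true, false, false]) (.leaf [true, true, false, false, true, true, false, true, true, false, true])) (.leaf [true, false, false, false, false, true, false, true, true, false]))) (.node (.node (.node (.leaf [true, false, false, false, false, false, true]) (.leaf [true, false, false, true, false, false, true, false, true, true, false])) (.leaf [true, true, false, false, false, true, false, true, false])) (.node (.leaf [true, true, false, false, false, false, false, false])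 (.leaf [true, false, true, false, true, false, true, true, false, false])))) (.node (.node (.node (.node (.leaf [true, false, false, true, false, true]) (.leaf [true, false, false, false, false, true, false, false, true, false, true])) (.leaf [true, false, true, false, true, false, false, true, true])) (.node (.node (.leaf [true, false, false, true, false, true, false, true]) (.leaf [true, false, false, false, true, true, false, true, false, true, true, false])) (.leaf [true, false, false, true, false, false, true, false, true, true]))) (.node (.node (.node (.leaf [true, false, true, false, true, false, true]) (.leaf [true, false, true, false, true, false, true, true, false, false, false])) (.leaf [true, true, false, true, false, false, true, false, true])) (.node (.leaf [true, true, false, true, true, false, true, false]) (.leaf [true, true, false, false, false, true, false, true, false, false])))))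

def certAWord14 : Janko.Tree (List Bool) :=
  (.node (.node (.node (.node (.node (.leaf [true, false, false, false, true]) (.leaf [true, true, false, true, false, false, true, false, true, false])) (.leaf [true, false, false, true, false, false, true, false, false])) (.node (.node (.leaf [true, true, false, true, true, false, true]) (.leaf [true, true, false, true, false, false, false, false, false, false, true])) (.leaf [true, false, false, false, false, true, true, false, false, false]))) (.node (.node (.node (.leaf [true, false, false, false, false, true, false]) (.leaf [true, false, false, true, false, false, true, true, false, true, true])) (.leaf [true, true, false, false, false, true, false, true, true])) (.node (.leaf [true, true, false, false, false, false, true, false]) (.leaf [true, false, true, false, true, false, true, true, false, true])))) (.node (.node (.node (.node (.leaf [true, false, false, true, true, false]) (.leaf [true, false, false, false, false, true, false, true, false, false, true])) (.leaf [true, false, true, false, true, false, true, false, false])) (.node (.node (.leaf [true, false, false, true, false, true, true, false]) (.leaf [true, false, false, true, false, true, false, true, true, false, true,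 true])) (.leaf [true, false, false, true, false, false, true, true, false, true]))) (.node (.node (.node (.leaf [true, false, true, false, true, true, false]) (.leaf [true, false, true, false, true, false, true, true, false, true, false])) (.leaf [true, true, false, true, false, false, true, true, false])) (.node (.leaf [true, false, false, false, false, false, false, true, false]) (.leaf [true, true, false, false, false, true, false, true, true, false])))))

def certAWord15 : Janko.Tree (List Bool) :=
  (.node (.node (.node (.node (.node (.leaf [true, false, false, true, false]) (.leaf [true, true, false, true, false, false, true, true, false, false])) (.leaf [true, false, false, true, false, false, true, false, true])) (.node (.node (.leaf [true, false, false, false, false, false, false, true]) (.leaf [true, true, false, true, false, false, false, false, false, true, true])) (.leaf [true, false, false, false, false, true, true, false, false, true]))) (.node (.node (.node (.leaf [true, false, false, false, false, true, true]) (.leaf [true, false, false, true, false, true, false, true, false, true, false])) (.leaf [true, true, false, false, true, false, false, false, false])) (.node (.leaf [true, true, false, false, false, true,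 false, false]) (.leaf [true, false, true, false, true, true, false, true, true, false])))) (.node (.node (.node (.node (.leaf [true, false, true, false, false, false]) (.leaf [true, false, false, false, false, true, true, false, false, false, false])) (.leaf [true, false, true, false, true, false, true, true, false])) (.node (.node (.leaf [true, false, false, true, true, false, false, true]) (.leaf [true, false, true, false, false, false, false, false, false, true, false, true])) (.leaf [true, false, false, true, false, true, false, true, false, false]))) (.node (.node (.node (.leaf [true, false, true, true, false, false, false]) (.leaf [true, false, true, false, true, false, true, true, false, true, true])) (.leaf [true, true, false, true, false, true, false, false, false])) (.node (.leaf [true, false, false, false, false, false, true, true, false]) (.leaf [true, true, false, false, true, false, false, false, false, true])))))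

def certAWord : Janko.Tree (List Bool) :=
  (.node (.node (.node (.node certAWord0 certAWord8) (.node certAWord4 certAWord12)) (.node (.node certAWord2 certAWord10) (.node certAWord6 certAWord14))) (.node (.node (.node certAWord1 certAWord9) (.node certAWord5 certAWord13)) (.node (.node certAWord3 certAWord11) (.node certAWord7 certAWord15))))

def certAPerm0 : Janko.Tree (ℕ) :=
  (.node (.node (.node (.node (.node (.leaf 4100094770554042515533122004313285236735003534074830538881045787921142082201184208296423565880205964959118971074454247199955378650214568923506906026203450061729621922836307612900092799561144844784840892852764800) (.leaf 1578025072641723231702023244934988829851426146959326433746242192968497284104289207167546651138109421098472733585831383436239874017796950207549070697680143296893472059577509420079538488710240715384969635482670782)) (.leaf 268907724264082876232091214800134054563058154243292976240619975519445503573353693144535606346996198263707497350857826623220440836081624716981870657372554267515985089991190177985156161942620795656967421501818241)) (.node (.node (.leaf 1587163303321869372653489845764799139566038512998135244953924012097374251597831559389582205057506704764845210081007460203321006434041332736171241656064300062341739030007943545468672279488433674956437580550128650)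 (.leaf 1054791846984976350349130509153221579399223311683211497526206840021073630542452081893554879056565066277697932805154441154496293643669945720783943893531234895856191740307689960890282956419176115997613613218324132)) (.leaf 1298537405876056755770601664129823871288958069152185690088333876337279074022029041470066599563130010163712755950316861023611291158316282821665343934240411260554360980706718527625590927156572284724691764530991510))) (.node (.node (.node (.leaf 3725074475469812993218419750025982560978545098425716276910080101914550769439263774462623194353391967419423017219962001979127882905795863125167857205141855858199904046933957851445407852365224074824841456973589248) (.leaf 4098050165181898407661762187191114185588195690576669025380678803511500566202352073119067873318349585059894669202890819277589891978634640173159028683011961783190821455330852971559604582505381754943883862373877664)) (.leaf 2273203715811927410006693614675082062438828225637476802306612165279764889640100474425218039243858301197365442380018479089033506848203339666928643873601684857805601524741052123394580085920386303674326579524993416)) (.node (.node (.leaf 746595191443498497710710243233568805056099005473243335196185025748171297684278930453193968981980391002602306527447759393632613457991701545167919178575799947666946857414862484284963032163351454969514754932050774)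 (.leaf 3916983850513929161354739182507603996748261957590895964255695089666930422969167696389972500910445552421806276497154028212781691205912542248963942752813203345014109204265135553052043074719402892928183399746145548)) (.leaf 1592922195826700168418814073636311080612750255817028282941703304750849305244546734922537625032600351209312646088619390719293295387641991868401715531262412372945756126105951228953219078320608656593926960142920876)))) (.node (.node (.node (.node (.leaf 271148046303643144828561800492718557866765245803197099413806879691269340049722163026370230553776724356920498081166896197956958744466170050920560095319855232767843025278447966537049269693188254929479832924800657) (.leaf 1534139199239533350920684751820460712054675642204930409321155052315501241518050817099515974041926836188519944825202591228503190294421430081053437925181535431845171044992420773264967606220649067488091767054846806)) (.leaf 3930086519569241845894705358212152070605399429930121023812637045017959939361315497011225093449011558642121727327489771172412898294441303166868116175319318065375282188084639666069015558970399171092647483420788385)) (.node (.node (.leaf 1303984530796972821050574219687757056486777430903844856408734625980654678291310231402763495263040573953158253541647496492005856554322051172072174106603015389191646931136037868386792567254503654633844834795082285)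 (.leaf 749259604181778226286760073255691277814680620024324340291135237863608244845596819427383646807672178280554675988773976118210885240096202009540418339644809016514251222503224626323894691631309392124619929565877833)) (.leaf 1286925712355766425815709689304492485883762939854494632962897001268775112375879211007364944409990874989499787225432538361814497281034730227454922245768178138920722554809292991013816366665910554699455091406356865))) (.node (.node (.node (.leaf 4098135589543724953952723137278047851404292545838189275867420482222188870045335168194360248376737905609173812592158822173186324512249409858837452232388817906550624764872775052734275881883461609823629120996994176) (.leaf 1627877162090468096735969214145503617447761121223171229281204098465160012170672698076348896942118478307797024341105879705355106272490007105073981442916389035004949920274192922343151061267921588931588585314929413)) (.leaf 764230958750221837136671987812997223436637229650576628815040724007995589389228198662023796154098297872748985968159083110541132605035385235018870718631949104092561494717810560209532321665667136004526788557754780)) (.node (.leaf 4085830173965067205726209630857225359269774699056410013030320129074711348389948435144945005830263917214326277250509739916436334683400579936998686065968497380514859868382123075074582806928293665815844739064497541)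 (.leaf 1712097920057422647661471349229529953542385567976167583793526995879149752427648337070313021019524397058628084531092687989038263684121118435009911851774832335685938351849695861093169466638350510149003755723210891)))))

def certAPerm1 : Janko.Tree (ℕ) :=
  (.node (.node (.node (.node (.node (.leaf 1526752939389373430999897796977997979724138390678343852691215786959839697492805390655041775732699908126500528957116517886424681620407534248078314911276300578673922433500408797469069640455482871044067921570866328) (.leaf 1707415182816479156571553674829562338202292832954705157939270309648075806704671333958081769147674620490916214630630659230926499960610171391175615116554366041491260832096136402570456753929209069377187814271371784)) (.leaf 1962807568305656498945610060644515313980037154154797467619654468494527592428551424734099558298376700644031063429057832207904185886383449041085296399163319833529384564650011274418144694356077145035258921069364808)) (.node (.node (.leaf 3935706156199155903722729326381215397590815040254447534481080529117091781935363440858340282212927936803300518641822728354499846156896493067046039890558946748972201411624600336910602058956545458107009744910991488) (.leaf 4069164918763311662173875657150388072889775769732616601549898194602003260588723739766159312886661501533116365667343744577769655299928178330844317570562454452815550788997370609435376117830796105215080810989952928))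 (.leaf 1938963703901634979709439872160160275366435701317512339164833359620282287847604921570691842630293033310817126657160360424126540194753034831636587127546100797500040043441313317071400341671460760096357225971124040))) (.node (.node (.node (.leaf 1547354665602134468860513816837085472036403121990902886649761374333812185044579869051472290676933400554548871141080163990134927127625342750717740650746526507753296721679530612807653436589688164755540951773434247) (.leaf 1591707184766714021033240871107253949801089190061741077601551892227804986437550009481504995031100028398621898444684564557797311923696909804337295272879055534392375473666740316142080294611303697091195089162388490)) (.leaf 1043940036654220063476652807523934683494323975430103238192021031461197087107574378947138457500907365404983184848684433667227582186991734794794326473405719012443920208744801667651377206247611276806781252329035428)) (.node (.node (.leaf 1053589837406578776540540887328480142196584265727717002090272512969539589259934585965917394743159373789308295197785874139556011780220689269883253329048711496796565719120475579494352888196854038778175683623141924) (.leaf 3921478770133224274076545969923712941657792140852082021272155794732037308495685064482727453281915385373833345258695814212507183228772790304643165908548711825316438553325156739226589431638840284973460406188344737))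 (.leaf 2273270820703555242896968159185627880724884355435639777010029838063045953350475736615531623983935797731528398984318670020501051095391372119864253963028058068362583345499079090504174593617622599686837956263534486)))) (.node (.node (.node (.node (.leaf 1304176684562723140115436895300839783223129275107098046842563067364068617295307790164790102115892850662281819454384625093163096802505089477082114761612049526422712492202416958421485697477481805041915904060900909) (.leaf 1580430455681814985580867896034095707024289815716656840588616492184082929718790477151050849640374441664222567463122268253807919380026238736460547247484386571245481762866581046069804385115628247506553293595629246)) (.leaf 1547044113972227664896583663334976194954983577881013297194536834188717560298461933937808560095632148757562675157166166295551469274613437397977518877447823333771540230433247822370214217829022050613581504484705944)) (.node (.node (.leaf 1579136735777115873410471650687222990226231464484609022343870686511038649564907658980563275479052794521206529931848913335394683711620340739075057360980000928957298810253901724957344947677274620253271740039987286) (.leaf 1051776910745663230979137807825124852328076395497471325409806483161747259269711238986657703082543099523980214472228870398779544084798128156405911280046360913634382751680847574670610224949332921166895443631002006))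 (.leaf 1036756873244324653249077767887512315829438471610895077002401087769468592558238482950947873273530233348065279200613877497686021922308819954669102625353192466272067748850622236813659098594195853841571218916229207))) (.node (.node (.node (.leaf 2314993237228262683928507305961517507265494453873699114042292729888327763447867454392302392417078002620093812451187415636201692882095593459437617618513557982242970659275807930353287678299643117003403875300368131) (.leaf 263788647539848243573800948846147128140610018195011259701713668051368678268771105288298928122303699245373943368892423002369682650117380854188358084441856442420033266989197887142893726837014306643070239022195729)) (.leaf 1961834661924129797764777241595541185056429028306548056293119087688896908467907297506083755365979813560509223717024447587171858680836644021810539105838359980632346681600742975757426953717967643733865857639342100)) (.node (.leaf 1543361879419780627022902855904656382209381180434382372605677601518430863909292510404751856236518697840671740953882046039357163601375232900569442105896635860403084958773020879916447757296398667457427547368336560) (.leaf 1628811611540362685947355402920694994028542099448156117171010829066368337458365189317456443011382103012215458958810762423377780270805086411472676320609516465998546723608610707388612136779339573654871907040233150)))))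

def certAPerm2 : Janko.Tree (ℕ) :=
  (.node (.node (.node (.node (.node (.leaf 1697938012572052450243146426100634142747990846449089818392887878930566087718358341326838212796923235435425167656977137643597990813421435989511396449337917845821933024491380911085966927217469067765169567579668872) (.leaf 1586823932021540733574970770280998392386236100938496478845532237642839737335455357185460822241012378338000141931528521832928028434495834423318669454927315413600572391488596402176626220343786136083988258699399194)) (.leaf 3918016610579658821714770621762910706306288768183987799727804864427885239110794066662326504288693288954366156141443781519496885572540769073933841287007570128249014828573585922080288747569563204780240127460155425)) (.node (.node (.leaf 271720274890632998141529429778026553174543980997580269829142371298419928538093262654105912224653693219770257646654308823383597977179389606716310382246364115076373653025424569177271369790292585994672373493092378) (.leaf 2284849624365307977152381553551034232178018959449436964521241397717142294699721703074900123078135351618320015504339741815923534716222053152790932663358580638109641992949848922123456651281298527532246459556680086)) (.leaf 1628207803563746451178419956151990819964628052401591580751593638719222284689469007556118136701308756034700360162429896305823680248132296546476853537083766910758356715637837717623739780054165661144952437237667343)))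 (.node (.node (.node (.leaf 273992175321242643234283873135363907631029381600302812125753945790555010160043327592014274776386508076444917754773006514901565327960195741840550871657965286316594288709189395333598733833969534844941024447906505) (.leaf 3929263920865341830596222261021079249686567762228305335399013885735256538175226715009224044851574272366804043379942134276250220902867317196466496228487731940067740648290531156297150481253124388175380754466131983)) (.leaf 4091063825205489812930316103970706263814931330900240583661432112824022671230265461396625844111630107364678706898108228180559572041921118254610729073134438208440887294560504239389664237748952728734518696834468388)) (.node (.node (.leaf 1578113597407626626259029418926287146502826377907149579016311727776874189440961417867292766383015299302484215103161440752023559335071961933115356338179657439558516242559394540478951969437126011807686084188755646) (.leaf 1616396707327417170414719193917344685817592169324881556331389468261071647348004871771165734030068202549138743834145738759198190114096512790812476010610753496312243222417526702978650792245153043121939511308829582)) (.leaf 271155508748475451244474431284528289940657793172598176779853823388199204302775488589667821666625871411700567753832224346401440079471539923467779026878110579078305998974093374559559543864733540786150702492008833))))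 (.node (.node (.node (.node (.leaf 3917914638521068088274946532140845026266142511193991360457315108378321184532260703817093618415255784883438604301490137295209912315631845420410669528246861168347801252842953551824726365465520007792365954706474756) (.leaf 1577661374358728702976059101930222301598636355855176616764416700421916833418791961898501243956392572631585109114602707188544396697291784372089969431823437460641891849467175191483100949274662803427072584145439748)) (.leaf 1428231912408517664549184996644562085125172487195703980473802068949048602089691176558599234223999825286928585137608508337870694520550927753886451867874643420327646887439353003107901600693350460038395750634541468)) (.node (.node (.leaf 3717044804588918625489148818487246988400199670324236304002383727979873726048923687166632621967328485934137957876966589985150380529306479663541679381044795304349664915595896004729878409999248957893525790668904511) (.leaf 1300392600050213520378108237809850339511845672210864066433884586135269628721895897618429534614566780558219106161755464599628213703440758779642775207569726496199782599316317611918834551839396899385788381249840138)) (.leaf 4084362255309506302293371475503425227540251033158849364023184976149326744159404928327055458744514038688326644310720002868343989799643865196493638393308000840013442727484555209740235511155000902512261435442759821)))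 (.node (.node (.node (.leaf 1630045243518286033365291627490111161943956455979982524368471051745436985602729813285610156513812811491754610108014250653995790977259419512927597528376006641436912576723382996111154376666447014327057580970086576) (.leaf 3934062198496177301019419793987892320060523563527986248976212169803093175214425643741606555519261417903542443192065521357664901993443265805426520740540053164916652061182315381289447232658682895298833272332050465)) (.leaf 3714394406396357189537695405667470485946426224637508792256549533340876994407485611247838092844671999722321478384342433537864264515058278506344648565428580829486573969474337061541693310948157512420319167902127689)) (.node (.leaf 2331302904196183819472644880756503913755906641179672884491851022617482687770309602546164223520914485142051139572474862507081084532219730461680287410510457928894814971617894471324925164912033522966658600186057220) (.leaf 1708791494697883240792612087435067507523656309826392484494655878402408538316568680505312038302258809035498585279540509186483863617516834843841980457212948022412775352223422633423892814142026495032714566160188680)))))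

def certAPerm3 : Janko.Tree (ℕ) :=
  (.node (.node (.node (.node (.node (.leaf 2332253844093922887916926393377597972580525044628073411602733266303661293990367825432200820574005290974250049085695732978299132844189337554624945249989075823594527147222524867715734046018389796815921659295732124) (.leaf 4099856448915593732242085736632354041388317308808788395587173232428713847831366595474247519333468537868901703530385496032555626065266328072305668101624552498791619962764111358458603193075905444190467146649190528)) (.leaf 1300818460365138678277945565788440613905972851248785476365028887584195054453751583750277283368195403687247291658733522649851000152996206420879502235387616083782141361732095590636850412736742624222275500213889944)) (.node (.node (.leaf 4092376590890207034665880483475016114028048337025418564007869227489123277083752788923919635835015036749991340143060091134722447368459802941649524294495928902091386859982760469722710145384271781702826877001156101) (.leaf 1950001370082265734648171387809675889119398201123104541865376951614222343846273483217507941934076985966566286248822694696948260388016940361903379378982465334171829107973731009169058841963926512686150616409825300)) (.leaf 3904795115977072817911866627201113365870117719204104542430758297006549556276991577548727472165116809668624175654373732079930595152007414371481991654812952647357370397893188765608264573753992622692889931467785480)))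 (.node (.node (.node (.leaf 1547078767934480990140353148712850367369591848649927033708830876188766949897328563296281825829460703723021269826962348343901499342637835129325019468922636888625918872803124062973562036424012226008357347210414013) (.leaf 1963161122954702773244896521847097772218223730709366475031040927413539893322963609033430026989803750950075872785428198006809121620788747999784910917708005891212014378051785937306037988522537411999000913893376139)) (.leaf 1961229962092943012641728312223139443226411139204100702922342171387021898662757488478709692708089686623984185776677281059131777579286050456504746559984975899919293040141844563676511695732918863345441760225846424)) (.node (.node (.leaf 757280300798290054976460581216068015695706755586491615767928131600417240926832618065843800358033548419511607381147277084016749084072055299491229949548941764387018963390289741804891503061650875290199171286910369) (.leaf 1297888712085697716684299201246203849532264292589129007024733982859284487534328011517618817932169952867176350035103455202957056969287163244771087400910222602541447679017149474608839024432555785449557961923495681)) (.leaf 1578053204287783608296865363043569889935192977824963218225580641477774105604565096960109763250670426138595276843834439349121819756792775405692255736336597339519449899996639741456331288019185204621196456825488011))))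 (.node (.node (.node (.node (.leaf 1624899529485036679717207524973967991567371279193723566018899885402986372666843804540603120823177199625228014505278795702560127640217525012802653323775186373073548752320402530617473508318870831884940622322484613) (.leaf 1530241592180932073911470686299697350656552624186212249477386207670161112990823389859284581592036408606009326943999586682970758452880190010263910891883715237086384586480764533389082400277372785856224527757349040)) (.leaf 1538022014961620733665562714105304251573038276564519336941894088042691670159526656039874213080932989881476696588254100175551404664992800082837042755885741609311825116001531866804233415505369204109211632518725718)) (.node (.node (.leaf 1616380830318099118473834072973321953046128383718129274460773962925259065046540448280221054096980035899376970185590415401594857832133396560354153286384029352282319627590973571870733247017111096547236687984840279) (.leaf 2286594667312402742649333812957207998861281378775647491443622721865719944935921874665294080815633235780403721611455189018352413863294447182858892901814433533528542986544826290964895324377309917290081625641420733)) (.leaf 1634036528150950642201641209269226800245312051134135242918617805360508189416863485354201694923861230462612985269679749034830697652119132716186249534151880314887503014181987580548243019044108976700996034184939013)))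 (.node (.node (.node (.leaf 4095165209497813602496371219453096422360332744353732195655579421136528001395503369302711571553316434821302567664882838350622961773856734617241089440057245898315331158623147676079297672938251314276133161340608164) (.leaf 1533497202654704999791914535182568210956866932693704898801902976995794102762528140469446524247767767677842487659682154084494025004769473039671091357973952787001801904704854801499325909495980385742680980214729996)) (.leaf 1281454937681778696768394921395819530056332087388262859551759950716655652397967236161372274196591941813695541720567523462779836991357910034587422826819702800884840151402598986368109902958113183598575954950571777)) (.node (.leaf 1040267020414141206859476329800157033448552884314578104630673843540426400751076290543579636710946783826185471105016171478030298205213270175531187105666792546903189534890860427843444020519532281797030988481841068) (.leaf 1543160300180694246011356572047639339644334593537470696251453909438720118520603648934104244909048702780650441010502223863520273750132758176173842827677821553079294395550536538473070691857476234518936033158516912)))))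

def certAPerm4 : Janko.Tree (ℕ) :=
  (.node (.node (.node (.node (.node (.leaf 1939017455837195294952290972593282583171430456213416985278625299383262662540576522236155509524287326985364235368412634162054049749539407368820288719304631505774832438689891890923023384043742031077661074428583840) (.leaf 2326774454868804138122200237326399479443267798551026466217666160482705967561309939238085611361904467172198856044195744034986528289528223430083159028382029182253669993883130662682554840724318656793902963471977476)) (.leaf 3935280750157165287156892262702580953748580695356307688679850568499358374786605067838777115654714554385874873946992221302214670366783566618134788580343398209561461308250289834953314087487359820799768718824677155)) (.node (.node (.leaf 1398071795450415933392382153682195277240008260626503295855621445071033690575939520972052082640480759052268129452365474975867408238425949522396600686337216481320145848931139109653254675073697548794304227225726124) (.leaf 2326480378555334353972408995581639946459612515131474721870684721122266124899515318588020586918062097464339950046448196444760191743446383287623239569157519043335103331741990800969092731794225541724376364309747801)) (.leaf 4095748996715683291102328228544012454211091634892344901163348289000281289499625428209881692972315253488706010339978755034946126412129373304212400242395688783774467374924791366025187612007571152241818600262016676)))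 (.node (.node (.node (.leaf 1296810547343066695418824666586395895860241533483800263677920261254512458128397854724559128222917364172892687060207270376394854964134497295083682530416826175899771659058755403027950319616653751502735218613857453) (.leaf 749570811462761969257850035601725228985138455796439827975563752663715049682752861805522533402630893816873688920871834048582277244550701058161868426563544250626860845360311144742351220273032046626489166141185837)) (.leaf 1421797730977824829257028374863104112812886309045630362232161009994972645995296025840250907520150640680327305873860011051927022932707684131149453599699826423398392065110810049579251437413515218938239554093924737)) (.node (.node (.leaf 1956742973078277113847610915048243981737550512314628217127355212447328824776967841385096154835306371552376542783026240959973261178819789255860633962959394370727433191379331184270028117232792734613321902725761827) (.leaf 1403538660035419937555764783407818881679106006950784795241419761321270291975976551825286998939747279396698269691716755282177643840901860624539354388237616370264447598250226841233838059890008102847882867847742748)) (.leaf 4084626302018481561416902545881860163126915984522900447951113824841911633405185168814251659033975140708162427694818668689636465656443120483180593585258023092525690071450591258069220492113352059832708659308940301))))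 (.node (.node (.node (.node (.leaf 1287497750120944821257229306264316991615928809283337055413685322346029944370741721640477643364739273759861280753615504114937614149586128894209661545462143852578511629659265946880746130673248506419493865981365770) (.leaf 755965001143302718207319899791438335005050652835927019542354110965267136879130728791170065295226469616606938727968435556500794709096055483715355921139350785828169410781590451008201190637691208835123122049322272)) (.leaf 2328833777965892269217756821805071070032731122408792243940326038640039917767175437142588553385580179585364354343746821497547763399608166264641960617692992393089529330872551905554908950202497386727844835316547715)) (.node (.node (.leaf 1584284151723726528957709983916103175388286291530081140035851975025361962116610703558223161677297721504654162971118039165460687057987608764994482544608992652945373809586603910557990871088808556607624540471772076) (.leaf 2285822524433359727028501259711533083140650524759221779350626282612133018163446311846883936814751118798396848225314358299684674535778463453344161593669108463308019809247333699189133901783911775475090584385522701)) (.leaf 2332206876666129986054495003742740357887344430038189256477081503711317870929665121526834035042522045507436861870590161693014176931587136593949604813877597648404110980287821515989831991986068659347605491907600260)))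 (.node (.node (.node (.leaf 1544372457016941192554213287483804854954309654175682271829669237682824367382699594558673716792394028275575992143248970553457824069251303796050172669266807572168642060304783797650768636359909853936454824262600918) (.leaf 1612114003430466572911581110321831685377279710138483968861289142727039655032002612526350715313395142434423513402542440956508783007595528992237908722946785171495853828570107597831014410223066479651355811963289687)) (.leaf 1953846150857774696197198706428122468047277214851458578748716027429597487591283330964228875603284810335428280109187060301914315160563468995923150384578427055106456379724987995957866425095232582756096996033614356)) (.node (.leaf 1620272122696976461906964895779687841179074523321294013378275028211076334215095984177351781529150749952606923448829006322890522634013676385121214324801764714443841024677087986442963945824449159227221302929016197) (.leaf 1697928386537582637920132802116218210380800752706654333360895186978857733375152468951855642190059887060399901177341184457808862921852769614034557059656518429022797813660643546375423513539234268947552054851112279)))))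

def certAPerm5 : Janko.Tree (ℕ) :=
  (.node (.node (.node (.node (.node (.leaf 3708411251108836913894783285663580951536427697231874855865269623020161733608113485428636381409525735861637673317651037215962852748096967126465605178876151759080662740502090866991887815911729540698567620607545536) (.leaf 1538052497066286956632415817284217439135257512397529952706475646245405490996415355172837442495509922236883544933799542350198987922811971901179405224267103920430334957371649125894110802057283324895154918728861117)) (.leaf 1585507086846295143384729985950237063793994608026187937004336041718746288710370522645433921137205961742530966987163348640846999835622040926138616817555430258310607219487888450967281330978657233959022915960801494)) (.node (.node (.leaf 2286454182189185568160643601994442537278968965625182317283696592906917910968638331524974263286187524126442176546959912984468476464711715283611733421748091478242779462995799718760847822488021575712459924211166106) (.leaf 1552072151994018870268767663061666398163971470074137571875278212532215783866745330608176649494886021576336431893454727039548316592401575528448673093156108419299136917618321990781728654744549344052528635955684364)) (.leaf 1707565631199774937771761268402131914258758765360634081967235627343147504640423374616050685872786224016741413871436199142536592460572065176394624567107661064640787437354583338724111688032903592535327218728258056)))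 (.node (.node (.node (.leaf 3910960903966364964399329512403571206132940684672866973248384133054935249289437991547167847861123493503884471112384395790398870518489416717346403253586740962634823331357489200130454211768969710603320940716067619) (.leaf 1619951137934235091358943573521130667742191228572786694533096679900667062510101089588470944786783620635206061275153434446888050447152885156473697677530708669507032818539910996071508268222770991427210688848380948)) (.leaf 1567944769778634342526070308557534840000272014682139729950183055985982183048260551918040504934069505668911856073748967000886441400111153953604392540752345247338250932412516055676899333196096024927101256536342974)) (.node (.node (.leaf 3933680599737630383744053583224815891518211402373529097560873521902674572048445250512475658793755245002012091199346641261308650427962718218213938619601475737362911952948300298990381929430578410221769928721245320) (.leaf 2323709425509813473621452036479354899519541178176391268379179149125795283602454905527810204590051434113056175477641940199116776987648948082532768986085137917189610992115955095443850326271969013763242900251789201)) (.leaf 1274690734660847478378952030282602686060770376818658034973646986932412831461457787251826109503327904261386554242641284183638149729611080337503247457627587717776153299727276859604317847016496425212391711640330134))))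 (.node (.node (.node (.node (.leaf 2318113123857967492207952908425826954866290039002048486380211538583968622391633351965413690670378551543811924966723749513070799290700529526928183582658984290792269867153320927205134757437318000034015356489285721) (.leaf 1592670727481395353229296726110215633955441258288380853051927379320446942918466667982907341117222190404072244260567490587681965465917340963113419052644305428792817866039242485633856982546249881407401940474987147)) (.leaf 1428219428685217735490570003969010780519359891896376092385697371181914217070435328781505065411123224527861347744648523257170671994569626441919076742676619496237694618927245738342920850564918762030463252178692884)) (.node (.node (.leaf 1953805067629900511665358995182560732311587541599339372717852186171027536328587829987137651919874575358823929688839973162698349606030748513456256265209140757092579106397873178743825050048133138478140336473181731) (.leaf 1551699739618760676005829641680323181875660782620998825524670597328145980580416728739995252358530666996673718952715666986253889773167183496386780624960690810341257454870954492995377996840878957664762756414631088)) (.leaf 1708822390681315550041538210602224262124531283574901443271150305154043527533729411769257848524005348547177897999462904721695034454453949375224385386414680921074038205893305447878397327866572028218375434341877000)))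 (.node (.node (.node (.leaf 1707573585729221207642401048356706991804597478215366630990535339857304155379262540091293612025609993708580124653537592591042855580673104614099721521248381691961938091587430661878674617215636480378791464302399627) (.leaf 1609011319722621912350335714498524129146354516410072510256215815395925296260562902458085529102569164568702079327050580091012556825206100721298548595576810709691124234312966645456674724418999686742171193803506992)) (.leaf 253521001743401527516700536087623443575540206215950757949983562280021516567851647829720157055306713209060765689425373419165802304221939103972095234586300852288364059649016610638046563747812801042417964643632666)) (.node (.leaf 1057305418261721393180217785515580385839893072444358976171755748580136085280245688563044779892034228369061436623713137052374506640606013268133799547331276446215111530900361790867910296872728694367335036582790147) (.leaf 277513865000745619523654934624696327368035645179843746353706225723967191274714272990920146599551687254959223516692578452268003424942531879778725342687609306599929514813314307350437412124091892736363455826051785)))))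

def certAPerm6 : Janko.Tree (ℕ) :=
  (.node (.node (.node (.node (.node (.leaf 1043922942557343653375519096011627894638917183434557038912625567116202163784433043893549120252041487911091821966919949896108226991295008054916932718851689357259133306032597243819788438616823461231766069541552790) (.leaf 4098120355198288957586952150330019491323911411396698219142834964862497898310363770219527502602013396751515872442111294927549321421569434124917315190276235509978752225889209383102296197668314384997638500302791813)) (.leaf 3714635298056714653593750509832931945578528559086789940914153172830105793224256712430719488373401144147704258889432685508919400301643652371533210031402257766290825340092440676033267201958352935976521466727271744)) (.node (.node (.leaf 1629083559788211807728475672792800505199160594998288094386951433837195160801724973287029304925724279142472346618138606641036531852684095053256117367423760737483593145579852354177604229619039492332719404335262484) (.leaf 1059033506215546535154121739342473722820845214680300368236235895747258018450044559454065155993604049815806054872049897606109741342433445939482030633671234563846305706344850049819777056296848984536496375535714435)) (.leaf 263174467037672034262834700440330388639897985936987872485464845898153666278504283088903027806545308499803784653755971967503538140003287296932653172476291245838499626696513714981828928772922695848149687118947345)))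 (.node (.node (.node (.leaf 1057763326717899838001873484184639732937350326992498511673331349290592736953135618806677546361677663197618332665008134798540161700223293371417965793892028982638026814679738640600938184655710564228757361012543491) (.leaf 1043237391624252911062241926443115526433959989686161894366158502764569386492540345605631678445722261665337435328459165830721936183984995000112188936119196405191425238064024753371440677385566021113938225760946376)) (.leaf 1028212047528730324388067713196779238397981835645737310280374191809016068793330137417313343175565770863131382022035047407056845498683930177647256113486985642792667271006465211300855085062092373012509920714350486)) (.node (.node (.leaf 3715372443380008491704027030694677088973570501634349175372837254406418848047028303237104139126906667697615920613046942214139819607880475568225649161351763899615718773654852148277651371700030932468045506570701631) (.leaf 1411241191258965516155777468867042910627465156662442320514369375771536783209270173455534482004657707544783461130377769969399401212704225504276293469273469801120580720123382584190235021460851718292792066402246676)) (.leaf 1584571069474356357582787514127593173944476722397996312687745642597731287770326709582059310124427677870885969217521376974860603024813477658446264650110734365168510685354588880450611798127484188087226316645608620))))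 (.node (.node (.node (.node (.leaf 3716892586888532604929494309505792058687853165516448557410887635175783391612491487238725675123595287394765532052392514335901550387254824579119930014023079606698332039949729909862848830852528106244449508955538877) (.leaf 1629131040989168315216702079102811871280712858151948570350417439216667831599181862010499437942395981578584614160283688532374142971269809288710478093699543137370372950458821656611391516654513482802444931307774990)) (.leaf 2331033496237018499725367363928865864421368350942542827131733752804798972385487300188754842438396183141727383013958776722234285474378692570400830469330922378496791937684620492896032633754276021743013168827311237)) (.node (.node (.leaf 1415669946286074756958880570030101534404357371580738309511197757573599870599158154270245805047407620513885761517584142047632342592954837836085065274039928099155169044545959349156173541163368036849380942021171263) (.leaf 1551787261053893337734648715347224587865510918263041290439930352432127347176102537625235928707960585329509215440272022092563165793282786876121704356084369777470490796034129812754388067600547426369459364236775997)) (.leaf 1283699066007667959817935147208797003709344768329591441001356781092080148414449316244071537915774670905426794409762837391673879836150716182424734656259030077614102749796127302405248339577606647114658737849766080)))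 (.node (.node (.node (.leaf 1041091976131596172123165112754380772902216590159704960243829090301753551268548273043081525063487848972049617472574351782600603029050906743885111807050743298913088589909905573554418505345556967423317306050895619) (.leaf 3929241716953139225605761493727197429026711604777694244118143244896218866008426489901317106422768988559622906741717395711855582432270095115401624573467321370431935991591234072138464748027211795887870775947204641)) (.leaf 3917818407668783773539085118888217549426136579496572917947920271507813199425268744900423996488937207736579474447766106654780952707876270014973982980119096748843632981416794957348689684449909473246855868524922628)) (.node (.leaf 2267730948362691132795521742863064014316448879007441113139085747915987891667293759873043971687238421180813531610232024607035420650129569375737541446363590450934649213221063616326391479608403922553090518551383053) (.leaf 276502637509131821038705208614731128109248263015248839088287640673488784463052492191433438478701456147850631110361454739392926054188800791379319385985123129739057967803570328900397051704919367186294773394474057)))))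

def certAPerm7 : Janko.Tree (ℕ) :=
  (.node (.node (.node (.node (.node (.leaf 3929543431368620178349258102381356852315323414969319250971040985150761213106105175262216914008704184626333548142717135123065051940856329893434849903447938737713024072827400408157834778708351011129978722119601156) (.leaf 4093021127487589206201237304752439734699483959372208757257668375711734273788966358639855764682050237301730004006176188712111448174280693306466029181339549717211103981828947868541004853745216990548395271699009927)) (.leaf 2277761079902133322033289005646961056111263082573774977421133646216184840642710382235836882131049297792188275279674799670993049413701312232656364621982092312830496692180656644279421705358925175470337679184396680)) (.node (.node (.leaf 2260963062663059832799642798836223519094214122797473857767061233837398137765851382325721323028676264973554234089239660560621783904694667158277033831651521848498404130605027970852777999352435167459292058112823437) (.leaf 263001922516671114226937108577455766140069326191709288680952460145825167756494658873006725121885308976528107067343402533198149781104938808383053430248713338729607064559666178658865857176991577924502963899302601)) (.leaf 1550466732306187470000284743113865948908481431042411549618996170978494090165698038065804061084390002611352518808010158587782569214752990659170359944633967787166850271449315059428381905868837736124451930481562173)))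 (.node (.node (.node (.leaf 749484748963234899598613843014006484113672588227423647471471846900334655945811872143589636044383129352757905006759717068911698833623205084713202685931040617856611712599142063933827182124501281648126365245163734) (.leaf 1591589542354721658105286270730076669092172186227011250758225846175537495787968892754101755704250861913753238860554862320423425359335103885561867572836022599529950755213770511439360369938669268906863788989907978)) (.leaf 1577902434765916908490718859629145422704645984594774074133762564370906361614010597336183643498727765597608580868007031170415459539809505067431105140521257090241301828475885613857931226363548332735973376748981770)) (.node (.node (.leaf 1044914373005977404316769946707697941246256895312093039327052057676090774083295141609547726361413115001219225709987117957722981483959421422599567566299603241946423648469348390725604379483524173380643649301530017) (.leaf 769991416191436153773783943653306536978851058286388169004147380529732396651883057363920416770980835005704070708941710143843140998890874788627537201127771874905746228073955206597894169268211867480198749123741229)) (.leaf 2290199822389643022603205020002155717079664203256284812875466731867888553945534857774363430272430325430141873773310976317695972988401723493977583220700121378531146480651550495710317001614800356340216064232821309))))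 (.node (.node (.node (.node (.leaf 1575484747574314154380921003391236045373620651472629329341104588763750325042562545112140216012090932161395066388187230785519860102880269398219876559657272095992442293204945040049136433336674153123636523442145028) (.leaf 2314895171478410387009210252562206482197850050719983960820641393374712826126651329268474580754127805932286569695714648914561272169991726772250498490828697140956104449809903182313877371291170379871788251654964160)) (.leaf 1304310717418333587303119926802105496172464788773453508185076353429327121148041670244755144142086223376714286901834088976488120694936930297440780115207029786414022879089820736367544348479234309140853798663924632)) (.node (.node (.leaf 1948008543846898396288702445871240460644919453525692874115689019402364293510272600469667593334210312582911692299174493436259970273643531044670846963587434266412993856206096421244134475654866444031215444923056779) (.leaf 765818272734055576335880070446594971171762544872277190838892448458799436426592861198301112127622529203977825903155456705039184504946562892863079761556473096256014197798786590084786100458766156754494320026944014)) (.leaf 3712141786538370685931846894091582228185349536400151111037865550674804852075906862855082416542006957930501953418161870283943996113125462288836047148059758010415247467462053076898109717354079830906975604249692991)))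 (.node (.node (.node (.leaf 1708719844520417574051725970982555883719572447053560444950313094433831343062820973441018475919929975256308549806784021641308528320676838620908375395383877222429624324976570175242240762867977004573734997194950407) (.leaf 1428693188469047266502849445699687252164235315671634872615646681627173785520204271517126456689086164154345647910293237580494201439738764357565469505163986472654671037231727693368955164112215892308439053039584172)) (.leaf 1629576287929904648717646642534690003184963767137713514021842240180582252748871429098835135753359165191326641190692105152689204268404082355599005812087694827734030263481496331849524601354880264864231634096375088)) (.node (.leaf 3931483781210739246442316953940434880686636697206232510475674035879328836705947215517140100722167003331137559833650988135450533213829229964848459361961845438354386442784643564096812382742199937904795380249075343) (.leaf 256113269632225718799804825884368370021957110665078244162432116027180962083643972211655764558789415290285023060363230467669972837095024085105565852594123536579849343353354916782962378633712245670616014421038665)))))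

def certAPerm8 : Janko.Tree (ℕ) :=
  (.node (.node (.node (.node (.node (.leaf 1537576991903304550350381139567609396103951808126453286125816083470609115409012326909194877015408918501344920814388134490737156475969530141034130813874183750860168069512242351407228033882153680713873627726843453) (.leaf 770099193924777605028208711545240997111111823696220373019979625197684556153309249540658885733037515675291935522145122358384487410613709364556128668048389455135634743272707667243431917835322745927868280302644124)) (.leaf 1538076711839369374424463589476178604177738900075047441978945089212464312118327263753219027739068212272330014478732480018032344443534055344665439236929692756811453859699602311348910117261795923980995781916394941)) (.node (.node (.leaf 3933677535338114657233102523622047829790378679131452136005953477717223879088141038493502194432412982660162440510114579677054752694432646876276517620457727883622801565170518141102194945152943510995512162396177315) (.leaf 4098250928842720077025355288808376499506923377499441243179830399006524713483939844770327218886930866014367165585226558612719572017194032210939785637242223008947775986317881479786894204211572791167326551981632256)) (.leaf 4099384405440425420896093711150861249331383201138069981056002910235822374475271821317167051015173499923625122292614474085546914104582405319021387113445757905577674446797212405892387724782969928625494036285530016)))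 (.node (.node (.node (.leaf 274062594503485789433120745679144722308307223183403035435906033099967051960918122812626020392773936542829870911803710210717470366338251911651513733824175045089461364246280421210192083077302727941378210578800292) (.leaf 263372280101715318645482719735091583687664471683081584130291703868333509833683637406416978309373275430422346168402258623626982858942613632716907053971378569131217795392143426353630512523578220008995111085391873)) (.leaf 3929567591587253113181402395243101660474998461067521437635585350678381477192393998953221520340538048827429373990961683608758120929530508749380535680983361477704361164223526936616567384727209314497899132572112399)) (.node (.leaf 2307518718406090858593015042595043775559634415905725957328665249050063993331220618119011089242439536558743506706922810380068796884610940182358851787207479105839435639076529668766724736158252425448907868126840092) (.leaf 2323594404719393602042037768779800938963825289991475879354813387836645836209303659544533319011754654696505653179636832374679979910629533119865970247594387613435032168392497724756671883118847174552927180843877765)))) (.node (.node (.node (.node (.leaf 2326566633476047895967368024386503172088317204541711169428726692318089075008395699949142081457224187653796959071781997427527067400179424739716224824915507949289049556936571305655881995582889603009337542399086595)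 (.leaf 4090781202188902446194953902739141161483730100202472825144895163898059951746607440588475427984750009796360903851316704425527952932964495532048050928901835050616533304042689935015692072596465664267769281106708384)) (.leaf 3926722203541813260856888647305122848866942846284114947533015963172696286356970317258033237837720706364852254315731852916452078608538267378385193095953345820209204783664687317235860860591934605099293478759943436)) (.node (.node (.leaf 4094950178855558994833622127469417878737849318101708615509690386361836086964033555128766211631629431877774848999657672143266957598849081872168190947311291322847541377841688388210744090210396245394945194071485184) (.leaf 1533404666356262741039816831395862450278509201736720092247771842217043165271462770957636557280874894564195386534736379411181814624423603062244235244381010483636231200112361143876832406173541549543320503175759805)) (.leaf 1283680157065937576099235093203395579643274170787885683786740442968382166355928703729166767166716521124367220327602783023336608360454222677234087518251125117129013847870646074563948025998205956262701856851445903))) (.node (.node (.node (.leaf 2277043198424646234952080886997311039385930515911627666711900304474298438610445630059853322067621927146191601416834674970828495392434259689824613795577195159100907118142400016868387698089692099274593569333985369)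 (.leaf 1043236236891459654866139219391365061213557729080399572772927329693638011052964633945381258742021895665547484754679558561052043205167038041028799186997480827822438146339993571802016744554537488681795930549604355)) (.leaf 1584276353776509995979283617328305060523670546338557182269980900199512609175004904418433676850389658083330665839224366946837879081642035474873719037768164930652116414455333117554287234406235364865236073581121675)) (.node (.leaf 3699311573937235339136181845835513259211925770582090429002889652101992160541770477355836385923227909465164293215077982204230596423282443590402150206821769762356931685618492038451829053567888806345627586571978056) (.leaf 1415703271762953896984593430649063515455314610143106099169291484160990802737286331878944992668310759272518671674349717609372856310255240941075447957622289452154397160987354062186420077610292543007379502443012116)))))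

def certAPerm9 : Janko.Tree (ℕ) :=
  (.node (.node (.node (.node (.node (.leaf 1428497869569538089375044885242586715027595261398171540559846802261952034121207664092861179048779452327693816413577057585134692164950166008874466002112440399328307741356047383740856584391451404421614806403669773) (.leaf 1287027695200344833228403334572254816934995084123788521592466053965048844728792530200752233847008465533143088753724999245019620875233214244159644632151707149312912488707141539684900567909589322309598744328965440)) (.leaf 1567882298509413181957848799452462849119976381075073854420865378695796598221953286408289995568559388455431688454396492413217360026652450153769999243486215068478893036082549946907675391144483555713401784536425644)) (.node (.node (.leaf 1711985303135041346906461811883889253866186530368157630712904921472347055698430408563708258760957117252888044466064578998663036483292928885615879870529996994619645778889340783222175616247756794336186258398118027) (.leaf 2318461866748516460259710821412369795828544583753871325828319283907244542636391863286738007222766598700921803976141782606702995621100638572111315007890784345154154094502139078207794373915163936164614700895377497)) (.leaf 1714501270498032072039710606102103820022202156077026677031667081880874147300403726999936864596423633147410450357759569280871299992076160211345724540967876732136520281326215604026464224027883272904996086164565165)))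 (.node (.node (.node (.leaf 770019611702370040065901262113704295642349249789417579519072385123786210066735964100564993271799301899472588391228344097060225149457671445517599172663567094128764957140283346197864922206591705773595402112032801) (.leaf 4084352298135423459077543481911191084466690789928923072604490215220321804099247346354538099106719528965757896938019143905763470634308874006687627437085836083304118248571060842512797697970742746478485306329683463)) (.leaf 1587152457259104496869296236701151576592605157244134765353938187031018839432172062576377849060229309172783150967770419662373604176146130334508730162450933297496117610167132820208116724055327653488339278120193028)) (.node (.leaf 1621456075451524390212772934393600714437680277403462259465021866683364760695528029234110068387480241122881452995634620057139443026068592183658237259017728618101191348347535459770471224037842845918672165184083646) (.leaf 766879628048489122550572926246152203995414036369008739926936754842751379062269961159625532003702099717811188061616946460852899016817530210363730573927934418407306561524080078364225541345305886404538461745741966)))) (.node (.node (.node (.node (.leaf 1950083906788816170107422909380670231458334819827204237384920286644782039982763054933846541897000584504528489975365427475158492301025139468408806114211365818403593782250535336035112518766891995914172940755115659)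 (.leaf 1593140637224056032028635721863030836936494065442235819526955902382553183897087542274509304271722790934862090653047912254022943408138642522983211800075809680039003212706139136808981671331833037734276702820787210)) (.leaf 1404798864466268856286464177049354470861045776078903203119613082415663336822438646404498003748350957771345138566598046853985916744802880777661208836870837038804655980075354240573310356990480465091605099549345537)) (.node (.node (.leaf 2302155695327004258346986398180847433698608618080740159378560157084335600819744339974974376212286954020668759004763098463167890176757485848926417067906974112039807891345474702124709149196023171785010511131149596) (.leaf 4095734405540471066449342032934722047645821262607601097854796832063913102237725464656840570539790388262513216860786536186738938548837112976871669230355844598123361268045420041253750859671548417246407250139713677)) (.leaf 3715999442440451534609605636080768272582646900790219748757556063611757893823554838826708810463316262168027856051058981848149924496976196885407889820932175858515786688575975845855704475564682466507936644734026174))) (.node (.node (.node (.leaf 764304123662165620339804720791304453501418559741794745615961966788345828996754223895261525827890795290890640503325195213712794519201165655709879760370301560722105909897854063409128811473072287695761704481539745)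 (.leaf 4077871623255720589371693793738846810147830732743929142610566708569004258745316818250050907257482231544516498903021200564101360036632316952270803069590348935861983883497731864832274921184084227331733814176815114)) (.leaf 755994216666086837009728727913740570610393736258630895366412283797544490560874614262190178087358296550132650743860764419011712027256901758632187950827545881757803559396813106345916699711991062755965362964335689)) (.node (.leaf 4085273675347687664303795251890807591147967595186323712263501826855840544796643344864604756609825968761492481004976913953554547785996947975512521511751441733186264133265815811397320124518976498788364708582574628) (.leaf 1301116850363199371278467403821369197302325097861726729025937072500350413471387707081447234376717089962632176038558381164701699351701251289969147629122829936709980655044412879058249363218639710211886624879317007)))))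

def certAPerm10 : Janko.Tree (ℕ) :=
  (.node (.node (.node (.node (.node (.leaf 1568418292632611952190155601392681618516380939142840717947047457005829794271559116435315309986381921426402472471887009144626821691104698704849693910435843996746206567558354454546100352931712318862551835204160342) (.leaf 2286738025309347391532882410447138011869543166969286703559063173775725292182642868167396318504013496541182568356115446418627527746012644666246617319462510473088306877140882059103063411063251163795364522369131534)) (.leaf 766269331216164847350323510329819970839379396308077938334864756870386265802740606952646608599506655586024291783033511966015469377948192212832700553960669252079730793413108353453481258724372499001046051207169697)) (.node (.node (.leaf 2276151242629728297254747738387800066764153368508211033262286081988651627652825396338332205317110937670262132996154676957815278731921632372377855447845399501383842935238652133104188373313340531354207818360147994) (.leaf 2307584079517233062673134134526412757746113146651152936193785101338396382786173593556089486426985996808729646006016323646506163448744208167274050286101642552663410664080944460775245059389454046001405843272000645)) (.leaf 2282888426425204417959831272064012252801585512418236765509991178509254961675376535784570651005040460271454262577928423303298342810136692332612617739635147329255117239851567528603409544354274080340875580375683213)))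 (.node (.node (.node (.leaf 1301036676318520480866656467510252277164993691939908477219667673372114907693103905726300270125573528957237273068297371109287648083700784912382970657370091135023534036780335456141519342239641524983964182118695946) (.leaf 1034888831044578317548574913735307522252120986905954653341860201150961581899416914636013823790309901576306497870391979081606621602790552622810768513627748898201931597770982278344516110293635469976157392806251607)) (.leaf 1947240896257473986660028150182983098489990652830947642184921880665819302801005572528236469647767943099795934793692618509456848645962014459273902724578644046513809248350463154233368458925181218501194049358678216)) (.node (.leaf 1044884297322307949442695312790677791389864686543983183606193683247046552999663580072073530818728553231987751509539505971893391206784883836031723805879710436746452575303792388469380449863965112808931293133586519) (.leaf 3904775483540487933656243859515034914320681088448225525736925238281694965333624693607059896509440968067942776286577843509483316850124218963786773936171176116622126907995108497355882966614160210023712415825518468)))) (.node (.node (.node (.node (.leaf 2283196150392344095301637582377307863046538622685679660907118429223947593580618468973055496952056478101601794619216896177056780040838951837101286095543364444658386779323731387712872231819724515661378008012647322)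 (.leaf 1052924170443155382486977080874974007916994715726706937638634364210754409290927084367579782534165096785866435484920716165220293984410680583113562116379257646368915557019233588374561870900469912737434660332946070)) (.leaf 1633665307613225965101897227254708320105380900200148463724347108488821018044865671044503795705503196253664942568427192792727619274591394832380355114812640594752500950439936217210759128501219501488208251867058622)) (.node (.node (.leaf 3728848094183276912121123077856516322620048805650090039845279199252566437887861177933327506717809688158958293552364640730575679099321634487001195741976055065689653803140379978109297557159369550489519086073398856) (.leaf 1591664922534546142533479956755789036815294743417274798951728806817144993021681203258959759381690499814333093584204032744711596604788362164732607738123848586858167854659059954390761371264739952447925728289546266)) (.leaf 1536775388858715821407249444309151228403044646404384348642872698583146591763840186131006197718482395184685609316395121203111839350521415183958374268460255672979081066476325283769565312447983562163254981148806412))) (.node (.node (.node (.leaf 2318557916596460046881340148015760995937476908352307985111313743532943459854133722581922548047385198423883679768491806351956456304160384371651268413626945076978200757268687653843675970306469136338243324551504913)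 (.leaf 274102481515224710513453446970529786087251054836385612432376461072185404808035774780614556505997613507690851538715977838008358587289344710932028717874976671995874388863188041371829881856131562697313991299371184)) (.leaf 1551572819302425010773883432087943859533242370051669215986097188169794827840869260578630573714030143172661940920241695712484560901787303625226958665485308585459856355321527083732083516682709000303988617426444208)) (.node (.leaf 1620276463571361464750229827141175691356156710740915461518618811182549525243175074119431182151337526496871985975075469308176716631455415631544809639520283951959873275830434001585821652005345011974137972820066750) (.leaf 762692983662026324637186694299434254636385116646937730708766108288872088762391663205927451568197472992138254121359622065591394228532781629480619991708509006171847514568369968144659075062980339764870449055067036)))))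

def certAPerm11 : Janko.Tree (ℕ) :=
  (.node (.node (.node (.node (.node (.leaf 1414341419837750071005372322497785103466464223655032804386233526421528144460892392725667449358367362202084911163579884707629027017956407177374111714404567062319244724540889574655541163459960172434524233901646860) (.leaf 2326543220197116943278854140388835080183515873187350787714537255656949024596995262129570547634156792757995223787197270045870238496684628546184374988510678144082132475196849084807276944580947494547481419112568921)) (.leaf 1052461115134596424915386522917653061171615290173000479527060574383446759083460336664213972439291041716112364323139868318909436530933846004653154912694465640450317463822967689891714465467090330768646903837065764)) (.node (.node (.leaf 1950309841739454699139856540745790183848664081189149753410350952681646490100501279766325440634968462544436706873930950557148269468091727281863305733132890588227273053857812648006518957788909042113650012256027160) (.leaf 1625636960220900582574696638161305741537586968811051714727613762291072498661233528007948791206588757650992925278539896452066812132812157631791857220060010606832315063738564738704459527586125621916692315848239892)) (.leaf 1715845691259885289324629022098459316477237243058191477153777197915082707716697919981299908192456655130492825686478655274467130457086874477773996829049567927247805861655975312457154630274229338027508163580957063)))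 (.node (.node (.node (.leaf 1694440070005212574126448464532069903041683673654939403379713098505948658516219700362919942596565844150789568671205448150251962856712546238084873725643882799457296189048830067414297883619524996063891277802165767) (.leaf 1303993740320026717904706925468621565092306515176259190088073502209183873185382925154537784327584029927295227069883000137754657985206585525569473623826205902845109199387571014953419432249851903853160983937106954)) (.leaf 1574591582500390346894327567687063779966587254632599782478915472171796932157751983850276201191739323866286721114038317345657089876906722228720609238423576480560536037193305929219084579260196235800713706214998462)) (.node (.leaf 2325884490534728637484886064368086785946995016473304805515248415192455562631710107401999607621896479415875531084460989019348500054420890535140800159443308407276361821996888840851984879995707869317317921080805009) (.leaf 2285785155252223259964312319413979901581825170686342930316395791588267583681568601670066352609824641432666814831479511839208654036728623272815491074523560875628960470990106204515527663805109901598716300952191638)))) (.node (.node (.node (.node (.leaf 1028144683396741553712665529730977689729773142093503001807765033488590297492778729492679678298001467616193659009899836380300691958520671472570578925837148522842184887253505666940944405602731881756609867955324232)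 (.leaf 1612213262247254253312165685507531395750349105803636412310646288748883901384940753864752950838938335050013229383604124614989295047928054371233250938421700139589243188046186205500412808599933917189778894209980094)) (.leaf 1413088567963931073182670793489304956921221540893393924174759081916980982740251331958340852621765177963094446166127845072428975120624630708833656865104186444301335043948911828083016054102199002266616740778496063)) (.node (.node (.leaf 1415625412375903520561108497962130642193487872510125278919752307603770461453402840520463215213383883392949386958912611229955445801134347457523246499068108649676800065785282948703290903227454630041433711317403009) (.leaf 1571287686114264643883363000052599526459372866189545145325191409297953535771479379545401995696197686235201949586424186368945078741124227447399548227706324590574311787881228952191671557438114588569253000433076438)) (.leaf 4084563834659810223214954507167657993896941032681755924419729155587835621625749809284915537202754253875522338756299245458037637763569328068775575866887214752839214092270917737086270751812250762191898602942663693))) (.node (.node (.node (.leaf 1040903797361114001754212434709463296204963140028018686927227083320388242239497139720281190729700411734136818908527042427880122276133563928250002206394405553361841521663419709407505716395113958930848544191693740)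 (.leaf 3935286277439474015855502596351495263542868773290135455138705223605366341960159406869156567033194549409965940730087578990827151300340914927064939772442997624207389271177757505852835818163049332343548005822681604)) (.leaf 1714850619662460858270386365695778515122721080077940686283183765673731933103562095769244648954797196319132262802197260120921420909580761010701764402798843641350323253623912668970500923170936338622258455299723821)) (.node (.leaf 4069266175495477538223351586482246640351587102187686794345059808341970722742404233124452139339868487639419198952540993017359451460437652782703930229153298177035360870675983532315360104103136573639433279310687360) (.leaf 2285756721265684851071206116047141783424539813626471330644228223252829988160969087262687555512816086587378112954923260205509899849189102262600143340064463006258047444348455082874406998004764892917688579566895766)))))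

def certAPerm12 : Janko.Tree (ℕ) :=
  (.node (.node (.node (.node (.node (.leaf 1953657494166464716813025841589436529309442638087255769262583387729449742923244803573249789074631630998069425460352762376301798593776251862277691985298171101853988083613577102973669829121817195304784995384756128) (.leaf 1422823934568028438558615251500788659324926073045445071380127506131331544208584277629377465719716504134836741291476519600948721545157395671299825368996627768240704321937274487522260850138801220282015175314129940)) (.leaf 2325942087171230579274631320280256620536446992914122145632016751483327185470093734349465809425023252276716877080268600126107369923308839756976337415507199020732529031017378428776515797779038006119685585491805841)) (.node (.node (.leaf 2324211132864250177456007861366691125460406170351682882056538665428873755856869924869749629759787791117725199506398433358987150352663346234823614190981806942182791593554160894606764214124255381274145690795606147) (.leaf 1536795776737517449350093681633860055641084275078777879497153384335969018493792157179709022618894955813488161072722515998669186043474796637338848670493901601431072524294633510261855423871875788931202618165317181)) (.leaf 259542274299766649678430287800739043058428741874881301297917912441432135570291997998615167839738906585417769507708242864299989247401976889703608105746655485106738557394794945710244305873058147022023355097629057)))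 (.node (.node (.node (.leaf 3724644677361706646828231133933976500726509592131634209472908915554508835771649146114248111175482998359925657139320976440039865139275305129698182581497610396327322814710078951943047616644776587217708310877504063) (.leaf 263117049812287441232588710989129428041884173081522030062882014373158539171733461549768662738452072638246501765106760906533785414161688802982163319443206944679409940448895164995397867292866679123089202016101393)) (.leaf 1049968426130984423791428763263033220546302953192840869578361090638403664679310694291310092697388909914107903265982764095055680637108596203626551896776267234064204154562332101911597477959545353531571300587588132)) (.node (.leaf 1414293066181443536353414788635952963720847735964988183837076829324596349556934306876730261018353369924521732523241395076392626165674084559087548035151344283065787078794185885753967156485764321058471178318714943) (.leaf 1051946889169265260891430259020562928096745133234861554795209852149590936816565424322275491722034940660814991840759345493869910724085192409259321472016798098439551956715977771086914035092325080857632172757816996)))) (.node (.node (.node (.node (.leaf 2279035005995185465625605885538353613902480978049374854711252259176973686093423185700322731933395169978323868006711082962898546138326638246089235928122698649203187273286445035431617263843556370691433195916416729)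 (.leaf 1059006621286714224543703091504890734061000590161928838368083820716392062588057711775344969579417726502676875809970013992230220837556652556643710024689142809912053973968753278337929591216698865705891167942083500)) (.leaf 1587934641411111708955668190847051101717970323020982436947452959589688761195655978629634414567464639608142520026643216353906505024825352171811722516406200952982091545392495403233638060972719221893505400796891052)) (.node (.node (.leaf 3728216021620122438332626705976710265952274318529490122245459728099112497853842471619782434165066714483645132184787757198133500314093047246400095343364556000087621466701466178448075727187083481138891889604101056) (.leaf 3929259001155918495240531412980823109324962412110479315140311473634504175824843204224362578977813873548799491800551879375627338176322811275667094753619144411294510452661311667150448381806033476095744279699607567)) (.leaf 1957994054983631084718546954999743542516775762057322461606819116257219848166926034742964329489918139423604102040135069598514143473934113066333423374656769591954173680238337229423092221316577328250741993239735060))) (.node (.node (.node (.leaf 2320168203414096391048015844685760522960214224439685049360148142045741147405108601397744423288922911239099617454904821742203866385851571064948511457399444407581535222219282090525477688623157948895628028279905948)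 (.leaf 1527429729921330107998224015801084689438036815216144322684624412195858271023712009277584179953683221230055495580613695600173477835220680371860138447739898490170072913073982259586891274397152728806050485935334552)) (.leaf 1536683973222773394196377721529356089444063236016784195403259467790503663857593188962439224188764051188173178150640749084796560514629029494787668409701858098191876594484916778775833665667365025123784078390362198)) (.node (.leaf 2284116944534450861648044267902863591722692811489833120071141381302761331370442039269520980597232636110901962426089570833235791625654271130562287219707950052382934546202525440396419768881523033904058063629272602) (.leaf 762635703386240801256966264877739696694295800273058708323638516765492321419124709187795590776756586365623565011481219580291590726568298677650676807015709335711686959340177326436640714348047872879799902004887694)))))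

def certAPerm13 : Janko.Tree (ℕ) :=
  (.node (.node (.node (.node (.node (.leaf 766783915978814403900317096272545453379147462049738921814417877861362359832097178583179590692955297379277186384338148094101159163451797133389244368023375688996856159055280674934072700021500051716576021567718473) (.leaf 1962845114147584398106615965492820947475768842584976391552095306326167743004997551556967418677247223584169876354545533331601126657271509074297962286386783015114501985282691819275293610962470223377271413953109795)) (.leaf 277952200700431950285625092396147800017198883299691565491970321900605102736173499850192921044359485339420520521511541945424776243012266526085797542850979539766405654039066435160089071996055493090359535039294640)) (.node (.node (.leaf 2320075067810844971109187570866865648734863449568395320152664948162466911444331549150719146915765255922018944103746036228191853927248963065126718097430556596227660171629750916729640674900586241624017904117569241) (.leaf 4077756442258965970573718193807035985320356419827762277406615790739956528094204952981542888317170208153504558501415096458625908354555679731226432489385690566880766278233146058569957316017486333541153424551351815)) (.leaf 2325214266328242231698428042732285880468288813089209222523651484149474695358750416077793329691901675946447620130706741026380374595791536348204906122069104536216498623440887299217423604295607873207671042673558812)))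 (.node (.node (.node (.leaf 3933670957457931576183476424600612694282367544255693617175106308116697513084146580104864928764839747265080884385219050064205002352408016119182872185410717081116295047335737901279184190031116219092524718816576419) (.leaf 4095541820577875808488592469941634051189527748098487225757668804782039119689245106335805141846733474607442888733623528339866540530570730497024676650543308241412571875610472408665551789362770336592053883454168845)) (.leaf 1406721107882941472898701827829774095887680011518902029651316694981351577825154427009218418726206943218662872162280243126789162197294347782214072964584888261316865862241936320473024594926226678080330423958093825)) (.node (.leaf 1958240927264513425245030559172990379978936019424560203174395849597143305247161087873055100618503249882952414523715452178148386936252564145326917485140342066007297340805082290390591205667273057962559462141445448) (.leaf 3904781146439099081264512944261404298751007391778208391469259245186884398327672246381049195528822903525958583916005152845966263210675630452766177025893712742460988212712435333850148454849332511323166114193507592)))) (.node (.node (.node (.node (.leaf 767054393120759858376201884242946380126070286874415442897749336670428220755877272146335192090624692697264454898334751853356220491808565766005627097426266467124002058731393347280663873036832684234507584103285449)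 (.leaf 1537661110086303821786256851425447689237801669483988171679712110972032876202065875077704525325037672377219147956044765752592085595577256244639949479524539228592740399668568409594513132143552626825132823418326589)) (.leaf 1633595816945823505005145629883186543735699759603715342933439410400044836278998134193903876625042364497995507724010389632569445215455246321791967321386197328941455773711243872610117081186560214924968166805315504)) (.node (.node (.leaf 4094465786095319025986816755896393924304417504631035701475365101668694486333326959095237836677689300968609288069008564247743009008156770848039612651830269078052682660641737329043785995972987308072764792560730660) (.leaf 1945468766460873163611282347288497482583174065197109412069035750514865645499475469289862740809925032527127342492172037411147459708824398937812892932157785894386032718617535316839372005737808057924735191840055316)) (.leaf 1612561893114739544655821653832886373708968645093165892443526158517673932888727161588312148189441356688895118203868058030740357858803714121870475890034173223451953096077947968542551166996030913420310174418194608))) (.node (.node (.node (.leaf 2285501721695486160895009379535815033598846527198392249195427865410208269394831517048527527018307789448671964154318485551728201119161210504953037403588243703516796838658526409924572635541850921419532168804339738)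 (.leaf 274090606887557979433827201803185959371347998819332023609732100404152169527587423869077397212892785076605882664644107551461756835915737581255791319883612821512926000761164593902962089272324136815863403795468464)) (.leaf 3929607117039750353413727067362068532971694995632203348005826962599543217801367484264837160827960075152750083389426487381046690240988332558981849852296666901281455778355463518105739556683856357850218679156053519)) (.node (.leaf 1280276562351308311953054734571188459208252911799158268066797258727511116179946481521742350988845695942058047742632179288480386480122336655519283431914790569050484546300918117356575716818818561804174571124941976) (.leaf 2326864313846295215973217319832229669026577451027787977893405782206658930155954093829495660746190446903936382612721776241302113535163790344698697467546242179131191813632685315493129898064592370393510553427285593)))))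

def certAPerm14 : Janko.Tree (ℕ) :=
  (.node (.node (.node (.node (.node (.leaf 1715258462453260169903294160295348465500933386099153975884264269223336988192895656228427655108333329193380446692613852813976855503521379632897810498689513656204613823377943953753201765085572852389114881236279303) (.leaf 3715762921060076994758604792808249539912049442945267997726410314314245979187588664368072792362860538239168309648279628082179793777772923192039729552602042031000305356768638798790812761379069378113767351055287369)) (.leaf 1591669397850991626138911800039982939041025615955112278696485767207168081430858480958354575753775752462760874644254687525636837727629499718092549240857685575982521251450710172811091363899419799897325980391596058)) (.node (.node (.leaf 765885561662708282324215611119906193522315265095123208582161594911921909308990804109550631860980167667328122719307590184919946959962603979517580509323293890652849196118588669537428728461842029800205568548112033) (.leaf 3910958207236565111879477310109880163319798917563057339288669438097556211141786945821531301509921402859566838084866534632732609317947221999038215737134811243049527491991551367534569845566945124125077872303973512)) (.leaf 1715297633023732365343885620979283260433266136620979913757567400049299022145470565887367321348237659522977640268212469701793445504125321541689780950369758210220410989293703211586107898128117001261939363231598125)))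 (.node (.node (.node (.leaf 4085210678635002193377983999248274902997512325106836174766133756891415469470507195435042024897233471544069491754812403058803519143318398689949786904721924064943845471851195260063007900152842914766063022350993956) (.leaf 1625092772636365132558050738411632864456954038740979928697710809110164778992298130389994959057558564206617718178985653311125521636468707210388994133232606138644997138083668263875149415465724589105465894775149076)) (.leaf 3714270745318689552464237486157009488869189706375947611812817211906718649577466561739134481809645238635052241694790234974282403867265868833054280013749376032365613849314689509886334286325605874636681851626113224)) (.node (.leaf 1528069231279027596467217717297782721608321776030214465131717170970011271024084092408390998334867197055668104217544623940362623498334308015149680739767824503010913894237403152434392951432849730035487041526259632) (.leaf 1571430462090179947505991671806643499990471697061602411369223785273723340074877514085877548127509458861373453861409491655438250607301958051575190846869045161452691720910233799034301735761784636183228737619577046)))) (.node (.node (.node (.node (.leaf 1616604868066437196157077854763843759142889721235003483735763983691583411629109566168830233572995218976069933587717040779316337465260535700316874014564211989939691957453599629545712974506652334923316386033095102)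 (.leaf 3708299470498034372405151409825388432224862769603676815247152219790651566981341609282978791294111823387417543972075726455443370102867029259449027363771062421282838626580416969735026548821106009194400474407062601)) (.leaf 1577801401073199343663477081435956039705914323912446883696986516787425799547463932211745662194291268203439509820961147653040422339806749155402654048192091451521688917049546859182271453967884384011485989258444886)) (.node (.node (.leaf 3920836725873565496954836309155850972418757096433262403779404097986246547841156848015115156098617923988226608912844740430297257565127769449444233573818852111347388276483049591135635183149471485768561227379854115) (.leaf 1616747289803792329562015302702261725848266287606091198906096489017605386086644632058194732496703161881187966388287840017946013145212227850007068707312852822596498958604905876553398797400549492308459134070644756)) (.leaf 1588758520571775412800171529360335224808833931770661011935427793050047301673561295187054743460875405182680349357916501988193878320555717441312354091165216812247710939803896028411814845855692955748073340129333274))) (.node (.node (.node (.leaf 1954327182287631854207005389787310474812761778492349866826981157015045327839025522530532460505655164208621595401814778386309312434213349964454335509668270552639454814532829739773044464115089180512143584925941899)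 (.leaf 4099654903466648536025455502503111287690332125584173228191729850500377163784986352480487071619365291881850584142793653688008027710180149779103672151312150393364334148496335668109136239411181248709366157097033485)) (.leaf 1421125290666487142191024907950244931247687879222592987810899671742224669335384910137287575688723736858891879198520805703002881215951867742604497424347818182601317350417676929398072751339597750829385113024939777)) (.node (.leaf 270400903965393006696624724771367972371534727891179683819525967352602100828324536601730784320114275035780530765958905759239432094818651169330786341617471197214830785200734798543229016759111873784221957712807681) (.leaf 3922864567115865047453737682794185928312636502900860239632581876626679897259632724408446770206699257508505923860154887164268002190262999889627511649151141796049610232198754499782756897842877530658319123120201359)))))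

def certAPerm15 : Janko.Tree (ℕ) :=
  (.node (.node (.node (.node (.node (.leaf 1283456210597629429658871110666026243377463680108358678326193307980981230429743396989141049162059477959411269599064311811527643453176324246823295561954806601063311694132934247267294412301320952845293504914036746) (.leaf 3729806495486640697550041755651098109964975909935210645157731032331790063067167008152335831178366187975396689106085034698000644381203050220489586847970119981148813213260705903858423739637177619955681427159008840)) (.leaf 2332277890173017392127668536403407256933580118423399267972714950602303273980368761508252600196159570281422425159463389690340875380271075189401425221196743795286608623418693744590168876165975276943997115319472540)) (.node (.node (.leaf 757278351927821962289640272767239852261573604481628606392975328334773791794799263494820307359864371162291283035404851634801054814291215916010321246768716399111661536483106461880212416322291839076772883427984801) (.leaf 4095278697189451267024291171342634690331075669906350220496209398217053976501207870395579236001711962484508023865764181350124030096964560839438693895908387159036116351222969737742052304780350361148018537511988096)) (.leaf 1423331145195309709987453279631023632389563550458895679796499564790555767674221335066392415560010969552382716856407988139999906651991587183765231962577200616978370824107014793774533909911712376162920995549701292)))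 (.node (.node (.node (.leaf 1413483076718856846818681825365422597495920032654499130838984574739747365516680336802054366609194432699561418989835381434138881066119503437370393823844233100161413584668751013061928265216684410631740703435689228) (.leaf 766727799698116736098152871141909083299442362264096500479842060697415257973880355479625602984983937675206144255113029626178932053897766832246467358794447875647501395898861266317977955454407869658529928523718445)) (.leaf 4094922822710583370027854961800229261632861910512599481450293632113775614600755926625339943656593049332803410371345324498119419276464428434999986403691536088456957356227089156718992954698101518697716721844202240)) (.node (.leaf 1544962147422695578904290273659170078066225965946625780807807801497066515753630213217248093698426490864941203328494011633119949671423936167444290596215477063681739624577446915202573773527310477838270809505203864) (.leaf 1547048180106374173502850196236146108278067806249428818779619765276778222168852106789985428080076966346016679628067589751925146390439572732133663482422673596224512375667797460909655616584683807304067200618587148)))) (.node (.node (.node (.node (.leaf 2278694213840946648099473968325484918262974448910905757134462489322041125845365997321220361389178854976618872119208764312070759163482016215474398844423453920333081451280422462280900472377086420645882425049931802)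 (.leaf 273449972622049824729393447000064835741784688011353885035424817114700090851147157414278687989429878031554054852121561336322487811141343523446692295509271981982115342565321965367633585603480654108447091530296218)) (.leaf 1280148385919591465928836580536159405754989784993487058916639633782458899137475144742280394485826589566452681600050852168314002812383119040123508340491377405027514951833139117864714963623963418705100861753115009)) (.node (.node (.leaf 273741965629897745275368280890924725401328118550219393236788833308342107222885127904259890006226313675448473563200611488137085783048552223883254922610924858380961586021888499055258824392236117958040421630529562) (.leaf 1404784374197295065625404487870491049369067103371835031905061211884278054778481356521621107451045825115525543546741299164085104004082967156481001312649154295739648166553789136487663131754874403225445268886735885)) (.leaf 276659072187930721166244434853468397335827923904424617122569419377854281714506715274412488210448571270477438406877066028341616870649591923211050518298604885241386019633857738760820259001907254448021968582748945))) (.node (.node (.node (.leaf 2332265305599486782086496971696059008437751002057973193936935057037382813687956594704333715855181452913702255421076869669816023347818374893736473781557808609473661229511231508322807086089947306035559026015120145)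 (.leaf 1624978843270804568586076857130172596495881987309950253074004314501453931279735788364168291084170894128975887990410900481274145870532931973770108865064979267917547474107198259653339517719075316718960660658097751)) (.leaf 1526850741909676035231983122157471490363609511883207755848614660391450844493227858645267769325101233325450387045488767161420681229027307091947866391732437663769435258762420524392995590141103645585024130394473776)) (.node (.leaf 1621208838013492993772409737013801803888578462473628934258977051637603044693736095961857206846522167199067627780378263515511150748567363418477490592771131949508236781434502204975004008545665981202697953893146644) (.leaf 2285433981764394190258781069998619335767459398282743194679189939319534982895232446823543854830086515119657167070840209974516969206805988714237221512348781976075216894738073059820866452943118341352984349305668110)))))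

def certAPerm : Janko.Tree (ℕ) :=
  (.node (.node (.node (.node certAPerm0 certAPerm8) (.node certAPerm4 certAPerm12)) (.node (.node certAPerm2 certAPerm10) (.node certAPerm6 certAPerm14))) (.node (.node (.node certAPerm1 certAPerm9) (.node certAPerm5 certAPerm13)) (.node (.node certAPerm3 certAPerm11) (.node certAPerm7 certAPerm15))))

def certAPar0 : Janko.Tree (ℕ × Bool) :=
  (.node (.node (.node (.node (.node (.leaf (0, false)) (.leaf (176, false))) (.leaf (81, false))) (.node (.node (.leaf (35, true)) (.leaf (241, true))) (.leaf (123, true)))) (.node (.node (.node (.leaf (17, true)) (.leaf (208, false))) (.leaf (104, false))) (.node (.node (.leaf (56, false)) (.leaf (320, true))) (.leaf (145, true))))) (.node (.node (.node (.node (.leaf (8, true)) (.leaf (190, true))) (.leaf (91, false))) (.node (.node (.leaf (45, true)) (.leaf (268, false))) (.leaf (133, true)))) (.node (.node (.node (.leaf (26, false)) (.leaf (224, true))) (.leaf (113, true))) (.node (.leaf (69, true)) (.leaf (162, true))))))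

def certAPar1 : Janko.Tree (ℕ × Bool) :=
  (.node (.node (.node (.node (.node (.leaf (0, true)) (.leaf (176, true))) (.leaf (81, true))) (.node (.node (.leaf (36, false)) (.leaf (244, false))) (.leaf (124, false)))) (.node (.node (.node (.leaf (18, false)) (.leaf (209, true))) (.leaf (104, true))) (.node (.node (.leaf (56, true)) (.leaf (323, false))) (.leaf (146, false))))) (.node (.node (.node (.node (.leaf (9, false)) (.leaf (192, false))) (.leaf (93, false))) (.node (.node (.leaf (46, false)) (.leaf (268, true))) (.leaf (134, false)))) (.node (.node (.node (.leaf (26, true)) (.leaf (225, true))) (.leaf (114, false))) (.node (.leaf (71, false)) (.leaf (164, false))))))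

def certAPar2 : Janko.Tree (ℕ × Bool) :=
  (.node (.node (.node (.node (.node (.leaf (1, false)) (.leaf (177, false))) (.leaf (82, false))) (.node (.node (.leaf (36, true)) (.leaf (245, false))) (.leaf (124, true)))) (.node (.node (.node (.leaf (18, true)) (.leaf (210, false))) (.leaf (105, false))) (.node (.node (.leaf (57, false)) (.leaf (325, false))) (.leaf (147, false))))) (.node (.node (.node (.node (.leaf (9, true)) (.leaf (193, false))) (.leaf (93, true))) (.node (.node (.leaf (46, true)) (.leaf (270, false))) (.leaf (134, true)))) (.node (.node (.node (.leaf (27, false)) (.leaf (226, true))) (.leaf (114, true))) (.node (.leaf (71, true)) (.leaf (165, false))))))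

def certAPar3 : Janko.Tree (ℕ × Bool) :=
  (.node (.node (.node (.node (.node (.leaf (1, true)) (.leaf (177, true))) (.leaf (82, true))) (.node (.node (.leaf (37, false)) (.leaf (245, true))) (.leaf (125, false)))) (.node (.node (.node (.leaf (19, false)) (.leaf (210, true))) (.leaf (105, true))) (.node (.node (.leaf (58, true)) (.leaf (332, true))) (.leaf (148, false))))) (.node (.node (.node (.node (.leaf (10, false)) (.leaf (195, false))) (.leaf (94, false))) (.node (.node (.leaf (47, false)) (.leaf (274, true))) (.leaf (135, true)))) (.node (.node (.node (.leaf (28, false)) (.leaf (227, false))) (.leaf (116, false))) (.node (.leaf (72, false)) (.leaf (166, false))))))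

def certAPar4 : Janko.Tree (ℕ × Bool) :=
  (.node (.node (.node (.node (.node (.leaf (2, false)) (.leaf (179, false))) (.leaf (83, false))) (.node (.node (.leaf (37, true)) (.leaf (247, false))) (.leaf (125, true)))) (.node (.node (.node (.leaf (19, true)) (.leaf (211, false))) (.leaf (106, false))) (.node (.node (.leaf (59, false)) (.leaf (335, false))) (.leaf (148, true))))) (.node (.node (.node (.node (.leaf (11, false)) (.leaf (195, true))) (.leaf (95, false))) (.node (.node (.leaf (48, false)) (.leaf (275, false))) (.leaf (136, true)))) (.node (.node (.node (.leaf (28, true)) (.leaf (228, false))) (.leaf (117, false))) (.node (.leaf (72, true)) (.leaf (167, false))))))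

def certAPar5 : Janko.Tree (ℕ × Bool) :=
  (.node (.node (.node (.node (.node (.leaf (2, true)) (.leaf (180, false))) (.leaf (83, true))) (.node (.node (.leaf (38, false)) (.leaf (247, true))) (.leaf (126, true)))) (.node (.node (.node (.leaf (20, false)) (.leaf (212, true))) (.leaf (107, false))) (.node (.node (.leaf (60, true)) (.leaf (337, true))) (.leaf (149, false))))) (.node (.node (.node (.node (.leaf (11, true)) (.leaf (196, false))) (.leaf (95, true))) (.node (.node (.leaf (49, false)) (.leaf (277, true))) (.leaf (137, false)))) (.node (.node (.node (.leaf (29, false)) (.leaf (229, false))) (.leaf (117, true))) (.node (.leaf (73, false)) (.leaf (167, true))))))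

def certAPar6 : Janko.Tree (ℕ × Bool) :=
  (.node (.node (.node (.node (.node (.leaf (3, false)) (.leaf (181, false))) (.leaf (84, false))) (.node (.node (.leaf (38, true)) (.leaf (249, false))) (.leaf (127, true)))) (.node (.node (.node (.leaf (20, true)) (.leaf (213, false))) (.leaf (107, true))) (.node (.node (.leaf (61, false)) (.leaf (339, true))) (.leaf (150, false))))) (.node (.node (.node (.node (.leaf (12, false)) (.leaf (196, true))) (.leaf (96, false))) (.node (.node (.leaf (49, true)) (.leaf (280, false))) (.leaf (137, true)))) (.node (.node (.node (.leaf (29, true)) (.leaf (231, true))) (.leaf (118, false))) (.node (.leaf (73, true)) (.leaf (168, false))))))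

def certAPar7 : Janko.Tree (ℕ × Bool) :=
  (.node (.node (.node (.node (.node (.leaf (4, false)) (.leaf (182, false))) (.leaf (84, true))) (.node (.node (.leaf (39, false)) (.leaf (249, true))) (.leaf (128, false)))) (.node (.node (.node (.leaf (21, false)) (.leaf (215, true))) (.leaf (108, false))) (.node (.node (.leaf (61, true)) (.leaf (342, false))) (.leaf (150, true))))) (.node (.node (.node (.node (.leaf (12, true)) (.leaf (197, false))) (.leaf (97, false))) (.node (.node (.leaf (50, false)) (.leaf (281, false))) (.leaf (139, false)))) (.node (.node (.node (.leaf (30, false)) (.leaf (232, true))) (.leaf (118, true))) (.node (.leaf (74, false)) (.leaf (169, false))))))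

def certAPar8 : Janko.Tree (ℕ × Bool) :=
  (.node (.node (.node (.node (.node (.leaf (4, true)) (.leaf (183, false))) (.leaf (85, false))) (.node (.node (.leaf (39, true)) (.leaf (250, false))) (.leaf (128, true)))) (.node (.node (.node (.leaf (21, true)) (.leaf (217, false))) (.leaf (109, true))) (.node (.leaf (62, true)) (.leaf (151, true))))) (.node (.node (.node (.node (.leaf (13, false)) (.leaf (197, true))) (.leaf (98, false))) (.node (.node (.leaf (50, true)) (.leaf (289, true))) (.leaf (139, true)))) (.node (.node (.node (.leaf (30, true)) (.leaf (233, false))) (.leaf (119, false))) (.node (.leaf (74, true)) (.leaf (169, true))))))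

def certAPar9 : Janko.Tree (ℕ × Bool) :=
  (.node (.node (.node (.node (.node (.leaf (5, false)) (.leaf (184, false))) (.leaf (85, true))) (.node (.node (.leaf (40, false)) (.leaf (254, true))) (.leaf (129, false)))) (.node (.node (.node (.leaf (22, false)) (.leaf (217, true))) (.leaf (110, false))) (.node (.leaf (63, true)) (.leaf (152, true))))) (.node (.node (.node (.node (.leaf (13, true)) (.leaf (199, true))) (.leaf (99, false))) (.node (.node (.leaf (51, false)) (.leaf (292, false))) (.leaf (140, false)))) (.node (.node (.node (.leaf (31, false)) (.leaf (233, true))) (.leaf (119, true))) (.node (.leaf (75, false)) (.leaf (170, false))))))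

def certAPar10 : Janko.Tree (ℕ × Bool) :=
  (.node (.node (.node (.node (.node (.leaf (5, true)) (.leaf (184, true))) (.leaf (86, false))) (.node (.node (.leaf (41, false)) (.leaf (258, true))) (.leaf (129, true)))) (.node (.node (.node (.leaf (22, true)) (.leaf (218, false))) (.leaf (110, true))) (.node (.leaf (64, true)) (.leaf (153, false))))) (.node (.node (.node (.node (.leaf (14, false)) (.leaf (200, false))) (.leaf (99, true))) (.node (.node (.leaf (52, false)) (.leaf (294, true))) (.leaf (140, true)))) (.node (.node (.node (.leaf (32, false)) (.leaf (234, false))) (.leaf (120, false))) (.node (.leaf (75, true)) (.leaf (170, true))))))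

def certAPar11 : Janko.Tree (ℕ × Bool) :=
  (.node (.node (.node (.node (.node (.leaf (6, false)) (.leaf (185, true))) (.leaf (87, true))) (.node (.node (.leaf (41, true)) (.leaf (260, true))) (.leaf (130, false)))) (.node (.node (.node (.leaf (23, false)) (.leaf (218, true))) (.leaf (111, false))) (.node (.leaf (65, true)) (.leaf (154, false))))) (.node (.node (.node (.node (.leaf (14, true)) (.leaf (200, true))) (.leaf (100, false))) (.node (.node (.leaf (52, true)) (.leaf (296, false))) (.leaf (141, true)))) (.node (.node (.node (.leaf (32, true)) (.leaf (235, true))) (.leaf (120, true))) (.node (.leaf (76, false)) (.leaf (171, true))))))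

def certAPar12 : Janko.Tree (ℕ × Bool) :=
  (.node (.node (.node (.node (.node (.leaf (6, true)) (.leaf (187, false))) (.leaf (88, false))) (.node (.node (.leaf (42, false)) (.leaf (262, true))) (.leaf (130, true)))) (.node (.node (.node (.leaf (24, false)) (.leaf (220, false))) (.leaf (111, true))) (.node (.leaf (66, false)) (.leaf (155, true))))) (.node (.node (.node (.node (.leaf (15, false)) (.leaf (201, false))) (.leaf (101, false))) (.node (.node (.leaf (53, false)) (.leaf (297, false))) (.leaf (142, false)))) (.node (.node (.node (.leaf (33, false)) (.leaf (236, true))) (.leaf (121, false))) (.node (.leaf (76, true)) (.leaf (172, true))))))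

def certAPar13 : Janko.Tree (ℕ × Bool) :=
  (.node (.node (.node (.node (.node (.leaf (7, false)) (.leaf (188, true))) (.leaf (89, false))) (.node (.node (.leaf (43, false)) (.leaf (264, true))) (.leaf (131, false)))) (.node (.node (.node (.leaf (24, true)) (.leaf (221, false))) (.leaf (112, false))) (.node (.leaf (67, false)) (.leaf (159, false))))) (.node (.node (.node (.node (.leaf (15, true)) (.leaf (201, true))) (.leaf (101, true))) (.node (.node (.leaf (53, true)) (.leaf (299, false))) (.leaf (143, true)))) (.node (.node (.node (.leaf (33, true)) (.leaf (237, false))) (.leaf (121, true))) (.node (.leaf (78, false)) (.leaf (173, false))))))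

def certAPar14 : Janko.Tree (ℕ × Bool) :=
  (.node (.node (.node (.node (.node (.leaf (7, true)) (.leaf (189, false))) (.leaf (90, false))) (.node (.node (.leaf (43, true)) (.leaf (265, true))) (.leaf (132, false)))) (.node (.node (.node (.leaf (25, false)) (.leaf (222, true))) (.leaf (112, true))) (.node (.leaf (68, false)) (.leaf (159, true))))) (.node (.node (.node (.node (.leaf (16, false)) (.leaf (203, true))) (.leaf (102, false))) (.node (.node (.leaf (54, false)) (.leaf (305, true))) (.leaf (144, true)))) (.node (.node (.node (.leaf (34, false)) (.leaf (238, false))) (.leaf (122, false))) (.node (.leaf (79, false)) (.leaf (174, false))))))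

def certAPar15 : Janko.Tree (ℕ × Bool) :=
  (.node (.node (.node (.node (.node (.leaf (8, false)) (.leaf (190, false))) (.leaf (90, true))) (.node (.node (.leaf (44, true)) (.leaf (266, true))) (.leaf (132, true)))) (.node (.node (.node (.leaf (25, true)) (.leaf (224, false))) (.leaf (113, false))) (.node (.leaf (69, false)) (.leaf (161, false))))) (.node (.node (.node (.node (.leaf (17, false)) (.leaf (206, false))) (.leaf (103, false))) (.node (.node (.leaf (55, true)) (.leaf (312, true))) (.leaf (145, false)))) (.node (.node (.node (.leaf (35, false)) (.leaf (238, true))) (.leaf (123, false))) (.node (.leaf (80, false)) (.leaf (175, true))))))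

def certAPar : Janko.Tree (ℕ × Bool) :=
  (.node (.node (.node (.node certAPar0 certAPar8) (.node certAPar4 certAPar12)) (.node (.node certAPar2 certAPar10) (.node certAPar6 certAPar14))) (.node (.node (.node certAPar1 certAPar9) (.node certAPar5 certAPar13)) (.node (.node certAPar3 certAPar11) (.node certAPar7 certAPar15))))

def certAL0 : Janko.Tree (List ℤ) :=
  (.node (.node (.node (.node (.leaf [0, 0, 0, 1, 0, 0]) (.leaf [1, 1, 0, 0, 0, 0])) (.node (.leaf []) (.leaf [(-2), 0, 3, (-5), 0, 0]))) (.node (.node (.leaf [(-1), 0, 1, 0, 0, 0]) (.leaf [(-2), 119, 296, 2782, 135, (-266)])) (.leaf []))) (.node (.node (.node (.leaf []) (.leaf [3, 1, (-5), 6, 0, 1])) (.leaf [(-23), (-17), 645, 3618, 231, (-473)])) (.node (.node (.leaf []) (.leaf [(-1), 0, (-2), 4, (-1), 1])) (.leaf []))))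

def certAL1 : Janko.Tree (List ℤ) :=
  (.node (.node (.node (.node (.leaf []) (.leaf [12468, (-56005), (-64312), (-947742), (-31039), 83136])) (.node (.leaf []) (.leaf [(-2), 0, 3, (-5), 0, 0]))) (.node (.node (.leaf []) (.leaf [])) (.leaf [(-1), (-3), 4, 5, 0, 2]))) (.node (.node (.node (.leaf []) (.leaf [(-1), 0, 2, 3, 0, 1])) (.leaf [(-5), (-73), 738, 3015, 245, (-397)])) (.node (.node (.leaf [(-10), (-2), 14, 81, 0, (-6)]) (.leaf [])) (.leaf []))))

def certAL2 : Janko.Tree (List ℤ) :=
  (.node (.node (.node (.node (.leaf []) (.leaf [3, 15, (-2), 136, 4, (-10)])) (.node (.leaf []) (.leaf [(-2), 0, 3, (-5), 0, 0]))) (.node (.node (.leaf [(-2), (-1), 2, (-1), 0, 0]) (.leaf [(-3), (-1), 5, (-6), 0, (-1)])) (.leaf []))) (.node (.node (.node (.leaf []) (.leaf [(-182), (-767), (-428), (-10320), (-499), 1185])) (.leaf [])) (.node (.node (.leaf []) (.leaf [(-80), 6, 959, 5602, 328, (-684)])) (.leaf [12, (-133), (-272), (-2819), (-124), 252]))))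

def certAL3 : Janko.Tree (List ℤ) :=
  (.node (.node (.node (.node (.leaf []) (.leaf [])) (.node (.leaf []) (.leaf [(-7), 2, (-7), (-53), (-7), 15]))) (.node (.node (.leaf []) (.leaf [(-4), 12, (-16), 134, 0, (-17)])) (.leaf [(-49), (-45), 389, 1868, 115, (-243)]))) (.node (.node (.node (.leaf []) (.leaf [])) (.leaf [])) (.node (.node (.leaf []) (.leaf [3, (-7), 6, (-168), (-2), 15])) (.leaf []))))

def certAL4 : Janko.Tree (List ℤ) :=
  (.node (.node (.node (.node (.leaf []) (.leaf [2, 1, (-1), 1, 0, 0])) (.node (.leaf []) (.leaf [(-4), (-6), 16, 21, 1, 2]))) (.node (.node (.leaf []) (.leaf [(-4), (-2), 6, (-12), 0, (-1)])) (.leaf [8, 35, (-1282), (-7513), (-515), 1144]))) (.node (.node (.node (.leaf []) (.leaf [292, (-469), (-393), (-4374), 67, (-275)])) (.leaf [26625, (-133737), (-139219), (-2197348), (-71695), 196642])) (.node (.node (.leaf []) (.leaf [(-1664), 3180, 10797, 90144, 3703, (-8356)])) (.leaf [0, 0, 0, (-3), 0, 0]))))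

def certAL5 : Janko.Tree (List ℤ) :=
  (.node (.node (.node (.node (.leaf []) (.leaf [])) (.node (.leaf []) (.leaf [(-21), (-154), 362, 697, 97, (-185)]))) (.node (.node (.leaf []) (.leaf [(-1), 0, 1, (-7), 0, (-1)])) (.leaf []))) (.node (.node (.node (.leaf []) (.leaf [(-1178), 7851, 4319, 108995, 3067, (-9478)])) (.leaf [])) (.node (.node (.leaf [0, 0, 1, (-5), 0, 0]) (.leaf [149, 190, (-1562), (-5841), (-411), 674])) (.leaf []))))

def certAL6 : Janko.Tree (List ℤ) :=
  (.node (.node (.node (.node (.leaf []) (.leaf [2, 1, 0, 1, 0, 0])) (.node (.leaf []) (.leaf [(-5), (-1), 6, 16, 0, (-2)]))) (.node (.node (.leaf []) (.leaf [])) (.leaf []))) (.node (.node (.node (.leaf []) (.leaf [3171, (-6966), (-19477), (-177569), (-7056), 16665])) (.leaf [(-2), (-2), 7, (-21), 0, 0])) (.node (.node (.leaf []) (.leaf [12, 12, (-84), (-504), (-29), 78])) (.leaf []))))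

def certAL7 : Janko.Tree (List ℤ) :=
  (.node (.node (.node (.node (.leaf []) (.leaf [(-1), 6, 54, 395, 22, (-56)])) (.node (.leaf []) (.leaf [(-3), (-1), 5, 2, 0, 0]))) (.node (.node (.leaf [9, 1, (-14), (-78), 0, 6]) (.leaf [])) (.leaf []))) (.node (.node (.node (.leaf []) (.leaf [])) (.leaf [])) (.node (.node (.leaf []) (.leaf [])) (.leaf [43, 82, (-1084), (-5111), (-367), 683]))))

def certAL8 : Janko.Tree (List ℤ) :=
  (.node (.node (.node (.node (.leaf []) (.leaf [0, 1, (-1), 11, 0, 0])) (.leaf [])) (.node (.node (.leaf []) (.leaf [(-5), (-17), 30, 127, 9, (-27)])) (.leaf []))) (.node (.node (.node (.leaf []) (.leaf [])) (.leaf [])) (.node (.node (.leaf []) (.leaf [(-73), 524, 211, 5933, 134, (-352)])) (.leaf []))))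

def certAL9 : Janko.Tree (List ℤ) :=
  (.node (.node (.node (.node (.leaf []) (.leaf [])) (.leaf [])) (.node (.node (.leaf [(-1), (-1), 0, 2, 0, 0]) (.leaf [1, (-6), (-54), (-395), (-22), 56])) (.leaf []))) (.node (.node (.node (.leaf []) (.leaf [(-5), (-38), 60, 100, 17, (-37)])) (.leaf [(-3014), 3503, 20587, 140298, 6309, (-12842)])) (.node (.node (.leaf [(-1), 0, 1, (-1), 0, 0]) (.leaf [(-548), 298, 6933, 42742, 2453, (-5324)])) (.leaf [(-12), 16, 320, 1916, 122, (-239)]))))

def certAL10 : Janko.Tree (List ℤ) :=
  (.node (.node (.node (.node (.leaf []) (.leaf [0, 0, (-1), 1, (-1), 0])) (.leaf [(-1), 0, 0, 1, 0, 0])) (.node (.node (.leaf []) (.leaf [])) (.leaf []))) (.node (.node (.node (.leaf []) (.leaf [(-9), (-142), 324, 255, 73, (-88)])) (.leaf [])) (.node (.node (.leaf []) (.leaf [964746, (-5543567), (-4659231), (-85987988), (-2692291), 7739051])) (.leaf []))))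

def certAL11 : Janko.Tree (List ℤ) :=
  (.node (.node (.node (.node (.leaf []) (.leaf [0, 1, (-1), 10, 0, (-1)])) (.leaf [])) (.node (.node (.leaf []) (.leaf [(-2), (-10), 2, (-8), 0, (-1)])) (.leaf []))) (.node (.node (.node (.leaf []) (.leaf [])) (.leaf [205092, (-1228180), (-973775), (-18783972), (-582998), 1696605])) (.node (.node (.leaf []) (.leaf [])) (.leaf [656, (-2473), (-2435), (-34803), (-948), 2243]))))

def certAL12 : Janko.Tree (List ℤ) :=
  (.node (.node (.node (.node (.leaf []) (.leaf [(-706), 744, 4425, 30382, 1332, (-2781)])) (.leaf [])) (.node (.node (.leaf [0, 0, 0, 0, 0, 1]) (.leaf [(-590), 1072, 3381, 28979, 1116, (-2531)])) (.leaf [38, 56, (-403), (-1752), (-120), 242]))) (.node (.node (.node (.leaf []) (.leaf [2, 2, (-2), 8, 0, 1])) (.leaf [])) (.node (.node (.leaf []) (.leaf [(-124), (-231), 755, 2298, 180, (-409)])) (.leaf [1, 543, 929, 10125, 461, (-995)]))))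

def certAL13 : Janko.Tree (List ℤ) :=
  (.node (.node (.node (.node (.leaf []) (.leaf [])) (.leaf [])) (.node (.node (.leaf []) (.leaf [4, 0, (-13), (-77), (-2), 8])) (.leaf [(-6), 3, (-2), 21, (-3), 0]))) (.node (.node (.node (.leaf []) (.leaf [])) (.leaf [])) (.node (.node (.leaf [2408, (-6157), (-16543), (-155438), (-6384), 15334]) (.leaf [])) (.leaf [(-169), 183, 1399, 9361, 452, (-942)]))))

def certAL14 : Janko.Tree (List ℤ) :=
  (.node (.node (.node (.node (.leaf []) (.leaf [(-2), (-1), 5, (-16), 0, (-2)])) (.leaf [0, 1, 0, 0, 0, 0])) (.node (.node (.leaf []) (.leaf [2, 0, (-4), 5, 0, 2])) (.leaf [(-2), (-1), 0, (-1), 0, (-1)]))) (.node (.node (.node (.leaf []) (.leaf [(-4), 6, (-14), (-61), (-9), 20])) (.leaf [])) (.node (.node (.leaf []) (.leaf [(-484794), 2774313, 2338213, 43055695, 1347843, (-3872582)])) (.leaf [(-15), (-10), 83, 500, 27, (-75)]))))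

def certAL15 : Janko.Tree (List ℤ) :=
  (.node (.node (.node (.node (.leaf []) (.leaf [(-32), (-19), 134, 789, 39, (-114)])) (.leaf [])) (.node (.node (.leaf []) (.leaf [10591, (-64436), (-51533), (-987785), (-30788), 89008])) (.leaf []))) (.node (.node (.node (.leaf []) (.leaf [(-8), 8, 32, 305, 13, (-41)])) (.leaf [])) (.node (.node (.leaf []) (.leaf [2530, (-793), (-18770), (-104231), (-5338), 10288])) (.leaf []))))

def certAL16 : Janko.Tree (List ℤ) :=
  (.node (.node (.node (.node (.leaf []) (.leaf [3, 1, (-5), 6, 0, 1])) (.leaf [1, 0, 0, 0, 0, 0])) (.node (.node (.leaf []) (.leaf [2, 0, (-5), 8, 0, 1])) (.leaf []))) (.node (.node (.node (.leaf []) (.leaf [])) (.leaf [])) (.node (.node (.leaf []) (.leaf [])) (.leaf [(-28), (-850), 972, (-2715), 172, (-173)]))))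

def certAL17 : Janko.Tree (List ℤ) :=
  (.node (.node (.node (.node (.leaf []) (.leaf [])) (.leaf [])) (.node (.node (.leaf []) (.leaf [(-209257), 1233338, 1007529, 19016333, 593759, (-1716999)])) (.leaf []))) (.node (.node (.node (.leaf []) (.leaf [271, (-30), (-2967), (-16077), (-917), 1723])) (.leaf [0, 0, (-1), 5, 0, 0])) (.node (.node (.leaf []) (.leaf [])) (.leaf []))))

def certAL18 : Janko.Tree (List ℤ) :=
  (.node (.node (.node (.node (.leaf []) (.leaf [])) (.leaf [])) (.node (.node (.leaf []) (.leaf [(-202), (-568), 3847, 14896, 1149, (-1932)])) (.leaf []))) (.node (.node (.node (.leaf []) (.leaf [])) (.leaf [])) (.node (.node (.leaf []) (.leaf [215257, (-1243582), (-1019903), (-19170337), (-596191), 1725871])) (.leaf []))))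

def certAL19 : Janko.Tree (List ℤ) :=
  (.node (.node (.node (.node (.leaf []) (.leaf [])) (.leaf [])) (.node (.node (.leaf []) (.leaf [(-1371), 11074, 5379, 150234, 4327, (-13505)])) (.leaf []))) (.node (.node (.node (.leaf []) (.leaf [(-3126), 7142, 19001, 177144, 6977, (-16669)])) (.leaf [])) (.node (.node (.leaf []) (.leaf [1, 1, 0, 0, 0, 0])) (.leaf []))))

def certAL20 : Janko.Tree (List ℤ) :=
  (.node (.node (.node (.node (.leaf []) (.leaf [0, 0, 1, 0, 0, 0])) (.leaf [(-2), 0, (-1), (-1), 0, (-1)])) (.node (.node (.leaf []) (.leaf [0, 8, (-12), (-6), (-3), 4])) (.leaf [(-8), (-142), 243, 102, 62, (-101)]))) (.node (.node (.node (.leaf []) (.leaf [(-471293), 2712071, 2257799, 41975502, 1310825, (-3780056)])) (.leaf [])) (.node (.node (.leaf []) (.leaf [(-3), (-1), 5, (-5), 0, 0])) (.leaf []))))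

def certAL21 : Janko.Tree (List ℤ) :=
  (.node (.node (.node (.node (.leaf []) (.leaf [])) (.leaf [5, 1, (-25), (-90), (-3), 1])) (.node (.node (.leaf []) (.leaf [(-4), 0, 13, 77, 2, (-8)])) (.leaf []))) (.node (.node (.node (.leaf [(-1), 0, 0, 4, 0, 0]) (.leaf [(-240156), 1383785, 1152637, 21426232, 669631, (-1931590)])) (.leaf [])) (.node (.node (.leaf []) (.leaf [0, 0, 1, 0, 0, 0])) (.leaf [(-1762), 3860, 9299, 93852, 3428, (-8517)]))))

def certAL22 : Janko.Tree (List ℤ) :=
  (.node (.node (.node (.node (.leaf []) (.leaf [(-11508), 71731, 56768, 1090876, 33997, (-97693)])) (.leaf [])) (.node (.node (.leaf []) (.leaf [7, 1, (-12), (-84), 0, 6])) (.leaf [3, (-6), 8, (-64), 0, 8]))) (.node (.node (.node (.leaf []) (.leaf [])) (.leaf [(-2), (-2), 2, (-2), 0, 1])) (.node (.node (.leaf []) (.leaf [0, 0, 0, 1, 0, 1])) (.leaf [445085, (-2559672), (-2130522), (-39612805), (-1236747), 3566775]))))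

def certAL23 : Janko.Tree (List ℤ) :=
  (.node (.node (.node (.node (.leaf []) (.leaf [])) (.leaf [])) (.node (.node (.leaf []) (.leaf [(-395), 4557, 420, 61177, 1545, (-6203)])) (.leaf []))) (.node (.node (.node (.leaf []) (.leaf [])) (.leaf [])) (.node (.node (.leaf []) (.leaf [1, 2, 0, 1, 0, 0])) (.leaf []))))

def certAL24 : Janko.Tree (List ℤ) :=
  (.node (.node (.node (.node (.leaf []) (.leaf [])) (.leaf [])) (.node (.node (.leaf []) (.leaf [(-106), (-694), 1816, 1997, 408, (-527)])) (.leaf [12, (-9), (-46), (-600), (-24), 83]))) (.node (.node (.node (.leaf []) (.leaf [2, 1, (-2), 1, 0, 0])) (.leaf [(-12), 136, (-192), 362, (-43), 27])) (.node (.node (.leaf []) (.leaf [0, (-1), 0, (-7), 0, 1])) (.leaf [0, (-1), 2, (-6), 0, 0]))))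

def certAL25 : Janko.Tree (List ℤ) :=
  (.node (.node (.node (.node (.leaf []) (.leaf [])) (.leaf [])) (.node (.node (.leaf []) (.leaf [])) (.leaf [8, (-142), 171, (-636), 30, 5]))) (.node (.node (.node (.leaf []) (.leaf [2, 10, (-2), 8, 0, 1])) (.leaf [])) (.node (.node (.leaf [(-2), (-1), 3, (-1), 0, 0]) (.leaf [0, 7, (-7), 70, 0, (-7)])) (.leaf []))))

def certAL26 : Janko.Tree (List ℤ) :=
  (.node (.node (.node (.node (.leaf []) (.leaf [1834, (-10756), (-6278), (-150203), (-4134), 12799])) (.leaf [(-3), (-8), 29, 133, 9, (-24)])) (.node (.node (.leaf [8, 34, (-104), (-583), (-40), 101]) (.leaf [0, (-2), (-4), 0, 0, 1])) (.leaf [510, (-2755), (-3746), (-53696), (-2024), 5762]))) (.node (.node (.node (.leaf [0, 0, 1, (-1), 0, 0]) (.leaf [3, 8, (-14), 79, 0, (-7)])) (.leaf [])) (.node (.node (.leaf []) (.leaf [(-266833), 1520484, 1305889, 23707704, 745955, (-2131053)])) (.leaf []))))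

def certAL27 : Janko.Tree (List ℤ) :=
  (.node (.node (.node (.node (.leaf []) (.leaf [(-302), 2330, 1954, 35647, 1155, (-3207)])) (.leaf [])) (.node (.node (.leaf [(-5), (-16), 93, 554, 37, (-91)]) (.leaf [48, 182, (-543), (-636), (-117), 124])) (.leaf [4, 68, (-155), 164, (-25), 1]))) (.node (.node (.node (.leaf []) (.leaf [(-10315), 37368, 57951, 704380, 24740, (-62840)])) (.leaf [(-26715), 154337, 129975, 2395382, 75143, (-215746)])) (.node (.node (.leaf []) (.leaf [(-2), 4, (-3), 13, (-1), 0])) (.leaf [(-49546), 263051, 251366, 4222054, 135528, (-379079)]))))

def certAL28 : Janko.Tree (List ℤ) :=
  (.node (.node (.node (.node (.leaf []) (.leaf [])) (.leaf [])) (.node (.node (.leaf []) (.leaf [(-1), (-3), (-8), (-37), (-3), (-3)])) (.leaf []))) (.node (.node (.node (.leaf []) (.leaf [(-2), 65, (-86), 86, (-22), 30])) (.leaf [])) (.node (.node (.leaf []) (.leaf [(-2), 0, 3, (-5), 0, 0])) (.leaf []))))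

def certAL29 : Janko.Tree (List ℤ) :=
  (.node (.node (.node (.node (.leaf []) (.leaf [12, 105, (-249), (-250), (-57), 85])) (.leaf [(-1), 6, (-7), 68, 0, (-7)])) (.node (.node (.leaf [143, (-55), (-1285), (-7507), (-401), 816]) (.leaf [0, (-11), 10, (-8), 1, 1])) (.leaf [(-236), 767, 1543, 15387, 573, (-1257)]))) (.node (.node (.node (.leaf []) (.leaf [])) (.leaf [])) (.node (.node (.leaf []) (.leaf [(-2), 0, 3, (-5), 0, 0])) (.leaf []))))

def certAL30 : Janko.Tree (List ℤ) :=
  (.node (.node (.node (.node (.leaf []) (.leaf [0, 3, (-6), (-4), (-1), 3])) (.leaf [2, 5, (-7), 17, (-2), 2])) (.node (.node (.leaf []) (.leaf [])) (.leaf [1, (-7), 9, (-28), 3, (-1)]))) (.node (.node (.node (.leaf []) (.leaf [1368, (-3642), (-5989), (-72576), (-2330), 6169])) (.leaf [(-3), (-1), 1, (-1), (-1), 0])) (.node (.node (.leaf []) (.leaf [])) (.leaf [39, (-38), 208, 1302, 122, (-325)]))))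

def certAL31 : Janko.Tree (List ℤ) :=
  (.node (.node (.node (.node (.leaf []) (.leaf [8, (-8), (-32), (-305), (-13), 41])) (.leaf [])) (.node (.node (.leaf [1, 0, (-1), 1, 0, 0]) (.leaf [])) (.leaf [0, (-4), 7, (-11), 2, (-2)]))) (.node (.node (.node (.leaf []) (.leaf [25294, (-85358), (-144474), (-1670780), (-59328), 146626])) (.leaf [])) (.node (.node (.leaf []) (.leaf [694225, (-4014984), (-3332013), (-62081495), (-1938697), 5589788])) (.leaf [118, (-371), (-430), (-5567), (-138), 331]))))

def certAL32 : Janko.Tree (List ℤ) :=
  (.node (.node (.node (.node (.leaf []) (.leaf [0, 0, 0, 0, 1, 0])) (.leaf [1, 22, (-42), 20, (-8), 2])) (.node (.node (.leaf []) (.leaf [484756, (-2773467), (-2342335), (-43074849), (-1349514), 3876368])) (.leaf []))) (.node (.node (.node (.leaf []) (.leaf [(-5761), 24071, 32149, 428913, 14703, (-38255)])) (.leaf [])) (.node (.node (.leaf []) (.leaf [])) (.leaf [49551, (-262928), (-251641), (-4222196), (-135590), 379159]))))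

def certAL33 : Janko.Tree (List ℤ) :=
  (.node (.node (.node (.node (.leaf []) (.leaf [3, (-2), (-2), (-64), (-1), 11])) (.leaf [])) (.node (.node (.leaf []) (.leaf [3463, (-8115), (-19178), (-187386), (-7001), 16995])) (.leaf []))) (.node (.node (.node (.leaf [1, 1, 0, (-2), 0, 0]) (.leaf [])) (.leaf [])) (.node (.node (.leaf []) (.leaf [1, 0, 2, (-15), 1, 0])) (.leaf [(-43), 14192, (-1184), 159339, 4139, (-16004)]))))

def certAL34 : Janko.Tree (List ℤ) :=
  (.node (.node (.node (.node (.leaf []) (.leaf [1316, (-6059), (-6221), (-105399), (-3377), 10028])) (.leaf [])) (.node (.node (.leaf []) (.leaf [12693, (-34608), (-68234), (-716071), (-25534), 61871])) (.leaf [0, (-1), 0, 0, 0, 0]))) (.node (.node (.node (.leaf []) (.leaf [36, (-16), (-926), (-5536), (-345), 710])) (.leaf [])) (.node (.node (.leaf []) (.leaf [])) (.leaf [0, (-3), 5, 4, 1, (-3)]))))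

def certAL35 : Janko.Tree (List ℤ) :=
  (.node (.node (.node (.node (.leaf []) (.leaf [(-684), 735, 4286, 29077, 1276, (-2608)])) (.leaf [])) (.node (.node (.leaf []) (.leaf [])) (.leaf []))) (.node (.node (.node (.leaf []) (.leaf [])) (.leaf [])) (.node (.node (.leaf []) (.leaf [444270, (-2559193), (-2124883), (-39578319), (-1235080), 3563403])) (.leaf []))))

def certAL36 : Janko.Tree (List ℤ) :=
  (.node (.node (.node (.node (.leaf []) (.leaf [(-16200), 42872, 87953, 908026, 32762, (-79376)])) (.leaf [])) (.node (.node (.leaf []) (.leaf [2, (-26), 47, (-85), 8, 5])) (.leaf []))) (.node (.node (.node (.leaf []) (.leaf [6, (-4), (-9), (-84), (-2), 7])) (.leaf [1, (-4), 0, (-71), (-2), 12])) (.node (.node (.leaf []) (.leaf [0, 1, 0, 14, 0, (-1)])) (.leaf [75, 186, (-779), (-3107), (-235), 522]))))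

def certAL37 : Janko.Tree (List ℤ) :=
  (.node (.node (.node (.node (.leaf []) (.leaf [])) (.leaf [])) (.node (.node (.leaf []) (.leaf [2, 0, (-3), 4, 0, 0])) (.leaf []))) (.node (.node (.node (.leaf []) (.leaf [(-12), (-236), 399, (-1049), 55, 51])) (.leaf [])) (.node (.node (.leaf []) (.leaf [(-1), (-2), 0, 6, 0, 0])) (.leaf [(-414830), 2473628, 1969537, 37876481, 1176038, (-3420752)]))))

def certAL38 : Janko.Tree (List ℤ) :=
  (.node (.node (.node (.node (.leaf []) (.leaf [])) (.leaf [])) (.node (.node (.leaf []) (.leaf [738, (-2530), (-7342), (-65943), (-2877), 6396])) (.leaf []))) (.node (.node (.node (.leaf []) (.leaf [(-15), 34, (-1165), (-5022), (-399), 575])) (.leaf [])) (.node (.node (.leaf [(-2), 0, 2, (-6), (-1), 0]) (.leaf [3, 1, 0, (-2), 0, 0])) (.leaf [(-2), 6, (-8), 65, 0, (-8)]))))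

def certAL39 : Janko.Tree (List ℤ) :=
  (.node (.node (.node (.node (.leaf []) (.leaf [102, 154, (-1026), (-4303), (-291), 578])) (.leaf [1, 0, 0, 2, 1, 0])) (.node (.node (.leaf []) (.leaf [])) (.leaf []))) (.node (.node (.node (.leaf [1, 1, 0, (-3), 0, 0]) (.leaf [(-102), 88, (-1615), (-6747), (-623), 974])) (.leaf [(-2), (-1), 2, (-4), 0, 0])) (.node (.node (.leaf [1, 1, (-3), (-1), (-1), 0]) (.leaf [(-3), (-1), 5, (-5), 0, 0])) (.leaf [14, (-33), 1165, 5036, 399, (-575)]))))

def certAL40 : Janko.Tree (List ℤ) :=
  (.node (.node (.node (.node (.leaf []) (.leaf [32, 9, (-15), 22, 16, (-26)])) (.leaf [])) (.node (.node (.leaf []) (.leaf [(-63), (-184), 964, 3331, 271, (-444)])) (.leaf [(-3), (-3), 6, (-12), 0, (-2)]))) (.node (.node (.node (.leaf []) (.leaf [(-29), 97, 166, 2401, 93, (-293)])) (.leaf [])) (.node (.node (.leaf []) (.leaf [456395, (-2628534), (-2186962), (-40669774), (-1269887), 3661416])) (.leaf []))))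

def certAL41 : Janko.Tree (List ℤ) :=
  (.node (.node (.node (.node (.leaf []) (.leaf [7, 16, (-96), (-544), (-36), 92])) (.leaf [])) (.node (.node (.leaf []) (.leaf [(-538), 1004, 3325, 27470, 1102, (-2436)])) (.leaf []))) (.node (.node (.node (.leaf []) (.leaf [(-730), 3988, 2643, 56786, 1588, (-4786)])) (.leaf [0, 4, (-7), 11, (-2), 2])) (.node (.node (.leaf []) (.leaf [(-3), (-1), 4, (-27), (-1), (-1)])) (.leaf [(-3), 2, 2, 64, 1, (-11)]))))

def certAL42 : Janko.Tree (List ℤ) :=
  (.node (.node (.node (.node (.leaf []) (.leaf [16, 49, (-325), (-1999), (-133), 330])) (.leaf [])) (.node (.node (.leaf []) (.leaf [(-2057), 9661, 10909, 163234, 5399, (-14687)])) (.leaf []))) (.node (.node (.node (.leaf []) (.leaf [(-14), 80, 102, 1704, 66, (-212)])) (.leaf [])) (.node (.node (.leaf []) (.leaf [(-2), 0, 1, (-5), 0, 0])) (.leaf []))))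

def certAL43 : Janko.Tree (List ℤ) :=
  (.node (.node (.node (.node (.leaf []) (.leaf [])) (.leaf [])) (.node (.node (.leaf []) (.leaf [(-87), 105, 1686, 8308, 517, (-726)])) (.leaf [(-32), (-9), 185, 1135, 59, (-136)]))) (.node (.node (.node (.leaf []) (.leaf [683, (-3832), (-2848), (-56682), (-1676), 4969])) (.leaf [0, (-1), 1, (-10), 0, 1])) (.node (.node (.leaf []) (.leaf [(-2), 0, 1, (-5), 0, 0])) (.leaf []))))

def certAL44 : Janko.Tree (List ℤ) :=
  (.node (.node (.node (.node (.leaf []) (.leaf [566, (-1186), (-2732), (-26249), (-899), 2095])) (.leaf [])) (.node (.node (.leaf []) (.leaf [])) (.leaf [1, 1, (-1), 12, 0, 1]))) (.node (.node (.node (.leaf []) (.leaf [7, (-11), (-25), (-307), (-12), 38])) (.leaf [])) (.node (.node (.leaf []) (.leaf [0, 7, 0, 0, 0, 0])) (.leaf [0, (-61), 125, 287, 42, (-86)]))))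

def certAL45 : Janko.Tree (List ℤ) :=
  (.node (.node (.node (.node (.leaf []) (.leaf [])) (.leaf [])) (.node (.node (.leaf []) (.leaf [(-120), 907, 319, 10197, 229, (-647)])) (.leaf []))) (.node (.node (.node (.leaf []) (.leaf [])) (.leaf [(-2), (-1), 1, (-6), 0, 0])) (.node (.node (.leaf []) (.leaf [0, (-7), 0, 0, 0, 0])) (.leaf [(-4), (-1), 9, 80, 2, (-6)]))))

def certAL46 : Janko.Tree (List ℤ) :=
  (.node (.node (.node (.node (.leaf []) (.leaf [1, 101, (-89), 774, (-4), (-59)])) (.leaf [(-11), 0, 57, 443, 22, (-66)])) (.node (.node (.leaf [(-17), 8, 72, 684, 27, (-84)]) (.leaf [1, 11, (-10), 9, (-1), 1])) (.leaf [(-76), (-188), 760, 2837, 218, (-469)]))) (.node (.node (.node (.leaf [21, 480, 776, 9153, 435, (-954)]) (.leaf [(-3), (-1), 5, (-5), 0, 0])) (.leaf [])) (.node (.node (.leaf []) (.leaf [(-222995), 1312009, 1070779, 20224659, 631060, (-1825889)])) (.leaf []))))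

def certAL47 : Janko.Tree (List ℤ) :=
  (.node (.node (.node (.node (.leaf []) (.leaf [32, (-18), (-135), (-1222), (-51), 141])) (.leaf [])) (.node (.node (.leaf []) (.leaf [0, 11, (-10), 8, (-1), (-1)])) (.leaf []))) (.node (.node (.node (.leaf []) (.leaf [])) (.leaf [])) (.node (.node (.leaf []) (.leaf [])) (.leaf []))))

def certAL48 : Janko.Tree (List ℤ) :=
  (.node (.node (.node (.node (.leaf []) (.leaf [])) (.leaf [])) (.node (.node (.leaf []) (.leaf [4, (-7), (-2), (-164), (-3), 13])) (.leaf [0, (-1), 1, (-6), 0, 0]))) (.node (.node (.node (.leaf []) (.leaf [(-2), 0, 5, (-9), 0, (-2)])) (.leaf [])) (.node (.node (.leaf []) (.leaf [9192, (-6131), (-46348), (-282630), (-11192), 20904])) (.leaf [(-111), (-324), (-682), (-7644), (-450), 1057]))))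

def certAL49 : Janko.Tree (List ℤ) :=
  (.node (.node (.node (.node (.leaf []) (.leaf [])) (.leaf [])) (.node (.node (.leaf [894, (-3200), (-4932), (-59101), (-2055), 4959]) (.leaf [])) (.leaf []))) (.node (.node (.node (.leaf []) (.leaf [])) (.leaf [])) (.node (.node (.leaf []) (.leaf [(-253267), 1482173, 1204676, 22812121, 709751, (-2057066)])) (.leaf [1180, (-8326), (-5368), (-118732), (-3536), 10431]))))

def certAL50 : Janko.Tree (List ℤ) :=
  (.node (.node (.node (.node (.leaf []) (.leaf [])) (.leaf [])) (.node (.node (.leaf []) (.leaf [62, 47, (-662), (-3317), (-204), 417])) (.leaf []))) (.node (.node (.node (.leaf []) (.leaf [81, (-688), (-181), (-7874), (-174), 531])) (.leaf [(-1), 4, (-4), 13, (-1), (-2)])) (.node (.node (.leaf []) (.leaf [51, 32, (-567), (-2808), (-173), 333])) (.leaf []))))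

def certAL51 : Janko.Tree (List ℤ) :=
  (.node (.node (.node (.node (.leaf []) (.leaf [3, 5, (-15), (-87), (-4), 4])) (.leaf [500, (-2342), (-2251), (-34346), (-1008), 2486])) (.node (.node (.leaf [451, (-1338), (-1276), (-18057), (-379), 895]) (.leaf [2, 3, (-1), 6, 0, 0])) (.leaf []))) (.node (.node (.node (.leaf [(-148), (-293), 269, (-1896), (-98), 340]) (.leaf [])) (.leaf [])) (.node (.node (.leaf []) (.leaf [172744, (-1017714), (-808410), (-15583469), (-482178), 1406997])) (.leaf []))))

def certAL52 : Janko.Tree (List ℤ) :=
  (.node (.node (.node (.node (.leaf []) (.leaf [6330, (-27701), (-33894), (-478121), (-16018), 42471])) (.leaf [])) (.node (.node (.leaf []) (.leaf [(-15), 50, 26, 687, 15, (-45)])) (.leaf []))) (.node (.node (.node (.leaf [(-63), (-115), 774, 3303, 233, (-458)]) (.leaf [583, (-3425), (-2773), (-51996), (-1617), 4712])) (.leaf [1, 1, (-1), 5, 0, 0])) (.node (.node (.leaf []) (.leaf [1, 2, 0, 1, 0, 0])) (.leaf []))))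

def certAL53 : Janko.Tree (List ℤ) :=
  (.node (.node (.node (.node (.leaf []) (.leaf [51, 248, (-1029), (-3130), (-300), 538])) (.leaf [])) (.node (.node (.leaf []) (.leaf [(-52), (-160), 592, 1753, 158, (-296)])) (.leaf []))) (.node (.node (.node (.leaf []) (.leaf [(-242597), 1385655, 1178708, 21568967, 677301, (-1942910)])) (.leaf [1, 1, (-1), 10, 0, 0])) (.node (.node (.leaf []) (.leaf [1, 2, 0, 1, 0, 0])) (.leaf []))))

def certAL54 : Janko.Tree (List ℤ) :=
  (.node (.node (.node (.node (.leaf []) (.leaf [(-73), (-7977), (-1057), (-99496), (-3078), 10300])) (.leaf [62, (-105), (-404), (-3230), (-135), 305])) (.node (.node (.leaf []) (.leaf [(-20197), 106690, 102894, 1715875, 55123, (-153562)])) (.leaf [0, 0, 1, 0, 0, 0]))) (.node (.node (.node (.leaf []) (.leaf [(-2), (-18), 32, (-146), 1, 14])) (.leaf [])) (.node (.node (.leaf []) (.leaf [1, 2, 0, 1, 0, 0])) (.leaf [149, (-55), (-1291), (-7481), (-401), 820]))))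

def certAL55 : Janko.Tree (List ℤ) :=
  (.node (.node (.node (.node (.leaf []) (.leaf [])) (.leaf [])) (.node (.node (.leaf []) (.leaf [211034, (-1235468), (-1007252), (-19039507), (-593318), 1719720])) (.leaf [2, 1, (-2), 4, 0, 0]))) (.node (.node (.node (.leaf []) (.leaf [2, (-6), 8, (-64), 0, 9])) (.leaf [])) (.node (.node (.leaf []) (.leaf [0, (-1), 0, (-7), 0, 1])) (.leaf [612, (-2596), (-1632), (-37599), (-923), 3071]))))

def certAL56 : Janko.Tree (List ℤ) :=
  (.node (.node (.node (.node (.leaf []) (.leaf [0, 1, 0, 0, 0, 0])) (.leaf [3, 1, (-1), 1, 1, 0])) (.node (.node (.leaf [160, 334, (-411), 1208, 48, (-209)]) (.leaf [492, (-1229), (-2313), (-24383), (-805), 1906])) (.leaf []))) (.node (.node (.node (.leaf [143, 382, (-1904), (-7103), (-552), 1047]) (.leaf [3, 1, (-5), 12, 0, 2])) (.leaf [0, 0, 0, 3, 0, 0])) (.node (.node (.leaf []) (.leaf [0, (-1), 0, (-7), 0, 1])) (.leaf [27, 119, (-677), (-2858), (-225), 458]))))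

def certAL57 : Janko.Tree (List ℤ) :=
  (.node (.node (.node (.node (.leaf []) (.leaf [49579, (-262565), (-250642), (-4213383), (-135116), 378187])) (.leaf [8, (-3), 5, 36, 7, (-11)])) (.node (.node (.leaf [705, (-861), (-2589), (-20817), (-604), 1244]) (.leaf [(-305), (-45), 3209, 17227, 993, (-1953)])) (.leaf [1, 0, 0, (-4), 0, 0]))) (.node (.node (.node (.leaf []) (.leaf [])) (.leaf [])) (.node (.node (.leaf []) (.leaf [(-4), 14, (-8), 18, (-3), 0])) (.leaf []))))

def certAL58 : Janko.Tree (List ℤ) :=
  (.node (.node (.node (.node (.leaf []) (.leaf [53360, (-307691), (-257675), (-4769205), (-149284), 429418])) (.leaf [(-140), 51, 1209, 6991, 368, (-733)])) (.node (.node (.leaf []) (.leaf [(-21136), 79412, 117849, 1467015, 50686, (-127738)])) (.leaf []))) (.node (.node (.node (.leaf []) (.leaf [(-1143), (-10082), 7478, (-85570), (-1643), 10141])) (.leaf [])) (.node (.node (.leaf []) (.leaf [1, 7, (-4), 80, 2, (-10)])) (.leaf [1, (-3), 4, (-9), 1, 2]))))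

def certAL59 : Janko.Tree (List ℤ) :=
  (.node (.node (.node (.node (.leaf []) (.leaf [(-39), (-674), (-197), (-7143), (-226), 504])) (.leaf [])) (.node (.node (.leaf []) (.leaf [11904, (-71961), (-60098), (-1112473), (-35108), 100079])) (.leaf []))) (.node (.node (.node (.leaf []) (.leaf [(-26770), 119698, 141066, 2043241, 67708, (-181041)])) (.leaf [1, (-6), 7, (-68), 0, 7])) (.node (.node (.leaf []) (.leaf [(-20), 87, (-33), 671, (-5), (-24)])) (.leaf [(-3), (-5), 15, 87, 4, (-4)]))))

def certAL60 : Janko.Tree (List ℤ) :=
  (.node (.node (.node (.node (.leaf []) (.leaf [(-3), 2, 5, 77, 2, (-9)])) (.leaf [(-555), 1160, 2297, 22535, 692, (-1551)])) (.node (.node (.leaf []) (.leaf [(-201), 48, 2197, 11422, 652, (-1132)])) (.leaf [(-4), 24, (-45), 70, (-8), (-6)]))) (.node (.node (.node (.leaf [0, (-7), 9, (-73), 0, 8]) (.leaf [696, (-793), (-4270), (-30377), (-1305), 2768])) (.leaf [])) (.node (.node (.leaf [(-71), 825, (-178), 7324, 83, (-392)]) (.leaf [1, 104, (-170), 294, (-31), 16])) (.leaf [7, 3, (-16), (-90), (-3), 8]))))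

def certAL61 : Janko.Tree (List ℤ) :=
  (.node (.node (.node (.node (.leaf []) (.leaf [(-1), 2, 5, 73, 2, (-10)])) (.leaf [(-538), 1020, 1209, 17056, 336, (-1097)])) (.node (.node (.leaf [1, 3, (-4), (-5), 0, (-2)]) (.leaf [])) (.leaf []))) (.node (.node (.node (.leaf []) (.leaf [926, (-2037), (-1943), (-29357), (-563), 1770])) (.leaf [])) (.node (.node (.leaf []) (.leaf [(-2), 0, 3, (-5), 0, 0])) (.leaf []))))

def certAL62 : Janko.Tree (List ℤ) :=
  (.node (.node (.node (.node (.leaf []) (.leaf [(-1), (-1), 0, 0, 0, 0])) (.leaf [])) (.node (.node (.leaf []) (.leaf [31, (-97), (-164), (-2396), (-92), 295])) (.leaf [(-5932), 28097, 30235, 463245, 15047, (-40825)]))) (.node (.node (.node (.leaf [(-1), 0, 0, 0, 0, 0]) (.leaf [(-7), (-3), 16, 91, 3, (-6)])) (.leaf [(-2), (-1), 1, (-1), 0, 0])) (.node (.node (.leaf [(-14), (-40), 338, 2212, 140, (-348)]) (.leaf [(-2), 0, 3, (-5), 0, 0])) (.leaf [(-15), 26, 1176, 6255, 421, (-742)]))))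

def certAL63 : Janko.Tree (List ℤ) :=
  (.node (.node (.node (.node (.leaf [1, 0, 0, (-4), 0, 0]) (.leaf [(-913), 4647, 3208, 65204, 1773, (-5228)])) (.leaf [])) (.node (.node (.leaf []) (.leaf [4, 1, (-9), (-80), (-2), 6])) (.leaf [460, (-1540), (-3060), (-30706), (-1145), 2504]))) (.node (.node (.node (.leaf []) (.leaf [])) (.leaf [1, (-2), (-5), (-73), (-2), 10])) (.node (.node (.leaf []) (.leaf [(-2), 0, 3, (-5), 0, 0])) (.leaf [(-49), (-246), 1032, 3137, 301, (-538)]))))

def certAL : Janko.Tree (List ℤ) :=
  (.node (.node (.node (.node (.node (.node certAL0 certAL32) (.node certAL16 certAL48)) (.node (.node certAL8 certAL40) (.node certAL24 certAL56))) (.node (.node (.node certAL4 certAL36) (.node certAL20 certAL52)) (.node (.node certAL12 certAL44) (.node certAL28 certAL60)))) (.node (.node (.node (.node certAL2 certAL34) (.node certAL18 certAL50)) (.node (.node certAL10 certAL42) (.node certAL26 certAL58))) (.node (.node (.node certAL6 certAL38) (.node certAL22 certAL54)) (.node (.node certAL14 certAL46) (.node certAL30 certAL62))))) (.node (.node (.node (.node (.node certAL1 certAL33) (.node certAL17 certAL49)) (.node (.node certAL9 certAL41) (.node certAL25 certAL57))) (.node (.node (.node certAL5 certAL37) (.node certAL21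 certAL53)) (.node (.node certAL13 certAL45) (.node certAL29 certAL61)))) (.node (.node (.node (.node certAL3 certAL35) (.node certAL19 certAL51)) (.node (.node certAL11 certAL43) (.node certAL27 certAL59))) (.node (.node (.node certAL7 certAL39) (.node certAL23 certAL55)) (.node (.node certAL15 certAL47) (.node certAL31 certAL63))))))

def certAKind0 : Janko.Tree (ℕ) :=
  (.node (.node (.node (.node (.leaf 2) (.leaf 3)) (.node (.leaf 0) (.leaf 3))) (.node (.node (.leaf 3) (.leaf 3)) (.leaf 0))) (.node (.node (.node (.leaf 0) (.leaf 3)) (.leaf 3)) (.node (.node (.leaf 0) (.leaf 3)) (.leaf 0))))

def certAKind1 : Janko.Tree (ℕ) :=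
  (.node (.node (.node (.node (.leaf 0) (.leaf 3)) (.node (.leaf 0) (.leaf 3))) (.node (.node (.leaf 0) (.leaf 0)) (.leaf 3))) (.node (.node (.node (.leaf 0) (.leaf 3)) (.leaf 3)) (.node (.node (.leaf 3) (.leaf 3)) (.leaf 0))))

def certAKind2 : Janko.Tree (ℕ) :=
  (.node (.node (.node (.node (.leaf 0) (.leaf 3)) (.node (.leaf 0) (.leaf 3))) (.node (.node (.leaf 3) (.leaf 3)) (.leaf 0))) (.node (.node (.node (.leaf 0) (.leaf 3)) (.leaf 0)) (.node (.node (.leaf 0) (.leaf 3)) (.leaf 3))))

def certAKind3 : Janko.Tree (ℕ) :=
  (.node (.node (.node (.node (.leaf 0) (.leaf 3)) (.node (.leaf 0) (.leaf 3))) (.node (.node (.leaf 0) (.leaf 3)) (.leaf 3))) (.node (.node (.node (.leaf 0) (.leaf 0)) (.leaf 3)) (.node (.node (.leaf 3) (.leaf 3)) (.leaf 0))))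

def certAKind4 : Janko.Tree (ℕ) :=
  (.node (.node (.node (.node (.leaf 0) (.leaf 3)) (.node (.leaf 0) (.leaf 3))) (.node (.node (.leaf 0) (.leaf 3)) (.leaf 3))) (.node (.node (.node (.leaf 0) (.leaf 3)) (.leaf 3)) (.node (.node (.leaf 0) (.leaf 3)) (.leaf 3))))

def certAKind5 : Janko.Tree (ℕ) :=
  (.node (.node (.node (.node (.leaf 0) (.leaf 0)) (.node (.leaf 0) (.leaf 3))) (.node (.node (.leaf 3) (.leaf 3)) (.leaf 3))) (.node (.node (.node (.leaf 3) (.leaf 3)) (.leaf 0)) (.node (.node (.leaf 3) (.leaf 3)) (.leaf 0))))

def certAKind6 : Janko.Tree (ℕ) :=
  (.node (.node (.node (.node (.leaf 0) (.leaf 3)) (.node (.leaf 0) (.leaf 3))) (.node (.node (.leaf 0) (.leaf 0)) (.leaf 0))) (.node (.node (.node (.leaf 0) (.leaf 3)) (.leaf 3)) (.node (.node (.leaf 0) (.leaf 3)) (.leaf 0))))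

def certAKind7 : Janko.Tree (ℕ) :=
  (.node (.node (.node (.node (.leaf 3) (.leaf 3)) (.node (.leaf 3) (.leaf 3))) (.node (.node (.leaf 3) (.leaf 3)) (.leaf 0))) (.node (.node (.node (.leaf 0) (.leaf 3)) (.leaf 3)) (.node (.node (.leaf 0) (.leaf 3)) (.leaf 3))))

def certAKind8 : Janko.Tree (ℕ) :=
  (.node (.node (.node (.node (.leaf 0) (.leaf 3)) (.leaf 0)) (.node (.node (.leaf 0) (.leaf 3)) (.leaf 0))) (.node (.node (.node (.leaf 0) (.leaf 0)) (.leaf 0)) (.node (.node (.leaf 0) (.leaf 3)) (.leaf 0))))

def certAKind9 : Janko.Tree (ℕ) :=
  (.node (.node (.node (.node (.leaf 0) (.leaf 0)) (.leaf 0)) (.node (.node (.leaf 3) (.leaf 3)) (.leaf 0))) (.node (.node (.node (.leaf 0) (.leaf 3)) (.leaf 3)) (.node (.node (.leaf 3) (.leaf 3)) (.leaf 3))))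

def certAKind10 : Janko.Tree (ℕ) :=
  (.node (.node (.node (.node (.leaf 0) (.leaf 3)) (.leaf 3)) (.node (.node (.leaf 0) (.leaf 0)) (.leaf 0))) (.node (.node (.node (.leaf 0) (.leaf 3)) (.leaf 0)) (.node (.node (.leaf 0) (.leaf 3)) (.leaf 0))))

def certAKind11 : Janko.Tree (ℕ) :=
  (.node (.node (.node (.node (.leaf 0) (.leaf 3)) (.leaf 0)) (.node (.node (.leaf 0) (.leaf 3)) (.leaf 0))) (.node (.node (.node (.leaf 0) (.leaf 3)) (.leaf 3)) (.node (.node (.leaf 0) (.leaf 3)) (.leaf 3))))

def certAKind12 : Janko.Tree (ℕ) :=
  (.node (.node (.node (.node (.leaf 0) (.leaf 3)) (.leaf 0)) (.node (.node (.leaf 2) (.leaf 3)) (.leaf 3))) (.node (.node (.node (.leaf 0) (.leaf 3)) (.leaf 0)) (.node (.node (.leaf 0) (.leaf 3)) (.leaf 3))))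

def certAKind13 : Janko.Tree (ℕ) :=
  (.node (.node (.node (.node (.leaf 0) (.leaf 0)) (.leaf 0)) (.node (.node (.leaf 3) (.leaf 3)) (.leaf 3))) (.node (.node (.node (.leaf 0) (.leaf 0)) (.leaf 3)) (.node (.node (.leaf 3) (.leaf 3)) (.leaf 3))))

def certAKind14 : Janko.Tree (ℕ) :=
  (.node (.node (.node (.node (.leaf 0) (.leaf 3)) (.leaf 2)) (.node (.node (.leaf 0) (.leaf 3)) (.leaf 3))) (.node (.node (.node (.leaf 0) (.leaf 3)) (.leaf 0)) (.node (.node (.leaf 0) (.leaf 3)) (.leaf 3))))

def certAKind15 : Janko.Tree (ℕ) :=
  (.node (.node (.node (.node (.leaf 0) (.leaf 3)) (.leaf 0)) (.node (.node (.leaf 0) (.leaf 3)) (.leaf 0))) (.node (.node (.node (.leaf 0) (.leaf 3)) (.leaf 0)) (.node (.node (.leaf 3) (.leaf 3)) (.leaf 0))))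

def certAKind16 : Janko.Tree (ℕ) :=
  (.node (.node (.node (.node (.leaf 0) (.leaf 3)) (.leaf 2)) (.node (.node (.leaf 0) (.leaf 3)) (.leaf 0))) (.node (.node (.node (.leaf 0) (.leaf 0)) (.leaf 0)) (.node (.node (.leaf 0) (.leaf 1)) (.leaf 3))))

def certAKind17 : Janko.Tree (ℕ) :=
  (.node (.node (.node (.node (.leaf 0) (.leaf 0)) (.leaf 0)) (.node (.node (.leaf 0) (.leaf 3)) (.leaf 0))) (.node (.node (.node (.leaf 3) (.leaf 3)) (.leaf 3)) (.node (.node (.leaf 0) (.leaf 1)) (.leaf 0))))

def certAKind18 : Janko.Tree (ℕ) :=
  (.node (.node (.node (.node (.leaf 0) (.leaf 3)) (.leaf 0)) (.node (.node (.leaf 0) (.leaf 3)) (.leaf 0))) (.node (.node (.node (.leaf 0) (.leaf 0)) (.leaf 0)) (.node (.node (.leaf 0) (.leaf 3)) (.leaf 0))))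

def certAKind19 : Janko.Tree (ℕ) :=
  (.node (.node (.node (.node (.leaf 0) (.leaf 0)) (.leaf 0)) (.node (.node (.leaf 0) (.leaf 3)) (.leaf 0))) (.node (.node (.node (.leaf 0) (.leaf 3)) (.leaf 0)) (.node (.node (.leaf 0) (.leaf 3)) (.leaf 0))))

def certAKind20 : Janko.Tree (ℕ) :=
  (.node (.node (.node (.node (.leaf 0) (.leaf 3)) (.leaf 3)) (.node (.node (.leaf 0) (.leaf 3)) (.leaf 3))) (.node (.node (.node (.leaf 0) (.leaf 3)) (.leaf 0)) (.node (.node (.leaf 0) (.leaf 3)) (.leaf 0))))

def certAKind21 : Janko.Tree (ℕ) :=
  (.node (.node (.node (.node (.leaf 3) (.leaf 0)) (.leaf 3)) (.node (.node (.leaf 0) (.leaf 3)) (.leaf 3))) (.node (.node (.node (.leaf 3) (.leaf 3)) (.leaf 0)) (.node (.node (.leaf 3) (.leaf 2)) (.leaf 3))))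

def certAKind22 : Janko.Tree (ℕ) :=
  (.node (.node (.node (.node (.leaf 0) (.leaf 3)) (.leaf 0)) (.node (.node (.leaf 0) (.leaf 3)) (.leaf 3))) (.node (.node (.node (.leaf 0) (.leaf 0)) (.leaf 3)) (.node (.node (.leaf 0) (.leaf 3)) (.leaf 3))))

def certAKind23 : Janko.Tree (ℕ) :=
  (.node (.node (.node (.node (.leaf 0) (.leaf 3)) (.leaf 0)) (.node (.node (.leaf 0) (.leaf 3)) (.leaf 0))) (.node (.node (.node (.leaf 0) (.leaf 3)) (.leaf 0)) (.node (.node (.leaf 0) (.leaf 3)) (.leaf 0))))

def certAKind24 : Janko.Tree (ℕ) :=
  (.node (.node (.node (.node (.leaf 0) (.leaf 0)) (.leaf 0)) (.node (.node (.leaf 0) (.leaf 3)) (.leaf 3))) (.node (.node (.node (.leaf 3) (.leaf 3)) (.leaf 3)) (.node (.node (.leaf 0) (.leaf 3)) (.leaf 3))))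

def certAKind25 : Janko.Tree (ℕ) :=
  (.node (.node (.node (.node (.leaf 0) (.leaf 0)) (.leaf 0)) (.node (.node (.leaf 0) (.leaf 0)) (.leaf 3))) (.node (.node (.node (.leaf 0) (.leaf 3)) (.leaf 0)) (.node (.node (.leaf 3) (.leaf 3)) (.leaf 0))))

def certAKind26 : Janko.Tree (ℕ) :=
  (.node (.node (.node (.node (.leaf 0) (.leaf 3)) (.leaf 3)) (.node (.node (.leaf 3) (.leaf 3)) (.leaf 3))) (.node (.node (.node (.leaf 3) (.leaf 3)) (.leaf 0)) (.node (.node (.leaf 3) (.leaf 3)) (.leaf 0))))

def certAKind27 : Janko.Tree (ℕ) :=
  (.node (.node (.node (.node (.leaf 0) (.leaf 3)) (.leaf 0)) (.node (.node (.leaf 3) (.leaf 3)) (.leaf 3))) (.node (.node (.node (.leaf 0) (.leaf 3)) (.leaf 3)) (.node (.node (.leaf 0) (.leaf 3)) (.leaf 3))))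

def certAKind28 : Janko.Tree (ℕ) :=
  (.node (.node (.node (.node (.leaf 0) (.leaf 0)) (.leaf 0)) (.node (.node (.leaf 0) (.leaf 3)) (.leaf 0))) (.node (.node (.node (.leaf 0) (.leaf 3)) (.leaf 0)) (.node (.node (.leaf 0) (.leaf 3)) (.leaf 0))))

def certAKind29 : Janko.Tree (ℕ) :=
  (.node (.node (.node (.node (.leaf 0) (.leaf 3)) (.leaf 3)) (.node (.node (.leaf 3) (.leaf 3)) (.leaf 3))) (.node (.node (.node (.leaf 0) (.leaf 3)) (.leaf 3)) (.node (.node (.leaf 0) (.leaf 3)) (.leaf 0))))

def certAKind30 : Janko.Tree (ℕ) :=
  (.node (.node (.node (.node (.leaf 0) (.leaf 3)) (.leaf 3)) (.node (.node (.leaf 0) (.leaf 0)) (.leaf 3))) (.node (.node (.node (.leaf 0) (.leaf 3)) (.leaf 3)) (.node (.node (.leaf 0) (.leaf 3)) (.leaf 3))))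

def certAKind31 : Janko.Tree (ℕ) :=
  (.node (.node (.node (.node (.leaf 0) (.leaf 3)) (.leaf 0)) (.node (.node (.leaf 3) (.leaf 3)) (.leaf 3))) (.node (.node (.node (.leaf 3) (.leaf 3)) (.leaf 0)) (.node (.node (.leaf 0) (.leaf 3)) (.leaf 3))))

def certAKind32 : Janko.Tree (ℕ) :=
  (.node (.node (.node (.node (.leaf 0) (.leaf 2)) (.leaf 3)) (.node (.node (.leaf 0) (.leaf 3)) (.leaf 0))) (.node (.node (.node (.leaf 0) (.leaf 3)) (.leaf 0)) (.node (.node (.leaf 0) (.leaf 3)) (.leaf 3))))

def certAKind33 : Janko.Tree (ℕ) :=
  (.node (.node (.node (.node (.leaf 3) (.leaf 3)) (.leaf 0)) (.node (.node (.leaf 3) (.leaf 3)) (.leaf 3))) (.node (.node (.node (.leaf 3) (.leaf 3)) (.leaf 0)) (.node (.node (.leaf 0) (.leaf 3)) (.leaf 3))))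

def certAKind34 : Janko.Tree (ℕ) :=
  (.node (.node (.node (.node (.leaf 0) (.leaf 3)) (.leaf 0)) (.node (.node (.leaf 0) (.leaf 3)) (.leaf 3))) (.node (.node (.node (.leaf 0) (.leaf 3)) (.leaf 0)) (.node (.node (.leaf 0) (.leaf 3)) (.leaf 3))))

def certAKind35 : Janko.Tree (ℕ) :=
  (.node (.node (.node (.node (.leaf 0) (.leaf 3)) (.leaf 0)) (.node (.node (.leaf 0) (.leaf 0)) (.leaf 0))) (.node (.node (.node (.leaf 0) (.leaf 0)) (.leaf 0)) (.node (.node (.leaf 0) (.leaf 3)) (.leaf 0))))

def certAKind36 : Janko.Tree (ℕ) :=
  (.node (.node (.node (.node (.leaf 0) (.leaf 3)) (.leaf 0)) (.node (.node (.leaf 0) (.leaf 3)) (.leaf 0))) (.node (.node (.node (.leaf 0) (.leaf 3)) (.leaf 3)) (.node (.node (.leaf 0) (.leaf 3)) (.leaf 3))))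

def certAKind37 : Janko.Tree (ℕ) :=
  (.node (.node (.node (.node (.leaf 0) (.leaf 0)) (.leaf 3)) (.node (.node (.leaf 0) (.leaf 3)) (.leaf 0))) (.node (.node (.node (.leaf 0) (.leaf 3)) (.leaf 3)) (.node (.node (.leaf 0) (.leaf 3)) (.leaf 3))))

def certAKind38 : Janko.Tree (ℕ) :=
  (.node (.node (.node (.node (.leaf 0) (.leaf 0)) (.leaf 0)) (.node (.node (.leaf 0) (.leaf 3)) (.leaf 0))) (.node (.node (.node (.leaf 0) (.leaf 3)) (.leaf 0)) (.node (.node (.leaf 3) (.leaf 3)) (.leaf 3))))

def certAKind39 : Janko.Tree (ℕ) :=
  (.node (.node (.node (.node (.leaf 0) (.leaf 3)) (.leaf 3)) (.node (.node (.leaf 0) (.leaf 0)) (.leaf 3))) (.node (.node (.node (.leaf 3) (.leaf 3)) (.leaf 3)) (.node (.node (.leaf 3) (.leaf 3)) (.leaf 3))))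

def certAKind40 : Janko.Tree (ℕ) :=
  (.node (.node (.node (.node (.leaf 0) (.leaf 3)) (.leaf 0)) (.node (.node (.leaf 0) (.leaf 3)) (.leaf 3))) (.node (.node (.node (.leaf 0) (.leaf 3)) (.leaf 0)) (.node (.node (.leaf 0) (.leaf 3)) (.leaf 0))))

def certAKind41 : Janko.Tree (ℕ) :=
  (.node (.node (.node (.node (.leaf 0) (.leaf 3)) (.leaf 0)) (.node (.node (.leaf 0) (.leaf 3)) (.leaf 0))) (.node (.node (.node (.leaf 0) (.leaf 3)) (.leaf 3)) (.node (.node (.leaf 3) (.leaf 3)) (.leaf 3))))

def certAKind42 : Janko.Tree (ℕ) :=
  (.node (.node (.node (.node (.leaf 0) (.leaf 3)) (.leaf 0)) (.node (.node (.leaf 0) (.leaf 3)) (.leaf 0))) (.node (.node (.node (.leaf 0) (.leaf 3)) (.leaf 0)) (.node (.node (.leaf 0) (.leaf 3)) (.leaf 0))))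

def certAKind43 : Janko.Tree (ℕ) :=
  (.node (.node (.node (.node (.leaf 0) (.leaf 0)) (.leaf 3)) (.node (.node (.leaf 0) (.leaf 3)) (.leaf 3))) (.node (.node (.node (.leaf 0) (.leaf 3)) (.leaf 3)) (.node (.node (.leaf 0) (.leaf 3)) (.leaf 0))))

def certAKind44 : Janko.Tree (ℕ) :=
  (.node (.node (.node (.node (.leaf 0) (.leaf 3)) (.leaf 0)) (.node (.node (.leaf 0) (.leaf 0)) (.leaf 3))) (.node (.node (.node (.leaf 0) (.leaf 3)) (.leaf 0)) (.node (.node (.leaf 0) (.leaf 3)) (.leaf 3))))

def certAKind45 : Janko.Tree (ℕ) :=
  (.node (.node (.node (.node (.leaf 0) (.leaf 3)) (.leaf 0)) (.node (.node (.leaf 3) (.leaf 3)) (.leaf 3))) (.node (.node (.node (.leaf 3) (.leaf 3)) (.leaf 3)) (.node (.node (.leaf 0) (.leaf 3)) (.leaf 3))))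

def certAKind46 : Janko.Tree (ℕ) :=
  (.node (.node (.node (.node (.leaf 0) (.leaf 3)) (.leaf 3)) (.node (.node (.leaf 3) (.leaf 3)) (.leaf 3))) (.node (.node (.node (.leaf 3) (.leaf 3)) (.leaf 0)) (.node (.node (.leaf 0) (.leaf 3)) (.leaf 0))))

def certAKind47 : Janko.Tree (ℕ) :=
  (.node (.node (.node (.node (.leaf 3) (.leaf 3)) (.leaf 0)) (.node (.node (.leaf 0) (.leaf 3)) (.leaf 0))) (.node (.node (.node (.leaf 0) (.leaf 3)) (.leaf 3)) (.node (.node (.leaf 0) (.leaf 3)) (.leaf 0))))

def certAKind48 : Janko.Tree (ℕ) :=
  (.node (.node (.node (.node (.leaf 0) (.leaf 0)) (.leaf 3)) (.node (.node (.leaf 0) (.leaf 3)) (.leaf 3))) (.node (.node (.node (.leaf 0) (.leaf 3)) (.leaf 0)) (.node (.node (.leaf 0) (.leaf 3)) (.leaf 3))))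

def certAKind49 : Janko.Tree (ℕ) :=
  (.node (.node (.node (.node (.leaf 0) (.leaf 3)) (.leaf 0)) (.node (.node (.leaf 3) (.leaf 3)) (.leaf 3))) (.node (.node (.node (.leaf 0) (.leaf 0)) (.leaf 0)) (.node (.node (.leaf 0) (.leaf 3)) (.leaf 3))))

def certAKind50 : Janko.Tree (ℕ) :=
  (.node (.node (.node (.node (.leaf 0) (.leaf 0)) (.leaf 0)) (.node (.node (.leaf 0) (.leaf 3)) (.leaf 0))) (.node (.node (.node (.leaf 0) (.leaf 3)) (.leaf 3)) (.node (.node (.leaf 0) (.leaf 3)) (.leaf 0))))

def certAKind51 : Janko.Tree (ℕ) :=
  (.node (.node (.node (.node (.leaf 0) (.leaf 3)) (.leaf 3)) (.node (.node (.leaf 3) (.leaf 3)) (.leaf 0))) (.node (.node (.node (.leaf 3) (.leaf 3)) (.leaf 0)) (.node (.node (.leaf 0) (.leaf 3)) (.leaf 0))))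

def certAKind52 : Janko.Tree (ℕ) :=
  (.node (.node (.node (.node (.leaf 0) (.leaf 3)) (.leaf 0)) (.node (.node (.leaf 0) (.leaf 3)) (.leaf 0))) (.node (.node (.node (.leaf 3) (.leaf 3)) (.leaf 3)) (.node (.node (.leaf 0) (.leaf 3)) (.leaf 0))))

def certAKind53 : Janko.Tree (ℕ) :=
  (.node (.node (.node (.node (.leaf 0) (.leaf 3)) (.leaf 3)) (.node (.node (.leaf 0) (.leaf 3)) (.leaf 0))) (.node (.node (.node (.leaf 0) (.leaf 3)) (.leaf 3)) (.node (.node (.leaf 3) (.leaf 3)) (.leaf 3))))

def certAKind54 : Janko.Tree (ℕ) :=
  (.node (.node (.node (.node (.leaf 0) (.leaf 3)) (.leaf 3)) (.node (.node (.leaf 0) (.leaf 3)) (.leaf 3))) (.node (.node (.node (.leaf 0) (.leaf 3)) (.leaf 0)) (.node (.node (.leaf 0) (.leaf 3)) (.leaf 3))))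

def certAKind55 : Janko.Tree (ℕ) :=
  (.node (.node (.node (.node (.leaf 3) (.leaf 3)) (.leaf 0)) (.node (.node (.leaf 3) (.leaf 3)) (.leaf 3))) (.node (.node (.node (.leaf 3) (.leaf 3)) (.leaf 3)) (.node (.node (.leaf 0) (.leaf 3)) (.leaf 3))))

def certAKind56 : Janko.Tree (ℕ) :=
  (.node (.node (.node (.node (.leaf 0) (.leaf 3)) (.leaf 3)) (.node (.node (.leaf 3) (.leaf 3)) (.leaf 0))) (.node (.node (.node (.leaf 3) (.leaf 3)) (.leaf 3)) (.node (.node (.leaf 0) (.leaf 3)) (.leaf 3))))

def certAKind57 : Janko.Tree (ℕ) :=
  (.node (.node (.node (.node (.leaf 0) (.leaf 3)) (.leaf 3)) (.node (.node (.leaf 3) (.leaf 3)) (.leaf 3))) (.node (.node (.node (.leaf 0) (.leaf 3)) (.leaf 0)) (.node (.node (.leaf 0) (.leaf 3)) (.leaf 3))))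

def certAKind58 : Janko.Tree (ℕ) :=
  (.node (.node (.node (.node (.leaf 0) (.leaf 3)) (.leaf 3)) (.node (.node (.leaf 0) (.leaf 3)) (.leaf 0))) (.node (.node (.node (.leaf 0) (.leaf 3)) (.leaf 0)) (.node (.node (.leaf 0) (.leaf 3)) (.leaf 3))))

def certAKind59 : Janko.Tree (ℕ) :=
  (.node (.node (.node (.node (.leaf 0) (.leaf 3)) (.leaf 3)) (.node (.node (.leaf 0) (.leaf 3)) (.leaf 3))) (.node (.node (.node (.leaf 0) (.leaf 3)) (.leaf 3)) (.node (.node (.leaf 0) (.leaf 3)) (.leaf 3))))

def certAKind60 : Janko.Tree (ℕ) :=
  (.node (.node (.node (.node (.leaf 0) (.leaf 3)) (.leaf 3)) (.node (.node (.leaf 0) (.leaf 3)) (.leaf 3))) (.node (.node (.node (.leaf 3) (.leaf 3)) (.leaf 0)) (.node (.node (.leaf 3) (.leaf 3)) (.leaf 3))))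

def certAKind61 : Janko.Tree (ℕ) :=
  (.node (.node (.node (.node (.leaf 0) (.leaf 3)) (.leaf 3)) (.node (.node (.leaf 3) (.leaf 3)) (.leaf 0))) (.node (.node (.node (.leaf 0) (.leaf 3)) (.leaf 0)) (.node (.node (.leaf 0) (.leaf 3)) (.leaf 0))))

def certAKind62 : Janko.Tree (ℕ) :=
  (.node (.node (.node (.node (.leaf 0) (.leaf 3)) (.leaf 0)) (.node (.node (.leaf 0) (.leaf 3)) (.leaf 3))) (.node (.node (.node (.leaf 3) (.leaf 3)) (.leaf 3)) (.node (.node (.leaf 3) (.leaf 3)) (.leaf 3))))

def certAKind63 : Janko.Tree (ℕ) :=
  (.node (.node (.node (.node (.leaf 3) (.leaf 3)) (.leaf 0)) (.node (.node (.leaf 0) (.leaf 3)) (.leaf 3))) (.node (.node (.node (.leaf 0) (.leaf 3)) (.leaf 3)) (.node (.node (.leaf 0) (.leaf 3)) (.leaf 3))))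

def certAKind : Janko.Tree (ℕ) :=
  (.node (.node (.node (.node (.node (.node certAKind0 certAKind32) (.node certAKind16 certAKind48)) (.node (.node certAKind8 certAKind40) (.node certAKind24 certAKind56))) (.node (.node (.node certAKind4 certAKind36) (.node certAKind20 certAKind52)) (.node (.node certAKind12 certAKind44) (.node certAKind28 certAKind60)))) (.node (.node (.node (.node certAKind2 certAKind34) (.node certAKind18 certAKind50)) (.node (.node certAKind10 certAKind42) (.node certAKind26 certAKind58))) (.node (.node (.node certAKind6 certAKind38) (.node certAKind22 certAKind54)) (.node (.node certAKind14 certAKind46) (.node certAKind30 certAKind62))))) (.node (.node (.node (.node (.node certAKind1 certAKind33) (.node certAKind17 certAKind49)) (.node (.node certAKind9 certAKind41) (.node certAKind25 certAKind57))) (.node (.node (.node certAKind5 certAKind37) (.node certAKind21 certAKind53)) (.node (.node certAKind13 certAKind45) (.node certAKind29 certAKind61)))) (.node (.node (.node (.node certAKind3 certAKind35) (.node certAKind19 certAKind51)) (.node (.node certAKind11 certAKind43) (.node certAKind27 certAKind59))) (.node (.node (.node certAKind7 certAKind39) (.node certAKind23 certAKind55)) (.node (.node certAKind15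 certAKind47) (.node certAKind31 certAKind63))))))

def certARank0 : Janko.Tree (ℕ) :=
  (.node (.node (.node (.node (.leaf 87) (.leaf 79)) (.node (.leaf 0) (.leaf 111))) (.node (.node (.leaf 84) (.leaf 276)) (.leaf 0))) (.node (.node (.node (.leaf 0) (.leaf 145)) (.leaf 284)) (.node (.node (.leaf 0) (.leaf 144)) (.leaf 0))))

def certARank1 : Janko.Tree (ℕ) :=
  (.node (.node (.node (.node (.leaf 0) (.leaf 397)) (.node (.leaf 0) (.leaf 124))) (.node (.node (.leaf 0) (.leaf 0)) (.leaf 199))) (.node (.node (.node (.leaf 0) (.leaf 154)) (.leaf 283)) (.node (.node (.leaf 213) (.leaf 8)) (.leaf 0))))

def certARank2 : Janko.Tree (ℕ) :=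
  (.node (.node (.node (.node (.leaf 0) (.leaf 233)) (.node (.leaf 0) (.leaf 110))) (.node (.node (.leaf 108) (.leaf 147)) (.leaf 0))) (.node (.node (.node (.leaf 0) (.leaf 325)) (.leaf 0)) (.node (.node (.leaf 0) (.leaf 278)) (.leaf 275))))

def certARank3 : Janko.Tree (ℕ) :=
  (.node (.node (.node (.node (.leaf 0) (.leaf 27)) (.node (.leaf 0) (.leaf 245))) (.node (.node (.leaf 0) (.leaf 177)) (.leaf 288))) (.node (.node (.node (.leaf 0) (.leaf 0)) (.leaf 43)) (.node (.node (.leaf 53) (.leaf 226)) (.leaf 0))))

def certARank4 : Janko.Tree (ℕ) :=
  (.node (.node (.node (.node (.leaf 0) (.leaf 104)) (.node (.leaf 0) (.leaf 205))) (.node (.node (.leaf 0) (.leaf 149)) (.leaf 332))) (.node (.node (.node (.leaf 0) (.leaf 352)) (.leaf 393)) (.node (.node (.leaf 0) (.leaf 359)) (.leaf 116))))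

def certARank5 : Janko.Tree (ℕ) :=
  (.node (.node (.node (.node (.leaf 0) (.leaf 0)) (.node (.leaf 0) (.leaf 260))) (.node (.node (.leaf 58) (.leaf 155)) (.leaf 36))) (.node (.node (.node (.leaf 63) (.leaf 354)) (.leaf 0)) (.node (.node (.leaf 89) (.leaf 309)) (.leaf 0))))

def certARank6 : Janko.Tree (ℕ) :=
  (.node (.node (.node (.node (.leaf 0) (.leaf 106)) (.node (.leaf 0) (.leaf 190))) (.node (.node (.leaf 0) (.leaf 0)) (.leaf 0))) (.node (.node (.node (.leaf 0) (.leaf 362)) (.leaf 167)) (.node (.node (.leaf 0) (.leaf 242)) (.leaf 0))))

def certARank7 : Janko.Tree (ℕ) :=
  (.node (.node (.node (.node (.leaf 68) (.leaf 236)) (.node (.leaf 48) (.leaf 109))) (.node (.node (.leaf 214) (.leaf 12)) (.leaf 0))) (.node (.node (.node (.leaf 0) (.leaf 22)) (.leaf 42)) (.node (.node (.leaf 0) (.leaf 7)) (.leaf 289))))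

def certARank8 : Janko.Tree (ℕ) :=
  (.node (.node (.node (.node (.leaf 0) (.leaf 162)) (.leaf 0)) (.node (.node (.leaf 0) (.leaf 237)) (.leaf 0))) (.node (.node (.node (.leaf 0) (.leaf 0)) (.leaf 0)) (.node (.node (.leaf 0) (.leaf 302)) (.leaf 0))))

def certARank9 : Janko.Tree (ℕ) :=
  (.node (.node (.node (.node (.leaf 0) (.leaf 0)) (.leaf 0)) (.node (.node (.leaf 93) (.leaf 234)) (.leaf 0))) (.node (.node (.node (.leaf 0) (.leaf 248)) (.leaf 361)) (.node (.node (.leaf 100) (.leaf 368)) (.leaf 285))))

def certARank10 : Janko.Tree (ℕ) :=
  (.node (.node (.node (.node (.leaf 0) (.leaf 139)) (.leaf 96)) (.node (.node (.leaf 0) (.leaf 0)) (.leaf 0))) (.node (.node (.node (.leaf 0) (.leaf 261)) (.leaf 0)) (.node (.node (.leaf 0) (.leaf 388)) (.leaf 0))))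

def certARank11 : Janko.Tree (ℕ) :=
  (.node (.node (.node (.node (.leaf 0) (.leaf 169)) (.leaf 0)) (.node (.node (.leaf 0) (.leaf 163)) (.leaf 0))) (.node (.node (.node (.leaf 0) (.leaf 21)) (.leaf 400)) (.node (.node (.leaf 0) (.leaf 6)) (.leaf 342))))

def certARank12 : Janko.Tree (ℕ) :=
  (.node (.node (.node (.node (.leaf 0) (.leaf 341)) (.leaf 0)) (.node (.node (.leaf 140) (.leaf 321)) (.leaf 266))) (.node (.node (.node (.leaf 0) (.leaf 153)) (.leaf 0)) (.node (.node (.leaf 0) (.leaf 300)) (.leaf 346))))

def certARank13 : Janko.Tree (ℕ) :=
  (.node (.node (.node (.node (.leaf 0) (.leaf 0)) (.leaf 0)) (.node (.node (.leaf 57) (.leaf 203)) (.leaf 183))) (.node (.node (.node (.leaf 0) (.leaf 0)) (.leaf 41)) (.node (.node (.leaf 364) (.leaf 5)) (.leaf 271))))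

def certARank14 : Janko.Tree (ℕ) :=
  (.node (.node (.node (.node (.leaf 0) (.leaf 160)) (.leaf 75)) (.node (.node (.leaf 0) (.leaf 159)) (.leaf 141))) (.node (.node (.node (.leaf 0) (.leaf 238)) (.leaf 0)) (.node (.node (.leaf 0) (.leaf 387)) (.leaf 243))))

def certARank15 : Janko.Tree (ℕ) :=
  (.node (.node (.node (.node (.leaf 0) (.leaf 252)) (.leaf 0)) (.node (.node (.leaf 0) (.leaf 376)) (.leaf 0))) (.node (.node (.node (.leaf 0) (.leaf 240)) (.leaf 0)) (.node (.node (.leaf 52) (.leaf 360)) (.leaf 0))))

def certARank16 : Janko.Tree (ℕ) :=
  (.node (.node (.node (.node (.leaf 0) (.leaf 146)) (.leaf 69)) (.node (.node (.leaf 0) (.leaf 157)) (.leaf 0))) (.node (.node (.node (.leaf 0) (.leaf 0)) (.leaf 0)) (.node (.node (.leaf 0) (.leaf 0)) (.leaf 305))))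

def certARank17 : Janko.Tree (ℕ) :=
  (.node (.node (.node (.node (.leaf 0) (.leaf 0)) (.leaf 0)) (.node (.node (.leaf 0) (.leaf 404)) (.leaf 0))) (.node (.node (.node (.leaf 62) (.leaf 313)) (.leaf 91)) (.node (.node (.leaf 0) (.leaf 0)) (.leaf 0))))

def certARank18 : Janko.Tree (ℕ) :=
  (.node (.node (.node (.node (.leaf 0) (.leaf 1)) (.leaf 0)) (.node (.node (.leaf 0) (.leaf 337)) (.leaf 0))) (.node (.node (.node (.leaf 0) (.leaf 0)) (.leaf 0)) (.node (.node (.leaf 0) (.leaf 415)) (.leaf 0))))

def certARank19 : Janko.Tree (ℕ) :=
  (.node (.node (.node (.node (.leaf 0) (.leaf 0)) (.leaf 0)) (.node (.node (.leaf 0) (.leaf 365)) (.leaf 0))) (.node (.node (.node (.leaf 0) (.leaf 363)) (.leaf 0)) (.node (.node (.leaf 0) (.leaf 77)) (.leaf 0))))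

def certARank20 : Janko.Tree (ℕ) :=
  (.node (.node (.node (.node (.leaf 0) (.leaf 86)) (.leaf 225)) (.node (.node (.leaf 0) (.leaf 218)) (.leaf 330))) (.node (.node (.node (.leaf 0) (.leaf 405)) (.leaf 0)) (.node (.node (.leaf 0) (.leaf 134)) (.leaf 0))))

def certARank21 : Janko.Tree (ℕ) :=
  (.node (.node (.node (.node (.leaf 67) (.leaf 0)) (.leaf 255)) (.node (.node (.leaf 0) (.leaf 216)) (.leaf 35))) (.node (.node (.node (.leaf 103) (.leaf 403)) (.leaf 0)) (.node (.node (.leaf 51) (.leaf 83)) (.leaf 371))))

def certARank22 : Janko.Tree (ℕ) :=
  (.node (.node (.node (.node (.leaf 0) (.leaf 377)) (.leaf 0)) (.node (.node (.leaf 0) (.leaf 212)) (.leaf 178))) (.node (.node (.node (.leaf 0) (.leaf 0)) (.leaf 187)) (.node (.node (.leaf 0) (.leaf 143)) (.leaf 406))))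

def certARank23 : Janko.Tree (ℕ) :=
  (.node (.node (.node (.node (.leaf 0) (.leaf 26)) (.leaf 0)) (.node (.node (.leaf 0) (.leaf 358)) (.leaf 0))) (.node (.node (.node (.leaf 0) (.leaf 20)) (.leaf 0)) (.node (.node (.leaf 0) (.leaf 97)) (.leaf 0))))

def certARank24 : Janko.Tree (ℕ) :=
  (.node (.node (.node (.node (.leaf 0) (.leaf 0)) (.leaf 0)) (.node (.node (.leaf 0) (.leaf 308)) (.leaf 257))) (.node (.node (.node (.leaf 4) (.leaf 113)) (.leaf 258)) (.node (.node (.leaf 0) (.leaf 166)) (.leaf 142))))

def certARank25 : Janko.Tree (ℕ) :=
  (.node (.node (.node (.node (.leaf 0) (.leaf 0)) (.leaf 0)) (.node (.node (.leaf 0) (.leaf 0)) (.leaf 259))) (.node (.node (.node (.leaf 0) (.leaf 164)) (.leaf 0)) (.node (.node (.leaf 117) (.leaf 171)) (.leaf 0))))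

def certARank26 : Janko.Tree (ℕ) :=
  (.node (.node (.node (.node (.leaf 0) (.leaf 355)) (.leaf 219)) (.node (.node (.leaf 247) (.leaf 156)) (.leaf 369))) (.node (.node (.node (.leaf 88) (.leaf 209)) (.leaf 0)) (.node (.node (.leaf 3) (.leaf 414)) (.leaf 0))))

def certARank27 : Janko.Tree (ℕ) :=
  (.node (.node (.node (.node (.leaf 0) (.leaf 335)) (.leaf 0)) (.node (.node (.leaf 246) (.leaf 299)) (.leaf 264))) (.node (.node (.node (.leaf 0) (.leaf 392)) (.leaf 383)) (.node (.node (.leaf 0) (.leaf 182)) (.leaf 381))))

def certARank28 : Janko.Tree (ℕ) :=
  (.node (.node (.node (.node (.leaf 0) (.leaf 0)) (.leaf 0)) (.node (.node (.leaf 0) (.leaf 232)) (.leaf 0))) (.node (.node (.node (.leaf 0) (.leaf 251)) (.leaf 0)) (.node (.node (.leaf 0) (.leaf 127)) (.leaf 0))))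

def certARank29 : Janko.Tree (ℕ) :=
  (.node (.node (.node (.node (.leaf 0) (.leaf 262)) (.leaf 172)) (.node (.node (.leaf 272) (.leaf 229)) (.leaf 319))) (.node (.node (.node (.leaf 0) (.leaf 19)) (.leaf 40)) (.node (.node (.leaf 0) (.leaf 112)) (.leaf 0))))

def certARank30 : Janko.Tree (ℕ) :=
  (.node (.node (.node (.node (.leaf 0) (.leaf 191)) (.leaf 185)) (.node (.node (.leaf 0) (.leaf 0)) (.leaf 186))) (.node (.node (.node (.leaf 0) (.leaf 370)) (.leaf 138)) (.node (.node (.leaf 0) (.leaf 74)) (.leaf 290))))

def certARank31 : Janko.Tree (ℕ) :=
  (.node (.node (.node (.node (.leaf 0) (.leaf 239)) (.leaf 0)) (.node (.node (.leaf 101) (.leaf 11)) (.leaf 184))) (.node (.node (.node (.leaf 61) (.leaf 399)) (.leaf 0)) (.node (.node (.leaf 0) (.leaf 413)) (.leaf 345))))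

def certARank32 : Janko.Tree (ℕ) :=
  (.node (.node (.node (.node (.leaf 0) (.leaf 118)) (.leaf 220)) (.node (.node (.leaf 0) (.leaf 386)) (.leaf 0))) (.node (.node (.node (.leaf 0) (.leaf 373)) (.leaf 0)) (.node (.node (.leaf 0) (.leaf 73)) (.leaf 380))))

def certARank33 : Janko.Tree (ℕ) :=
  (.node (.node (.node (.node (.leaf 66) (.leaf 194)) (.leaf 0)) (.node (.node (.leaf 56) (.leaf 391)) (.leaf 34))) (.node (.node (.node (.leaf 92) (.leaf 18)) (.leaf 0)) (.node (.node (.leaf 0) (.leaf 126)) (.leaf 395))))

def certARank34 : Janko.Tree (ℕ) :=
  (.node (.node (.node (.node (.leaf 0) (.leaf 357)) (.leaf 0)) (.node (.node (.leaf 0) (.leaf 389)) (.leaf 81))) (.node (.node (.node (.leaf 0) (.leaf 277)) (.leaf 0)) (.node (.node (.leaf 0) (.leaf 72)) (.leaf 189))))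

def certARank35 : Janko.Tree (ℕ) :=
  (.node (.node (.node (.node (.leaf 0) (.leaf 339)) (.leaf 0)) (.node (.node (.leaf 0) (.leaf 0)) (.leaf 0))) (.node (.node (.node (.leaf 0) (.leaf 0)) (.leaf 0)) (.node (.node (.leaf 0) (.leaf 412)) (.leaf 0))))

def certARank36 : Janko.Tree (ℕ) :=
  (.node (.node (.node (.node (.leaf 0) (.leaf 390)) (.leaf 0)) (.node (.node (.leaf 0) (.leaf 221)) (.leaf 0))) (.node (.node (.node (.leaf 0) (.leaf 231)) (.leaf 198)) (.node (.node (.leaf 0) (.leaf 170)) (.leaf 338))))

def certARank37 : Janko.Tree (ℕ) :=
  (.node (.node (.node (.node (.leaf 0) (.leaf 0)) (.leaf 47)) (.node (.node (.leaf 0) (.leaf 152)) (.leaf 0))) (.node (.node (.node (.leaf 0) (.leaf 298)) (.leaf 39)) (.node (.node (.leaf 0) (.leaf 98)) (.leaf 401))))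

def certARank38 : Janko.Tree (ℕ) :=
  (.node (.node (.node (.node (.leaf 0) (.leaf 0)) (.leaf 0)) (.node (.node (.leaf 0) (.leaf 336)) (.leaf 0))) (.node (.node (.node (.leaf 0) (.leaf 286)) (.leaf 0)) (.node (.node (.leaf 119) (.leaf 115)) (.leaf 175))))

def certARank39 : Janko.Tree (ℕ) :=
  (.node (.node (.node (.node (.leaf 0) (.leaf 315)) (.leaf 120)) (.node (.node (.leaf 0) (.leaf 0)) (.leaf 33))) (.node (.node (.node (.leaf 99) (.leaf 351)) (.leaf 135)) (.node (.node (.leaf 121) (.leaf 132)) (.leaf 287))))

def certARank40 : Janko.Tree (ℕ) :=
  (.node (.node (.node (.node (.leaf 0) (.leaf 274)) (.leaf 0)) (.node (.node (.leaf 0) (.leaf 291)) (.leaf 151))) (.node (.node (.node (.leaf 0) (.leaf 282)) (.leaf 0)) (.node (.node (.leaf 0) (.leaf 411)) (.leaf 0))))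

def certARank41 : Janko.Tree (ℕ) :=
  (.node (.node (.node (.node (.leaf 0) (.leaf 244)) (.leaf 0)) (.node (.node (.leaf 0) (.leaf 327)) (.leaf 0))) (.node (.node (.node (.leaf 0) (.leaf 343)) (.leaf 188)) (.node (.node (.leaf 50) (.leaf 161)) (.leaf 192))))

def certARank42 : Janko.Tree (ℕ) :=
  (.node (.node (.node (.node (.leaf 0) (.leaf 310)) (.leaf 0)) (.node (.node (.leaf 0) (.leaf 356)) (.leaf 0))) (.node (.node (.node (.leaf 0) (.leaf 280)) (.leaf 0)) (.node (.node (.leaf 0) (.leaf 131)) (.leaf 0))))

def certARank43 : Janko.Tree (ℕ) :=
  (.node (.node (.node (.node (.leaf 0) (.leaf 0)) (.leaf 46)) (.node (.node (.leaf 0) (.leaf 312)) (.leaf 254))) (.node (.node (.node (.leaf 0) (.leaf 344)) (.leaf 165)) (.node (.node (.leaf 0) (.leaf 125)) (.leaf 0))))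

def certARank44 : Janko.Tree (ℕ) :=
  (.node (.node (.node (.node (.leaf 0) (.leaf 322)) (.leaf 0)) (.node (.node (.leaf 0) (.leaf 0)) (.leaf 223))) (.node (.node (.node (.leaf 0) (.leaf 241)) (.leaf 0)) (.node (.node (.leaf 0) (.leaf 76)) (.leaf 250))))

def certARank45 : Janko.Tree (ℕ) :=
  (.node (.node (.node (.node (.leaf 0) (.leaf 25)) (.leaf 0)) (.node (.node (.leaf 55) (.leaf 306)) (.leaf 32))) (.node (.node (.node (.leaf 60) (.leaf 17)) (.leaf 123)) (.node (.node (.leaf 0) (.leaf 82)) (.leaf 204))))

def certARank46 : Janko.Tree (ℕ) :=
  (.node (.node (.node (.node (.leaf 0) (.leaf 297)) (.leaf 235)) (.node (.node (.leaf 256) (.leaf 227)) (.leaf 301))) (.node (.node (.node (.leaf 292) (.leaf 133)) (.leaf 0)) (.node (.node (.leaf 0) (.leaf 410)) (.leaf 0))))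

def certARank47 : Janko.Tree (ℕ) :=
  (.node (.node (.node (.node (.leaf 65) (.leaf 253)) (.leaf 0)) (.node (.node (.leaf 0) (.leaf 230)) (.leaf 0))) (.node (.node (.node (.leaf 0) (.leaf 16)) (.leaf 38)) (.node (.node (.leaf 0) (.leaf 71)) (.leaf 0))))

def certARank48 : Janko.Tree (ℕ) :=
  (.node (.node (.node (.node (.leaf 0) (.leaf 0)) (.leaf 2)) (.node (.node (.leaf 0) (.leaf 210)) (.leaf 224))) (.node (.node (.node (.leaf 0) (.leaf 158)) (.leaf 0)) (.node (.node (.leaf 0) (.leaf 409)) (.leaf 293))))

def certARank49 : Janko.Tree (ℕ) :=
  (.node (.node (.node (.node (.leaf 0) (.leaf 24)) (.leaf 0)) (.node (.node (.leaf 372) (.leaf 10)) (.leaf 31))) (.node (.node (.node (.leaf 0) (.leaf 0)) (.leaf 0)) (.node (.node (.leaf 0) (.leaf 408)) (.leaf 353))))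

def certARank50 : Janko.Tree (ℕ) :=
  (.node (.node (.node (.node (.leaf 0) (.leaf 0)) (.leaf 0)) (.node (.node (.leaf 0) (.leaf 268)) (.leaf 0))) (.node (.node (.node (.leaf 0) (.leaf 303)) (.leaf 181)) (.node (.node (.leaf 0) (.leaf 269)) (.leaf 0))))

def certARank51 : Janko.Tree (ℕ) :=
  (.node (.node (.node (.node (.leaf 0) (.leaf 206)) (.leaf 318)) (.node (.node (.leaf 350) (.leaf 150)) (.leaf 0))) (.node (.node (.node (.leaf 295) (.leaf 15)) (.leaf 0)) (.node (.node (.leaf 0) (.leaf 407)) (.leaf 0))))

def certARank52 : Janko.Tree (ℕ) :=
  (.node (.node (.node (.node (.leaf 0) (.leaf 374)) (.leaf 0)) (.node (.node (.leaf 0) (.leaf 249)) (.leaf 0))) (.node (.node (.node (.leaf 267) (.leaf 348)) (.leaf 90)) (.node (.node (.leaf 0) (.leaf 95)) (.leaf 0))))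

def certARank53 : Janko.Tree (ℕ) :=
  (.node (.node (.node (.node (.leaf 0) (.leaf 328)) (.leaf 45)) (.node (.node (.leaf 0) (.leaf 265)) (.leaf 0))) (.node (.node (.node (.leaf 0) (.leaf 385)) (.leaf 128)) (.node (.node (.leaf 49) (.leaf 130)) (.leaf 29))))

def certARank54 : Janko.Tree (ℕ) :=
  (.node (.node (.node (.node (.leaf 0) (.leaf 366)) (.leaf 270)) (.node (.node (.leaf 0) (.leaf 379)) (.leaf 85))) (.node (.node (.node (.leaf 0) (.leaf 217)) (.leaf 0)) (.node (.node (.leaf 0) (.leaf 94)) (.leaf 307))))

def certARank55 : Janko.Tree (ℕ) :=
  (.node (.node (.node (.node (.leaf 64) (.leaf 23)) (.leaf 0)) (.node (.node (.leaf 54) (.leaf 402)) (.leaf 136))) (.node (.node (.node (.leaf 59) (.leaf 176)) (.leaf 37)) (.node (.node (.leaf 0) (.leaf 168)) (.leaf 334))))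

def certARank56 : Janko.Tree (ℕ) :=
  (.node (.node (.node (.node (.leaf 0) (.leaf 78)) (.leaf 137)) (.node (.node (.leaf 294) (.leaf 326)) (.leaf 0))) (.node (.node (.node (.leaf 317) (.leaf 148)) (.leaf 114)) (.node (.node (.leaf 0) (.leaf 197)) (.leaf 279))))

def certARank57 : Janko.Tree (ℕ) :=
  (.node (.node (.node (.node (.leaf 0) (.leaf 382)) (.leaf 195)) (.node (.node (.leaf 324) (.leaf 316)) (.leaf 107))) (.node (.node (.node (.leaf 0) (.leaf 14)) (.leaf 0)) (.node (.node (.leaf 0) (.leaf 228)) (.leaf 28))))

def certARank58 : Janko.Tree (ℕ) :=
  (.node (.node (.node (.node (.leaf 0) (.leaf 384)) (.leaf 273)) (.node (.node (.leaf 0) (.leaf 398)) (.leaf 0))) (.node (.node (.node (.leaf 0) (.leaf 396)) (.leaf 0)) (.node (.node (.leaf 0) (.leaf 193)) (.leaf 180))))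

def certARank59 : Janko.Tree (ℕ) :=
  (.node (.node (.node (.node (.leaf 0) (.leaf 347)) (.leaf 44)) (.node (.node (.leaf 0) (.leaf 378)) (.leaf 30))) (.node (.node (.node (.leaf 0) (.leaf 394)) (.leaf 173)) (.node (.node (.leaf 0) (.leaf 296)) (.leaf 208))))

def certARank60 : Janko.Tree (ℕ) :=
  (.node (.node (.node (.node (.leaf 0) (.leaf 202)) (.leaf 323)) (.node (.node (.leaf 0) (.leaf 314)) (.leaf 222))) (.node (.node (.node (.leaf 174) (.leaf 340)) (.leaf 0)) (.node (.node (.leaf 304) (.leaf 263)) (.leaf 211))))

def certARank61 : Janko.Tree (ℕ) :=
  (.node (.node (.node (.node (.leaf 0) (.leaf 200)) (.leaf 333)) (.node (.node (.leaf 179) (.leaf 9)) (.leaf 0))) (.node (.node (.node (.leaf 0) (.leaf 367)) (.leaf 0)) (.node (.node (.leaf 0) (.leaf 129)) (.leaf 0))))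

def certARank62 : Janko.Tree (ℕ) :=
  (.node (.node (.node (.node (.leaf 0) (.leaf 80)) (.leaf 0)) (.node (.node (.leaf 0) (.leaf 281)) (.leaf 375))) (.node (.node (.node (.leaf 70) (.leaf 207)) (.leaf 105)) (.node (.node (.leaf 311) (.leaf 196)) (.leaf 331))))

def certARank63 : Janko.Tree (ℕ) :=
  (.node (.node (.node (.node (.leaf 102) (.leaf 349)) (.leaf 0)) (.node (.node (.leaf 0) (.leaf 215)) (.leaf 320))) (.node (.node (.node (.leaf 0) (.leaf 13)) (.leaf 201)) (.node (.node (.leaf 0) (.leaf 122)) (.leaf 329))))

def certARank : Janko.Tree (ℕ) :=
  (.node (.node (.node (.node (.node (.node certARank0 certARank32) (.node certARank16 certARank48)) (.node (.node certARank8 certARank40) (.node certARank24 certARank56))) (.node (.node (.node certARank4 certARank36) (.node certARank20 certARank52)) (.node (.node certARank12 certARank44) (.node certARank28 certARank60)))) (.node (.node (.node (.node certARank2 certARank34) (.node certARank18 certARank50)) (.node (.node certARank10 certARank42) (.node certARank26 certARank58))) (.node (.node (.node certARank6 certARank38) (.node certARank22 certARank54)) (.node (.node certARank14 certARank46) (.node certARank30 certARank62))))) (.node (.node (.node (.node (.node certARank1 certARank33)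 (.node certARank17 certARank49)) (.node (.node certARank9 certARank41) (.node certARank25 certARank57))) (.node (.node (.node certARank5 certARank37) (.node certARank21 certARank53)) (.node (.node certARank13 certARank45) (.node certARank29 certARank61)))) (.node (.node (.node (.node certARank3 certARank35) (.node certARank19 certARank51)) (.node (.node certARank11 certARank43) (.node certARank27 certARank59))) (.node (.node (.node certARank7 certARank39) (.node certARank23 certARank55)) (.node (.node certARank15 certARank47) (.node certARank31 certARank63))))))

def certAVia0 : Janko.Tree (ℕ × ℕ) :=
  (.node (.node (.node (.node (.leaf (3, 0)) (.leaf (3, 21))) (.node (.leaf (0, 0)) (.leaf (48, 67)))) (.node (.node (.leaf (5, 49)) (.leaf (55, 170))) (.leaf (0, 0)))) (.node (.node (.node (.leaf (0, 0)) (.leaf (6, 208))) (.leaf (41, 305))) (.node (.node (.leaf (0, 0)) (.leaf (6, 219))) (.leaf (0, 0)))))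

def certAVia1 : Janko.Tree (ℕ × ℕ) :=
  (.node (.node (.node (.node (.leaf (0, 0)) (.leaf (55, 340))) (.node (.leaf (0, 0)) (.leaf (49, 59)))) (.node (.node (.leaf (0, 0)) (.leaf (0, 0))) (.leaf (40, 167)))) (.node (.node (.node (.leaf (0, 0)) (.leaf (4, 322))) (.leaf (55, 167))) (.node (.node (.leaf (49, 179)) (.leaf (0, 352))) (.leaf (0, 0)))))

def certAVia2 : Janko.Tree (ℕ × ℕ) :=
  (.node (.node (.node (.node (.leaf (0, 0)) (.leaf (42, 334))) (.node (.leaf (0, 0)) (.leaf (50, 59)))) (.node (.node (.leaf (5, 36)) (.leaf (16, 66))) (.leaf (0, 0)))) (.node (.node (.node (.leaf (0, 0)) (.leaf (54, 53))) (.leaf (0, 0))) (.node (.node (.leaf (0, 0)) (.leaf (42, 225))) (.leaf (34, 346)))))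

def certAVia3 : Janko.Tree (ℕ × ℕ) :=
  (.node (.node (.node (.node (.leaf (0, 0)) (.leaf (0, 257))) (.node (.leaf (0, 0)) (.leaf (51, 263)))) (.node (.node (.leaf (0, 0)) (.leaf (23, 321))) (.leaf (47, 258)))) (.node (.node (.node (.leaf (0, 0)) (.leaf (0, 0))) (.leaf (0, 161))) (.node (.node (.leaf (0, 97)) (.leaf (55, 48))) (.leaf (0, 0)))))

def certAVia4 : Janko.Tree (ℕ × ℕ) :=
  (.node (.node (.node (.node (.leaf (0, 0)) (.leaf (3, 114))) (.node (.leaf (0, 0)) (.leaf (52, 312)))) (.node (.node (.leaf (0, 0)) (.leaf (6, 316))) (.leaf (51, 179)))) (.node (.node (.node (.leaf (0, 0)) (.leaf (51, 352))) (.leaf (55, 348))) (.node (.node (.leaf (0, 0)) (.leaf (55, 294))) (.leaf (1, 226)))))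

def certAVia5 : Janko.Tree (ℕ × ℕ) :=
  (.node (.node (.node (.node (.leaf (0, 0)) (.leaf (0, 0))) (.node (.leaf (0, 0)) (.leaf (53, 324)))) (.node (.node (.leaf (0, 66)) (.leaf (23, 322))) (.leaf (0, 194)))) (.node (.node (.node (.leaf (0, 34)) (.leaf (55, 355))) (.leaf (0, 0))) (.node (.node (.leaf (5, 5)) (.leaf (55, 325))) (.leaf (0, 0)))))

def certAVia6 : Janko.Tree (ℕ × ℕ) :=
  (.node (.node (.node (.node (.leaf (0, 0)) (.leaf (5, 42))) (.node (.leaf (0, 0)) (.leaf (54, 156)))) (.node (.node (.leaf (0, 0)) (.leaf (0, 0))) (.leaf (0, 0)))) (.node (.node (.node (.leaf (0, 0)) (.leaf (55, 210))) (.leaf (8, 250))) (.node (.node (.leaf (0, 0)) (.leaf (49, 310))) (.leaf (0, 0)))))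

def certAVia7 : Janko.Tree (ℕ × ℕ) :=
  (.node (.node (.node (.node (.leaf (0, 3)) (.leaf (45, 259))) (.node (.leaf (0, 131)) (.leaf (55, 10)))) (.node (.node (.leaf (46, 67)) (.leaf (0, 323))) (.leaf (0, 0)))) (.node (.node (.node (.leaf (0, 0)) (.leaf (0, 291))) (.leaf (0, 163))) (.node (.node (.leaf (0, 0)) (.leaf (0, 355))) (.leaf (55, 69)))))

def certAVia8 : Janko.Tree (ℕ × ℕ) :=
  (.node (.node (.node (.node (.leaf (0, 0)) (.leaf (16, 183))) (.leaf (0, 0))) (.node (.node (.leaf (0, 0)) (.leaf (55, 259))) (.leaf (0, 0)))) (.node (.node (.node (.leaf (0, 0)) (.leaf (0, 0))) (.leaf (0, 0))) (.node (.node (.leaf (0, 0)) (.leaf (55, 215))) (.leaf (0, 0)))))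

def certAVia9 : Janko.Tree (ℕ × ℕ) :=
  (.node (.node (.node (.node (.leaf (0, 0)) (.leaf (0, 0))) (.leaf (0, 0))) (.node (.node (.leaf (31, 209)) (.leaf (55, 257))) (.leaf (0, 0)))) (.node (.node (.node (.leaf (0, 0)) (.leaf (25, 213))) (.leaf (54, 313))) (.node (.node (.leaf (38, 120)) (.leaf (55, 254))) (.leaf (49, 146)))))

def certAVia10 : Janko.Tree (ℕ × ℕ) :=
  (.node (.node (.node (.node (.leaf (0, 0)) (.leaf (16, 40))) (.leaf (36, 176))) (.node (.node (.leaf (0, 0)) (.leaf (0, 0))) (.leaf (0, 0)))) (.node (.node (.node (.leaf (0, 0)) (.leaf (53, 293))) (.leaf (0, 0))) (.node (.node (.leaf (0, 0)) (.leaf (55, 356))) (.leaf (0, 0)))))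

def certAVia11 : Janko.Tree (ℕ × ℕ) :=
  (.node (.node (.node (.node (.leaf (0, 0)) (.leaf (39, 261))) (.leaf (0, 0))) (.node (.node (.leaf (0, 0)) (.leaf (29, 316))) (.leaf (0, 0)))) (.node (.node (.node (.leaf (0, 0)) (.leaf (0, 293))) (.leaf (53, 287))) (.node (.node (.leaf (0, 0)) (.leaf (0, 357))) (.leaf (55, 288)))))

def certAVia12 : Janko.Tree (ℕ × ℕ) :=
  (.node (.node (.node (.node (.leaf (0, 0)) (.leaf (55, 115))) (.leaf (0, 0))) (.node (.node (.leaf (5, 0)) (.leaf (51, 211))) (.leaf (55, 68)))) (.node (.node (.node (.leaf (0, 0)) (.leaf (5, 137))) (.leaf (0, 0))) (.node (.node (.leaf (0, 0)) (.leaf (50, 358))) (.leaf (55, 344)))))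

def certAVia13 : Janko.Tree (ℕ × ℕ) :=
  (.node (.node (.node (.node (.leaf (0, 0)) (.leaf (0, 0))) (.leaf (0, 0))) (.node (.node (.leaf (0, 70)) (.leaf (42, 288))) (.leaf (11, 186)))) (.node (.node (.node (.leaf (0, 0)) (.leaf (0, 0))) (.leaf (0, 166))) (.node (.node (.leaf (55, 316)) (.leaf (0, 358))) (.leaf (55, 150)))))

def certAVia14 : Janko.Tree (ℕ × ℕ) :=
  (.node (.node (.node (.node (.leaf (0, 0)) (.leaf (3, 182))) (.leaf (1, 0))) (.node (.node (.leaf (0, 0)) (.leaf (48, 327))) (.leaf (16, 47)))) (.node (.node (.node (.leaf (0, 0)) (.leaf (48, 295))) (.leaf (0, 0))) (.node (.node (.leaf (0, 0)) (.leaf (55, 359))) (.leaf (23, 355)))))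

def certAVia15 : Janko.Tree (ℕ × ℕ) :=
  (.node (.node (.node (.node (.leaf (0, 0)) (.leaf (55, 343))) (.leaf (0, 0))) (.node (.node (.leaf (0, 0)) (.leaf (55, 354))) (.leaf (0, 0)))) (.node (.node (.node (.leaf (0, 0)) (.leaf (46, 295))) (.leaf (0, 0))) (.node (.node (.leaf (0, 103)) (.leaf (55, 171))) (.leaf (0, 0)))))

def certAVia16 : Janko.Tree (ℕ × ℕ) :=
  (.node (.node (.node (.node (.leaf (0, 0)) (.leaf (6, 183))) (.leaf (0, 0))) (.node (.node (.leaf (0, 0)) (.leaf (6, 250))) (.leaf (0, 0)))) (.node (.node (.node (.leaf (0, 0)) (.leaf (0, 0))) (.leaf (0, 0))) (.node (.node (.leaf (0, 0)) (.leaf (0, 0))) (.leaf (55, 142)))))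

def certAVia17 : Janko.Tree (ℕ × ℕ) :=
  (.node (.node (.node (.node (.leaf (0, 0)) (.leaf (0, 0))) (.leaf (0, 0))) (.node (.node (.leaf (0, 0)) (.leaf (55, 314))) (.leaf (0, 0)))) (.node (.node (.node (.leaf (0, 40)) (.leaf (54, 338))) (.leaf (0, 168))) (.node (.node (.leaf (0, 0)) (.leaf (0, 0))) (.leaf (0, 0)))))

def certAVia18 : Janko.Tree (ℕ × ℕ) :=
  (.node (.node (.node (.node (.leaf (0, 0)) (.leaf (1, 265))) (.leaf (0, 0))) (.node (.node (.leaf (0, 0)) (.leaf (55, 174))) (.leaf (0, 0)))) (.node (.node (.node (.leaf (0, 0)) (.leaf (0, 0))) (.leaf (0, 0))) (.node (.node (.leaf (0, 0)) (.leaf (2, 354))) (.leaf (0, 0)))))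

def certAVia19 : Janko.Tree (ℕ × ℕ) :=
  (.node (.node (.node (.node (.leaf (0, 0)) (.leaf (0, 0))) (.leaf (0, 0))) (.node (.node (.leaf (0, 0)) (.leaf (55, 164))) (.leaf (0, 0)))) (.node (.node (.node (.leaf (0, 0)) (.leaf (55, 291))) (.leaf (0, 0))) (.node (.node (.leaf (0, 0)) (.leaf (3, 49))) (.leaf (0, 0)))))

def certAVia20 : Janko.Tree (ℕ × ℕ) :=
  (.node (.node (.node (.node (.leaf (0, 0)) (.leaf (5, 12))) (.leaf (27, 259))) (.node (.node (.leaf (0, 0)) (.leaf (47, 315))) (.leaf (55, 100)))) (.node (.node (.node (.leaf (0, 0)) (.leaf (55, 336))) (.leaf (0, 0))) (.node (.node (.leaf (0, 0)) (.leaf (4, 311))) (.leaf (0, 0)))))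

def certAVia21 : Janko.Tree (ℕ × ℕ) :=
  (.node (.node (.node (.node (.leaf (0, 10)) (.leaf (0, 0))) (.leaf (49, 292))) (.node (.node (.leaf (0, 0)) (.leaf (47, 220))) (.leaf (0, 202)))) (.node (.node (.node (.leaf (0, 42)) (.leaf (55, 199))) (.leaf (0, 0))) (.node (.node (.leaf (0, 106)) (.leaf (2, 0))) (.leaf (55, 333)))))

def certAVia22 : Janko.Tree (ℕ × ℕ) :=
  (.node (.node (.node (.node (.leaf (0, 0)) (.leaf (55, 233))) (.leaf (0, 0))) (.node (.node (.leaf (0, 0)) (.leaf (17, 327))) (.leaf (5, 82)))) (.node (.node (.node (.leaf (0, 0)) (.leaf (0, 0))) (.leaf (16, 70))) (.node (.node (.leaf (0, 0)) (.leaf (6, 13))) (.leaf (55, 321)))))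

def certAVia23 : Janko.Tree (ℕ × ℕ) :=
  (.node (.node (.node (.node (.leaf (0, 0)) (.leaf (0, 267))) (.leaf (0, 0))) (.node (.node (.leaf (0, 0)) (.leaf (55, 132))) (.leaf (0, 0)))) (.node (.node (.node (.leaf (0, 0)) (.leaf (0, 299))) (.leaf (0, 0))) (.node (.node (.leaf (0, 0)) (.leaf (7, 176))) (.leaf (0, 0)))))

def certAVia24 : Janko.Tree (ℕ × ℕ) :=
  (.node (.node (.node (.node (.leaf (0, 0)) (.leaf (0, 0))) (.leaf (0, 0))) (.node (.node (.leaf (0, 0)) (.leaf (54, 181))) (.leaf (50, 86)))) (.node (.node (.node (.leaf (1, 44)) (.leaf (1, 300))) (.leaf (55, 292))) (.node (.node (.leaf (0, 0)) (.leaf (8, 261))) (.leaf (5, 133)))))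

def certAVia25 : Janko.Tree (ℕ × ℕ) :=
  (.node (.node (.node (.node (.leaf (0, 0)) (.leaf (0, 0))) (.leaf (0, 0))) (.node (.node (.leaf (0, 0)) (.leaf (0, 0))) (.leaf (50, 183)))) (.node (.node (.node (.leaf (0, 0)) (.leaf (0, 325))) (.leaf (0, 0))) (.node (.node (.leaf (5, 147)) (.leaf (9, 117))) (.leaf (0, 0)))))

def certAVia26 : Janko.Tree (ℕ × ℕ) :=
  (.node (.node (.node (.node (.leaf (0, 0)) (.leaf (55, 311))) (.leaf (48, 170))) (.node (.node (.leaf (41, 97)) (.leaf (6, 322))) (.leaf (55, 179)))) (.node (.node (.node (.leaf (5, 11)) (.leaf (6, 253))) (.leaf (0, 0))) (.node (.node (.leaf (1, 109)) (.leaf (10, 342))) (.leaf (0, 0)))))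

def certAVia27 : Janko.Tree (ℕ × ℕ) :=
  (.node (.node (.node (.node (.leaf (0, 0)) (.leaf (50, 327))) (.leaf (0, 0))) (.node (.node (.leaf (8, 263)) (.leaf (37, 270))) (.leaf (44, 302)))) (.node (.node (.node (.leaf (0, 0)) (.leaf (55, 330))) (.leaf (55, 161))) (.node (.node (.leaf (0, 0)) (.leaf (11, 74))) (.leaf (55, 293)))))

def certAVia28 : Janko.Tree (ℕ × ℕ) :=
  (.node (.node (.node (.node (.leaf (0, 0)) (.leaf (0, 0))) (.leaf (0, 0))) (.node (.node (.leaf (0, 0)) (.leaf (6, 334))) (.leaf (0, 0)))) (.node (.node (.node (.leaf (0, 0)) (.leaf (55, 114))) (.leaf (0, 0))) (.node (.node (.leaf (0, 0)) (.leaf (12, 186))) (.leaf (0, 0)))))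

def certAVia29 : Janko.Tree (ℕ × ℕ) :=
  (.node (.node (.node (.node (.leaf (0, 0)) (.leaf (55, 85))) (.leaf (9, 121))) (.node (.node (.leaf (50, 288)) (.leaf (6, 312))) (.leaf (55, 24)))) (.node (.node (.node (.leaf (0, 0)) (.leaf (0, 302))) (.leaf (0, 174))) (.node (.node (.leaf (0, 0)) (.leaf (13, 67))) (.leaf (0, 0)))))

def certAVia30 : Janko.Tree (ℕ × ℕ) :=
  (.node (.node (.node (.node (.leaf (0, 0)) (.leaf (16, 122))) (.leaf (5, 220))) (.node (.node (.leaf (0, 0)) (.leaf (0, 0))) (.leaf (36, 143)))) (.node (.node (.node (.leaf (0, 0)) (.leaf (55, 260))) (.leaf (1, 175))) (.node (.node (.leaf (0, 0)) (.leaf (14, 10))) (.leaf (48, 323)))))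

def certAVia31 : Janko.Tree (ℕ × ℕ) :=
  (.node (.node (.node (.node (.leaf (0, 0)) (.leaf (8, 295))) (.leaf (0, 0))) (.node (.node (.leaf (31, 44)) (.leaf (0, 335))) (.leaf (55, 70)))) (.node (.node (.node (.leaf (0, 47)) (.leaf (55, 295))) (.leaf (0, 0))) (.node (.node (.leaf (0, 0)) (.leaf (15, 342))) (.leaf (55, 225)))))

def certAVia32 : Janko.Tree (ℕ × ℕ) :=
  (.node (.node (.node (.node (.leaf (0, 0)) (.leaf (4, 0))) (.leaf (16, 91))) (.node (.node (.leaf (0, 0)) (.leaf (55, 342))) (.leaf (0, 0)))) (.node (.node (.node (.leaf (0, 0)) (.leaf (55, 138))) (.leaf (0, 0))) (.node (.node (.leaf (0, 0)) (.leaf (16, 10))) (.leaf (55, 275)))))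

def certAVia33 : Janko.Tree (ℕ × ℕ) :=
  (.node (.node (.node (.node (.leaf (0, 16)) (.leaf (36, 190))) (.leaf (0, 0))) (.node (.node (.leaf (0, 80)) (.leaf (55, 358))) (.leaf (0, 208)))) (.node (.node (.node (.leaf (3, 37)) (.leaf (0, 304))) (.leaf (0, 0))) (.node (.node (.leaf (0, 0)) (.leaf (17, 272))) (.leaf (55, 75)))))

def certAVia34 : Janko.Tree (ℕ × ℕ) :=
  (.node (.node (.node (.node (.leaf (0, 0)) (.leaf (55, 341))) (.leaf (0, 0))) (.node (.node (.leaf (0, 0)) (.leaf (55, 337))) (.leaf (1, 209)))) (.node (.node (.node (.leaf (0, 0)) (.leaf (52, 302))) (.leaf (0, 0))) (.node (.node (.leaf (0, 0)) (.leaf (18, 136))) (.leaf (20, 272)))))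

def certAVia35 : Janko.Tree (ℕ × ℕ) :=
  (.node (.node (.node (.node (.leaf (0, 0)) (.leaf (55, 345))) (.leaf (0, 0))) (.node (.node (.leaf (0, 0)) (.leaf (0, 0))) (.leaf (0, 0)))) (.node (.node (.node (.leaf (0, 0)) (.leaf (0, 0))) (.leaf (0, 0))) (.node (.node (.leaf (0, 0)) (.leaf (19, 346))) (.leaf (0, 0)))))

def certAVia36 : Janko.Tree (ℕ × ℕ) :=
  (.node (.node (.node (.node (.leaf (0, 0)) (.leaf (55, 350))) (.leaf (0, 0))) (.node (.node (.leaf (0, 0)) (.leaf (6, 189))) (.leaf (0, 0)))) (.node (.node (.node (.leaf (0, 0)) (.leaf (11, 147))) (.leaf (39, 272))) (.node (.node (.leaf (0, 0)) (.leaf (20, 117))) (.leaf (55, 109)))))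

def certAVia37 : Janko.Tree (ℕ × ℕ) :=
  (.node (.node (.node (.node (.leaf (0, 0)) (.leaf (0, 0))) (.leaf (0, 146))) (.node (.node (.leaf (0, 0)) (.leaf (3, 322))) (.leaf (0, 0)))) (.node (.node (.node (.leaf (0, 0)) (.leaf (46, 226))) (.leaf (0, 178))) (.node (.node (.leaf (0, 0)) (.leaf (21, 84))) (.leaf (55, 242)))))

def certAVia38 : Janko.Tree (ℕ × ℕ) :=
  (.node (.node (.node (.node (.leaf (0, 0)) (.leaf (0, 0))) (.leaf (0, 0))) (.node (.node (.leaf (0, 0)) (.leaf (55, 339))) (.leaf (0, 0)))) (.node (.node (.node (.leaf (0, 0)) (.leaf (36, 320))) (.leaf (0, 0))) (.node (.node (.leaf (48, 272)) (.leaf (22, 75))) (.leaf (26, 166)))))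

def certAVia39 : Janko.Tree (ℕ × ℕ) :=
  (.node (.node (.node (.node (.leaf (0, 0)) (.leaf (55, 320))) (.leaf (5, 98))) (.node (.node (.leaf (0, 0)) (.leaf (0, 0))) (.leaf (0, 211)))) (.node (.node (.node (.leaf (3, 8)) (.leaf (55, 307))) (.leaf (4, 219))) (.node (.node (.leaf (50, 122)) (.leaf (23, 115))) (.leaf (55, 166)))))

def certAVia40 : Janko.Tree (ℕ × ℕ) :=
  (.node (.node (.node (.node (.leaf (0, 0)) (.leaf (55, 276))) (.leaf (0, 0))) (.node (.node (.leaf (0, 0)) (.leaf (52, 195))) (.leaf (5, 316)))) (.node (.node (.node (.leaf (0, 0)) (.leaf (28, 281))) (.leaf (0, 0))) (.node (.node (.leaf (0, 0)) (.leaf (24, 330))) (.leaf (0, 0)))))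

def certAVia41 : Janko.Tree (ℕ × ℕ) :=
  (.node (.node (.node (.node (.leaf (0, 0)) (.leaf (55, 23))) (.leaf (0, 0))) (.node (.node (.leaf (0, 0)) (.leaf (55, 272))) (.leaf (0, 0)))) (.node (.node (.node (.leaf (0, 0)) (.leaf (53, 286))) (.leaf (14, 207))) (.node (.node (.leaf (0, 116)) (.leaf (25, 220))) (.leaf (7, 190)))))

def certAVia42 : Janko.Tree (ℕ × ℕ) :=
  (.node (.node (.node (.node (.leaf (0, 0)) (.leaf (54, 325))) (.leaf (0, 0))) (.node (.node (.leaf (0, 0)) (.leaf (55, 334))) (.leaf (0, 0)))) (.node (.node (.node (.leaf (0, 0)) (.leaf (51, 333))) (.leaf (0, 0))) (.node (.node (.leaf (0, 0)) (.leaf (26, 147))) (.leaf (0, 0)))))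

def certAVia43 : Janko.Tree (ℕ × ℕ) :=
  (.node (.node (.node (.node (.leaf (0, 0)) (.leaf (0, 0))) (.leaf (0, 149))) (.node (.node (.leaf (0, 0)) (.leaf (55, 222))) (.leaf (50, 292)))) (.node (.node (.node (.leaf (0, 0)) (.leaf (55, 351))) (.leaf (6, 261))) (.node (.node (.leaf (0, 0)) (.leaf (27, 220))) (.leaf (0, 0)))))

def certAVia44 : Janko.Tree (ℕ × ℕ) :=
  (.node (.node (.node (.node (.leaf (0, 0)) (.leaf (50, 315))) (.leaf (0, 0))) (.node (.node (.leaf (0, 0)) (.leaf (0, 0))) (.leaf (49, 222)))) (.node (.node (.node (.leaf (0, 0)) (.leaf (50, 310))) (.leaf (0, 0))) (.node (.node (.leaf (0, 0)) (.leaf (28, 135))) (.leaf (54, 236)))))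

def certAVia45 : Janko.Tree (ℕ × ℕ) :=
  (.node (.node (.node (.node (.leaf (0, 0)) (.leaf (0, 278))) (.leaf (0, 0))) (.node (.node (.leaf (0, 86)) (.leaf (45, 316))) (.leaf (0, 214)))) (.node (.node (.node (.leaf (0, 54)) (.leaf (0, 310))) (.leaf (47, 186))) (.node (.node (.leaf (0, 0)) (.leaf (29, 84))) (.leaf (45, 220)))))

def certAVia46 : Janko.Tree (ℕ × ℕ) :=
  (.node (.node (.node (.node (.leaf (0, 0)) (.leaf (43, 259))) (.leaf (49, 288))) (.node (.node (.leaf (55, 28)) (.leaf (48, 301))) (.leaf (53, 358)))) (.node (.node (.node (.leaf (55, 55)) (.leaf (23, 311))) (.leaf (0, 0))) (.node (.node (.leaf (0, 0)) (.leaf (30, 340))) (.leaf (0, 0)))))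

def certAVia47 : Janko.Tree (ℕ × ℕ) :=
  (.node (.node (.node (.node (.leaf (0, 23)) (.leaf (54, 343))) (.leaf (0, 0))) (.node (.node (.leaf (0, 0)) (.leaf (31, 265))) (.leaf (0, 0)))) (.node (.node (.node (.leaf (0, 0)) (.leaf (0, 311))) (.leaf (0, 183))) (.node (.node (.leaf (0, 0)) (.leaf (31, 136))) (.leaf (0, 0)))))

def certAVia48 : Janko.Tree (ℕ × ℕ) :=
  (.node (.node (.node (.node (.leaf (0, 0)) (.leaf (0, 0))) (.leaf (1, 152))) (.node (.node (.leaf (0, 0)) (.leaf (21, 344))) (.leaf (48, 245)))) (.node (.node (.node (.leaf (0, 0)) (.leaf (1, 328))) (.leaf (0, 0))) (.node (.node (.leaf (0, 0)) (.leaf (32, 354))) (.leaf (52, 272)))))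

def certAVia49 : Janko.Tree (ℕ × ℕ) :=
  (.node (.node (.node (.node (.leaf (0, 0)) (.leaf (0, 280))) (.leaf (0, 0))) (.node (.node (.leaf (55, 313)) (.leaf (0, 344))) (.leaf (0, 216)))) (.node (.node (.node (.leaf (0, 0)) (.leaf (0, 0))) (.leaf (0, 0))) (.node (.node (.leaf (0, 0)) (.leaf (33, 347))) (.leaf (55, 30)))))

def certAVia50 : Janko.Tree (ℕ × ℕ) :=
  (.node (.node (.node (.node (.leaf (0, 0)) (.leaf (0, 0))) (.leaf (0, 0))) (.node (.node (.leaf (0, 0)) (.leaf (55, 302))) (.leaf (0, 0)))) (.node (.node (.node (.leaf (0, 0)) (.leaf (52, 331))) (.leaf (3, 112))) (.node (.node (.leaf (0, 0)) (.leaf (34, 324))) (.leaf (0, 0)))))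

def certAVia51 : Janko.Tree (ℕ × ℕ) :=
  (.node (.node (.node (.node (.leaf (0, 0)) (.leaf (25, 312))) (.leaf (55, 352))) (.node (.node (.leaf (52, 322)) (.leaf (3, 264))) (.leaf (0, 0)))) (.node (.node (.node (.leaf (55, 286)) (.leaf (0, 313))) (.leaf (0, 0))) (.node (.node (.leaf (0, 0)) (.leaf (35, 354))) (.leaf (0, 0)))))

def certAVia52 : Janko.Tree (ℕ × ℕ) :=
  (.node (.node (.node (.node (.leaf (0, 0)) (.leaf (55, 279))) (.leaf (0, 0))) (.node (.node (.leaf (0, 0)) (.leaf (55, 236))) (.leaf (0, 0)))) (.node (.node (.node (.leaf (37, 330)) (.leaf (55, 228))) (.leaf (3, 17))) (.node (.node (.leaf (0, 0)) (.leaf (36, 135))) (.leaf (0, 0)))))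

def certAVia53 : Janko.Tree (ℕ × ℕ) :=
  (.node (.node (.node (.node (.leaf (0, 0)) (.leaf (55, 43))) (.leaf (0, 154))) (.node (.node (.leaf (0, 0)) (.leaf (53, 306))) (.leaf (0, 0)))) (.node (.node (.node (.leaf (0, 0)) (.leaf (55, 177))) (.leaf (0, 220))) (.node (.node (.leaf (0, 122)) (.leaf (37, 186))) (.leaf (0, 250)))))

def certAVia54 : Janko.Tree (ℕ × ℕ) :=
  (.node (.node (.node (.node (.leaf (0, 0)) (.leaf (55, 19))) (.leaf (34, 322))) (.node (.node (.leaf (0, 0)) (.leaf (55, 299))) (.leaf (5, 35)))) (.node (.node (.node (.leaf (0, 0)) (.leaf (23, 315))) (.leaf (0, 0))) (.node (.node (.leaf (0, 0)) (.leaf (38, 135))) (.leaf (37, 232)))))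

def certAVia55 : Janko.Tree (ℕ × ℕ) :=
  (.node (.node (.node (.node (.leaf (0, 27)) (.leaf (0, 283))) (.leaf (0, 0))) (.node (.node (.leaf (0, 91)) (.leaf (55, 296))) (.leaf (23, 219)))) (.node (.node (.node (.leaf (0, 59)) (.leaf (6, 321))) (.leaf (0, 187))) (.node (.node (.leaf (0, 0)) (.leaf (39, 250))) (.leaf (55, 251)))))

def certAVia56 : Janko.Tree (ℕ × ℕ) :=
  (.node (.node (.node (.node (.leaf (0, 0)) (.leaf (3, 129))) (.leaf (3, 101))) (.node (.node (.leaf (55, 139)) (.leaf (55, 326))) (.leaf (0, 0)))) (.node (.node (.node (.leaf (49, 352)) (.leaf (6, 186))) (.leaf (3, 75))) (.node (.node (.leaf (0, 0)) (.leaf (40, 272))) (.leaf (41, 257)))))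

def certAVia57 : Janko.Tree (ℕ × ℕ) :=
  (.node (.node (.node (.node (.leaf (0, 0)) (.leaf (55, 322))) (.leaf (48, 244))) (.node (.node (.leaf (55, 186)) (.leaf (53, 340))) (.leaf (3, 52)))) (.node (.node (.node (.leaf (0, 0)) (.leaf (0, 316))) (.leaf (0, 0))) (.node (.node (.leaf (0, 0)) (.leaf (41, 312))) (.leaf (0, 252)))))

def certAVia58 : Janko.Tree (ℕ × ℕ) :=
  (.node (.node (.node (.node (.leaf (0, 0)) (.leaf (55, 285))) (.leaf (55, 54))) (.node (.node (.leaf (0, 0)) (.leaf (55, 237))) (.leaf (0, 0)))) (.node (.node (.node (.leaf (0, 0)) (.leaf (53, 311))) (.leaf (0, 0))) (.node (.node (.leaf (0, 0)) (.leaf (42, 264))) (.leaf (17, 123)))))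

def certAVia59 : Janko.Tree (ℕ × ℕ) :=
  (.node (.node (.node (.node (.leaf (0, 0)) (.leaf (52, 250))) (.leaf (0, 157))) (.node (.node (.leaf (0, 0)) (.leaf (55, 271))) (.leaf (0, 221)))) (.node (.node (.node (.leaf (0, 0)) (.leaf (55, 318))) (.leaf (31, 300))) (.node (.node (.leaf (0, 0)) (.leaf (43, 302))) (.leaf (23, 319)))))

def certAVia60 : Janko.Tree (ℕ × ℕ) :=
  (.node (.node (.node (.node (.leaf (0, 0)) (.leaf (6, 203))) (.leaf (55, 178))) (.node (.node (.leaf (0, 0)) (.leaf (55, 338))) (.leaf (40, 245)))) (.node (.node (.node (.leaf (39, 288)) (.leaf (55, 324))) (.leaf (0, 0))) (.node (.node (.leaf (40, 313)) (.leaf (44, 294))) (.leaf (6, 174)))))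

def certAVia61 : Janko.Tree (ℕ × ℕ) :=
  (.node (.node (.node (.node (.leaf (0, 0)) (.leaf (46, 178))) (.leaf (55, 175))) (.node (.node (.leaf (7, 259)) (.leaf (0, 350))) (.leaf (0, 0)))) (.node (.node (.node (.leaf (0, 0)) (.leaf (55, 203))) (.leaf (0, 0))) (.node (.node (.leaf (0, 0)) (.leaf (45, 186))) (.leaf (0, 0)))))

def certAVia62 : Janko.Tree (ℕ × ℕ) :=
  (.node (.node (.node (.node (.leaf (0, 0)) (.leaf (1, 287))) (.leaf (0, 0))) (.node (.node (.leaf (0, 0)) (.leaf (36, 281))) (.leaf (55, 282)))) (.node (.node (.node (.leaf (1, 136)) (.leaf (4, 319))) (.leaf (16, 42))) (.node (.node (.leaf (55, 156)) (.leaf (46, 272))) (.leaf (54, 358)))))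

def certAVia63 : Janko.Tree (ℕ × ℕ) :=
  (.node (.node (.node (.node (.leaf (3, 120)) (.leaf (55, 97))) (.leaf (0, 0))) (.node (.node (.leaf (0, 0)) (.leaf (50, 219))) (.leaf (55, 266)))) (.node (.node (.node (.leaf (0, 0)) (.leaf (0, 319))) (.leaf (48, 178))) (.node (.node (.leaf (0, 0)) (.leaf (47, 109))) (.leaf (55, 323)))))

def certAVia : Janko.Tree (ℕ × ℕ) :=
  (.node (.node (.node (.node (.node (.node certAVia0 certAVia32) (.node certAVia16 certAVia48)) (.node (.node certAVia8 certAVia40) (.node certAVia24 certAVia56))) (.node (.node (.node certAVia4 certAVia36) (.node certAVia20 certAVia52)) (.node (.node certAVia12 certAVia44) (.node certAVia28 certAVia60)))) (.node (.node (.node (.node certAVia2 certAVia34) (.node certAVia18 certAVia50)) (.node (.node certAVia10 certAVia42) (.node certAVia26 certAVia58))) (.node (.node (.node certAVia6 certAVia38) (.node certAVia22 certAVia54)) (.node (.node certAVia14 certAVia46) (.node certAVia30 certAVia62))))) (.node (.node (.node (.node (.node certAVia1 certAVia33) (.node certAVia17 certAVia49)) (.node (.node certAVia9 certAVia41) (.node certAVia25 certAVia57))) (.node (.node (.node certAVia5 certAVia37) (.node certAVia21 certAVia53)) (.node (.node certAVia13 certAVia45) (.node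 certAVia29 certAVia61)))) (.node (.node (.node (.node certAVia3 certAVia35) (.node certAVia19 certAVia51)) (.node (.node certAVia11 certAVia43) (.node certAVia27 certAVia59))) (.node (.node (.node certAVia7 certAVia39) (.node certAVia23 certAVia55)) (.node (.node certAVia15 certAVia47) (.node certAVia31 certAVia63))))))

/-- Relators. -/
def certARels : List (List Bool) :=
  [
   [true, true, true],
   [false, false, false, false, false, false, false],
   [false, true, false, true, false, true, false, true, false, true, false, true, false, true],
   [false, false, false, true, false, false, true, false, false, false, true, false, false, true],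
   [false, true, true, false, true, true, false, true, true, false, true, true, false, true, true],
   [false, false, false, false, false, true, false, true, false, false, false, false, false, true, false, true],
   [false, false, false, true, true, false, true, true, false, false, false, true, true, false, true, true],
   [false, false, false, true, false, false, false, true, false, false, false, true, false, false, false, true, false, false, false, true],
   [false, false, true, true, false, false, true, true, false, false, true, true, false, false, true, true, false, false, true, true],
   [false, false, true, false, false, true, false, false, true, false, false, true, false, false, true, false, false, true, false, false, true],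
   [false, false, true, false, true, false, true, false, false, true, false, true, false, true, false, false, true, false, true, false, true],
   [false, true, false, true, false, true, true, false, true, false, true, false, true, true, false, true, false, true, false, true, true],
   [false, false, true, false, true, true, false, false, true, false, true, true, false, false, true, false, true, true, false, false, true, false, true, true],
   [false, false, true, true, false, true, false, false, true, true, false, true, false, false, true, true, false, true, false, false, true, true, false, true],
   [false, false, false, false, false, false, false, true, false, false, false, false, false, false, false, true, false, false, false, false, false, false, false, true],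
   [false, false, false, true, false, true, false, true, false, false, false, true, false, true, false, true, false, false, false, true, false, true, false, true],
   [false, false, false, false, false, false, false, true, true, false, false, false, false, false, false, false, true, true, false, false, false, false, false, false, false, true, true],
   [false, false, false, true, false, true, true, false, true, false, false, false, true, false, true, true, false, true, false, false, false, true, false, true, true, false, true],
   [false, true, true, true, false, true, true, true, false, true, true, true, false, true, true, true, false, true, true, true, false, true, true, true, false, true, true, true],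
   [false, true, false, true, true, false, true, false, true, true, false, true, false, true, true, false, true, false, true, true, false, true, false, true, true, false, true, false, true, true],
   [false, false, false, false, false, true, false, false, false, false, false, true, false, false, false, false, false, true, false, false, false, false, false, true, false, false, false, false, false, true],
   [false, false, false, false, true, true, false, false, false, false, true, true, false, false, false, false, true, true, false, false, false, false, true, true, false, false, false, false, true, true],
   [false, false, false, true, false, true, false, false, false, true, false, true, false, false, false, true, false, true, false, false, false, true, false, true, false, false, false, true, false, true],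
   [false, true, true, true, true, true, false, true, true, true, true, true, false, true, true, true, true, true, false, true, true, true, true, true, false, true, true, true, true, true],
   [false, false, false, false, true, false, true, true, false, false, false, false, true, false, true, true, false, false, false, false, true, false, true, true, false, false, false, false, true, false, true, true],
   [false, false, false, false, true, true, false, true, false, false, false, false, true, true, false, true, false, false, false, false, true, true, false, true, false, false, false, false, true, true, false, true],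
   [false, false, true, false, true, false, true, true, false, false, true, false, true, false, true, true, false, false, true, false, true, false, true, true, false, false, true, false, true, false, true, true],
   [false, false, true, true, false, true, false, true, false, false, true, true, false, true, false, true, false, false, true, true, false, true, false, true, false, false, true, true, false, true, false, true],
   [false, false, false, false, true, false, false, false, false, true, false, false, false, false, true, false, false, false, false, true, false, false, false, false, true, false, false, false, false, true, false, false, false, false, true],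
   [false, false, false, true, true, false, false, false, true, true, false, false, false, true, true, false, false, false, true, true, false, false, false, true, true, false, false, false, true, true, false, false, false, true, true],
   [false, false, true, false, true, false, false, true, false, true, false, false, true, false, true, false, false, true, false, true, false, false, true, false, true, false, false, true, false, true, false, false, true, false, true],
   [false, false, true, true, true, false, false, true, true, true, false, false, true, true, true, false, false, true, true, true, false, false, true, true, true, false, false, true, true, true, false, false, true, true, true],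
   [false, true, true, true, true, false, true, true, true, true, false, true, true, true, true, false, true, true, true, true, false, true, true, true, true, false, true, true, true, true, false, true, true, true, true],
   [false, false, false, false, false, false, true, false, false, false, false, false, false, true, false, false, false, false, false, false, true, false, false, false, false, false, false, true, false, false, false, false, false, false, true],
   [false, false, false, true, false, true, true, false, false, false, true, false, true, true, false, false, false, true, false, true, true, false, false, false, true, false, true, true, false, false, false, true, false, true, true],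
   [false, false, false, true, true, false, true, false, false, false, true, true, false, true, false, false, false, true, true, false, true, false, false, false, true, true, false, true, false, false, false, true, true, false, true],
   [false, false, false, true, true, true, true, false, false, false, true, true, true, true, false, false, false, true, true, true, true, false, false, false, true, true, true, true, false, false, false, true, true, true, true],
   [false, false, true, false, true, true, true, false, false, true, false, true, true, true, false, false, true, false, true, true, true, false, false, true, false, true, true, true, false, false, true, false, true, true, true],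
   [false, false, true, true, true, false, true, false, false, true, true, true, false, true, false, false, true, true, true, false, true, false, false, true, true, true, false, true, false, false, true, true, true, false, true],
   [false, false, true, true, true, true, true, false, false, true, true, true, true, true, false, false, true, true, true, true, true, false, false, true, true, true, true, true, false, false, true, true, true, true, true],
   [false, true, true, false, true, true, true, false, true, true, false, true, true, true, false, true, true, false, true, true, true, false, true, true, false, true, true, true, false, true, true, false, true, true, true],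
   [false, false, false, false, true, false, false, true, true, false, false, false, false, true, false, false, true, true, false, false, false, false, true, false, false, true, true, false, false, false, false, true, false, false, true, true],
   [false, false, false, false, true, true, false, false, true, false, false, false, false, true, true, false, false, true, false, false, false, false, true, true, false, false, true, false, false, false, false, true, true, false, false, true],
   [false, false, false, true, false, true, false, true, true, false, false, false, true, false, true, false, true, true, false, false, false, true, false, true, false, true, true, false, false, false, true, false, true, false, true, true],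
   [false, false, false, true, true, false, true, false, true, false, false, false, true, true, false, true, false, true, false, false, false, true, true, false, true, false, true, false, false, false, true, true, false, true, false, true],
   [false, false, true, false, true, true, true, true, true, false, false, true, false, true, true, true, true, true, false, false, true, false, true, true, true, true, true, false, false, true, false, true, true, true, true, true],
   [false, false, true, true, false, true, true, true, true, false, false, true, true, false, true, true, true, true, false, false, true, true, false, true, true, true, true, false, false, true, true, false, true, true, true, true],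
   [false, false, true, true, true, true, false, true, true, false, false, true, true, true, true, false, true, true, false, false, true, true, true, true, false, true, true, false, false, true, true, true, true, false, true, true],
   [false, false, true, true, true, true, true, false, true, false, false, true, true, true, true, true, false, true, false, false, true, true, true, true, true, false, true, false, false, true, true, true, true, true, false, true],
   [false, true, false, true, true, false, true, true, true, false, true, false, true, true, false, true, true, true, false, true, false, true, true, false, true, true, true, false, true, false, true, true, false, true, true, true],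
   [false, true, false, true, true, true, false, true, true, false, true, false, true, true, true, false, true, true, false, true, false, true, true, true, false, true, true, false, true, false, true, true, true, false, true, true],
   [false, false, false, true, false, false, true, true, false, false, false, true, false, false, true, true, false, false, false, true, false, false, true, true, false, false, false, true, false, false, true, true, false, false, false, true, false, false, true, true],
   [false, false, false, true, true, false, false, true, false, false, false, true, true, false, false, true, false, false, false, true, true, false, false, true, false, false, false, true, true, false, false, true, false, false, false, true, true, false, false, true],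
   [false, true, false, true, true, false, true, true, false, true, false, true, true, false, true, true, false, true, false, true, true, false, true, true, false, true, false, true, true, false, true, true, false, true, false, true, true, false, true, true],
   [false, true, false, false, true, true, false, false, false, true, false, true, true, true, false, false, false, false, true, false, true, false, true, true, false, true, false, false, true, true, false, false, false, true, false, true, true, true, false, false, false, false, true, false, true, false, true, true],
   [false, true, false, false, true, true, false, false, false, true, false, true, true, false, true, false, false, true, true, false, false, false, true, false, true, true, true, false, false, false, false, true, false, true, false, true, true, true, false, false, false, false, true, false, true, false, true, true]]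

/-- Combinations. -/
def certACombos : List (List ℤ × List (ℤ × (ℕ × ℕ))) :=
  [
   ([1155, 0, 0, 0, 0, 0],
    [((-1760), (27, 1)), ((-3960), (1, 137)), ((-495), (3, 228)), (605, (5, 108)), ((-1265), (3, 19)), (330, (3, 121))]),
   ([(-2310), 1155, 1155, 16170, 0, (-2310)],
    [(4785, (27, 1)), (8690, (1, 137)), (660, (3, 228)), ((-1705), (5, 108)), (3355, (3, 19)), ((-1210), (3, 121))]),
   ([(-2310), 0, 2310, 16170, 0, (-2310)],
    [((-550), (27, 1)), ((-2530), (1, 137)), ((-990), (6, 19)), ((-330), (3, 228)), (2640, (5, 108)), ((-1210), (3, 121))]),
   ([0, 0, 0, 1155, 0, 0],
    [((-165), (1, 137))]),
   ([(-2310), 0, 1155, 16170, 1155, (-2310)],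
    [(5005, (27, 1)), (11165, (1, 137)), (1155, (3, 228)), ((-1925), (5, 108)), (4235, (3, 19)), ((-1540), (3, 121))]),
   ([(-2310), 0, 1155, 16170, 0, (-1155)],
    [(3960, (27, 1)), (6490, (1, 137)), (825, (3, 228)), ((-1265), (5, 108)), (2750, (3, 19)), ((-935), (3, 121))])]

/-- The certificate. -/
def certA : CentralTable.Cert where
  deg := 100
  m0 := 7
  m1 := 3
  N := 360
  rels := certARels
  P := 6
  g0 := 1625376203700475482972013817876725641914737119441532428627939435014212509363625890645583324347799365518619830818920764806715602631952910484140166178909466244923112910884594834165514721253432231444876311288578958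
  g1 := 1526752939389373430999897796977997979724138390678343852691215786959839697492805390655041775732699908126500528957116517886424681620407534248078314911276300578673922433500408797469069640455482871044067921570866328
  h0 := 1625376203700475482972013817876725641914737119441532428627939435014212509363625890645583324347799365518619830818920764806715602631952910484140166178909466244923112910884594834165514721253432231444876311288578958
  h1 := 1625376203700475482972013817876725641914737119441532428627939435014212509363625890645583324347799365518619830818920764806715602631952910484140166178909466244923112910884594834165514721253432231444876311288578958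
  next := certANext
  lab := certALab
  word := certAWord
  perm := certAPerm
  par := certAPar
  L := certAL
  kind := certAKind
  rank := certARank
  via := certAVia
  pv := [272, 270, 725, 0, 544, 140]
  combos := certACombos

end Cfsg.Agent.Lie.HigmanSimsMult
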