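import Mathlib
import Cfsg.Agent.Lib.Lie.CentralBlocks

/-!
Data for the multiplier of the Higman–Sims group: programs, special words and the signed blocks.
-/

set_option autoImplicit false
set_option maxRecDepth 40000
set_option maxHeartbeats 4000000

namespace Cfsg.Agent.Lie.HigmanSimsMult

open Cfsg.Agent.Lie

/-- The coefficients of the known equality. -/
def pairK : List ℤ := [0, 1155, 1155, 0, 1155, 1155]

/-- The parity of the parameters. -/
def parityG : List ℤ := [1, 0, 0, 1, 0, 1, 0, 1, 1, 1, 1, 1, 1, 0, 0, 0, 0, 1, 1]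

/-- Two permutations of the points of the code which fix two points. -/
def sigma1 : List ℕ := [0, 10, 2, 8, 15, 16, 5, 4, 17, 22, 18, 21, 13, 9, 7, 3, 20, 14, 12, 11, 19, 6, 1, 23]

/-- The second permutation. -/
def sigma2 : List ℕ := [0, 12, 11, 8, 3, 18, 21, 4, 5, 22, 6, 17, 15, 14, 2, 13, 10, 1, 20, 7, 19, 16, 9, 23]

/-- The three basic permutations of the hundred vectors. -/
def basePerms : List ℕ := [784477428734753219630910988547781601112739030528167530120993775266738607227018478348046516477295833964275387601852505971153486975726071611334295450390085198963893101735957918566546102776381466442985991638663169, 3483331357520856462857085842878136351680396259278683259260053511879621762193926759933414829206442815362351823225026224642097782297588144471815428821445727369431960312760717486736421758490872572793314425366249728, 3894269584890592459000393556740601504737531002588386309842696433015568261010547158757425627945109151673384950334636319522787371994883415161122168833142811471651140869952009714096941531347568770965752142259202944]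

/-- Programs for the special elements. -/
def upOps : List (ℕ × ℕ) := [(1, 1), (3, 1), (1, 2), (0, 1), (2, 2), (5, 5), (8, 5), (8, 7), (2, 6), (1, 5), (12, 1), (13, 0), (14, 14), (15, 15), (16, 16), (14, 17), (18, 11), (10, 1), (20, 1), (21, 21), (22, 22), (23, 19), (8, 10), (25, 10), (26, 5), (27, 5), (28, 5), (29, 29), (30, 24), (11, 5), (18, 32), (23, 33), (25, 5), (35, 35), (35, 36), (37, 34), (10, 10), (39, 38), (32, 8), (18, 41), (23, 42), (9, 43), (40, 40), (45, 10), (46, 46), (46, 47), (48, 44), (1, 41), (0, 50), (4, 51), (10, 5), (53, 5), (54, 54), (55, 52), (10, 56), (45, 57), (40, 10), (59, 0), (60, 1), (61, 0), (10, 31), (63, 1), (64, 1), (57, 49), (66, 40), (62, 65), (68, 8), (69, 67), (64, 0), (71, 1), (72, 0), (53, 1), (31, 58), (75, 5), (49, 49), (77, 40), (78, 49), (73, 74), (80, 76), (81, 31), (82, 79), (83, 58), (6, 1), (85, 0), (86, 1), (87, 0), (49, 10), (89, 1), (90, 1), (49, 5), (92, 5), (93, 5), (58, 49), (95, 49), (96, 49), (88, 91), (98, 94), (99, 10), (100, 97), (101, 58), (38, 10), (40, 49),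 (104, 40), (105, 49), (88, 4), (107, 9), (108, 103), (109, 106), (58, 10), (111, 0), (112, 1), (113, 0), (40, 1), (115, 1), (58, 40), (114, 116), (118, 53), (119, 89), (120, 117), (121, 58), (8, 0), (123, 1), (124, 0), (117, 10), (49, 58), (127, 40), (125, 4), (129, 76), (130, 126), (131, 128), (132, 58), (31, 10), (114, 53), (135, 134), (136, 104), (137, 58), (31, 1), (139, 1), (140, 0), (141, 1), (142, 0), (49, 1), (144, 1), (143, 145), (146, 94), (147, 111), (148, 79), (149, 58)]

/-- Their positions. -/
def upRoots : List ℕ := [70, 84, 102, 110, 122, 133, 138, 150]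

/-- Programs for a stabiliser chain. -/
def chainOps : List (ℕ × ℕ) := [(0, 0), (2, 0), (3, 0), (0, 1), (1, 0), (0, 5), (7, 0), (8, 0), (9, 5), (10, 0), (11, 11), (12, 8), (13, 6), (14, 5), (15, 0), (16, 0), (17, 17), (18, 18), (18, 19), (19, 19), (20, 21), (22, 6), (15, 14), (24, 24), (25, 25), (26, 23), (6, 0), (9, 0), (29, 29), (30, 30), (30, 31), (32, 28), (27, 5), (34, 14), (35, 35), (36, 36), (37, 37), (36, 38), (39, 33), (6, 1), (7, 5), (42, 0), (43, 43), (44, 44), (45, 45), (44, 46), (47, 41), (40, 14), (49, 49), (49, 50), (51, 48), (27, 27), (53, 40), (54, 54), (54, 55), (56, 52), (28, 1), (22, 58), (14, 14), (60, 14), (61, 61), (62, 62), (62, 63), (64, 59), (27, 40), (66, 40), (67, 67), (67, 68), (69, 65), (57, 57), (71, 70), (6, 41), (47, 73), (5, 5), (75, 75), (5, 76), (77, 74), (72, 40), (79, 40), (80, 80), (81, 81), (81, 82), (83, 78), (57, 27), (85, 40), (86, 86), (87, 87), (88, 75), (57, 84), (90, 90), (91, 89), (72, 27), (93, 27), (94, 94), (95, 95), (96, 76), (84, 72), (98, 57), (99, 99), (100, 100),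 (101, 97), (72, 72), (103, 102), (1, 1), (16, 16), (16, 106), (107, 105), (57, 14), (109, 109), (110, 110), (111, 111), (110, 112), (113, 108), (40, 57), (115, 27), (116, 116), (117, 117), (118, 114), (104, 72), (120, 120), (121, 121), (122, 119), (5, 0), (14, 0), (27, 0), (40, 0), (72, 0), (84, 0), (104, 0), (124, 0), (125, 0), (127, 0), (57, 0), (134, 0), (128, 0), (92, 0), (137, 0), (130, 0), (123, 0), (140, 0), (75, 0), (40, 5), (143, 0), (57, 5), (145, 0), (72, 5), (147, 0), (104, 5), (149, 0), (123, 5), (151, 0), (60, 0), (27, 14), (154, 0), (84, 14), (156, 0), (0, 27), (158, 0), (14, 27), (160, 0), (40, 27), (162, 0), (93, 0), (104, 27), (165, 0), (0, 40), (167, 0), (5, 40), (169, 0), (14, 40), (171, 0), (0, 72), (173, 0), (14, 72), (175, 0), (27, 72), (177, 0), (57, 72), (179, 0), (120, 0), (123, 72), (182, 0), (0, 84), (184, 0), (5, 84), (186, 0), (40, 84), (188, 0), (90, 0), (0, 104), (191, 0), (5, 104), (193, 0), (123, 104), (195, 0), (131, 0), (132, 0), (139, 0), (142, 0), (34, 0), (201, 0), (146, 0), (148,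 0), (84, 5), (205, 0), (206, 0), (92, 5), (208, 0), (209, 0), (152, 0), (0, 14), (212, 0), (213, 0), (109, 0), (215, 0), (72, 14), (217, 0), (218, 0), (157, 0), (123, 14), (221, 0), (222, 0), (168, 0), (57, 40), (225, 0), (226, 0), (5, 57), (228, 0), (229, 0), (115, 0), (231, 0), (72, 57), (233, 0), (234, 0), (174, 0), (92, 72), (237, 0), (238, 0), (121, 0), (240, 0), (192, 0), (102, 0), (243, 0), (5, 123), (245, 0), (246, 0), (212, 5), (248, 0), (0, 57), (250, 5), (251, 0), (173, 5), (253, 0), (0, 123), (255, 5), (256, 0), (154, 14), (258, 0), (221, 14), (260, 0), (2, 27), (262, 0), (125, 27), (264, 0), (127, 27), (266, 0), (134, 27), (268, 0), (60, 40), (270, 0), (125, 72), (272, 0), (129, 72), (274, 0), (137, 72), (276, 0), (228, 72), (278, 0), (7, 104), (280, 0), (197, 0), (129, 0), (283, 0), (284, 0), (214, 0), (120, 5), (287, 0), (288, 0), (124, 40), (290, 0), (291, 0), (130, 40), (293, 0), (294, 0), (5, 14), (92, 14), (53, 5), (85, 5), (79, 5), (14, 57), (301, 5), (115, 5), (104, 92), (304, 5), (296, 14), (84, 27),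 (92, 27), (40, 40), (85, 27), (307, 27), (165, 27), (72, 84), (313, 27), (40, 92), (315, 27), (304, 27), (92, 57), (104, 57), (84, 84), (92, 84), (123, 84), (319, 57), (304, 57), (57, 104), (325, 57), (71, 84), (72, 92), (237, 72), (104, 123), (123, 123)]

/-- Level 0 of the chain: program positions of the coset representatives. -/
def chain0 : List ℕ := [332, 0, 2, 124, 125, 126, 127, 128, 129, 130, 3, 131, 132, 133, 135, 136, 138, 139, 141, 142, 16, 144, 146, 148, 150, 152, 153, 155, 157, 159, 161, 163, 164, 166, 168, 170, 172, 174, 176, 178, 180, 181, 183, 185, 187, 189, 190, 192, 194, 196, 4, 197, 198, 199, 200, 202, 203, 204, 207, 210, 211, 214, 216, 219, 220, 223, 224, 227, 230, 232, 235, 236, 239, 241, 242, 244, 247, 43, 249, 252, 254, 257, 259, 261, 263, 265, 267, 269, 271, 273, 275, 277, 279, 281, 282, 285, 286, 289, 292, 295]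

/-- Level 1 of the chain: program positions of the coset representatives. -/
def chain1 : List ℕ := [332, 5, 14, 34, 143, 145, 205, 208, 296, 60, 154, 49, 109, 297, 298, 299, 300, 302, 303, 305, 306, 61]

/-- Level 2 of the chain: program positions of the coset representatives. -/
def chain2 : List ℕ := [332, 27, 40, 53, 162, 85, 307, 308, 165, 66, 309, 225, 310, 94, 311, 312, 116, 314, 316, 317, 86]

/-- Level 3 of the chain: program positions of the coset representatives. -/
def chain3 : List ℕ := [332, 57, 84, 71, 233, 318, 319, 90, 313, 320, 321, 322, 323, 324, 326, 327]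

/-- Level 4 of the chain: program positions of the coset representatives. -/
def chain4 : List ℕ := [332, 72, 92, 103, 120, 182, 328, 304, 121, 329]

/-- Level 5 of the chain: program positions of the coset representatives. -/
def chain5 : List ℕ := [332, 104, 123, 195, 330, 331]

/-- The base. -/
def chainBase : List ℕ := [0, 1, 2, 3, 4, 5]

/-- A word for a special element. -/
def wordA5 : List Bool := [true, false, false, true, false, true, true, true, true, false, false, true, false, false]

/-- A word for a special element. -/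
def wordB5 : List Bool := [false, true, true, true, false, false, true, true, false, false, false, true, false, false, true]

/-- A word for a special element. -/
def wordT5 : List Bool := [false, true, true, true, true, false, true, true, false, false, false, false, false, false]

/-- A word for a special element. -/
def wordR8 : List Bool := [true, false, false, false, true]

/-- A word for a special element. -/
def wordC5 : List Bool := [true, false, true, true, true, false, true, false, true, true, true, false]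

/-- A word for the central involution. -/
def wordI : List Bool := [false, true, false, false, true, true, false, false, false, true, false, true, true]

/-- A word for the second involution. -/
def wordS : List Bool := [true, false, false, false, false, true, false, true, false, true, true]

/-- Elements of a small subgroup, as words. -/
def fiveWords : List (List Bool) := [[], [false], [true], [false, false], [false, true], [true, false], [true, true], [false, false, false], [false, false, true], [false, true, false], [false, true, true], [true, false, false], [true, false, true], [true, true, false], [true, true, true], [false, false, false, false], [false, false, false, true], [false, false, true, false], [false, false, true, true], [false, true, false, false], [false, true, false, true], [false, true, true, false], [false, true, true, true], [true, false, false, false], [true, false, true, false], [true, false, true, true], [true, true, false, false], [true, true, false, true], [true, true, true, false], [true, true,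 true, true], [false, false, false, false, true], [false, false, false, true, false], [false, false, false, true, true], [false, false, true, false, false], [false, false, true, false, true], [false, false, true, true, false], [false, false, true, true, true], [false, true, false, false, false], [false, true, false, true, false], [false, true, false, true, true], [false, true, true, false, false], [false, true, true, false, true], [false, true, true, true, false], [false, true, true, true, true], [true, false, false, false, false], [true, false, true, true, false], [true, false, true, true, true], [true, true, false, true, true], [true, true, true, false, true], [true, true, true, true, false], [false, false, false, false, true, false], [false, false, false, false, true, true], [false, false, false, true, false, false], [false, false, false, true, false, true], [false, false, false, true, true, false], [false, false, false, true, true, true], [false, false, true, false, false, false], [false, false, true, false, true, false],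 [false, false, true, false, true, true], [false, false, true, true, false, false], [false, false, true, true, false, true], [false, false, true, true, true, false], [false, false, true, true, true, true], [false, true, false, false, false, false], [false, true, false, true, true, false], [false, true, false, true, true, true], [false, true, true, false, true, true], [false, true, true, true, false, true], [false, true, true, true, true, false], [true, false, true, true, true, true], [true, true, false, true, true, true], [true, true, true, false, true, true], [true, true, true, true, false, true], [false, false, false, false, true, false, false], [false, false, false, false, true, false, true], [false, false, false, false, true, true, false], [false, false, false, false, true, true, true], [false, false, false, true, false, false, false], [false, false, false, true, false, true, false], [false, false, false, true, false, true, true], [false, false, false, true, true, false, false], [false, false, false, true, true, false,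 true], [false, false, false, true, true, true, false], [false, false, false, true, true, true, true], [false, false, true, false, false, false, false], [false, false, true, false, true, true, false], [false, false, true, false, true, true, true], [false, false, true, true, false, true, true], [false, false, true, true, true, false, true], [false, false, true, true, true, true, false], [false, true, false, true, true, true, true], [false, true, true, false, true, true, true], [false, true, true, true, false, true, true], [false, true, true, true, true, false, true], [false, false, false, false, true, false, false, false], [false, false, false, false, true, false, true, false], [false, false, false, false, true, false, true, true], [false, false, false, false, true, true, false, false], [false, false, false, false, true, true, false, true], [false, false, false, false, true, true, true, false], [false, false, false, false, true, true, true, true], [false, false, false, true, false, false, false, false], [false, false, false,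 true, false, true, true, false], [false, false, false, true, false, true, true, true], [false, false, false, true, true, false, true, true], [false, false, false, true, true, true, false, true], [false, false, false, true, true, true, true, false], [false, false, true, false, true, true, true, true], [false, false, true, true, false, true, true, true], [false, false, true, true, true, false, true, true], [false, false, true, true, true, true, false, true], [false, false, false, false, true, false, false, false, false], [false, false, false, false, true, false, true, true, false], [false, false, false, false, true, false, true, true, true], [false, false, false, false, true, true, false, true, true], [false, false, false, false, true, true, true, false, true], [false, false, false, false, true, true, true, true, false], [false, false, false, true, false, true, true, true, true], [false, false, false, true, true, false, true, true, true], [false, false, false, true, true, true, false, true, true], [false, false, false, true,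 true, true, true, false, true], [false, false, false, false, true, false, true, true, true, true], [false, false, false, false, true, true, false, true, true, true], [false, false, false, false, true, true, true, false, true, true], [false, false, false, false, true, true, true, true, false, true]]

/-- Their products with the generators. -/
def fiveNext : List ℕ := [1, 2, 3, 4, 5, 6, 7, 8, 9, 10, 11, 12, 13, 14, 15, 16, 17, 18, 19, 20, 21, 22, 23, 21, 24, 25, 26, 27, 28, 29, 0, 30, 31, 32, 33, 34, 35, 36, 37, 35, 38, 39, 40, 41, 42, 43, 44, 38, 32, 42, 45, 46, 34, 45, 36, 47, 39, 48, 49, 0, 50, 51, 52, 53, 54, 55, 56, 54, 57, 58, 59, 60, 61, 62, 63, 57, 51, 61, 64, 65, 53, 64, 55, 66, 58, 67, 68, 1, 2, 59, 60, 68, 62, 69, 65, 70, 66, 71, 67, 72, 73, 74, 75, 76, 77, 75, 78, 79, 80, 81, 82, 83, 84, 78, 6, 82, 85, 86, 74, 85, 76, 87, 79, 88, 89, 3, 4, 80, 81, 89, 83, 90, 86, 91, 87, 92, 88, 93, 90, 5, 91, 73, 92, 77, 93, 84, 94, 13, 95, 96, 97, 98, 99, 100, 101, 95, 10, 99, 102, 103, 12, 102, 14, 104, 96, 105, 106, 7, 8,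 97, 98, 106, 100, 107, 103, 108, 104, 109, 105, 110, 107, 9, 108, 11, 109, 94, 110, 101, 111, 24, 18, 28, 112, 113, 20, 112, 22, 114, 25, 115, 116, 15, 16, 26, 27, 116, 29, 117, 113, 118, 114, 119, 115, 120, 117, 17, 118, 19, 119, 23, 120, 111, 30, 40, 41, 49, 43, 121, 46, 122, 47, 123, 48, 124, 121, 31, 122, 33, 123, 37, 124, 44, 69, 50, 70, 52, 71, 56, 72, 63]

/-- Elements of a small subgroup, as words. -/
def threeWords : List (List Bool) := [[], [false], [true], [false, false], [false, true], [true, true], [false, false, true], [false, true, true], [false, false, true, true]]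

/-- Their products with the generators. -/
def threeNext : List ℕ := [1, 2, 3, 4, 4, 5, 0, 6, 6, 7, 7, 0, 2, 8, 8, 1, 5, 3]

def signBit0 : Janko.Tree (Bool) :=
  (.node (.node (.node (.node (.node (.leaf false) (.leaf false)) (.leaf false)) (.node (.node (.leaf false) (.leaf false)) (.leaf false))) (.node (.node (.node (.leaf false) (.leaf true)) (.leaf false)) (.node (.leaf false) (.leaf false)))) (.node (.node (.node (.node (.leaf false) (.leaf true)) (.leaf false)) (.node (.node (.leaf false) (.leaf false)) (.leaf false))) (.node (.node (.node (.leaf false) (.leaf true)) (.leaf false)) (.node (.leaf false) (.leaf true)))))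

def signBit1 : Janko.Tree (Bool) :=
  (.node (.node (.node (.node (.node (.leaf false) (.leaf false)) (.leaf false)) (.node (.node (.leaf false) (.leaf false)) (.leaf false))) (.node (.node (.node (.leaf false) (.leaf true)) (.leaf true)) (.node (.leaf false) (.leaf false)))) (.node (.node (.node (.node (.leaf false) (.leaf false)) (.leaf false)) (.node (.node (.leaf false) (.leaf false)) (.leaf false))) (.node (.node (.node (.leaf false) (.leaf false)) (.leaf false)) (.node (.leaf false) (.leaf false)))))

def signBit2 : Janko.Tree (Bool) :=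
  (.node (.node (.node (.node (.node (.leaf false) (.leaf true)) (.leaf false)) (.node (.node (.leaf false) (.leaf true)) (.leaf false))) (.node (.node (.node (.leaf true) (.leaf false)) (.leaf false)) (.node (.leaf false) (.leaf false)))) (.node (.node (.node (.node (.leaf false) (.leaf false)) (.leaf false)) (.node (.node (.leaf false) (.leaf true)) (.leaf false))) (.node (.node (.node (.leaf false) (.leaf false)) (.leaf false)) (.node (.leaf false) (.leaf false)))))

def signBit3 : Janko.Tree (Bool) :=
  (.node (.node (.node (.node (.node (.leaf false) (.leaf true)) (.leaf false)) (.node (.node (.leaf false) (.leaf false)) (.leaf false))) (.node (.node (.node (.leaf false) (.leaf false)) (.leaf false)) (.node (.leaf false) (.leaf false)))) (.node (.node (.node (.node (.leaf false) (.leaf false)) (.leaf false)) (.node (.node (.leaf false) (.leaf false)) (.leaf false))) (.node (.node (.node (.leaf false) (.leaf false)) (.leaf true)) (.node (.leaf false) (.leaf false)))))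

def signBit4 : Janko.Tree (Bool) :=
  (.node (.node (.node (.node (.node (.leaf false) (.leaf true)) (.leaf true)) (.node (.node (.leaf true) (.leaf true)) (.leaf true))) (.node (.node (.node (.leaf false) (.leaf true)) (.leaf false)) (.node (.leaf false) (.leaf false)))) (.node (.node (.node (.node (.leaf false) (.leaf false)) (.leaf false)) (.node (.node (.leaf true) (.leaf true)) (.leaf true))) (.node (.node (.node (.leaf false) (.leaf false)) (.leaf true)) (.node (.leaf false) (.leaf false)))))

def signBit5 : Janko.Tree (Bool) :=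
  (.node (.node (.node (.node (.node (.leaf false) (.leaf false)) (.leaf false)) (.node (.node (.leaf false) (.leaf false)) (.leaf false))) (.node (.node (.node (.leaf false) (.leaf true)) (.leaf false)) (.node (.leaf false) (.leaf false)))) (.node (.node (.node (.node (.leaf false) (.leaf true)) (.leaf false)) (.node (.node (.leaf false) (.leaf false)) (.leaf false))) (.node (.node (.node (.leaf false) (.leaf true)) (.leaf false)) (.node (.leaf true) (.leaf false)))))

def signBit6 : Janko.Tree (Bool) :=
  (.node (.node (.node (.node (.node (.leaf false) (.leaf true)) (.leaf true)) (.node (.node (.leaf true) (.leaf true)) (.leaf false))) (.node (.node (.node (.leaf false) (.leaf false)) (.leaf false)) (.node (.leaf false) (.leaf true)))) (.node (.node (.node (.node (.leaf false) (.leaf false)) (.leaf false)) (.node (.node (.leaf false) (.leaf false)) (.leaf false))) (.node (.node (.node (.leaf false) (.leaf false)) (.leaf false)) (.node (.leaf false) (.leaf false)))))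

def signBit7 : Janko.Tree (Bool) :=
  (.node (.node (.node (.node (.node (.leaf false) (.leaf false)) (.leaf false)) (.node (.node (.leaf false) (.leaf false)) (.leaf false))) (.node (.node (.node (.leaf false) (.leaf false)) (.leaf false)) (.node (.leaf false) (.leaf false)))) (.node (.node (.node (.node (.leaf false) (.leaf false)) (.leaf false)) (.node (.node (.leaf false) (.leaf false)) (.leaf false))) (.node (.node (.node (.leaf false) (.leaf false)) (.leaf false)) (.node (.leaf false) (.leaf true)))))

def signBit8 : Janko.Tree (Bool) :=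
  (.node (.node (.node (.node (.node (.leaf false) (.leaf false)) (.leaf true)) (.node (.node (.leaf false) (.leaf true)) (.leaf true))) (.node (.node (.node (.leaf false) (.leaf false)) (.leaf true)) (.node (.leaf true) (.leaf false)))) (.node (.node (.node (.node (.leaf false) (.leaf false)) (.leaf true)) (.node (.node (.leaf true) (.leaf false)) (.leaf false))) (.node (.node (.node (.leaf false) (.leaf true)) (.leaf false)) (.node (.leaf true) (.leaf true)))))

def signBit9 : Janko.Tree (Bool) :=
  (.node (.node (.node (.node (.node (.leaf false) (.leaf true)) (.leaf false)) (.node (.node (.leaf true) (.leaf false)) (.leaf true))) (.node (.node (.node (.leaf false) (.leaf true)) (.leaf false)) (.node (.leaf false) (.leaf true)))) (.node (.node (.node (.node (.leaf false) (.leaf false)) (.leaf false)) (.node (.node (.leaf false) (.leaf true)) (.leaf false))) (.node (.node (.node (.leaf false) (.leaf false)) (.leaf false)) (.node (.leaf false) (.leaf false)))))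

def signBit10 : Janko.Tree (Bool) :=
  (.node (.node (.node (.node (.node (.leaf false) (.leaf true)) (.leaf true)) (.node (.node (.leaf false) (.leaf false)) (.leaf false))) (.node (.node (.node (.leaf false) (.leaf true)) (.leaf false)) (.node (.leaf false) (.leaf false)))) (.node (.node (.node (.node (.leaf false) (.leaf false)) (.leaf false)) (.node (.node (.leaf false) (.leaf false)) (.leaf false))) (.node (.node (.node (.leaf true) (.leaf true)) (.leaf false)) (.node (.leaf false) (.leaf true)))))

def signBit11 : Janko.Tree (Bool) :=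
  (.node (.node (.node (.node (.node (.leaf false) (.leaf false)) (.leaf false)) (.node (.node (.leaf false) (.leaf false)) (.leaf true))) (.node (.node (.node (.leaf false) (.leaf false)) (.leaf false)) (.node (.leaf false) (.leaf false)))) (.node (.node (.node (.node (.leaf false) (.leaf false)) (.leaf false)) (.node (.node (.leaf false) (.leaf false)) (.leaf false))) (.node (.node (.node (.leaf false) (.leaf false)) (.leaf true)) (.node (.leaf false) (.leaf true)))))

def signBit12 : Janko.Tree (Bool) :=
  (.node (.node (.node (.node (.node (.leaf false) (.leaf true)) (.leaf false)) (.node (.node (.leaf true) (.leaf true)) (.leaf false))) (.node (.node (.node (.leaf true) (.leaf true)) (.leaf false)) (.node (.leaf false) (.leaf true)))) (.node (.node (.node (.node (.leaf false) (.leaf false)) (.leaf false)) (.node (.node (.leaf false) (.leaf false)) (.leaf false))) (.node (.node (.node (.leaf false) (.leaf true)) (.leaf false)) (.node (.leaf false) (.leaf false)))))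

def signBit13 : Janko.Tree (Bool) :=
  (.node (.node (.node (.node (.node (.leaf false) (.leaf false)) (.leaf false)) (.node (.node (.leaf false) (.leaf false)) (.leaf false))) (.node (.node (.node (.leaf false) (.leaf false)) (.leaf false)) (.node (.leaf false) (.leaf true)))) (.node (.node (.node (.node (.leaf false) (.leaf false)) (.leaf false)) (.node (.node (.leaf false) (.leaf true)) (.leaf false))) (.node (.node (.node (.leaf false) (.leaf false)) (.leaf true)) (.node (.leaf false) (.leaf false)))))

def signBit14 : Janko.Tree (Bool) :=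
  (.node (.node (.node (.node (.node (.leaf false) (.leaf false)) (.leaf false)) (.node (.node (.leaf false) (.leaf true)) (.leaf true))) (.node (.node (.node (.leaf false) (.leaf false)) (.leaf false)) (.node (.leaf false) (.leaf true)))) (.node (.node (.node (.node (.leaf false) (.leaf true)) (.leaf true)) (.node (.node (.leaf false) (.leaf false)) (.leaf false))) (.node (.node (.node (.leaf false) (.leaf true)) (.leaf false)) (.node (.leaf false) (.leaf false)))))

def signBit15 : Janko.Tree (Bool) :=
  (.node (.node (.node (.node (.node (.leaf false) (.leaf false)) (.leaf false)) (.node (.node (.leaf false) (.leaf false)) (.leaf false))) (.node (.node (.node (.leaf false) (.leaf true)) (.leaf false)) (.node (.leaf false) (.leaf true)))) (.node (.node (.node (.node (.leaf false) (.leaf false)) (.leaf false)) (.node (.node (.leaf false) (.leaf false)) (.leaf false))) (.node (.node (.node (.leaf false) (.leaf false)) (.leaf false)) (.node (.leaf false) (.leaf false)))))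

def signBit16 : Janko.Tree (Bool) :=
  (.node (.node (.node (.node (.node (.leaf false) (.leaf false)) (.leaf false)) (.node (.node (.leaf false) (.leaf false)) (.leaf false))) (.node (.node (.node (.leaf true) (.leaf true)) (.leaf false)) (.node (.leaf false) (.leaf false)))) (.node (.node (.node (.node (.leaf false) (.leaf true)) (.leaf true)) (.node (.node (.leaf false) (.leaf true)) (.leaf false))) (.node (.node (.node (.leaf false) (.leaf false)) (.leaf false)) (.node (.leaf false) (.leaf true)))))

def signBit17 : Janko.Tree (Bool) :=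
  (.node (.node (.node (.node (.node (.leaf false) (.leaf true)) (.leaf false)) (.node (.node (.leaf false) (.leaf false)) (.leaf true))) (.node (.node (.node (.leaf false) (.leaf false)) (.leaf false)) (.node (.leaf false) (.leaf true)))) (.node (.node (.node (.node (.leaf false) (.leaf false)) (.leaf false)) (.node (.node (.leaf true) (.leaf false)) (.leaf false))) (.node (.node (.node (.leaf false) (.leaf true)) (.leaf false)) (.node (.leaf true) (.leaf false)))))

def signBit18 : Janko.Tree (Bool) :=
  (.node (.node (.node (.node (.node (.leaf false) (.leaf false)) (.leaf false)) (.node (.node (.leaf false) (.leaf false)) (.leaf true))) (.node (.node (.node (.leaf false) (.leaf false)) (.leaf true)) (.node (.leaf false) (.leaf false)))) (.node (.node (.node (.node (.leaf false) (.leaf false)) (.leaf false)) (.node (.node (.leaf false) (.leaf false)) (.leaf false))) (.node (.node (.node (.leaf false) (.leaf false)) (.leaf true)) (.node (.leaf false) (.leaf false)))))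

def signBit19 : Janko.Tree (Bool) :=
  (.node (.node (.node (.node (.node (.leaf false) (.leaf false)) (.leaf true)) (.node (.node (.leaf false) (.leaf false)) (.leaf false))) (.node (.node (.node (.leaf false) (.leaf true)) (.leaf false)) (.node (.leaf false) (.leaf false)))) (.node (.node (.node (.node (.leaf false) (.leaf true)) (.leaf false)) (.node (.node (.leaf false) (.leaf false)) (.leaf false))) (.node (.node (.node (.leaf false) (.leaf false)) (.leaf false)) (.node (.leaf false) (.leaf false)))))

def signBit20 : Janko.Tree (Bool) :=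
  (.node (.node (.node (.node (.node (.leaf false) (.leaf false)) (.leaf false)) (.node (.node (.leaf false) (.leaf true)) (.leaf false))) (.node (.node (.node (.leaf false) (.leaf false)) (.leaf false)) (.node (.leaf false) (.leaf false)))) (.node (.node (.node (.node (.leaf false) (.leaf false)) (.leaf false)) (.node (.node (.leaf false) (.leaf false)) (.leaf false))) (.node (.node (.node (.leaf false) (.leaf false)) (.leaf false)) (.node (.leaf false) (.leaf false)))))

def signBit21 : Janko.Tree (Bool) :=
  (.node (.node (.node (.node (.node (.leaf false) (.leaf true)) (.leaf false)) (.node (.node (.leaf false) (.leaf true)) (.leaf false))) (.node (.node (.node (.leaf false) (.leaf true)) (.leaf false)) (.node (.leaf false) (.leaf false)))) (.node (.node (.node (.node (.leaf false) (.leaf false)) (.leaf true)) (.node (.node (.leaf false) (.leaf false)) (.leaf true))) (.node (.node (.node (.leaf false) (.leaf false)) (.leaf false)) (.node (.leaf false) (.leaf true)))))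

def signBit22 : Janko.Tree (Bool) :=
  (.node (.node (.node (.node (.node (.leaf false) (.leaf false)) (.leaf false)) (.node (.node (.leaf false) (.leaf true)) (.leaf true))) (.node (.node (.node (.leaf false) (.leaf false)) (.leaf false)) (.node (.leaf false) (.leaf false)))) (.node (.node (.node (.node (.leaf false) (.leaf true)) (.leaf false)) (.node (.node (.leaf false) (.leaf false)) (.leaf false))) (.node (.node (.node (.leaf false) (.leaf false)) (.leaf false)) (.node (.leaf false) (.leaf false)))))

def signBit23 : Janko.Tree (Bool) :=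
  (.node (.node (.node (.node (.node (.leaf false) (.leaf true)) (.leaf false)) (.node (.node (.leaf false) (.leaf false)) (.leaf false))) (.node (.node (.node (.leaf false) (.leaf true)) (.leaf false)) (.node (.leaf false) (.leaf false)))) (.node (.node (.node (.node (.leaf false) (.leaf true)) (.leaf false)) (.node (.node (.leaf false) (.leaf true)) (.leaf false))) (.node (.node (.node (.leaf false) (.leaf true)) (.leaf false)) (.node (.leaf false) (.leaf false)))))

def signBit24 : Janko.Tree (Bool) :=
  (.node (.node (.node (.node (.node (.leaf false) (.leaf false)) (.leaf false)) (.node (.node (.leaf true) (.leaf false)) (.leaf false))) (.node (.node (.node (.leaf false) (.leaf true)) (.leaf false)) (.node (.leaf false) (.leaf true)))) (.node (.node (.node (.node (.leaf false) (.leaf false)) (.leaf false)) (.node (.node (.leaf false) (.leaf true)) (.leaf false))) (.node (.node (.node (.leaf false) (.leaf false)) (.leaf false)) (.node (.leaf false) (.leaf false)))))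

def signBit25 : Janko.Tree (Bool) :=
  (.node (.node (.node (.node (.node (.leaf false) (.leaf true)) (.leaf false)) (.node (.node (.leaf false) (.leaf false)) (.leaf false))) (.node (.node (.node (.leaf false) (.leaf true)) (.leaf false)) (.node (.leaf false) (.leaf false)))) (.node (.node (.node (.node (.leaf false) (.leaf false)) (.leaf false)) (.node (.node (.leaf false) (.leaf false)) (.leaf false))) (.node (.node (.node (.leaf false) (.leaf false)) (.leaf false)) (.node (.leaf false) (.leaf true)))))

def signBit26 : Janko.Tree (Bool) :=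
  (.node (.node (.node (.node (.node (.leaf false) (.leaf true)) (.leaf false)) (.node (.node (.leaf false) (.leaf false)) (.leaf false))) (.node (.node (.node (.leaf true) (.leaf false)) (.leaf true)) (.node (.leaf false) (.leaf false)))) (.node (.node (.node (.node (.leaf false) (.leaf false)) (.leaf true)) (.node (.node (.leaf false) (.leaf true)) (.leaf false))) (.node (.node (.node (.leaf false) (.leaf true)) (.leaf false)) (.node (.leaf true) (.leaf false)))))

def signBit27 : Janko.Tree (Bool) :=
  (.node (.node (.node (.node (.node (.leaf false) (.leaf false)) (.leaf false)) (.node (.node (.leaf false) (.leaf true)) (.leaf false))) (.node (.node (.node (.leaf false) (.leaf false)) (.leaf false)) (.node (.leaf false) (.leaf true)))) (.node (.node (.node (.node (.leaf false) (.leaf false)) (.leaf false)) (.node (.node (.leaf false) (.leaf false)) (.leaf true))) (.node (.node (.node (.leaf false) (.leaf false)) (.leaf false)) (.node (.leaf false) (.leaf false)))))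

def signBit28 : Janko.Tree (Bool) :=
  (.node (.node (.node (.node (.node (.leaf true) (.leaf true)) (.leaf true)) (.node (.node (.leaf false) (.leaf false)) (.leaf true))) (.node (.node (.node (.leaf false) (.leaf false)) (.leaf false)) (.node (.leaf false) (.leaf false)))) (.node (.node (.node (.node (.leaf false) (.leaf false)) (.leaf true)) (.node (.node (.leaf false) (.leaf false)) (.leaf false))) (.node (.node (.node (.leaf false) (.leaf false)) (.leaf false)) (.node (.leaf false) (.leaf false)))))

def signBit29 : Janko.Tree (Bool) :=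
  (.node (.node (.node (.node (.node (.leaf false) (.leaf false)) (.leaf true)) (.node (.node (.leaf false) (.leaf false)) (.leaf false))) (.node (.node (.node (.leaf false) (.leaf false)) (.leaf true)) (.node (.leaf false) (.leaf false)))) (.node (.node (.node (.node (.leaf false) (.leaf false)) (.leaf false)) (.node (.node (.leaf false) (.leaf false)) (.leaf false))) (.node (.node (.node (.leaf false) (.leaf false)) (.leaf false)) (.node (.leaf true) (.leaf false)))))

def signBit30 : Janko.Tree (Bool) :=
  (.node (.node (.node (.node (.node (.leaf false) (.leaf false)) (.leaf false)) (.node (.node (.leaf false) (.leaf true)) (.leaf false))) (.node (.node (.node (.leaf false) (.leaf false)) (.leaf false)) (.node (.leaf true) (.leaf false)))) (.node (.node (.node (.node (.leaf false) (.leaf false)) (.leaf false)) (.node (.node (.leaf false) (.leaf true)) (.leaf false))) (.node (.node (.node (.leaf false) (.leaf true)) (.leaf false)) (.node (.leaf true) (.leaf false)))))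

def signBit31 : Janko.Tree (Bool) :=
  (.node (.node (.node (.node (.node (.leaf false) (.leaf false)) (.leaf false)) (.node (.node (.leaf true) (.leaf false)) (.leaf false))) (.node (.node (.node (.leaf false) (.leaf false)) (.leaf false)) (.node (.leaf false) (.leaf false)))) (.node (.node (.node (.node (.leaf false) (.leaf false)) (.leaf false)) (.node (.node (.leaf true) (.leaf false)) (.leaf false))) (.node (.node (.node (.leaf false) (.leaf false)) (.leaf true)) (.node (.leaf true) (.leaf false)))))

def signBit : Janko.Tree (Bool) :=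
  (.node (.node (.node (.node (.node signBit0 signBit16) (.node signBit8 signBit24)) (.node (.node signBit4 signBit20) (.node signBit12 signBit28))) (.node (.node (.node signBit2 signBit18) (.node signBit10 signBit26)) (.node (.node signBit6 signBit22) (.node signBit14 signBit30)))) (.node (.node (.node (.node signBit1 signBit17) (.node signBit9 signBit25)) (.node (.node signBit5 signBit21) (.node signBit13 signBit29))) (.node (.node (.node signBit3 signBit19) (.node signBit11 signBit27)) (.node (.node signBit7 signBit23) (.node signBit15 signBit31)))))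

def signBlk0 : Janko.Tree (List ℕ) :=
  (.node (.node (.node (.node (.node (.leaf [22, 30, 33, 63, 70, 81, 99, 113, 136, 153, 205, 223, 228, 241, 263, 280, 317, 321, 357, 378, 382, 387, 397, 399, 401, 409, 412, 418, 441, 442, 447, 455, 467, 472, 488, 497, 505, 522, 534, 541, 564, 569, 572, 576, 596, 610, 620, 631, 632, 703]) (.leaf [2, 8, 18, 21, 41, 43, 60, 97, 109, 115, 125, 128, 141, 145, 151, 165, 166, 169, 186, 191, 195, 198, 221, 234, 246, 308, 322, 327, 334, 359, 370, 390, 418, 430, 456, 458, 470, 475, 504, 527, 546, 592, 615, 616, 618, 637, 681, 688, 691, 700])) (.leaf [3, 37, 41, 43, 61, 76, 93, 109, 124, 133, 136, 146, 159, 160, 163, 180, 194, 210, 234, 239, 247, 253, 254, 276, 281, 303, 313, 330, 334, 351, 364, 366, 384, 402, 426, 432, 452, 457, 524, 537, 563, 574, 595, 606, 623, 666, 668, 673, 691, 699])) (.node (.node (.leaf [16, 45, 50, 59, 74, 85, 113, 123, 171, 198, 204, 218, 227, 236, 245, 261, 304, 343, 364, 381, 396, 415, 442, 447, 462, 469, 503, 505, 517, 518, 531, 535, 540, 550, 568, 580, 586, 594,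 597, 610, 627, 632, 645, 650, 653, 655, 660, 665, 684, 694]) (.leaf [6, 20, 31, 35, 36, 55, 63, 65, 66, 99, 107, 113, 115, 117, 135, 143, 154, 179, 189, 193, 217, 229, 241, 248, 254, 260, 272, 279, 284, 297, 333, 356, 378, 386, 399, 400, 410, 422, 428, 450, 461, 501, 509, 521, 532, 548, 609, 628, 675, 702])) (.leaf [15, 18, 23, 27, 30, 60, 80, 91, 115, 129, 144, 150, 152, 189, 212, 220, 228, 262, 264, 288, 297, 298, 306, 339, 344, 357, 359, 360, 363, 387, 391, 401, 473, 475, 486, 493, 499, 500, 504, 524, 532, 545, 566, 570, 603, 609, 617, 620, 627, 628]))) (.node (.node (.node (.leaf [4, 13, 16, 75, 76, 78, 105, 126, 130, 140, 156, 201, 204, 232, 282, 310, 314, 324, 336, 367, 370, 372, 409, 413, 435, 441, 447, 448, 454, 482, 491, 497, 515, 516, 519, 533, 553, 565, 580, 596, 611, 620, 635, 644, 648, 650, 660, 682, 696, 702]) (.leaf [4, 13, 14, 27, 30, 49, 56, 60, 65, 89, 103, 104, 114, 116, 126, 128, 141, 185, 191, 220, 278, 289, 307, 329, 333, 337, 354, 373, 406, 408, 410, 482, 485, 501, 509, 526, 531, 532, 547, 549, 566,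 574, 615, 636, 644, 648, 674, 689, 692, 700])) (.leaf [5, 9, 44, 73, 89, 97, 102, 118, 173, 197, 198, 205, 219, 220, 231, 261, 309, 313, 327, 329, 336, 345, 369, 371, 373, 380, 394, 404, 444, 448, 456, 463, 478, 507, 517, 553, 615, 619, 630, 634, 641, 644, 660, 665, 675, 679, 688, 694, 696, 701])) (.node (.leaf [16, 22, 33, 39, 44, 80, 174, 193, 204, 211, 212, 220, 225, 230, 258, 264, 271, 311, 318, 320, 324, 339, 376, 393, 394, 401, 412, 421, 439, 443, 445, 447, 449, 466, 469, 483, 498, 506, 541, 571, 580, 587, 602, 621, 626, 634, 660, 664, 679, 691]) (.leaf [2, 9, 37, 54, 57, 60, 65, 81, 89, 99, 103, 114, 125, 129, 138, 152, 167, 174, 211, 213, 221, 246, 253, 265, 281, 297, 320, 326, 330, 341, 357, 379, 381, 400, 402, 409, 411, 419, 428, 444, 456, 506, 541, 542, 545, 563, 631, 634, 675, 692])))) (.node (.node (.node (.node (.leaf [0, 39, 40, 46, 57, 68, 70, 82, 93, 110, 120, 159, 200, 217, 219, 250, 269, 277, 290, 298, 304, 331, 348, 351, 367, 383, 388, 406, 424, 438, 451, 477, 480, 487, 510, 537, 559, 582, 585, 590,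 598, 618, 639, 656, 666, 669, 670, 672, 677, 699]) (.leaf [1, 32, 35, 36, 65, 67, 72, 74, 83, 98, 105, 130, 133, 138, 155, 157, 158, 180, 207, 217, 232, 234, 252, 275, 280, 282, 285, 290, 299, 331, 346, 357, 366, 383, 399, 403, 419, 423, 424, 440, 455, 481, 497, 534, 542, 579, 606, 634, 699, 702])) (.leaf [31, 48, 69, 85, 103, 119, 122, 134, 155, 171, 173, 179, 189, 200, 218, 237, 245, 254, 260, 296, 300, 307, 328, 342, 345, 360, 388, 391, 395, 404, 407, 425, 451, 477, 487, 493, 500, 509, 549, 566, 584, 600, 626, 632, 639, 644, 659, 667, 688, 694])) (.node (.node (.leaf [11, 16, 25, 45, 59, 116, 122, 126, 129, 140, 165, 169, 190, 198, 205, 266, 272, 283, 290, 293, 308, 310, 316, 318, 329, 337, 338, 352, 375, 420, 445, 458, 470, 483, 490, 502, 516, 518, 531, 539, 553, 561, 574, 583, 587, 614, 654, 679, 690, 701]) (.leaf [27, 29, 61, 64, 66, 71, 73, 88, 92, 102, 106, 109, 115, 151, 156, 162, 186, 217, 230, 235, 255, 257, 260, 265, 286, 290, 326, 331, 344, 357, 363, 364, 373, 391, 402, 404, 407, 424, 428, 456, 476, 487, 501,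 547, 549, 619, 629, 673, 699, 700])) (.leaf [2, 7, 19, 21, 28, 66, 77, 86, 108, 130, 133, 147, 151, 154, 177, 180, 189, 194, 206, 224, 234, 255, 257, 284, 293, 301, 309, 343, 356, 359, 360, 389, 391, 405, 422, 493, 494, 498, 500, 520, 525, 551, 576, 592, 606, 608, 636, 659, 686, 699]))) (.node (.node (.node (.leaf [21, 43, 55, 62, 72, 108, 132, 136, 142, 172, 176, 180, 203, 216, 231, 241, 247, 252, 254, 257, 308, 320, 326, 353, 357, 368, 371, 402, 416, 418, 422, 428, 456, 463, 474, 478, 488, 494, 512, 522, 535, 546, 573, 579, 593, 622, 630, 669, 674, 702]) (.leaf [23, 26, 28, 33, 46, 51, 63, 67, 91, 98, 147, 153, 175, 177, 183, 188, 193, 207, 208, 212, 223, 229, 257, 265, 285, 287, 320, 326, 357, 359, 375, 392, 402, 410, 417, 421, 423, 425, 428, 442, 448, 496, 498, 523, 543, 554, 556, 578, 625, 628])) (.leaf [25, 28, 33, 47, 58, 63, 71, 101, 153, 209, 214, 223, 270, 304, 316, 339, 355, 393, 396, 420, 426, 431, 437, 438, 442, 444, 446, 451, 466, 469, 470, 481, 491, 511, 531, 555, 569, 577, 582, 587, 589, 591, 613, 624, 652,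 655, 656, 669, 671, 695])) (.node (.leaf [14, 17, 32, 35, 39, 81, 91, 130, 139, 145, 233, 267, 269, 270, 290, 294, 299, 304, 310, 316, 318, 336, 339, 347, 362, 367, 382, 387, 447, 455, 471, 473, 503, 511, 513, 514, 518, 524, 535, 569, 584, 599, 611, 621, 627, 654, 657, 664, 670, 685]) (.leaf [14, 19, 26, 51, 87, 90, 105, 126, 129, 130, 183, 185, 191, 206, 209, 232, 235, 266, 274, 282, 293, 295, 298, 311, 322, 328, 347, 359, 361, 371, 374, 423, 432, 434, 458, 471, 473, 497, 499, 518, 526, 532, 543, 558, 616, 637, 642, 646, 649, 686])))))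

def signBlk1 : Janko.Tree (List ℕ) :=
  (.node (.node (.node (.node (.node (.leaf [4, 38, 44, 52, 57, 70, 80, 88, 98, 111, 120, 167, 185, 196, 218, 279, 310, 315, 317, 336, 348, 352, 367, 393, 397, 408, 444, 447, 467, 483, 502, 506, 511, 517, 531, 540, 563, 564, 567, 583, 605, 611, 615, 630, 652, 656, 661, 676, 684, 692]) (.leaf [18, 20, 22, 43, 60, 76, 79, 95, 127, 132, 137, 147, 148, 177, 182, 194, 228, 250, 257, 295, 321, 323, 325, 359, 361, 371, 384, 392, 395, 413, 432, 435, 465, 475, 497, 498, 504, 522, 536, 564, 571, 573, 577, 580, 602, 621, 623, 680, 682, 690])) (.leaf [3, 20, 41, 55, 65, 69, 83, 85, 92, 97, 150, 154, 160, 167, 180, 198, 216, 219, 226, 235, 253, 255, 260, 269, 273, 285, 296, 327, 331, 343, 368, 379, 381, 389, 405, 414, 456, 461, 469, 477, 479, 480, 534, 537, 593, 594, 635, 647, 651, 688])) (.node (.node (.leaf [18, 76, 86, 104, 132, 155, 159, 200, 206, 229, 232, 238, 258, 263, 280, 299, 301, 306, 335, 345, 351, 361, 382, 433, 434, 440, 454, 464, 473, 489, 493, 515, 519, 525, 537, 545, 561, 564,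 577, 584, 599, 601, 620, 632, 638, 642, 657, 666, 697, 699]) (.leaf [0, 3, 12, 21, 25, 36, 41, 49, 54, 64, 108, 113, 116, 128, 155, 160, 165, 175, 180, 190, 199, 202, 215, 243, 246, 253, 274, 282, 293, 318, 333, 340, 346, 353, 419, 422, 432, 453, 460, 494, 526, 538, 575, 607, 609, 637, 647, 675, 687, 692])) (.leaf [25, 26, 45, 48, 52, 60, 81, 88, 94, 108, 128, 160, 174, 182, 184, 191, 212, 230, 247, 266, 274, 288, 313, 326, 344, 352, 365, 371, 375, 392, 403, 416, 433, 474, 482, 499, 507, 523, 563, 602, 615, 617, 623, 629, 672, 675, 676, 679, 691, 700]))) (.node (.node (.node (.leaf [20, 68, 76, 78, 85, 113, 123, 132, 135, 136, 142, 149, 155, 157, 158, 161, 179, 203, 243, 253, 255, 283, 284, 332, 334, 361, 385, 398, 401, 441, 453, 479, 494, 514, 523, 534, 551, 564, 577, 581, 595, 597, 600, 606, 633, 644, 650, 653, 659, 702]) (.leaf [11, 22, 38, 44, 46, 53, 78, 90, 111, 145, 166, 169, 183, 190, 208, 213, 242, 248, 250, 266, 270, 277, 295, 298, 304, 311, 316, 323, 339, 358, 377, 389, 392, 421, 431, 459, 464, 475, 511, 528,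 566, 570, 579, 583, 617, 618, 625, 629, 676, 691])) (.leaf [77, 94, 106, 108, 112, 123, 135, 136, 143, 147, 159, 163, 189, 229, 237, 239, 241, 245, 255, 256, 263, 287, 288, 300, 345, 357, 361, 364, 375, 415, 417, 437, 443, 462, 465, 486, 488, 504, 521, 522, 525, 549, 550, 557, 562, 603, 611, 623, 629, 633])) (.node (.leaf [3, 18, 41, 42, 46, 57, 82, 125, 147, 153, 176, 180, 206, 214, 222, 253, 280, 321, 322, 326, 341, 342, 378, 383, 396, 418, 423, 432, 439, 471, 481, 489, 496, 537, 539, 542, 555, 558, 573, 576, 588, 592, 636, 638, 643, 647, 669, 680, 696, 698]) (.leaf [0, 11, 26, 39, 56, 89, 91, 98, 102, 105, 129, 138, 157, 173, 182, 200, 206, 213, 233, 264, 267, 291, 299, 310, 328, 337, 344, 402, 421, 424, 448, 476, 482, 501, 506, 517, 544, 557, 561, 566, 601, 618, 620, 626, 635, 649, 656, 667, 676, 679])))) (.node (.node (.node (.node (.leaf [0, 5, 42, 58, 72, 74, 82, 92, 121, 159, 180, 198, 202, 215, 218, 252, 283, 303, 312, 315, 352, 367, 369, 397, 444, 453, 460, 463, 479, 480, 491, 516, 539, 552, 554, 558, 574, 579,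 580, 582, 591, 595, 604, 651, 653, 655, 658, 668, 696, 702]) (.leaf [15, 18, 27, 28, 46, 56, 81, 88, 91, 110, 114, 124, 169, 186, 191, 193, 197, 213, 221, 222, 265, 268, 290, 311, 327, 328, 338, 340, 372, 374, 393, 439, 444, 471, 485, 486, 511, 512, 531, 543, 559, 588, 614, 617, 619, 641, 656, 664, 672, 679])) (.leaf [1, 2, 11, 25, 28, 47, 54, 66, 92, 102, 109, 124, 150, 175, 176, 180, 191, 198, 207, 213, 224, 231, 271, 290, 309, 313, 326, 330, 351, 388, 403, 418, 421, 431, 439, 443, 445, 479, 480, 491, 538, 578, 607, 618, 634, 640, 669, 676, 678, 690])) (.node (.node (.leaf [3, 7, 8, 20, 37, 43, 50, 82, 133, 139, 142, 147, 148, 167, 169, 182, 214, 235, 243, 246, 248, 252, 276, 282, 285, 295, 297, 302, 320, 322, 358, 369, 377, 385, 399, 410, 422, 429, 460, 527, 542, 578, 593, 595, 604, 625, 642, 659, 683, 686]) (.leaf [29, 43, 46, 92, 108, 121, 124, 137, 146, 163, 168, 176, 186, 195, 214, 223, 224, 250, 256, 277, 287, 302, 304, 358, 393, 428, 430, 436, 463, 465, 484, 486, 490, 512, 520, 529, 547, 556, 558, 578, 591, 592,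 613, 618, 659, 663, 668, 680, 682, 699])) (.leaf [13, 16, 54, 63, 107, 112, 117, 121, 122, 127, 136, 142, 165, 203, 215, 278, 289, 314, 316, 333, 336, 347, 352, 387, 408, 437, 462, 467, 489, 490, 494, 508, 512, 514, 521, 529, 530, 547, 557, 568, 575, 596, 610, 613, 651, 652, 655, 670, 684, 702]))) (.node (.node (.node (.leaf [5, 30, 57, 58, 64, 67, 71, 75, 83, 84, 93, 99, 103, 110, 140, 192, 201, 205, 218, 223, 260, 265, 272, 280, 291, 327, 328, 343, 373, 379, 395, 410, 421, 424, 439, 443, 445, 447, 451, 480, 482, 496, 517, 531, 539, 540, 548, 555, 634, 702]) (.leaf [3, 15, 28, 48, 61, 124, 147, 149, 152, 174, 177, 191, 194, 209, 210, 213, 214, 220, 227, 247, 270, 277, 289, 312, 322, 354, 359, 377, 392, 411, 412, 427, 430, 433, 439, 484, 492, 498, 542, 570, 587, 589, 607, 609, 616, 637, 648, 663, 687, 692])) (.leaf [56, 86, 91, 127, 185, 196, 201, 219, 232, 236, 269, 272, 307, 315, 328, 336, 342, 369, 373, 381, 446, 470, 477, 480, 488, 508, 516, 518, 530, 537, 555, 558, 575, 583, 584, 588, 601, 612, 643, 646, 648, 650,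 655, 656, 671, 679, 685, 689, 694, 697])) (.node (.leaf [32, 48, 51, 113, 137, 146, 148, 153, 174, 211, 214, 243, 247, 253, 303, 320, 340, 349, 352, 364, 384, 392, 396, 408, 417, 429, 433, 436, 453, 463, 467, 468, 494, 506, 522, 541, 555, 556, 562, 572, 580, 586, 603, 604, 633, 652, 662, 669, 681, 684]) (.leaf [13, 40, 48, 55, 57, 89, 92, 102, 109, 121, 122, 125, 128, 169, 173, 199, 218, 244, 253, 290, 326, 341, 343, 353, 365, 414, 457, 463, 477, 486, 488, 517, 531, 538, 540, 546, 549, 557, 558, 562, 575, 614, 623, 666, 668, 677, 679, 681, 684, 689])))))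

def signBlk2 : Janko.Tree (List ℕ) :=
  (.node (.node (.node (.node (.node (.leaf [25, 31, 35, 40, 54, 59, 113, 122, 154, 159, 180, 203, 219, 240, 245, 255, 272, 280, 291, 301, 308, 317, 319, 343, 350, 383, 389, 423, 443, 451, 481, 488, 519, 521, 524, 535, 538, 569, 574, 577, 584, 588, 595, 600, 607, 622, 655, 668, 670, 703]) (.leaf [22, 45, 51, 62, 81, 91, 96, 149, 153, 167, 184, 196, 220, 226, 246, 271, 295, 297, 320, 323, 327, 363, 368, 370, 380, 392, 397, 417, 446, 469, 471, 472, 475, 499, 505, 507, 511, 535, 537, 542, 573, 589, 592, 616, 624, 630, 646, 664, 684, 694])) (.leaf [41, 43, 73, 86, 105, 109, 114, 120, 142, 155, 159, 184, 202, 217, 234, 238, 245, 252, 255, 277, 287, 332, 334, 347, 360, 398, 407, 422, 436, 458, 461, 477, 481, 488, 509, 521, 526, 547, 548, 558, 575, 585, 593, 636, 638, 642, 651, 658, 689, 698])) (.node (.node (.leaf [5, 42, 56, 60, 78, 88, 90, 92, 105, 111, 124, 167, 176, 182, 185, 190, 217, 226, 234, 252, 276, 286, 312, 314, 322, 327, 367, 368, 371, 373, 392, 402, 411, 425, 481, 496, 517,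 537, 543, 546, 559, 578, 618, 623, 631, 634, 648, 677, 682, 689]) (.leaf [10, 13, 16, 45, 54, 80, 89, 91, 124, 128, 145, 151, 161, 164, 167, 174, 190, 198, 221, 227, 269, 271, 288, 311, 314, 336, 346, 371, 380, 414, 518, 528, 531, 532, 545, 570, 596, 616, 626, 635, 641, 647, 649, 661, 676, 678, 685, 687, 689, 693])) (.leaf [1, 28, 34, 46, 54, 62, 87, 91, 130, 176, 181, 190, 193, 203, 209, 214, 217, 226, 249, 268, 270, 276, 285, 295, 315, 346, 369, 382, 389, 416, 422, 461, 480, 509, 510, 513, 521, 529, 543, 558, 579, 589, 590, 592, 608, 640, 647, 655, 670, 687]))) (.node (.node (.node (.leaf [22, 39, 53, 60, 68, 70, 78, 80, 97, 132, 137, 144, 151, 157, 160, 167, 216, 230, 270, 298, 324, 331, 334, 336, 345, 351, 363, 366, 370, 400, 402, 418, 440, 455, 457, 474, 479, 507, 535, 536, 544, 565, 599, 619, 620, 631, 634, 661, 676, 690]) (.leaf [13, 14, 30, 40, 48, 55, 56, 64, 69, 80, 113, 153, 171, 192, 210, 215, 219, 221, 227, 268, 279, 297, 306, 318, 341, 342, 348, 379, 383, 386, 439, 446, 451, 467, 469, 486, 509, 511, 530, 541,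 568, 571, 572, 589, 608, 627, 647, 670, 685, 692])) (.leaf [53, 86, 108, 119, 133, 137, 143, 145, 149, 161, 165, 195, 202, 239, 243, 247, 267, 271, 277, 289, 295, 302, 334, 347, 359, 361, 363, 371, 416, 432, 437, 464, 472, 474, 495, 513, 515, 524, 527, 529, 545, 551, 593, 599, 603, 608, 617, 662, 684, 687])) (.node (.leaf [5, 20, 43, 45, 52, 63, 78, 86, 95, 96, 126, 143, 148, 161, 165, 166, 178, 182, 185, 191, 196, 203, 217, 249, 273, 278, 283, 295, 315, 324, 332, 336, 353, 368, 370, 459, 460, 474, 478, 526, 528, 532, 552, 565, 583, 647, 651, 675, 688, 701]) (.leaf [7, 34, 39, 45, 58, 83, 96, 110, 118, 169, 171, 179, 192, 196, 219, 237, 240, 248, 259, 261, 268, 272, 279, 295, 296, 318, 329, 339, 368, 377, 388, 394, 444, 447, 450, 461, 468, 502, 510, 552, 582, 584, 588, 591, 594, 605, 625, 655, 664, 673])))) (.node (.node (.node (.node (.leaf [10, 38, 44, 76, 79, 84, 93, 94, 111, 123, 134, 159, 161, 182, 200, 218, 237, 259, 272, 312, 314, 344, 351, 389, 394, 414, 442, 465, 479, 482, 516, 518, 537, 538, 552, 562, 565, 571,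 581, 583, 594, 600, 622, 634, 660, 666, 676, 679, 688, 690]) (.leaf [1, 14, 25, 27, 29, 31, 33, 34, 48, 58, 65, 66, 116, 131, 178, 190, 193, 209, 212, 231, 251, 267, 275, 291, 293, 298, 301, 318, 328, 338, 354, 377, 388, 390, 407, 421, 423, 424, 438, 450, 482, 498, 500, 511, 606, 609, 627, 629, 670, 672])) (.leaf [1, 4, 13, 26, 47, 49, 57, 92, 94, 126, 175, 177, 182, 190, 193, 200, 209, 215, 250, 292, 311, 315, 325, 332, 349, 353, 393, 420, 432, 439, 467, 482, 484, 490, 496, 528, 530, 539, 555, 556, 559, 570, 580, 582, 646, 648, 670, 676, 679, 681])) (.node (.node (.leaf [35, 75, 80, 97, 110, 124, 180, 211, 218, 226, 239, 258, 268, 270, 280, 313, 315, 330, 351, 367, 373, 379, 380, 383, 397, 412, 427, 438, 441, 442, 444, 446, 454, 481, 492, 518, 536, 542, 568, 588, 590, 594, 631, 635, 640, 657, 660, 664, 693, 697]) (.leaf [0, 2, 7, 28, 32, 37, 46, 65, 66, 75, 83, 93, 101, 106, 146, 174, 180, 187, 193, 210, 215, 224, 258, 265, 268, 285, 292, 302, 325, 331, 341, 348, 376, 378, 404, 427, 429, 438, 445, 450, 453, 460, 469, 484,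 543, 555, 591, 609, 673, 698])) (.leaf [9, 42, 45, 58, 111, 125, 147, 162, 168, 213, 222, 240, 245, 247, 280, 308, 313, 316, 320, 323, 327, 374, 393, 394, 397, 410, 412, 430, 442, 445, 463, 465, 504, 516, 522, 538, 540, 563, 578, 586, 589, 595, 605, 614, 623, 625, 631, 665, 669, 691]))) (.node (.node (.node (.leaf [38, 55, 57, 68, 88, 91, 114, 119, 121, 138, 143, 145, 166, 169, 173, 197, 216, 220, 249, 261, 269, 276, 279, 297, 336, 363, 368, 386, 429, 456, 475, 476, 487, 500, 509, 510, 512, 526, 529, 544, 547, 567, 584, 593, 613, 618, 631, 683, 685, 689]) (.leaf [44, 49, 95, 119, 122, 127, 149, 164, 169, 171, 189, 195, 196, 220, 236, 278, 288, 307, 338, 392, 394, 431, 436, 462, 464, 467, 468, 474, 484, 486, 504, 528, 531, 563, 567, 571, 582, 586, 589, 603, 613, 614, 616, 660, 679, 680, 685, 688, 695, 700])) (.leaf [15, 35, 58, 73, 74, 88, 104, 111, 158, 162, 185, 219, 232, 234, 237, 238, 245, 267, 274, 281, 291, 300, 313, 328, 345, 365, 367, 372, 375, 406, 424, 435, 482, 502, 517, 518, 549, 553, 558, 574, 585, 604, 610,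 614, 622, 645, 657, 664, 666, 673])) (.node (.leaf [8, 11, 23, 66, 74, 76, 85, 99, 100, 103, 106, 134, 150, 154, 157, 175, 189, 201, 204, 206, 225, 258, 261, 263, 265, 284, 287, 331, 344, 356, 379, 380, 401, 404, 414, 440, 442, 448, 455, 478, 492, 533, 545, 550, 596, 626, 633, 634, 640, 661]) (.leaf [9, 22, 50, 84, 100, 146, 148, 153, 170, 189, 207, 209, 222, 242, 244, 263, 287, 304, 322, 335, 359, 360, 391, 397, 398, 430, 435, 437, 458, 464, 472, 493, 505, 523, 550, 566, 577, 586, 593, 597, 616, 625, 633, 637, 638, 643, 659, 662, 680, 695])))))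

def signBlk3 : Janko.Tree (List ℕ) :=
  (.node (.node (.node (.node (.node (.leaf [4, 10, 68, 71, 78, 84, 92, 101, 103, 120, 122, 140, 150, 157, 166, 198, 200, 261, 287, 304, 333, 334, 337, 407, 420, 430, 459, 476, 479, 480, 491, 517, 528, 530, 546, 567, 583, 596, 612, 619, 649, 651, 652, 659, 660, 677, 680, 689, 694, 700]) (.leaf [3, 24, 27, 28, 48, 51, 64, 85, 101, 103, 128, 151, 152, 175, 189, 198, 205, 207, 221, 264, 293, 306, 326, 329, 340, 343, 365, 381, 390, 404, 421, 438, 469, 471, 476, 495, 499, 506, 530, 555, 586, 616, 626, 636, 646, 648, 679, 680, 695, 701])) (.leaf [5, 8, 13, 75, 101, 103, 116, 120, 125, 141, 164, 170, 174, 186, 198, 204, 215, 220, 223, 224, 263, 310, 340, 378, 396, 409, 412, 419, 431, 439, 444, 452, 463, 467, 485, 490, 530, 538, 540, 568, 587, 597, 614, 637, 640, 661, 662, 680, 693, 696])) (.node (.node (.leaf [14, 17, 31, 35, 44, 58, 62, 79, 80, 91, 94, 110, 113, 126, 185, 191, 192, 208, 226, 228, 236, 272, 278, 288, 295, 314, 316, 338, 372, 375, 393, 411, 413, 427, 442, 447, 483, 496, 498,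 505, 519, 521, 530, 532, 570, 589, 610, 623, 629, 671]) (.leaf [1, 12, 17, 34, 37, 39, 55, 56, 64, 80, 89, 93, 107, 161, 180, 190, 193, 210, 216, 218, 230, 232, 269, 272, 278, 290, 315, 319, 324, 337, 350, 352, 367, 368, 372, 403, 444, 456, 482, 501, 512, 553, 575, 623, 634, 670, 673, 675, 678, 703])) (.leaf [19, 23, 26, 46, 86, 90, 94, 109, 150, 172, 176, 182, 189, 197, 200, 207, 216, 257, 286, 327, 344, 361, 370, 388, 405, 415, 417, 459, 464, 475, 477, 478, 487, 488, 529, 536, 545, 558, 592, 599, 616, 619, 639, 641, 647, 676, 679, 680, 689, 695]))) (.node (.node (.node (.leaf [6, 8, 74, 77, 118, 132, 134, 146, 148, 162, 171, 194, 211, 224, 236, 239, 258, 300, 302, 312, 377, 395, 405, 412, 434, 448, 452, 462, 465, 484, 493, 515, 551, 553, 581, 586, 591, 595, 602, 605, 633, 644, 658, 660, 662, 664, 666, 683, 687, 696]) (.leaf [15, 36, 39, 48, 56, 61, 89, 92, 111, 135, 147, 163, 169, 183, 192, 211, 212, 228, 237, 250, 265, 276, 278, 297, 348, 376, 384, 393, 395, 411, 425, 429, 450, 482, 484, 487, 501, 540, 548, 556, 563,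 566, 571, 603, 605, 622, 629, 666, 672, 683])) (.leaf [23, 40, 47, 61, 70, 80, 84, 92, 95, 110, 125, 136, 146, 151, 152, 167, 175, 187, 226, 262, 265, 287, 304, 327, 330, 349, 365, 378, 392, 396, 415, 427, 430, 439, 442, 469, 487, 497, 504, 531, 537, 541, 562, 571, 617, 629, 661, 676, 680, 691])) (.node (.leaf [22, 30, 35, 39, 45, 54, 80, 88, 90, 98, 110, 134, 145, 173, 193, 213, 216, 219, 226, 230, 241, 245, 260, 275, 291, 297, 326, 330, 344, 356, 382, 388, 414, 417, 425, 442, 486, 510, 534, 540, 579, 611, 622, 627, 629, 630, 634, 641, 665, 677]) (.leaf [1, 5, 49, 52, 68, 101, 116, 119, 121, 134, 148, 170, 179, 203, 208, 214, 243, 248, 251, 277, 279, 333, 348, 355, 376, 398, 407, 429, 430, 437, 450, 452, 461, 467, 484, 508, 511, 515, 526, 528, 566, 582, 590, 604, 608, 639, 653, 658, 663, 692])))) (.node (.node (.node (.node (.leaf [2, 42, 68, 78, 86, 96, 118, 132, 148, 176, 194, 202, 249, 254, 271, 277, 308, 313, 322, 334, 350, 354, 369, 389, 395, 431, 465, 475, 479, 481, 492, 537, 576, 582, 584, 589, 590, 593, 594, 601,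 613, 619, 625, 630, 639, 659, 668, 688, 695, 697]) (.leaf [5, 25, 30, 40, 44, 49, 58, 85, 95, 96, 111, 171, 184, 191, 199, 202, 209, 218, 226, 245, 275, 313, 322, 326, 329, 389, 396, 406, 430, 438, 458, 461, 480, 511, 519, 530, 539, 559, 583, 588, 614, 616, 637, 639, 641, 647, 676, 689, 693, 694])) (.leaf [18, 20, 23, 31, 41, 69, 83, 96, 130, 132, 145, 155, 170, 173, 178, 202, 216, 240, 242, 248, 251, 275, 294, 297, 298, 318, 322, 361, 383, 387, 389, 391, 399, 418, 422, 459, 472, 474, 510, 526, 535, 564, 572, 577, 585, 592, 598, 608, 639, 646])) (.node (.node (.leaf [9, 11, 36, 52, 99, 101, 104, 114, 117, 121, 129, 139, 141, 142, 145, 155, 156, 165, 167, 242, 248, 263, 282, 298, 310, 317, 332, 334, 337, 346, 359, 386, 398, 401, 408, 419, 455, 459, 473, 503, 515, 527, 532, 544, 561, 565, 567, 596, 643, 693]) (.leaf [2, 4, 9, 20, 43, 48, 61, 67, 77, 85, 93, 95, 103, 108, 134, 147, 148, 175, 176, 182, 189, 253, 255, 286, 313, 327, 333, 378, 394, 404, 411, 428, 431, 452, 460, 463, 479, 484, 523, 539, 548, 554, 562, 637, 638,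 658, 674, 681, 689, 700])) (.leaf [10, 18, 31, 35, 67, 78, 86, 90, 96, 104, 111, 114, 130, 141, 144, 151, 154, 190, 201, 216, 235, 249, 261, 268, 272, 290, 299, 309, 328, 337, 339, 344, 351, 373, 388, 407, 455, 458, 480, 492, 500, 519, 521, 532, 553, 585, 618, 635, 641, 688]))) (.node (.node (.node (.leaf [15, 30, 40, 59, 70, 110, 114, 116, 121, 123, 140, 145, 163, 168, 171, 186, 222, 240, 244, 251, 260, 263, 278, 291, 304, 316, 339, 386, 391, 399, 407, 431, 436, 450, 458, 487, 502, 504, 511, 521, 530, 540, 546, 549, 567, 569, 585, 610, 615, 628]) (.leaf [73, 118, 121, 171, 172, 197, 203, 218, 222, 238, 241, 245, 301, 340, 383, 396, 417, 437, 463, 464, 467, 472, 486, 489, 508, 510, 513, 558, 569, 573, 585, 589, 591, 593, 598, 605, 611, 615, 631, 632, 639, 640, 654, 656, 662, 664, 668, 685, 694, 697])) (.leaf [16, 21, 37, 39, 41, 44, 55, 81, 113, 122, 128, 136, 143, 144, 161, 165, 167, 168, 240, 242, 246, 273, 279, 295, 297, 316, 319, 320, 352, 384, 386, 401, 415, 457, 468, 474, 503, 504, 524, 534, 540, 562, 564, 570, 594,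 602, 622, 629, 685, 690])) (.node (.leaf [13, 26, 60, 76, 102, 105, 108, 124, 129, 136, 151, 152, 156, 175, 177, 206, 253, 263, 286, 289, 333, 334, 346, 357, 358, 360, 365, 370, 403, 408, 418, 433, 440, 488, 491, 495, 496, 522, 545, 547, 556, 597, 606, 621, 637, 649, 662, 677, 680, 698]) (.leaf [69, 101, 102, 119, 138, 148, 153, 211, 220, 270, 289, 306, 334, 337, 354, 362, 380, 400, 409, 441, 447, 449, 466, 473, 493, 495, 507, 508, 514, 545, 567, 568, 586, 596, 600, 613, 620, 626, 630, 633, 645, 648, 653, 656, 661, 662, 685, 692, 694, 697])))))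

def signBlk4 : Janko.Tree (List ℕ) :=
  (.node (.node (.node (.node (.node (.leaf [12, 24, 26, 30, 70, 80, 94, 103, 107, 122, 151, 200, 204, 219, 231, 263, 289, 290, 300, 306, 336, 338, 344, 350, 364, 373, 407, 438, 441, 443, 466, 482, 486, 489, 491, 519, 531, 569, 598, 610, 614, 621, 627, 640, 657, 661, 671, 676, 679, 694]) (.leaf [2, 24, 29, 41, 46, 49, 54, 108, 115, 118, 147, 153, 169, 189, 213, 240, 242, 244, 247, 255, 276, 297, 326, 330, 340, 388, 390, 416, 423, 429, 430, 436, 451, 461, 469, 474, 477, 487, 511, 525, 562, 589, 593, 609, 617, 624, 628, 639, 668, 673])) (.leaf [77, 103, 122, 127, 172, 176, 188, 200, 205, 206, 222, 225, 257, 300, 309, 321, 343, 394, 421, 442, 449, 462, 465, 467, 478, 488, 491, 495, 516, 523, 538, 555, 556, 561, 577, 580, 587, 597, 601, 613, 620, 633, 654, 659, 668, 678, 681, 694, 696, 702])) (.node (.node (.leaf [2, 6, 20, 48, 60, 64, 68, 96, 119, 133, 149, 160, 178, 195, 211, 221, 230, 246, 254, 279, 296, 306, 319, 325, 354, 362, 369, 377, 384, 391, 394, 401, 405, 429, 452, 456, 469,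 474, 494, 498, 501, 507, 526, 573, 603, 609, 644, 673, 674, 701]) (.leaf [19, 20, 36, 41, 43, 46, 58, 66, 83, 92, 95, 109, 110, 147, 159, 168, 181, 182, 187, 190, 192, 216, 234, 241, 251, 256, 272, 274, 290, 292, 295, 326, 352, 374, 389, 415, 423, 458, 460, 496, 520, 538, 549, 553, 559, 579, 622, 628, 672, 691])) (.leaf [0, 25, 27, 28, 32, 47, 72, 86, 107, 109, 158, 181, 206, 233, 256, 266, 291, 292, 301, 302, 340, 346, 352, 364, 375, 402, 416, 423, 432, 437, 471, 477, 488, 491, 495, 512, 525, 554, 556, 558, 560, 575, 598, 654, 657, 669, 670, 673, 679, 699]))) (.node (.node (.node (.leaf [8, 42, 76, 120, 124, 136, 143, 148, 164, 167, 196, 238, 253, 287, 302, 314, 321, 334, 371, 379, 381, 397, 409, 415, 455, 456, 463, 464, 478, 489, 504, 516, 536, 544, 562, 565, 592, 595, 597, 613, 630, 632, 643, 651, 660, 681, 683, 684, 689, 697]) (.leaf [6, 17, 63, 65, 70, 80, 96, 101, 106, 115, 140, 151, 165, 167, 186, 197, 205, 220, 261, 264, 268, 272, 278, 307, 325, 336, 339, 362, 372, 379, 381, 386, 401, 409, 426, 445, 446, 454, 456,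 468, 471, 503, 505, 531, 533, 568, 612, 651, 661, 700])) (.leaf [2, 10, 25, 55, 77, 87, 102, 107, 108, 114, 119, 122, 128, 142, 150, 155, 160, 164, 189, 255, 272, 289, 307, 308, 332, 334, 336, 344, 351, 381, 401, 402, 457, 475, 476, 478, 489, 495, 501, 525, 545, 560, 562, 574, 601, 612, 675, 678, 688, 701])) (.node (.leaf [1, 3, 24, 49, 56, 103, 119, 211, 213, 218, 259, 281, 301, 306, 313, 318, 328, 341, 350, 354, 395, 433, 438, 445, 451, 453, 467, 483, 484, 507, 538, 554, 560, 562, 574, 582, 587, 588, 601, 605, 615, 638, 656, 666, 669, 673, 675, 679, 693, 696]) (.leaf [8, 12, 19, 21, 36, 60, 77, 88, 104, 109, 129, 133, 135, 142, 145, 154, 157, 161, 173, 182, 216, 232, 235, 238, 253, 275, 297, 345, 357, 360, 371, 404, 415, 457, 501, 526, 533, 545, 548, 552, 565, 602, 623, 635, 644, 666, 674, 682, 687, 688])))) (.node (.node (.node (.node (.leaf [12, 18, 20, 30, 40, 76, 84, 94, 112, 122, 126, 129, 141, 151, 155, 164, 171, 189, 201, 204, 262, 273, 293, 307, 333, 343, 361, 378, 386, 415, 458, 488, 496, 505, 518, 520, 530,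 533, 538, 548, 564, 570, 577, 596, 636, 643, 647, 651, 681, 688]) (.leaf [1, 32, 34, 38, 75, 98, 106, 113, 135, 159, 179, 193, 201, 209, 211, 219, 228, 233, 236, 259, 284, 300, 315, 348, 383, 417, 425, 440, 442, 447, 449, 451, 466, 482, 508, 515, 554, 557, 581, 591, 601, 604, 610, 626, 632, 652, 654, 657, 670, 702])) (.leaf [8, 19, 25, 27, 31, 67, 73, 98, 103, 104, 108, 115, 117, 128, 155, 173, 188, 204, 207, 213, 222, 241, 244, 263, 274, 281, 291, 301, 309, 327, 329, 341, 344, 357, 374, 391, 418, 423, 458, 473, 488, 522, 539, 548, 561, 614, 636, 639, 640, 675])) (.node (.node (.leaf [13, 16, 21, 31, 54, 64, 69, 103, 116, 123, 129, 131, 139, 141, 144, 150, 155, 157, 173, 199, 205, 220, 224, 230, 261, 290, 308, 319, 336, 343, 356, 386, 391, 400, 418, 421, 456, 495, 501, 534, 541, 546, 569, 596, 606, 621, 627, 635, 645, 702]) (.leaf [14, 20, 31, 40, 49, 51, 58, 60, 64, 85, 112, 129, 146, 152, 184, 227, 234, 244, 247, 253, 255, 274, 280, 297, 322, 327, 342, 357, 360, 364, 384, 390, 399, 410, 422, 425, 497, 498, 505, 523, 534,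 540, 546, 549, 573, 607, 622, 629, 636, 645])) (.leaf [1, 33, 37, 39, 53, 83, 132, 156, 158, 161, 179, 182, 233, 242, 250, 258, 267, 274, 282, 293, 294, 299, 303, 310, 319, 325, 348, 352, 366, 377, 385, 432, 434, 453, 483, 502, 507, 515, 526, 552, 560, 565, 580, 583, 598, 603, 604, 666, 672, 691]))) (.node (.node (.node (.leaf [7, 9, 37, 42, 53, 72, 89, 106, 109, 115, 117, 119, 121, 142, 163, 165, 168, 186, 196, 238, 241, 247, 279, 302, 340, 353, 375, 408, 429, 436, 444, 452, 456, 460, 462, 485, 502, 513, 526, 548, 553, 560, 562, 574, 602, 605, 614, 672, 675, 700]) (.leaf [9, 11, 52, 61, 88, 102, 104, 108, 110, 115, 119, 120, 125, 134, 144, 163, 213, 238, 244, 262, 276, 287, 289, 312, 331, 334, 345, 350, 407, 431, 465, 485, 486, 492, 545, 563, 566, 615, 616, 618, 631, 639, 641, 657, 660, 662, 666, 676, 689, 693])) (.leaf [25, 45, 46, 54, 63, 80, 95, 99, 106, 113, 164, 175, 180, 188, 192, 197, 204, 218, 241, 259, 273, 315, 320, 327, 341, 352, 375, 378, 381, 397, 414, 416, 443, 444, 461, 462, 466, 468, 478, 489, 530, 538,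 555, 562, 589, 641, 646, 654, 674, 679])) (.node (.leaf [5, 22, 26, 31, 53, 61, 67, 71, 78, 85, 94, 99, 104, 110, 135, 156, 158, 178, 182, 185, 200, 208, 217, 228, 251, 262, 275, 287, 298, 333, 344, 348, 360, 398, 406, 425, 434, 440, 458, 482, 497, 522, 533, 549, 564, 567, 611, 628, 638, 676]) (.leaf [16, 26, 29, 63, 79, 86, 91, 127, 130, 151, 176, 191, 195, 220, 230, 256, 266, 270, 289, 309, 325, 337, 338, 354, 358, 363, 368, 371, 372, 393, 402, 421, 448, 470, 475, 491, 494, 499, 500, 513, 528, 546, 612, 619, 621, 648, 670, 678, 695, 701])))))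

def signBlk5 : Janko.Tree (List ℕ) :=
  (.node (.node (.node (.node (.node (.leaf [4, 8, 43, 53, 61, 72, 96, 105, 132, 149, 185, 202, 238, 246, 253, 275, 280, 283, 313, 322, 335, 355, 366, 371, 397, 398, 408, 412, 419, 433, 435, 441, 452, 473, 507, 522, 527, 543, 565, 573, 604, 615, 631, 636, 639, 645, 662, 675, 692, 696]) (.leaf [23, 33, 39, 46, 82, 133, 136, 146, 158, 181, 207, 224, 240, 243, 257, 258, 270, 284, 295, 302, 305, 321, 330, 383, 389, 397, 414, 417, 443, 455, 465, 468, 479, 525, 535, 537, 550, 577, 579, 580, 591, 593, 594, 599, 624, 632, 654, 665, 669, 691])) (.leaf [5, 21, 30, 43, 58, 63, 66, 79, 105, 117, 126, 130, 141, 177, 190, 202, 208, 214, 222, 249, 251, 282, 308, 317, 323, 333, 354, 358, 398, 411, 412, 418, 420, 423, 431, 459, 480, 490, 497, 521, 523, 539, 546, 577, 578, 597, 607, 636, 659, 702])) (.node (.node (.leaf [4, 8, 22, 42, 46, 52, 62, 66, 70, 72, 83, 96, 98, 101, 111, 115, 121, 166, 187, 197, 217, 223, 240, 248, 260, 287, 327, 330, 379, 396, 398, 418, 428, 431, 444, 455, 458, 460, 478, 480,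 510, 542, 578, 590, 593, 619, 624, 631, 638, 641]) (.leaf [3, 7, 9, 19, 86, 96, 101, 115, 119, 148, 155, 164, 171, 189, 197, 221, 238, 249, 258, 269, 297, 307, 329, 341, 379, 380, 405, 461, 472, 485, 492, 508, 527, 532, 543, 544, 588, 592, 609, 617, 637, 638, 640, 642, 646, 674, 687, 688, 692, 696])) (.leaf [7, 13, 65, 73, 75, 77, 102, 107, 113, 155, 181, 204, 210, 218, 232, 239, 253, 254, 280, 300, 306, 340, 342, 356, 365, 373, 379, 381, 404, 409, 440, 453, 456, 462, 488, 494, 508, 548, 554, 569, 573, 574, 633, 636, 645, 651, 674, 696, 699, 703]))) (.node (.node (.node (.leaf [24, 32, 34, 44, 50, 52, 59, 63, 72, 99, 113, 116, 142, 158, 178, 184, 202, 208, 241, 242, 245, 247, 267, 274, 283, 295, 316, 346, 353, 374, 397, 399, 417, 423, 437, 458, 461, 473, 502, 510, 523, 535, 551, 578, 604, 611, 624, 629, 652, 655]) (.leaf [15, 60, 69, 79, 104, 130, 133, 139, 140, 144, 156, 162, 194, 234, 250, 267, 277, 298, 304, 322, 335, 354, 358, 361, 363, 366, 376, 385, 390, 398, 407, 425, 435, 492, 501, 514, 526, 546, 567, 584, 606,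 618, 620, 644, 649, 658, 662, 667, 683, 699])) (.leaf [8, 37, 40, 74, 83, 84, 99, 111, 113, 121, 134, 147, 155, 159, 170, 219, 238, 241, 243, 244, 253, 258, 262, 275, 281, 296, 330, 340, 348, 378, 383, 397, 399, 415, 451, 453, 461, 503, 539, 540, 549, 563, 565, 594, 605, 633, 638, 642, 667, 693])) (.node (.leaf [60, 77, 79, 85, 87, 95, 97, 149, 151, 161, 185, 194, 227, 235, 237, 238, 254, 287, 288, 307, 313, 334, 344, 361, 362, 364, 370, 373, 380, 405, 407, 427, 435, 440, 493, 499, 505, 519, 533, 537, 551, 617, 637, 645, 648, 651, 660, 689, 695, 701]) (.leaf [11, 17, 77, 78, 123, 125, 137, 140, 144, 151, 163, 164, 194, 224, 263, 271, 289, 305, 308, 317, 335, 338, 351, 358, 401, 413, 426, 430, 442, 455, 464, 491, 493, 504, 514, 518, 521, 524, 551, 568, 570, 577, 587, 594, 596, 607, 613, 621, 660, 691])))) (.node (.node (.node (.node (.leaf [22, 27, 32, 51, 73, 131, 133, 157, 172, 179, 205, 206, 231, 232, 256, 267, 275, 300, 344, 357, 361, 363, 365, 370, 391, 405, 416, 425, 434, 441, 448, 473, 494, 498, 507, 523, 535, 550,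 572, 580, 598, 602, 611, 621, 626, 632, 645, 662, 665, 695]) (.leaf [9, 20, 23, 32, 36, 53, 61, 66, 108, 116, 133, 134, 136, 144, 146, 157, 162, 174, 186, 212, 225, 230, 241, 242, 246, 250, 263, 275, 330, 357, 359, 377, 390, 398, 400, 413, 418, 429, 431, 453, 522, 540, 551, 578, 602, 607, 608, 628, 663, 691])) (.leaf [15, 33, 36, 40, 47, 113, 137, 146, 152, 159, 208, 214, 229, 242, 251, 263, 276, 285, 292, 295, 299, 305, 316, 333, 347, 348, 359, 361, 383, 385, 387, 398, 422, 426, 432, 436, 451, 497, 514, 520, 525, 556, 570, 576, 606, 609, 629, 643, 670, 698])) (.node (.node (.leaf [22, 28, 68, 97, 101, 118, 130, 144, 150, 171, 186, 195, 199, 220, 225, 227, 231, 260, 269, 271, 305, 330, 338, 362, 377, 389, 391, 404, 407, 430, 438, 469, 487, 492, 510, 528, 550, 568, 591, 592, 599, 608, 617, 618, 627, 641, 661, 662, 664, 695]) (.leaf [8, 18, 22, 44, 52, 81, 95, 97, 110, 144, 165, 171, 187, 197, 204, 238, 240, 259, 263, 275, 294, 311, 339, 344, 371, 375, 397, 413, 415, 434, 454, 459, 465, 472, 502, 505, 518, 532, 551, 553,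 565, 599, 603, 611, 614, 616, 640, 661, 665, 691])) (.leaf [4, 43, 52, 58, 61, 66, 70, 78, 93, 94, 97, 111, 140, 162, 186, 190, 195, 230, 251, 278, 313, 325, 339, 350, 354, 366, 373, 376, 392, 395, 406, 413, 427, 430, 434, 439, 444, 452, 483, 485, 491, 552, 582, 591, 614, 618, 660, 672, 690, 701]))) (.node (.node (.node (.leaf [3, 6, 17, 29, 54, 119, 124, 138, 165, 169, 181, 194, 198, 210, 215, 220, 225, 247, 268, 271, 302, 308, 319, 320, 341, 343, 369, 381, 444, 457, 463, 469, 470, 494, 513, 525, 569, 575, 586, 588, 592, 594, 613, 654, 664, 669, 678, 685, 686, 696]) (.leaf [4, 12, 21, 36, 40, 43, 56, 61, 65, 68, 71, 82, 93, 121, 137, 141, 156, 167, 187, 215, 217, 250, 253, 279, 324, 332, 349, 352, 366, 379, 385, 387, 399, 409, 418, 429, 452, 456, 496, 526, 540, 546, 549, 564, 572, 651, 680, 682, 698, 702])) (.leaf [1, 48, 104, 108, 132, 135, 146, 159, 172, 177, 182, 202, 206, 208, 213, 243, 244, 250, 252, 266, 275, 276, 300, 313, 322, 360, 382, 389, 417, 423, 424, 432, 464, 523, 538, 557, 558, 578, 580, 600, 605, 606,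 622, 639, 658, 663, 667, 669, 677, 687])) (.node (.leaf [16, 24, 28, 33, 35, 55, 63, 64, 80, 106, 112, 137, 150, 153, 160, 174, 181, 210, 226, 231, 246, 255, 271, 284, 289, 330, 346, 357, 362, 364, 381, 400, 403, 416, 427, 440, 442, 468, 494, 499, 524, 535, 551, 569, 606, 609, 626, 629, 653, 670]) (.leaf [5, 30, 35, 58, 62, 65, 69, 70, 73, 78, 97, 131, 178, 185, 202, 217, 218, 227, 230, 255, 261, 279, 337, 355, 362, 366, 368, 372, 399, 407, 425, 441, 446, 480, 508, 510, 535, 547, 569, 573, 584, 590, 610, 630, 644, 650, 652, 670, 695, 702])))))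

def signBlk6 : Janko.Tree (List ℕ) :=
  (.node (.node (.node (.node (.node (.leaf [10, 17, 35, 38, 45, 55, 63, 78, 91, 98, 139, 142, 167, 248, 261, 271, 273, 282, 284, 308, 315, 316, 321, 337, 369, 380, 400, 402, 411, 421, 443, 445, 447, 448, 454, 478, 480, 516, 534, 579, 594, 597, 600, 613, 624, 631, 634, 652, 655, 703]) (.leaf [3, 41, 48, 56, 60, 68, 84, 129, 148, 152, 160, 166, 183, 185, 242, 253, 277, 297, 299, 307, 323, 332, 335, 348, 360, 385, 432, 474, 476, 507, 527, 537, 545, 562, 564, 567, 571, 582, 600, 616, 639, 642, 647, 648, 667, 676, 681, 684, 689, 693])) (.leaf [7, 15, 16, 29, 34, 51, 65, 75, 88, 90, 130, 138, 192, 210, 221, 226, 233, 235, 236, 261, 264, 269, 284, 296, 328, 343, 357, 362, 369, 372, 376, 380, 404, 410, 425, 446, 448, 493, 498, 501, 509, 532, 542, 627, 634, 645, 648, 664, 683, 687])) (.node (.node (.leaf [4, 22, 68, 71, 83, 85, 94, 97, 100, 148, 171, 178, 196, 201, 205, 218, 258, 306, 325, 348, 378, 394, 396, 405, 435, 439, 441, 446, 453, 466, 468, 478, 506, 537, 554, 565, 572, 577, 581, 582,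 590, 599, 632, 639, 646, 651, 661, 680, 694, 696]) (.leaf [0, 4, 20, 22, 39, 67, 69, 79, 83, 92, 131, 133, 135, 156, 172, 176, 179, 183, 193, 200, 216, 224, 230, 249, 251, 257, 261, 284, 324, 369, 377, 389, 395, 404, 420, 424, 429, 448, 478, 500, 528, 552, 578, 581, 590, 618, 634, 658, 682, 702])) (.leaf [9, 11, 43, 52, 67, 72, 77, 78, 87, 104, 109, 132, 143, 157, 159, 162, 183, 206, 234, 257, 267, 282, 286, 302, 309, 312, 334, 344, 358, 371, 375, 403, 435, 448, 454, 458, 464, 479, 490, 516, 522, 550, 552, 560, 578, 619, 624, 659, 691, 701]))) (.node (.node (.node (.leaf [0, 2, 10, 34, 36, 38, 54, 69, 119, 132, 135, 139, 144, 154, 160, 210, 213, 225, 243, 249, 258, 269, 270, 277, 285, 297, 299, 318, 330, 350, 377, 383, 388, 401, 450, 493, 501, 515, 524, 544, 570, 594, 600, 606, 608, 626, 634, 666, 686, 693]) (.leaf [5, 13, 74, 89, 93, 94, 107, 111, 120, 135, 171, 186, 192, 197, 201, 216, 219, 226, 236, 238, 260, 268, 279, 287, 315, 349, 372, 378, 404, 407, 414, 460, 462, 484, 487, 508, 520, 529, 531, 532, 549, 552, 559,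 590, 611, 640, 651, 660, 682, 689])) (.leaf [25, 28, 49, 59, 73, 103, 109, 117, 118, 122, 163, 195, 199, 202, 230, 244, 247, 255, 267, 288, 300, 308, 312, 335, 354, 365, 390, 407, 431, 437, 452, 463, 491, 494, 522, 547, 551, 568, 574, 586, 606, 615, 637, 645, 653, 659, 663, 669, 694, 701])) (.node (.leaf [27, 35, 52, 62, 73, 81, 86, 89, 90, 99, 105, 107, 115, 142, 185, 196, 216, 229, 233, 239, 287, 289, 315, 336, 344, 346, 357, 363, 371, 372, 375, 380, 403, 409, 417, 440, 449, 454, 473, 489, 509, 513, 533, 543, 544, 610, 631, 641, 656, 674]) (.leaf [13, 41, 80, 94, 112, 137, 158, 160, 180, 184, 203, 217, 218, 227, 233, 238, 253, 275, 295, 315, 347, 349, 352, 361, 365, 367, 371, 382, 397, 415, 417, 432, 440, 488, 497, 519, 535, 537, 559, 565, 572, 581, 598, 610, 622, 647, 650, 671, 677, 685])))) (.node (.node (.node (.node (.leaf [24, 32, 59, 66, 74, 77, 85, 95, 112, 146, 159, 174, 181, 204, 207, 208, 259, 262, 274, 280, 282, 293, 301, 313, 365, 375, 397, 412, 426, 432, 434, 439, 441, 442, 453, 482, 491, 496, 498, 519, 522,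 539, 550, 555, 577, 581, 587, 606, 637, 690]) (.leaf [2, 21, 22, 46, 55, 63, 69, 100, 136, 148, 151, 152, 164, 166, 175, 176, 188, 214, 220, 225, 243, 248, 271, 284, 320, 325, 332, 359, 379, 387, 400, 419, 420, 429, 431, 467, 469, 474, 479, 495, 529, 544, 570, 577, 592, 596, 609, 612, 647, 680])) (.leaf [15, 26, 32, 53, 104, 117, 126, 162, 209, 212, 223, 228, 251, 263, 267, 289, 301, 311, 316, 338, 355, 358, 375, 392, 409, 412, 432, 435, 436, 449, 465, 467, 473, 483, 485, 491, 512, 515, 523, 557, 561, 566, 586, 603, 605, 611, 615, 621, 656, 663])) (.node (.node (.leaf [26, 47, 57, 70, 99, 101, 103, 107, 115, 120, 153, 188, 197, 201, 222, 229, 262, 265, 286, 307, 332, 340, 348, 379, 387, 408, 429, 436, 450, 466, 476, 484, 486, 488, 509, 530, 545, 549, 554, 557, 561, 562, 566, 613, 632, 638, 643, 656, 680, 699]) (.leaf [125, 194, 199, 207, 267, 270, 302, 305, 311, 313, 323, 334, 364, 367, 371, 393, 396, 433, 434, 439, 464, 470, 491, 507, 516, 518, 537, 559, 580, 583, 586, 598, 615, 616, 618, 620, 649, 657, 661, 663, 664,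 667, 668, 677, 679, 680, 684, 690, 695, 696])) (.leaf [0, 3, 4, 56, 65, 69, 82, 97, 101, 130, 138, 141, 166, 190, 199, 214, 221, 249, 268, 271, 283, 298, 310, 319, 322, 325, 329, 336, 355, 367, 368, 377, 419, 421, 439, 445, 447, 470, 480, 507, 511, 526, 542, 582, 619, 634, 646, 649, 693, 697]))) (.node (.node (.node (.leaf [5, 8, 19, 43, 57, 83, 104, 111, 121, 126, 140, 169, 171, 173, 183, 196, 200, 222, 249, 250, 310, 322, 328, 394, 434, 459, 465, 485, 516, 527, 538, 548, 553, 559, 560, 564, 566, 582, 585, 604, 615, 619, 638, 643, 658, 667, 680, 682, 689, 697]) (.leaf [21, 23, 24, 31, 45, 58, 63, 67, 70, 78, 84, 95, 97, 123, 150, 179, 189, 205, 230, 240, 254, 256, 260, 273, 309, 326, 338, 344, 389, 390, 394, 401, 420, 431, 443, 458, 469, 475, 478, 498, 505, 522, 535, 551, 577, 625, 629, 690, 694, 700])) (.leaf [19, 30, 41, 42, 57, 61, 71, 80, 95, 97, 111, 114, 184, 196, 217, 219, 229, 238, 240, 254, 272, 278, 281, 297, 306, 327, 344, 351, 372, 378, 395, 456, 474, 486, 488, 505, 536, 549, 562, 564, 573, 584, 588, 615, 623,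 631, 639, 672, 674, 688])) (.node (.leaf [6, 14, 28, 34, 86, 106, 114, 118, 162, 195, 210, 228, 237, 239, 254, 269, 276, 279, 289, 301, 307, 339, 350, 355, 363, 372, 407, 427, 436, 451, 484, 486, 493, 501, 508, 513, 514, 521, 525, 568, 574, 585, 588, 590, 609, 613, 657, 671, 672, 699]) (.leaf [11, 25, 32, 35, 37, 38, 46, 53, 67, 71, 80, 99, 107, 110, 115, 159, 162, 212, 229, 240, 259, 263, 264, 273, 281, 290, 299, 317, 330, 339, 345, 350, 374, 401, 402, 427, 442, 445, 450, 455, 482, 502, 525, 560, 563, 624, 629, 656, 672, 690])))))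

def signBlk7 : Janko.Tree (List ℕ) :=
  (.node (.node (.node (.node (.node (.leaf [9, 10, 20, 44, 55, 108, 117, 118, 121, 123, 134, 142, 144, 154, 165, 169, 170, 173, 188, 198, 202, 224, 240, 243, 245, 249, 260, 308, 388, 415, 431, 458, 461, 462, 464, 478, 520, 528, 538, 550, 552, 579, 592, 595, 596, 640, 654, 659, 687, 689]) (.leaf [4, 45, 49, 50, 58, 79, 85, 126, 148, 179, 183, 184, 208, 236, 267, 283, 312, 322, 328, 355, 369, 376, 384, 392, 394, 411, 421, 424, 434, 446, 449, 482, 499, 507, 517, 522, 554, 567, 580, 583, 587, 600, 605, 625, 644, 648, 652, 659, 695, 701])) (.leaf [7, 9, 14, 18, 36, 43, 60, 67, 74, 77, 105, 111, 115, 124, 140, 146, 163, 187, 223, 228, 235, 238, 263, 265, 281, 286, 356, 359, 372, 374, 378, 398, 409, 410, 412, 427, 434, 454, 485, 492, 496, 504, 521, 533, 542, 549, 636, 643, 683, 699])) (.node (.node (.leaf [24, 70, 72, 85, 99, 102, 153, 159, 185, 207, 218, 245, 253, 255, 281, 287, 312, 327, 330, 335, 344, 365, 380, 396, 402, 416, 424, 440, 443, 476, 479, 481, 488, 507, 516, 523, 534, 536,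 555, 563, 601, 625, 630, 632, 639, 652, 657, 669, 677, 694]) (.leaf [6, 13, 15, 17, 19, 20, 37, 116, 127, 130, 141, 145, 165, 168, 171, 187, 190, 192, 195, 214, 220, 224, 249, 250, 268, 279, 293, 294, 311, 318, 324, 338, 359, 376, 387, 413, 485, 501, 512, 515, 521, 527, 528, 533, 552, 570, 602, 609, 683, 686])) (.leaf [8, 28, 51, 73, 75, 89, 108, 125, 146, 175, 181, 186, 198, 207, 226, 234, 238, 245, 247, 253, 275, 286, 303, 312, 326, 331, 341, 346, 356, 364, 371, 374, 380, 397, 405, 415, 416, 460, 462, 542, 550, 558, 578, 593, 617, 637, 641, 663, 664, 686]))) (.node (.node (.node (.leaf [38, 47, 55, 56, 80, 91, 125, 136, 153, 176, 210, 213, 228, 270, 277, 288, 314, 317, 320, 351, 382, 392, 403, 417, 432, 443, 465, 466, 474, 487, 489, 513, 525, 536, 545, 556, 563, 570, 588, 601, 613, 621, 622, 631, 656, 668, 670, 677, 679, 684]) (.leaf [0, 3, 18, 26, 37, 43, 47, 53, 57, 60, 66, 86, 104, 108, 115, 133, 176, 183, 190, 213, 217, 228, 248, 251, 276, 299, 324, 332, 351, 354, 359, 403, 419, 423, 428, 433, 475, 484, 501, 512,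 526, 543, 544, 560, 608, 619, 639, 672, 674, 698])) (.leaf [1, 11, 38, 46, 53, 87, 100, 107, 119, 120, 165, 197, 201, 224, 249, 258, 269, 271, 302, 310, 314, 324, 337, 339, 351, 444, 449, 454, 465, 467, 478, 484, 491, 513, 514, 528, 544, 552, 561, 582, 591, 598, 612, 619, 641, 655, 657, 661, 679, 697])) (.node (.leaf [0, 4, 13, 49, 61, 64, 69, 74, 84, 88, 93, 102, 135, 157, 161, 174, 198, 211, 218, 226, 231, 253, 274, 313, 331, 348, 365, 366, 377, 405, 407, 425, 438, 440, 452, 482, 506, 541, 580, 607, 627, 634, 644, 648, 653, 661, 663, 667, 677, 693]) (.leaf [34, 39, 78, 87, 91, 133, 142, 159, 160, 178, 182, 185, 217, 229, 233, 235, 236, 254, 257, 267, 272, 277, 284, 294, 297, 299, 345, 361, 363, 368, 384, 389, 403, 416, 423, 425, 475, 477, 499, 500, 525, 534, 536, 585, 600, 622, 625, 629, 671, 673])))) (.node (.node (.node (.node (.leaf [0, 2, 76, 87, 133, 148, 161, 175, 176, 181, 183, 206, 210, 233, 252, 258, 271, 282, 285, 303, 313, 315, 321, 324, 368, 371, 381, 402, 405, 417, 433, 440, 449, 479, 494, 498, 507, 536,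 542, 545, 555, 581, 600, 635, 646, 648, 675, 679, 687, 696]) (.leaf [1, 3, 28, 48, 54, 57, 65, 69, 93, 102, 139, 152, 176, 211, 215, 252, 255, 277, 284, 333, 342, 355, 368, 384, 402, 410, 420, 423, 424, 429, 451, 476, 480, 494, 501, 509, 546, 554, 556, 575, 601, 606, 613, 648, 653, 659, 668, 671, 698, 703])) (.leaf [14, 17, 51, 57, 91, 124, 127, 129, 139, 141, 153, 166, 168, 215, 221, 222, 264, 305, 311, 316, 320, 322, 343, 358, 385, 386, 392, 409, 411, 420, 447, 470, 497, 504, 517, 531, 540, 547, 556, 566, 571, 587, 596, 612, 620, 643, 648, 680, 683, 684])) (.node (.node (.leaf [0, 5, 13, 27, 52, 72, 88, 105, 108, 117, 120, 131, 145, 156, 173, 186, 190, 199, 203, 216, 231, 250, 267, 275, 290, 311, 337, 347, 352, 366, 370, 406, 419, 458, 491, 510, 513, 526, 528, 546, 553, 558, 578, 599, 610, 615, 619, 640, 663, 676]) (.leaf [13, 14, 19, 26, 30, 56, 90, 104, 127, 131, 173, 177, 193, 201, 217, 222, 228, 233, 251, 256, 290, 300, 343, 357, 361, 372, 383, 387, 422, 424, 487, 489, 496, 500, 509, 512, 521, 546, 548, 556, 558,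 573, 584, 611, 620, 622, 671, 682, 699, 703])) (.leaf [3, 38, 42, 47, 56, 70, 83, 93, 166, 169, 182, 196, 257, 265, 273, 302, 320, 324, 326, 352, 369, 384, 393, 394, 402, 420, 428, 445, 456, 468, 471, 475, 477, 479, 507, 517, 536, 555, 561, 562, 582, 612, 618, 624, 668, 672, 678, 680, 691, 701]))) (.node (.node (.node (.leaf [6, 9, 17, 21, 45, 51, 62, 76, 113, 117, 126, 128, 142, 148, 165, 174, 189, 204, 220, 246, 283, 288, 309, 321, 357, 358, 371, 374, 381, 400, 408, 410, 412, 448, 462, 472, 495, 498, 504, 523, 533, 551, 587, 596, 603, 637, 645, 674, 686, 701]) (.leaf [5, 9, 50, 73, 75, 88, 98, 103, 105, 117, 121, 135, 138, 142, 157, 162, 172, 223, 244, 253, 261, 287, 356, 399, 408, 411, 424, 428, 449, 462, 509, 516, 522, 540, 546, 549, 556, 566, 578, 596, 604, 611, 630, 632, 644, 653, 658, 662, 683, 703])) (.leaf [12, 14, 19, 26, 41, 49, 60, 95, 108, 146, 171, 186, 194, 239, 250, 262, 275, 292, 301, 306, 340, 348, 361, 365, 391, 404, 407, 433, 435, 437, 439, 452, 485, 487, 527, 549, 558, 572, 598, 603, 609, 614, 616,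 636, 638, 663, 666, 672, 681, 698])) (.node (.leaf [9, 10, 16, 37, 38, 74, 82, 89, 92, 110, 120, 124, 139, 140, 145, 157, 162, 166, 169, 187, 199, 224, 235, 260, 264, 268, 291, 303, 305, 310, 331, 366, 376, 415, 444, 455, 456, 503, 516, 540, 553, 578, 594, 618, 634, 661, 664, 666, 682, 691]) (.leaf [41, 43, 59, 71, 79, 82, 84, 96, 111, 140, 159, 167, 185, 234, 273, 280, 283, 294, 298, 305, 316, 323, 334, 367, 385, 396, 399, 427, 434, 446, 455, 458, 471, 480, 497, 502, 505, 517, 519, 534, 536, 565, 577, 582, 584, 594, 625, 643, 650, 691])))))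

def signBlk8 : Janko.Tree (List ℕ) :=
  (.node (.node (.node (.node (.node (.leaf [12, 22, 38, 68, 120, 123, 135, 136, 144, 156, 171, 173, 200, 224, 242, 251, 262, 304, 310, 349, 361, 383, 387, 414, 464, 467, 486, 515, 529, 540, 545, 556, 565, 566, 571, 580, 596, 599, 602, 610, 621, 626, 633, 661, 663, 667, 677, 681, 683, 685]) (.leaf [15, 25, 40, 81, 112, 115, 125, 129, 153, 164, 185, 239, 245, 247, 263, 281, 288, 306, 316, 334, 340, 346, 365, 374, 381, 397, 408, 427, 432, 436, 470, 472, 489, 503, 505, 519, 524, 531, 562, 568, 575, 587, 588, 615, 616, 636, 642, 657, 685, 692])) (.leaf [8, 61, 71, 77, 84, 103, 123, 129, 140, 156, 163, 204, 263, 264, 280, 307, 334, 344, 365, 384, 390, 394, 400, 408, 435, 453, 456, 483, 503, 504, 507, 517, 523, 541, 549, 560, 563, 564, 566, 586, 602, 614, 620, 632, 644, 661, 666, 681, 690, 701])) (.node (.node (.leaf [0, 5, 27, 29, 66, 72, 75, 87, 100, 103, 104, 130, 177, 200, 207, 209, 223, 286, 300, 313, 329, 355, 372, 405, 407, 424, 434, 439, 440, 448, 481, 484, 491, 492, 508, 543, 554,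 558, 590, 618, 636, 638, 641, 648, 656, 659, 662, 694, 697, 698]) (.leaf [7, 8, 19, 20, 22, 50, 82, 146, 168, 170, 173, 187, 189, 192, 197, 205, 220, 222, 225, 240, 257, 261, 265, 296, 320, 326, 340, 342, 357, 378, 386, 390, 395, 405, 414, 428, 456, 462, 469, 486, 504, 540, 548, 572, 592, 603, 632, 664, 681, 682])) (.leaf [11, 77, 78, 86, 91, 105, 127, 134, 142, 148, 177, 183, 188, 200, 209, 228, 237, 249, 276, 284, 287, 288, 314, 333, 358, 361, 410, 449, 464, 484, 492, 501, 509, 515, 520, 529, 532, 545, 557, 567, 570, 597, 600, 612, 643, 648, 658, 682, 686, 688]))) (.node (.node (.node (.leaf [15, 40, 43, 49, 56, 58, 127, 169, 184, 190, 194, 203, 215, 246, 251, 266, 277, 279, 294, 316, 319, 322, 353, 354, 367, 368, 384, 393, 423, 432, 436, 471, 474, 510, 513, 527, 547, 558, 572, 574, 583, 584, 589, 604, 615, 623, 669, 671, 672, 684]) (.leaf [4, 13, 21, 31, 44, 49, 59, 95, 112, 117, 123, 126, 134, 171, 172, 178, 192, 203, 205, 219, 230, 241, 251, 275, 279, 300, 318, 352, 395, 412, 453, 463, 466, 482, 523, 538, 540, 548,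 552, 564, 573, 580, 603, 604, 610, 614, 623, 644, 675, 703])) (.leaf [41, 55, 68, 120, 125, 137, 138, 145, 152, 167, 199, 203, 215, 227, 243, 245, 247, 252, 270, 276, 304, 316, 322, 330, 335, 346, 366, 383, 397, 398, 418, 431, 480, 511, 534, 541, 547, 569, 578, 592, 594, 596, 607, 630, 653, 662, 668, 677, 684, 693])) (.node (.leaf [42, 47, 63, 66, 71, 76, 78, 87, 93, 95, 107, 137, 151, 159, 176, 181, 200, 216, 228, 255, 257, 273, 285, 287, 315, 325, 333, 351, 372, 379, 403, 427, 441, 443, 455, 478, 481, 488, 490, 496, 521, 537, 554, 576, 591, 612, 650, 671, 699, 702]) (.leaf [10, 24, 41, 85, 109, 122, 129, 144, 150, 154, 156, 159, 161, 199, 207, 234, 243, 244, 263, 266, 275, 291, 293, 299, 304, 331, 334, 345, 346, 361, 365, 388, 391, 406, 414, 458, 476, 503, 518, 525, 535, 551, 598, 607, 617, 627, 629, 667, 676, 691])))) (.node (.node (.node (.node (.leaf [11, 17, 34, 38, 45, 53, 79, 88, 107, 116, 118, 122, 135, 142, 144, 157, 161, 163, 178, 230, 237, 260, 267, 279, 289, 336, 339, 344, 362, 376, 400, 406, 448, 483, 500,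 503, 515, 528, 532, 550, 553, 567, 603, 610, 626, 629, 644, 653, 660, 700]) (.leaf [0, 10, 12, 37, 66, 75, 77, 92, 102, 104, 107, 109, 117, 120, 123, 134, 140, 155, 157, 158, 163, 201, 225, 250, 263, 290, 293, 301, 333, 350, 406, 451, 452, 482, 484, 490, 500, 515, 521, 538, 549, 552, 556, 561, 574, 606, 658, 667, 698, 702])) (.leaf [3, 18, 21, 30, 45, 49, 55, 57, 90, 127, 129, 169, 173, 176, 182, 189, 191, 193, 212, 221, 249, 272, 296, 309, 318, 320, 323, 327, 329, 342, 369, 389, 395, 411, 421, 423, 474, 498, 501, 538, 570, 589, 600, 622, 635, 646, 675, 678, 686, 689])) (.node (.node (.leaf [10, 17, 29, 39, 47, 54, 90, 93, 106, 122, 150, 169, 188, 192, 201, 224, 237, 257, 260, 264, 269, 273, 284, 290, 292, 304, 338, 342, 386, 389, 415, 421, 442, 450, 469, 476, 486, 500, 521, 525, 529, 531, 556, 570, 612, 626, 628, 655, 670, 679]) (.leaf [6, 16, 20, 42, 58, 77, 79, 93, 123, 126, 140, 142, 163, 169, 195, 234, 236, 254, 257, 261, 273, 279, 309, 343, 368, 373, 385, 395, 411, 457, 463, 501, 504, 516, 521, 547, 549, 553, 575,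 584, 595, 612, 622, 645, 651, 659, 682, 688, 700, 703])) (.leaf [10, 14, 74, 84, 101, 110, 141, 171, 200, 209, 236, 259, 263, 265, 269, 293, 298, 305, 306, 310, 328, 339, 348, 376, 406, 426, 435, 439, 446, 450, 483, 484, 492, 502, 514, 519, 531, 533, 566, 570, 583, 586, 617, 626, 642, 648, 657, 660, 667, 693]))) (.node (.node (.node (.leaf [8, 19, 23, 91, 104, 124, 130, 132, 138, 144, 173, 176, 206, 212, 221, 222, 224, 248, 270, 308, 311, 321, 323, 357, 359, 370, 382, 412, 419, 449, 454, 464, 472, 492, 513, 542, 544, 578, 593, 596, 618, 621, 630, 634, 641, 662, 665, 682, 686, 696]) (.leaf [59, 78, 87, 94, 123, 127, 130, 159, 171, 179, 195, 201, 202, 209, 237, 251, 257, 267, 292, 295, 301, 304, 338, 360, 388, 406, 434, 437, 459, 465, 490, 514, 519, 520, 528, 551, 553, 558, 577, 580, 583, 584, 590, 598, 610, 651, 654, 658, 671, 695])) (.leaf [6, 28, 50, 62, 72, 87, 101, 107, 119, 143, 148, 178, 188, 196, 237, 255, 256, 261, 284, 286, 303, 363, 369, 380, 404, 417, 428, 436, 448, 461, 462, 469, 477, 478, 494, 508, 529, 551,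 555, 591, 593, 612, 625, 632, 651, 653, 654, 659, 695, 700])) (.node (.leaf [10, 38, 118, 121, 122, 139, 143, 158, 163, 168, 236, 242, 245, 267, 276, 302, 304, 317, 334, 384, 436, 451, 464, 476, 502, 514, 516, 525, 557, 561, 563, 566, 575, 582, 584, 587, 594, 600, 604, 612, 625, 633, 642, 653, 654, 656, 658, 666, 669, 684]) (.leaf [24, 31, 35, 45, 64, 81, 84, 97, 98, 113, 129, 154, 161, 178, 184, 204, 218, 233, 258, 272, 275, 281, 282, 296, 298, 307, 318, 329, 336, 345, 381, 401, 441, 446, 473, 482, 499, 502, 507, 519, 532, 534, 564, 601, 626, 634, 645, 647, 674, 692])))))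

def signBlk9 : Janko.Tree (List ℕ) :=
  (.node (.node (.node (.node (.node (.leaf [24, 40, 42, 46, 52, 71, 95, 108, 120, 122, 136, 158, 165, 202, 241, 243, 251, 263, 316, 332, 335, 351, 352, 396, 418, 430, 432, 436, 452, 459, 464, 466, 475, 479, 488, 490, 522, 538, 560, 563, 565, 577, 582, 598, 615, 638, 668, 676, 681, 690]) (.leaf [1, 7, 35, 72, 87, 104, 117, 118, 127, 131, 133, 138, 143, 155, 172, 179, 202, 233, 249, 266, 283, 301, 308, 318, 328, 336, 354, 368, 422, 448, 473, 495, 501, 508, 513, 515, 526, 553, 561, 575, 585, 600, 604, 644, 655, 659, 674, 686, 696, 703])) (.leaf [24, 63, 73, 87, 96, 100, 131, 150, 155, 165, 180, 198, 203, 204, 206, 270, 282, 308, 335, 336, 346, 371, 380, 396, 419, 441, 455, 458, 470, 472, 479, 480, 488, 491, 495, 519, 535, 551, 568, 576, 592, 597, 599, 636, 641, 646, 651, 654, 695, 697])) (.node (.node (.leaf [5, 50, 62, 65, 74, 84, 98, 100, 112, 149, 153, 167, 175, 184, 208, 214, 227, 253, 283, 284, 286, 315, 333, 346, 348, 379, 381, 396, 398, 409, 410, 427, 441, 447, 460, 481, 497,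 509, 530, 532, 543, 555, 596, 637, 642, 646, 648, 651, 652, 693]) (.leaf [1, 4, 25, 26, 32, 52, 63, 64, 66, 70, 73, 98, 100, 103, 107, 117, 156, 174, 178, 205, 231, 283, 324, 333, 337, 353, 355, 401, 402, 409, 419, 421, 429, 440, 444, 448, 453, 466, 479, 483, 490, 495, 507, 522, 555, 560, 653, 674, 700, 702])) (.leaf [1, 13, 18, 75, 82, 131, 154, 171, 173, 180, 192, 199, 200, 204, 207, 219, 225, 232, 258, 268, 274, 290, 292, 301, 310, 318, 328, 340, 343, 382, 389, 405, 415, 438, 518, 539, 552, 558, 581, 598, 626, 634, 641, 646, 654, 665, 667, 678, 687, 696]))) (.node (.node (.node (.leaf [37, 42, 56, 77, 99, 105, 112, 126, 128, 143, 159, 182, 184, 228, 232, 253, 272, 281, 282, 315, 316, 321, 332, 353, 375, 385, 402, 408, 410, 423, 433, 483, 489, 497, 517, 522, 538, 548, 554, 556, 561, 563, 564, 575, 600, 604, 622, 643, 674, 702]) (.leaf [1, 11, 24, 34, 52, 79, 86, 104, 158, 160, 185, 190, 202, 209, 266, 271, 277, 282, 288, 299, 312, 315, 316, 333, 334, 336, 347, 351, 355, 366, 402, 406, 427, 433, 441, 481, 482, 491, 514,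 519, 574, 583, 600, 607, 649, 653, 656, 670, 677, 693])) (.leaf [42, 46, 52, 86, 94, 110, 146, 149, 159, 183, 185, 196, 208, 228, 237, 238, 258, 276, 286, 294, 302, 313, 315, 349, 374, 392, 396, 416, 426, 432, 435, 437, 461, 465, 484, 536, 542, 554, 559, 562, 583, 589, 591, 604, 616, 625, 638, 642, 656, 672])) (.node (.leaf [13, 41, 68, 97, 119, 121, 122, 140, 144, 155, 161, 164, 171, 194, 198, 202, 219, 239, 268, 279, 307, 318, 335, 337, 350, 367, 406, 452, 456, 503, 514, 519, 526, 552, 565, 569, 575, 583, 585, 595, 599, 615, 645, 650, 661, 666, 684, 688, 693, 697]) (.leaf [6, 20, 40, 43, 59, 62, 95, 97, 112, 136, 147, 148, 164, 170, 180, 186, 195, 202, 215, 226, 238, 240, 247, 254, 279, 295, 379, 396, 398, 412, 426, 430, 437, 453, 460, 462, 468, 505, 521, 551, 569, 572, 576, 589, 591, 592, 594, 609, 636, 650])))) (.node (.node (.node (.node (.leaf [13, 19, 36, 40, 46, 55, 81, 106, 109, 115, 120, 124, 137, 144, 151, 155, 165, 180, 186, 216, 225, 239, 240, 262, 269, 291, 330, 341, 346, 351, 356, 378, 382, 387, 415, 419,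 455, 456, 486, 489, 512, 521, 525, 545, 569, 593, 598, 608, 640, 698]) (.leaf [12, 16, 20, 77, 93, 94, 106, 109, 122, 136, 151, 157, 160, 165, 175, 181, 186, 194, 199, 204, 224, 231, 256, 292, 303, 324, 352, 365, 371, 405, 414, 453, 456, 463, 469, 478, 490, 495, 528, 551, 552, 580, 599, 603, 650, 660, 678, 680, 690, 700])) (.leaf [5, 14, 23, 32, 51, 59, 75, 82, 111, 131, 147, 171, 187, 193, 208, 214, 223, 226, 251, 274, 294, 304, 311, 322, 348, 366, 377, 382, 393, 397, 398, 413, 424, 435, 439, 446, 497, 510, 540, 542, 559, 572, 579, 580, 591, 605, 610, 662, 664, 682])) (.node (.node (.leaf [13, 15, 17, 28, 41, 58, 65, 74, 93, 124, 131, 140, 151, 181, 187, 191, 195, 199, 215, 226, 235, 269, 290, 293, 304, 343, 346, 364, 367, 373, 407, 426, 439, 470, 481, 490, 497, 519, 520, 530, 546, 558, 568, 574, 607, 636, 649, 650, 670, 698]) (.leaf [1, 22, 24, 27, 32, 47, 53, 81, 98, 101, 153, 175, 206, 208, 212, 243, 258, 263, 270, 274, 298, 310, 330, 341, 347, 349, 383, 397, 416, 419, 433, 439, 440, 466, 472, 506, 510, 543, 545, 598,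 609, 616, 627, 639, 641, 647, 656, 663, 676, 693])) (.leaf [3, 6, 9, 19, 21, 37, 43, 67, 77, 83, 96, 133, 141, 154, 164, 181, 204, 225, 240, 248, 258, 273, 280, 283, 308, 318, 321, 325, 351, 378, 395, 401, 413, 418, 444, 453, 454, 456, 479, 538, 553, 561, 565, 576, 595, 634, 675, 690, 697, 702]))) (.node (.node (.node (.leaf [10, 25, 30, 44, 48, 54, 85, 98, 103, 113, 117, 123, 129, 134, 153, 175, 189, 208, 212, 242, 244, 262, 289, 316, 332, 400, 410, 420, 430, 443, 450, 467, 482, 522, 531, 538, 541, 557, 563, 567, 570, 587, 597, 601, 607, 626, 629, 653, 677, 693]) (.leaf [4, 9, 23, 27, 50, 53, 60, 88, 101, 149, 156, 166, 175, 182, 186, 196, 220, 265, 287, 303, 311, 324, 348, 358, 362, 371, 376, 392, 405, 409, 429, 434, 448, 484, 506, 527, 529, 532, 542, 544, 566, 602, 616, 619, 649, 661, 662, 681, 682, 701])) (.leaf [19, 22, 27, 32, 47, 67, 70, 82, 100, 130, 140, 150, 156, 186, 200, 204, 206, 223, 224, 251, 256, 262, 265, 290, 293, 299, 305, 311, 325, 339, 359, 386, 390, 418, 421, 435, 438, 455, 459, 470, 490, 496, 561,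 577, 598, 619, 620, 680, 691, 698])) (.node (.leaf [2, 8, 11, 18, 37, 47, 77, 108, 124, 129, 147, 165, 168, 174, 183, 189, 207, 212, 225, 243, 259, 262, 265, 292, 303, 310, 321, 341, 358, 374, 414, 432, 464, 485, 525, 538, 544, 556, 561, 562, 570, 586, 602, 616, 642, 666, 679, 680, 687, 691]) (.leaf [33, 52, 71, 73, 74, 101, 107, 121, 136, 157, 159, 163, 186, 239, 262, 286, 302, 304, 331, 335, 347, 349, 362, 364, 366, 397, 398, 406, 409, 427, 435, 436, 440, 453, 455, 491, 502, 515, 551, 568, 590, 598, 611, 632, 650, 652, 657, 661, 662, 698])))))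

def signBlk10 : Janko.Tree (List ℕ) :=
  (.node (.node (.node (.node (.node (.leaf [0, 24, 38, 44, 48, 54, 68, 118, 122, 160, 173, 179, 198, 203, 218, 230, 243, 267, 271, 318, 337, 353, 368, 389, 417, 420, 466, 468, 474, 477, 478, 495, 507, 511, 529, 534, 580, 583, 598, 601, 627, 646, 653, 655, 669, 670, 676, 678, 685, 695]) (.leaf [16, 19, 76, 81, 91, 125, 129, 151, 180, 205, 207, 232, 235, 256, 264, 273, 281, 290, 308, 321, 327, 342, 344, 356, 364, 371, 373, 375, 381, 403, 414, 442, 454, 457, 471, 488, 496, 498, 504, 517, 519, 525, 535, 536, 620, 622, 634, 664, 678, 691])) (.leaf [4, 17, 21, 29, 44, 48, 50, 54, 58, 63, 64, 89, 92, 116, 167, 169, 174, 186, 191, 193, 199, 214, 221, 226, 231, 247, 261, 279, 327, 352, 368, 376, 392, 410, 420, 428, 431, 445, 460, 462, 469, 510, 528, 530, 540, 547, 579, 628, 653, 701])) (.node (.node (.leaf [6, 14, 50, 112, 126, 142, 149, 171, 179, 185, 197, 229, 233, 237, 238, 278, 295, 296, 306, 348, 360, 363, 384, 387, 399, 409, 435, 436, 446, 472, 503, 504, 508, 515, 526, 532, 548, 564,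 567, 572, 584, 602, 604, 611, 633, 643, 645, 650, 683, 684]) (.leaf [11, 14, 17, 29, 35, 37, 54, 88, 91, 105, 109, 114, 117, 125, 128, 139, 143, 144, 163, 169, 190, 212, 235, 245, 247, 266, 277, 289, 291, 309, 316, 346, 357, 359, 374, 403, 411, 422, 501, 512, 520, 525, 546, 557, 574, 578, 606, 622, 628, 687])) (.leaf [45, 112, 126, 148, 165, 171, 202, 209, 214, 243, 248, 258, 270, 283, 294, 311, 314, 317, 319, 320, 323, 383, 397, 413, 432, 447, 464, 467, 473, 514, 519, 538, 564, 571, 576, 581, 583, 587, 589, 594, 597, 601, 604, 643, 646, 655, 685, 687, 693, 696]))) (.node (.node (.node (.leaf [2, 6, 77, 84, 113, 147, 149, 152, 189, 210, 228, 236, 255, 258, 264, 273, 281, 285, 296, 306, 320, 342, 379, 380, 384, 395, 400, 410, 426, 442, 447, 450, 468, 492, 499, 505, 525, 537, 555, 562, 571, 577, 587, 588, 595, 600, 613, 625, 632, 643]) (.leaf [43, 52, 60, 62, 71, 78, 115, 136, 143, 149, 153, 162, 167, 184, 228, 247, 254, 277, 278, 287, 289, 317, 333, 335, 355, 359, 362, 385, 393, 399, 400, 402, 408, 411, 426, 429, 431, 436,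 475, 504, 523, 547, 562, 567, 612, 625, 629, 631, 653, 701])) (.leaf [4, 26, 42, 50, 58, 62, 71, 73, 95, 127, 185, 186, 197, 204, 223, 256, 286, 326, 353, 364, 370, 372, 375, 392, 397, 408, 434, 437, 458, 463, 471, 488, 490, 497, 504, 516, 523, 531, 546, 548, 555, 559, 572, 610, 615, 636, 651, 680, 694, 701])) (.node (.leaf [38, 70, 73, 82, 99, 106, 121, 123, 143, 155, 157, 158, 172, 178, 196, 200, 204, 216, 219, 233, 240, 257, 260, 272, 290, 337, 345, 352, 387, 414, 454, 457, 458, 476, 478, 488, 503, 517, 534, 548, 553, 560, 565, 584, 598, 611, 632, 651, 655, 702]) (.leaf [8, 22, 38, 45, 52, 99, 119, 133, 134, 142, 149, 172, 179, 182, 188, 197, 212, 228, 240, 242, 249, 258, 297, 321, 345, 394, 400, 417, 428, 448, 464, 466, 473, 474, 479, 506, 522, 544, 560, 562, 564, 566, 601, 603, 605, 625, 630, 633, 639, 675])))) (.node (.node (.node (.node (.leaf [31, 34, 60, 67, 76, 78, 102, 104, 133, 134, 163, 177, 210, 212, 229, 231, 255, 280, 288, 300, 309, 313, 344, 350, 354, 356, 372, 395, 400, 402, 411, 412, 424, 441, 442, 449,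 483, 493, 499, 501, 522, 601, 607, 621, 622, 631, 634, 644, 674, 702]) (.leaf [2, 7, 9, 10, 28, 66, 100, 103, 115, 116, 119, 138, 141, 163, 169, 188, 212, 220, 222, 224, 248, 260, 264, 309, 328, 339, 355, 358, 377, 390, 395, 401, 411, 420, 428, 430, 445, 448, 451, 485, 492, 501, 561, 567, 586, 613, 619, 625, 658, 701])) (.leaf [7, 25, 32, 101, 107, 112, 116, 118, 123, 154, 165, 170, 179, 188, 204, 225, 241, 242, 258, 262, 293, 300, 306, 318, 338, 341, 386, 391, 401, 436, 451, 452, 467, 468, 472, 495, 503, 514, 525, 551, 560, 569, 577, 586, 599, 603, 609, 626, 632, 655])) (.node (.node (.leaf [7, 19, 27, 67, 76, 86, 95, 107, 126, 178, 183, 189, 193, 197, 201, 204, 228, 233, 237, 257, 259, 264, 272, 292, 300, 306, 325, 328, 338, 345, 373, 375, 394, 405, 434, 448, 483, 484, 499, 501, 533, 549, 552, 555, 561, 602, 672, 675, 678, 700]) (.leaf [7, 15, 17, 29, 33, 51, 59, 146, 162, 169, 187, 195, 234, 236, 247, 256, 265, 267, 293, 295, 303, 305, 339, 358, 362, 364, 375, 377, 384, 391, 393, 427, 435, 437, 469, 471, 499, 503, 504,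 525, 551, 587, 602, 616, 625, 628, 665, 672, 690, 700])) (.leaf [5, 8, 20, 23, 45, 50, 82, 85, 98, 128, 156, 166, 172, 174, 183, 199, 205, 206, 242, 253, 275, 282, 310, 320, 323, 327, 353, 371, 397, 415, 418, 420, 458, 479, 496, 506, 517, 523, 534, 538, 541, 565, 579, 580, 596, 634, 646, 676, 680, 690]))) (.node (.node (.node (.leaf [1, 12, 32, 69, 131, 132, 136, 177, 181, 195, 203, 210, 214, 224, 230, 250, 271, 301, 318, 325, 351, 354, 367, 383, 412, 419, 432, 438, 440, 452, 466, 491, 494, 512, 514, 569, 572, 576, 580, 590, 599, 607, 608, 620, 662, 668, 671, 696, 698, 702]) (.leaf [6, 16, 29, 32, 35, 58, 62, 67, 73, 75, 106, 116, 130, 163, 181, 187, 193, 205, 222, 225, 231, 241, 257, 260, 290, 301, 308, 339, 356, 372, 375, 412, 443, 444, 448, 455, 462, 491, 512, 520, 551, 552, 568, 578, 591, 610, 640, 655, 665, 703])) (.leaf [22, 38, 70, 79, 91, 110, 162, 196, 201, 223, 229, 237, 257, 261, 264, 286, 304, 338, 344, 362, 372, 393, 395, 425, 434, 443, 446, 449, 455, 464, 487, 492, 504, 517, 537, 566, 585, 591, 611, 613, 619,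 620, 625, 631, 633, 657, 660, 665, 682, 694])) (.node (.leaf [4, 13, 20, 49, 51, 68, 126, 131, 149, 170, 173, 176, 194, 199, 202, 214, 221, 227, 252, 323, 343, 360, 368, 371, 404, 462, 494, 508, 527, 529, 546, 558, 572, 580, 592, 597, 637, 644, 647, 648, 651, 658, 662, 680, 683, 685, 686, 688, 694, 697]) (.leaf [0, 3, 11, 28, 48, 87, 89, 92, 108, 118, 161, 169, 182, 190, 195, 199, 234, 236, 266, 269, 277, 292, 302, 313, 328, 369, 376, 388, 405, 407, 461, 476, 485, 500, 526, 529, 552, 559, 574, 583, 616, 619, 648, 658, 666, 673, 678, 686, 688, 700])))))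

def signBlk11 : Janko.Tree (List ℕ) :=
  (.node (.node (.node (.node (.node (.leaf [10, 16, 29, 75, 77, 89, 93, 102, 107, 124, 162, 175, 211, 237, 265, 287, 288, 302, 312, 315, 364, 372, 374, 381, 392, 403, 408, 411, 426, 442, 445, 448, 463, 483, 485, 491, 517, 530, 555, 557, 563, 574, 587, 613, 648, 653, 657, 661, 679, 700]) (.leaf [21, 22, 45, 48, 50, 85, 94, 112, 134, 146, 149, 161, 170, 175, 178, 183, 189, 192, 209, 226, 236, 243, 259, 274, 285, 292, 294, 297, 348, 361, 377, 389, 404, 415, 417, 461, 468, 498, 528, 532, 551, 571, 580, 602, 609, 617, 626, 628, 647, 686])) (.leaf [19, 23, 31, 47, 66, 94, 110, 134, 147, 171, 176, 188, 193, 201, 208, 213, 223, 225, 228, 240, 249, 250, 259, 263, 300, 339, 351, 378, 383, 389, 395, 412, 430, 438, 443, 450, 464, 467, 485, 486, 493, 520, 539, 571, 577, 589, 590, 609, 638, 641])) (.node (.node (.leaf [6, 8, 35, 72, 96, 114, 118, 133, 138, 142, 144, 155, 162, 235, 239, 241, 244, 247, 255, 260, 281, 297, 309, 331, 334, 345, 356, 362, 380, 390, 398, 401, 454, 456, 472, 493, 502,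 504, 524, 535, 550, 569, 584, 592, 594, 625, 631, 632, 645, 665]) (.leaf [10, 25, 26, 28, 47, 52, 62, 67, 87, 95, 100, 106, 109, 115, 116, 151, 165, 174, 186, 189, 190, 208, 263, 287, 289, 293, 332, 338, 347, 358, 374, 406, 427, 431, 437, 459, 461, 484, 491, 520, 529, 530, 532, 550, 609, 617, 628, 636, 641, 700])) (.leaf [38, 56, 68, 83, 133, 139, 173, 211, 219, 233, 253, 280, 296, 319, 320, 322, 342, 367, 368, 382, 385, 395, 424, 446, 457, 506, 516, 535, 536, 541, 564, 573, 580, 585, 594, 600, 605, 620, 623, 630, 632, 634, 645, 665, 666, 668, 683, 685, 696, 702]))) (.node (.node (.node (.leaf [13, 21, 31, 40, 48, 55, 60, 68, 79, 93, 95, 109, 123, 135, 136, 145, 150, 160, 176, 190, 194, 202, 217, 226, 230, 250, 255, 276, 278, 289, 333, 350, 361, 388, 407, 430, 474, 486, 500, 520, 528, 547, 570, 607, 608, 622, 628, 671, 676, 688]) (.leaf [6, 10, 17, 34, 36, 75, 77, 86, 107, 112, 143, 155, 159, 161, 165, 180, 233, 235, 236, 238, 258, 268, 273, 282, 284, 292, 295, 303, 314, 346, 375, 381, 414, 427, 455, 461, 502, 514, 518,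 520, 524, 533, 550, 553, 574, 595, 642, 650, 655, 686])) (.leaf [12, 18, 26, 56, 81, 126, 128, 164, 173, 197, 205, 220, 233, 306, 311, 318, 321, 324, 336, 341, 352, 370, 386, 408, 419, 432, 456, 467, 470, 473, 474, 488, 494, 506, 513, 527, 545, 560, 565, 573, 598, 602, 614, 620, 646, 674, 678, 680, 684, 697])) (.node (.leaf [24, 26, 30, 48, 62, 86, 95, 113, 126, 149, 153, 176, 178, 184, 188, 203, 209, 229, 255, 288, 300, 307, 333, 354, 360, 416, 422, 432, 437, 440, 467, 473, 475, 489, 495, 498, 508, 522, 554, 572, 577, 588, 600, 609, 636, 639, 646, 671, 675, 695]) (.leaf [16, 51, 65, 72, 88, 128, 139, 142, 157, 161, 167, 185, 199, 233, 234, 247, 253, 266, 282, 303, 335, 337, 347, 353, 363, 364, 367, 369, 370, 381, 384, 403, 409, 456, 470, 476, 495, 502, 507, 517, 527, 535, 547, 575, 644, 649, 651, 653, 685, 701])))) (.node (.node (.node (.node (.leaf [16, 33, 36, 43, 47, 53, 62, 80, 125, 136, 165, 166, 174, 180, 187, 191, 214, 247, 271, 282, 294, 302, 311, 315, 316, 321, 325, 346, 352, 358, 367, 370, 374, 392, 397, 402,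 409, 413, 419, 426, 433, 444, 455, 471, 490, 496, 513, 543, 578, 690]) (.leaf [7, 68, 74, 83, 100, 120, 130, 139, 141, 155, 170, 200, 214, 223, 225, 249, 260, 268, 284, 304, 343, 379, 383, 386, 399, 446, 450, 454, 480, 493, 508, 514, 521, 568, 576, 584, 591, 593, 595, 596, 613, 632, 643, 650, 654, 658, 682, 696, 698, 703])) (.leaf [14, 27, 33, 57, 61, 65, 70, 81, 152, 184, 211, 228, 232, 264, 280, 299, 306, 324, 348, 354, 362, 364, 367, 372, 385, 392, 402, 408, 425, 427, 432, 435, 439, 440, 446, 470, 482, 496, 499, 507, 536, 543, 555, 572, 621, 649, 656, 671, 673, 699])) (.node (.node (.leaf [7, 14, 18, 31, 58, 96, 127, 130, 140, 171, 195, 204, 220, 222, 281, 300, 306, 308, 319, 323, 329, 338, 343, 355, 373, 390, 395, 412, 435, 439, 446, 471, 473, 493, 498, 505, 518, 569, 572, 576, 585, 587, 588, 615, 620, 637, 644, 665, 695, 697]) (.leaf [3, 7, 14, 18, 36, 40, 57, 64, 83, 114, 128, 138, 140, 154, 168, 233, 234, 264, 268, 273, 281, 290, 293, 297, 298, 307, 319, 328, 340, 342, 385, 387, 391, 423, 450, 456, 470, 477, 501,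 503, 525, 527, 548, 561, 574, 584, 642, 666, 673, 698])) (.leaf [2, 11, 36, 41, 42, 47, 55, 57, 93, 110, 115, 121, 124, 141, 164, 167, 169, 190, 214, 249, 268, 273, 277, 278, 314, 316, 332, 350, 378, 410, 426, 430, 444, 451, 460, 480, 484, 521, 530, 538, 563, 571, 574, 583, 588, 594, 612, 642, 689, 692]))) (.node (.node (.node (.leaf [34, 45, 49, 55, 89, 113, 118, 134, 143, 149, 160, 185, 203, 211, 218, 226, 237, 238, 244, 247, 252, 255, 277, 279, 289, 297, 313, 314, 369, 381, 411, 417, 460, 462, 509, 563, 575, 588, 595, 600, 604, 623, 630, 645, 652, 674, 685, 687, 688, 693]) (.leaf [6, 32, 43, 58, 66, 71, 72, 82, 132, 146, 158, 163, 179, 223, 229, 240, 251, 255, 257, 281, 300, 354, 385, 391, 394, 399, 423, 425, 429, 435, 437, 451, 453, 522, 548, 555, 561, 573, 576, 585, 590, 605, 625, 632, 638, 658, 668, 672, 699, 703])) (.leaf [6, 16, 21, 32, 51, 58, 63, 65, 83, 112, 127, 131, 178, 180, 192, 204, 214, 233, 257, 272, 283, 285, 293, 295, 319, 321, 324, 342, 353, 369, 385, 386, 420, 422, 447, 469, 471, 494, 496, 499, 534,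 554, 572, 577, 580, 646, 650, 654, 670, 703])) (.node (.leaf [8, 11, 44, 51, 84, 89, 90, 98, 110, 115, 128, 142, 166, 168, 182, 184, 189, 196, 235, 237, 245, 261, 265, 273, 286, 297, 327, 328, 345, 375, 381, 411, 414, 458, 461, 476, 503, 505, 516, 531, 532, 549, 563, 567, 617, 625, 628, 643, 689, 701]) (.leaf [14, 19, 40, 90, 110, 124, 144, 147, 169, 170, 195, 227, 234, 236, 238, 245, 268, 276, 294, 297, 304, 323, 342, 361, 382, 389, 414, 465, 487, 493, 504, 519, 520, 524, 537, 558, 570, 585, 588, 593, 594, 616, 623, 643, 664, 667, 683, 684, 687, 688])))))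

def signBlk12 : Janko.Tree (List ℕ) :=
  (.node (.node (.node (.node (.node (.leaf [12, 18, 42, 77, 86, 95, 104, 109, 124, 126, 164, 177, 180, 190, 195, 203, 239, 289, 300, 308, 313, 314, 351, 371, 372, 374, 413, 433, 462, 465, 485, 488, 490, 513, 519, 520, 539, 552, 558, 575, 589, 615, 622, 637, 640, 675, 679, 686, 689, 696]) (.leaf [23, 61, 68, 133, 135, 136, 146, 148, 153, 177, 211, 216, 227, 228, 238, 252, 255, 277, 285, 286, 296, 330, 348, 356, 361, 363, 379, 382, 399, 404, 416, 425, 428, 440, 486, 493, 509, 537, 542, 544, 573, 590, 592, 609, 631, 633, 639, 662, 682, 698])) (.leaf [25, 30, 35, 44, 53, 55, 63, 81, 96, 114, 116, 119, 144, 165, 190, 203, 213, 221, 230, 240, 247, 248, 271, 278, 288, 309, 317, 318, 336, 338, 350, 355, 400, 412, 418, 430, 444, 466, 473, 475, 510, 513, 568, 589, 609, 615, 630, 640, 674, 693])) (.node (.node (.leaf [1, 25, 35, 53, 66, 72, 86, 95, 97, 106, 108, 118, 133, 135, 155, 159, 160, 178, 181, 203, 216, 218, 231, 238, 240, 254, 258, 274, 300, 312, 331, 344, 350, 388, 404, 406, 417,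 441, 452, 461, 479, 551, 552, 590, 598, 608, 638, 641, 673, 675]) (.leaf [1, 12, 27, 28, 49, 54, 89, 102, 106, 108, 117, 119, 135, 173, 174, 176, 188, 192, 210, 212, 221, 225, 230, 289, 300, 340, 356, 405, 417, 428, 448, 463, 467, 484, 487, 495, 500, 509, 512, 528, 545, 557, 602, 609, 627, 640, 662, 674, 679, 686])) (.leaf [0, 4, 9, 11, 35, 37, 45, 52, 66, 75, 89, 98, 104, 111, 116, 135, 175, 182, 191, 192, 208, 212, 249, 259, 275, 282, 311, 312, 314, 328, 374, 377, 410, 412, 444, 449, 461, 483, 484, 533, 539, 543, 553, 579, 604, 634, 640, 675, 687, 693]))) (.node (.node (.node (.leaf [23, 26, 33, 38, 46, 53, 62, 70, 81, 95, 107, 137, 179, 186, 192, 196, 217, 228, 231, 241, 251, 257, 278, 294, 325, 339, 349, 352, 363, 386, 393, 417, 429, 437, 466, 469, 474, 486, 510, 512, 528, 572, 590, 599, 602, 609, 611, 629, 670, 673]) (.leaf [16, 38, 68, 79, 92, 137, 148, 161, 167, 195, 210, 215, 226, 237, 268, 270, 277, 278, 284, 294, 302, 305, 315, 324, 348, 362, 366, 368, 377, 384, 392, 426, 447, 469, 514, 529, 537, 570, 580, 582,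 590, 595, 612, 649, 650, 652, 660, 671, 683, 685])) (.leaf [28, 51, 58, 72, 82, 90, 130, 139, 169, 172, 198, 207, 222, 235, 244, 256, 261, 267, 291, 304, 308, 323, 326, 328, 342, 368, 389, 391, 421, 422, 424, 458, 470, 477, 481, 510, 517, 534, 547, 559, 578, 584, 592, 619, 624, 654, 658, 665, 668, 694])) (.node (.leaf [0, 28, 32, 34, 39, 53, 73, 88, 119, 132, 139, 162, 211, 212, 231, 247, 266, 271, 276, 302, 312, 330, 354, 362, 366, 368, 376, 393, 403, 417, 424, 428, 444, 448, 507, 511, 513, 542, 579, 590, 604, 618, 625, 631, 652, 656, 663, 665, 668, 673]) (.leaf [17, 38, 45, 50, 89, 90, 127, 142, 168, 173, 183, 193, 196, 232, 236, 257, 266, 295, 303, 311, 314, 321, 352, 368, 370, 375, 393, 415, 416, 448, 463, 465, 513, 517, 529, 552, 557, 559, 578, 580, 603, 604, 611, 622, 654, 664, 679, 683, 685, 687])))) (.node (.node (.node (.node (.leaf [22, 33, 38, 51, 64, 69, 71, 82, 85, 98, 101, 138, 152, 157, 167, 178, 242, 260, 265, 284, 296, 299, 304, 330, 348, 363, 376, 385, 386, 390, 399, 401, 420, 424, 429, 447, 450, 468,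 477, 503, 507, 510, 535, 541, 566, 625, 627, 628, 633, 652]) (.leaf [20, 26, 49, 51, 109, 116, 123, 127, 128, 142, 156, 169, 172, 178, 183, 189, 243, 250, 256, 267, 292, 333, 352, 359, 360, 385, 386, 391, 420, 423, 428, 436, 459, 474, 476, 495, 500, 522, 526, 529, 546, 548, 557, 561, 566, 602, 629, 659, 681, 701])) (.leaf [3, 6, 25, 29, 34, 42, 59, 63, 65, 67, 72, 86, 97, 115, 181, 184, 191, 234, 246, 255, 272, 281, 282, 308, 313, 326, 328, 355, 368, 373, 374, 380, 403, 411, 422, 427, 444, 460, 471, 480, 498, 543, 555, 574, 589, 625, 636, 673, 674, 701])) (.node (.node (.leaf [6, 9, 33, 51, 72, 75, 83, 98, 100, 139, 197, 204, 206, 222, 232, 259, 265, 281, 283, 302, 310, 321, 329, 340, 375, 380, 397, 409, 434, 445, 446, 449, 455, 470, 473, 503, 506, 517, 542, 555, 560, 586, 604, 625, 632, 642, 655, 656, 664, 696]) (.leaf [3, 19, 24, 41, 47, 81, 87, 95, 96, 151, 160, 164, 180, 191, 195, 258, 268, 271, 272, 292, 294, 298, 306, 319, 324, 339, 350, 388, 427, 432, 438, 468, 470, 475, 498, 518, 525, 537, 570, 577, 583, 589, 599,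 608, 617, 647, 670, 672, 679, 690])) (.leaf [0, 5, 27, 49, 50, 57, 64, 72, 83, 89, 98, 172, 178, 182, 185, 193, 197, 217, 219, 232, 253, 274, 296, 326, 328, 341, 349, 352, 368, 404, 417, 422, 425, 429, 461, 476, 507, 509, 511, 527, 542, 548, 554, 558, 572, 605, 639, 646, 672, 674]))) (.node (.node (.node (.leaf [35, 36, 39, 42, 53, 79, 104, 111, 120, 132, 134, 136, 142, 145, 159, 163, 203, 217, 228, 239, 240, 249, 251, 277, 279, 295, 315, 317, 350, 366, 382, 399, 413, 454, 464, 512, 514, 520, 553, 565, 578, 585, 591, 594, 604, 611, 623, 631, 683, 702]) (.leaf [9, 15, 44, 49, 50, 88, 116, 118, 128, 139, 145, 168, 171, 173, 198, 212, 221, 243, 244, 247, 266, 275, 297, 310, 319, 323, 328, 341, 377, 390, 473, 503, 507, 510, 526, 541, 566, 587, 603, 605, 614, 616, 626, 645, 662, 664, 667, 684, 686, 692])) (.leaf [2, 8, 18, 23, 61, 67, 83, 85, 97, 111, 133, 146, 182, 206, 213, 235, 259, 264, 274, 280, 297, 298, 312, 323, 326, 329, 330, 345, 376, 388, 391, 395, 405, 424, 435, 438, 492, 498, 507, 537, 543, 616, 619, 625, 634, 638,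 664, 667, 672, 691])) (.node (.leaf [13, 14, 30, 34, 74, 104, 112, 117, 130, 135, 144, 155, 170, 203, 208, 226, 239, 245, 263, 275, 288, 301, 347, 356, 360, 383, 399, 407, 413, 441, 473, 492, 509, 515, 518, 520, 533, 551, 569, 597, 607, 609, 610, 626, 637, 641, 645, 662, 687, 692]) (.leaf [40, 69, 70, 122, 137, 150, 153, 194, 254, 256, 304, 306, 334, 343, 360, 363, 364, 385, 387, 390, 437, 456, 468, 471, 474, 476, 487, 488, 494, 504, 525, 534, 537, 547, 568, 573, 577, 585, 592, 599, 612, 621, 632, 650, 668, 671, 681, 685, 695, 698])))))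

def signBlk13 : Janko.Tree (List ℕ) :=
  (.node (.node (.node (.node (.node (.leaf [5, 9, 20, 22, 31, 45, 61, 68, 79, 84, 97, 111, 134, 141, 144, 149, 166, 171, 221, 226, 248, 261, 278, 297, 322, 376, 379, 395, 399, 401, 410, 412, 431, 447, 493, 504, 533, 541, 565, 567, 570, 594, 597, 630, 635, 644, 661, 682, 689, 692]) (.leaf [3, 25, 32, 129, 132, 138, 153, 207, 213, 243, 246, 267, 271, 280, 282, 298, 309, 316, 319, 321, 323, 335, 354, 359, 384, 390, 401, 402, 418, 420, 422, 433, 470, 473, 474, 495, 499, 506, 523, 525, 535, 560, 576, 587, 600, 606, 621, 625, 668, 691])) (.leaf [1, 32, 37, 39, 46, 55, 57, 82, 98, 116, 121, 139, 169, 173, 192, 213, 215, 223, 225, 241, 242, 249, 251, 291, 311, 317, 319, 321, 340, 352, 383, 387, 419, 420, 422, 428, 445, 450, 466, 511, 513, 538, 541, 556, 561, 578, 605, 655, 669, 702])) (.node (.node (.leaf [1, 10, 37, 39, 47, 52, 55, 88, 92, 99, 106, 108, 120, 135, 137, 142, 157, 159, 161, 166, 175, 183, 217, 242, 253, 277, 285, 286, 302, 314, 330, 333, 346, 349, 352, 402, 414, 417, 429,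 460, 477, 478, 529, 544, 557, 563, 579, 628, 653, 676]) (.leaf [25, 26, 52, 71, 72, 86, 97, 100, 114, 119, 179, 185, 196, 267, 298, 306, 329, 335, 336, 339, 345, 354, 362, 390, 407, 434, 436, 458, 471, 472, 475, 476, 503, 507, 510, 527, 561, 566, 583, 585, 598, 614, 617, 619, 624, 639, 656, 673, 695, 700])) (.leaf [13, 16, 20, 37, 54, 74, 77, 93, 113, 125, 135, 137, 146, 175, 177, 180, 193, 210, 214, 225, 226, 252, 284, 314, 321, 342, 357, 379, 382, 411, 412, 415, 443, 463, 496, 520, 538, 540, 556, 571, 579, 581, 594, 596, 607, 623, 635, 683, 686, 702]))) (.node (.node (.node (.leaf [25, 33, 41, 58, 64, 70, 72, 81, 82, 97, 181, 187, 198, 204, 219, 230, 241, 247, 275, 280, 290, 319, 327, 330, 341, 353, 365, 366, 391, 396, 419, 438, 445, 453, 456, 468, 471, 502, 506, 511, 535, 540, 568, 572, 598, 615, 664, 668, 673, 690]) (.leaf [29, 30, 55, 62, 91, 103, 115, 124, 150, 152, 177, 188, 221, 222, 226, 245, 255, 261, 287, 289, 309, 326, 342, 356, 373, 378, 381, 410, 431, 443, 463, 481, 487, 488, 493, 505, 508, 521, 531, 546,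 568, 589, 592, 596, 613, 631, 637, 641, 688, 695])) (.leaf [6, 14, 28, 49, 50, 59, 75, 113, 117, 127, 146, 169, 170, 189, 192, 209, 214, 222, 237, 245, 293, 300, 328, 341, 343, 375, 410, 423, 436, 450, 460, 463, 485, 508, 520, 530, 539, 549, 554, 556, 559, 575, 587, 589, 605, 636, 642, 655, 658, 687])) (.node (.leaf [14, 29, 32, 74, 102, 125, 138, 147, 152, 162, 207, 210, 212, 222, 224, 244, 263, 265, 280, 291, 300, 304, 330, 340, 343, 356, 364, 382, 391, 425, 438, 443, 451, 486, 492, 524, 541, 556, 568, 587, 606, 620, 626, 632, 656, 663, 664, 666, 669, 698]) (.leaf [3, 21, 40, 49, 58, 68, 82, 85, 93, 122, 140, 147, 168, 170, 195, 198, 214, 224, 242, 250, 292, 305, 318, 322, 343, 377, 384, 388, 391, 395, 420, 431, 439, 450, 453, 469, 538, 541, 571, 577, 581, 583, 586, 594, 606, 658, 667, 668, 681, 691])))) (.node (.node (.node (.node (.leaf [3, 24, 31, 40, 60, 65, 66, 69, 71, 84, 97, 100, 103, 114, 140, 151, 153, 155, 255, 262, 280, 299, 306, 330, 332, 334, 350, 355, 378, 391, 398, 401, 406, 418, 426, 431, 438, 440, 450,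 452, 480, 492, 568, 576, 607, 609, 637, 639, 692, 699]) (.leaf [13, 14, 18, 30, 36, 41, 56, 61, 81, 104, 110, 125, 129, 140, 145, 190, 212, 250, 262, 274, 281, 291, 299, 311, 317, 319, 322, 351, 367, 383, 412, 418, 433, 438, 483, 497, 519, 538, 540, 565, 570, 606, 614, 621, 623, 634, 667, 676, 690, 692])) (.leaf [30, 38, 57, 69, 71, 78, 123, 126, 141, 179, 200, 228, 248, 250, 272, 279, 299, 307, 316, 319, 324, 333, 336, 338, 350, 354, 384, 387, 395, 401, 421, 446, 450, 466, 474, 483, 500, 514, 561, 565, 567, 571, 577, 582, 585, 601, 612, 620, 670, 703])) (.node (.node (.leaf [1, 11, 16, 29, 33, 50, 75, 101, 117, 130, 139, 157, 174, 199, 206, 208, 215, 224, 243, 267, 271, 283, 285, 293, 303, 304, 311, 346, 359, 377, 420, 448, 491, 495, 514, 529, 550, 556, 579, 581, 586, 597, 607, 626, 648, 652, 654, 658, 663, 686]) (.leaf [16, 32, 38, 58, 70, 78, 92, 122, 136, 156, 159, 163, 230, 250, 257, 267, 291, 305, 316, 352, 364, 366, 385, 393, 403, 421, 424, 442, 482, 490, 497, 517, 523, 535, 541, 546, 556, 579, 581, 607, 611, 621,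 623, 628, 653, 669, 671, 677, 690, 703])) (.leaf [29, 48, 58, 93, 95, 146, 176, 180, 193, 195, 210, 219, 227, 231, 237, 255, 256, 301, 312, 326, 343, 365, 369, 373, 389, 393, 395, 405, 417, 425, 439, 442, 462, 468, 487, 499, 536, 554, 559, 573, 580, 589, 590, 623, 664, 669, 671, 673, 679, 694]))) (.node (.node (.node (.leaf [38, 55, 69, 71, 93, 102, 106, 118, 120, 122, 134, 137, 163, 211, 219, 224, 230, 241, 254, 261, 278, 330, 350, 379, 394, 401, 428, 430, 443, 444, 450, 453, 457, 462, 467, 469, 479, 487, 540, 562, 569, 590, 595, 613, 631, 632, 653, 661, 669, 702]) (.leaf [5, 7, 43, 56, 63, 126, 149, 176, 193, 196, 211, 215, 220, 222, 229, 249, 279, 314, 321, 325, 355, 369, 372, 379, 392, 395, 408, 410, 413, 428, 444, 447, 449, 463, 466, 484, 508, 512, 542, 555, 572, 589, 590, 605, 612, 631, 674, 683, 696, 703])) (.leaf [10, 25, 29, 34, 45, 87, 91, 118, 189, 207, 208, 213, 237, 245, 258, 266, 271, 289, 300, 309, 312, 328, 339, 345, 375, 380, 389, 416, 442, 449, 464, 473, 492, 498, 519, 524, 551, 586, 588, 601, 616, 624,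 627, 640, 654, 656, 665, 679, 686, 695])) (.node (.leaf [14, 26, 28, 48, 50, 88, 90, 152, 184, 208, 226, 237, 244, 267, 277, 287, 288, 305, 346, 349, 361, 363, 364, 393, 406, 416, 425, 436, 476, 487, 508, 511, 528, 531, 547, 557, 558, 566, 610, 616, 627, 628, 648, 652, 656, 662, 670, 677, 685, 694]) (.leaf [14, 30, 35, 56, 91, 99, 104, 111, 115, 139, 152, 184, 209, 213, 223, 229, 244, 249, 276, 280, 296, 298, 316, 323, 328, 355, 383, 398, 411, 423, 425, 447, 450, 472, 481, 493, 509, 510, 542, 567, 585, 588, 601, 604, 625, 630, 639, 642, 656, 692])))))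

def signBlk14 : Janko.Tree (List ℕ) :=
  (.node (.node (.node (.node (.node (.leaf [17, 20, 34, 44, 58, 78, 97, 130, 133, 145, 161, 180, 191, 194, 199, 203, 226, 230, 234, 246, 266, 271, 274, 283, 294, 308, 312, 318, 323, 366, 369, 371, 377, 388, 412, 499, 519, 535, 550, 553, 578, 580, 594, 606, 622, 635, 645, 665, 687, 690]) (.leaf [2, 10, 17, 21, 37, 61, 65, 67, 76, 79, 85, 92, 129, 140, 151, 157, 160, 166, 174, 182, 190, 234, 265, 273, 282, 284, 292, 298, 324, 333, 359, 377, 385, 401, 403, 410, 421, 426, 483, 496, 499, 501, 532, 571, 607, 629, 635, 648, 690, 701])) (.leaf [19, 38, 108, 118, 122, 132, 145, 163, 169, 172, 194, 212, 225, 230, 240, 251, 256, 267, 290, 301, 309, 319, 338, 345, 351, 388, 391, 395, 456, 465, 475, 486, 501, 513, 524, 552, 560, 585, 599, 602, 614, 618, 620, 622, 665, 667, 669, 673, 679, 691])) (.node (.node (.leaf [25, 41, 48, 59, 64, 70, 84, 93, 95, 106, 112, 122, 158, 161, 179, 185, 218, 236, 255, 272, 279, 292, 306, 333, 349, 353, 364, 385, 406, 426, 436, 450, 453, 461, 469, 477, 482, 503,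 530, 549, 554, 563, 574, 582, 629, 651, 652, 671, 672, 701]) (.leaf [1, 10, 24, 28, 35, 54, 64, 72, 75, 88, 99, 100, 102, 107, 115, 116, 118, 121, 138, 155, 199, 219, 245, 261, 269, 291, 329, 331, 337, 341, 347, 381, 407, 444, 450, 460, 477, 480, 503, 509, 511, 531, 568, 574, 626, 640, 652, 654, 656, 693])) (.leaf [7, 15, 26, 29, 32, 51, 62, 64, 72, 101, 114, 117, 131, 139, 152, 186, 214, 220, 222, 246, 341, 346, 355, 356, 359, 362, 387, 390, 399, 409, 418, 423, 428, 437, 470, 472, 494, 509, 511, 513, 526, 543, 547, 568, 572, 593, 609, 636, 662, 699]))) (.node (.node (.node (.leaf [1, 3, 10, 25, 46, 66, 83, 84, 87, 99, 101, 154, 158, 178, 183, 189, 200, 206, 208, 243, 249, 259, 273, 282, 284, 292, 299, 329, 332, 388, 421, 422, 451, 458, 460, 477, 479, 481, 539, 554, 561, 577, 583, 601, 625, 639, 643, 646, 655, 658]) (.leaf [23, 31, 68, 79, 85, 90, 131, 151, 153, 177, 200, 206, 209, 226, 271, 285, 299, 304, 323, 342, 360, 383, 389, 421, 425, 439, 441, 443, 447, 480, 492, 497, 499, 518, 535, 536, 570, 577, 581, 596, 601,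 606, 620, 627, 634, 647, 648, 671, 677, 695])) (.leaf [5, 23, 44, 52, 62, 79, 94, 135, 137, 148, 175, 176, 203, 209, 227, 230, 271, 287, 289, 313, 314, 370, 392, 397, 412, 416, 431, 441, 442, 448, 462, 464, 466, 479, 490, 522, 528, 551, 579, 580, 591, 597, 611, 631, 641, 652, 661, 663, 677, 694])) (.node (.leaf [2, 6, 43, 76, 86, 101, 127, 140, 149, 164, 194, 214, 282, 293, 302, 306, 324, 332, 335, 355, 358, 384, 408, 427, 432, 434, 437, 453, 470, 485, 490, 495, 514, 526, 554, 561, 574, 576, 582, 586, 612, 637, 643, 648, 651, 659, 681, 696, 698, 700]) (.leaf [11, 47, 75, 91, 99, 105, 111, 120, 124, 158, 200, 207, 208, 222, 244, 263, 286, 291, 304, 311, 315, 317, 347, 375, 383, 396, 415, 442, 455, 458, 465, 480, 489, 490, 496, 516, 519, 520, 531, 538, 557, 558, 579, 596, 611, 641, 642, 655, 657, 677])))) (.node (.node (.node (.node (.leaf [1, 2, 9, 69, 72, 82, 101, 103, 109, 118, 120, 133, 138, 155, 156, 173, 198, 206, 225, 243, 253, 302, 331, 335, 340, 391, 405, 418, 428, 453, 457, 476, 478, 494, 507, 527, 544, 560, 593,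 599, 618, 633, 639, 658, 663, 666, 668, 680, 697, 698]) (.leaf [5, 6, 9, 21, 51, 59, 64, 66, 73, 74, 83, 85, 97, 101, 116, 130, 140, 155, 156, 170, 179, 187, 199, 204, 235, 261, 275, 283, 292, 328, 377, 390, 399, 405, 406, 435, 452, 458, 460, 502, 527, 532, 548, 550, 552, 636, 644, 651, 659, 700])) (.leaf [11, 28, 34, 58, 67, 75, 79, 84, 92, 111, 134, 146, 159, 162, 208, 227, 235, 236, 245, 255, 260, 276, 284, 287, 304, 313, 331, 377, 388, 399, 406, 411, 425, 426, 430, 443, 450, 460, 481, 492, 521, 551, 579, 590, 594, 606, 624, 628, 653, 659])) (.node (.node (.leaf [3, 13, 18, 57, 61, 68, 77, 92, 103, 124, 141, 151, 176, 194, 201, 210, 220, 224, 265, 269, 306, 325, 342, 350, 372, 379, 394, 405, 438, 457, 485, 487, 493, 501, 536, 545, 571, 612, 618, 620, 634, 649, 660, 667, 679, 681, 682, 688, 697, 698]) (.leaf [3, 9, 11, 25, 44, 52, 85, 96, 100, 118, 149, 161, 164, 166, 174, 198, 243, 246, 258, 270, 282, 303, 312, 330, 334, 376, 381, 397, 400, 426, 430, 445, 452, 460, 469, 478, 502, 507, 551, 562, 582, 586, 594, 617, 625,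 652, 661, 690, 693, 700])) (.leaf [5, 22, 26, 31, 44, 50, 63, 91, 98, 101, 116, 126, 131, 170, 172, 179, 189, 192, 196, 201, 204, 209, 221, 222, 249, 260, 311, 329, 337, 339, 387, 421, 446, 448, 459, 467, 473, 509, 510, 529, 531, 533, 567, 596, 610, 627, 641, 646, 654, 694]))) (.node (.node (.node (.leaf [12, 14, 16, 48, 76, 112, 123, 127, 128, 161, 194, 211, 232, 236, 267, 289, 292, 300, 307, 318, 343, 360, 365, 384, 432, 483, 494, 499, 501, 515, 519, 525, 556, 570, 574, 581, 587, 600, 603, 607, 620, 623, 627, 645, 649, 667, 670, 679, 685, 686]) (.leaf [14, 34, 37, 40, 53, 61, 64, 81, 88, 97, 111, 115, 145, 160, 167, 185, 187, 191, 216, 227, 234, 239, 246, 268, 275, 277, 278, 295, 297, 299, 331, 346, 349, 362, 367, 376, 398, 407, 426, 461, 502, 510, 526, 532, 542, 609, 617, 628, 672, 693])) (.leaf [1, 12, 15, 36, 57, 74, 89, 105, 120, 125, 139, 210, 215, 233, 239, 253, 268, 276, 302, 311, 314, 341, 347, 348, 367, 382, 408, 433, 485, 508, 512, 515, 526, 542, 544, 556, 558, 574, 604, 642, 648, 656, 662, 667, 682, 685, 687,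 693, 697, 699])) (.node (.leaf [12, 14, 16, 61, 81, 89, 124, 137, 145, 162, 186, 194, 210, 220, 226, 230, 238, 247, 279, 288, 357, 362, 365, 367, 370, 373, 393, 409, 413, 457, 462, 486, 504, 512, 541, 546, 568, 573, 603, 610, 615, 621, 622, 631, 644, 661, 662, 665, 683, 684]) (.leaf [6, 15, 16, 32, 34, 37, 58, 64, 74, 113, 117, 138, 141, 163, 211, 215, 247, 278, 280, 282, 317, 318, 355, 367, 377, 385, 398, 400, 409, 410, 413, 427, 445, 446, 450, 452, 483, 503, 514, 540, 569, 574, 587, 594, 604, 606, 644, 652, 692, 703])))))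

def signBlk15 : Janko.Tree (List ℕ) :=
  (.node (.node (.node (.node (.node (.leaf [19, 22, 36, 39, 46, 57, 80, 82, 91, 99, 111, 166, 182, 193, 196, 201, 216, 228, 233, 248, 259, 265, 268, 273, 285, 294, 296, 299, 310, 314, 321, 324, 349, 379, 383, 386, 415, 446, 454, 497, 532, 537, 543, 545, 564, 570, 634, 642, 646, 683]) (.leaf [4, 12, 19, 20, 23, 27, 30, 60, 63, 64, 67, 81, 94, 97, 131, 151, 174, 176, 180, 187, 190, 192, 204, 217, 220, 226, 231, 275, 325, 326, 356, 370, 372, 379, 404, 412, 418, 439, 440, 497, 498, 532, 543, 573, 608, 635, 637, 641, 646, 675])) (.leaf [40, 46, 50, 83, 101, 120, 165, 167, 169, 171, 187, 196, 198, 214, 242, 269, 292, 294, 303, 305, 311, 340, 347, 349, 353, 386, 397, 414, 437, 458, 460, 468, 470, 476, 503, 511, 526, 529, 530, 558, 582, 592, 598, 617, 642, 647, 650, 654, 680, 684])) (.node (.node (.leaf [43, 57, 70, 73, 102, 104, 114, 120, 124, 138, 141, 163, 223, 281, 291, 308, 316, 335, 337, 350, 355, 367, 373, 403, 408, 418, 445, 455, 456, 471, 481, 489, 491, 513, 516, 546, 560, 568,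 575, 584, 612, 614, 619, 620, 631, 656, 668, 696, 699, 702]) (.leaf [1, 13, 27, 64, 69, 86, 100, 107, 130, 151, 154, 157, 160, 179, 200, 217, 233, 269, 285, 292, 298, 307, 324, 332, 337, 346, 348, 361, 362, 386, 404, 406, 441, 476, 494, 500, 508, 515, 526, 529, 533, 545, 599, 609, 627, 646, 649, 651, 671, 698])) (.leaf [13, 15, 17, 26, 32, 36, 50, 64, 75, 81, 89, 99, 106, 112, 117, 128, 157, 175, 187, 193, 204, 232, 262, 264, 275, 291, 293, 310, 340, 347, 348, 352, 357, 364, 374, 386, 409, 414, 483, 496, 502, 531, 532, 541, 549, 556, 602, 610, 627, 629]))) (.node (.node (.node (.leaf [13, 36, 53, 60, 77, 81, 94, 106, 113, 134, 136, 148, 161, 164, 174, 210, 229, 238, 259, 262, 278, 289, 306, 315, 324, 333, 349, 351, 379, 401, 408, 413, 427, 432, 441, 452, 466, 483, 484, 515, 533, 544, 563, 564, 571, 603, 609, 661, 675, 693]) (.leaf [51, 54, 91, 99, 112, 128, 138, 142, 153, 154, 173, 189, 206, 232, 242, 244, 252, 284, 296, 320, 341, 342, 346, 356, 361, 381, 383, 387, 415, 417, 422, 473, 476, 488, 495, 508, 524, 534, 544,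 556, 593, 597, 600, 627, 632, 642, 647, 654, 684, 687])) (.leaf [5, 22, 26, 31, 49, 56, 61, 69, 70, 103, 152, 173, 176, 212, 221, 223, 231, 250, 323, 326, 354, 391, 392, 394, 418, 420, 424, 429, 430, 439, 466, 475, 486, 506, 511, 523, 540, 547, 567, 573, 615, 619, 620, 631, 639, 662, 669, 677, 681, 695])) (.node (.leaf [30, 45, 79, 90, 105, 123, 127, 128, 143, 144, 173, 185, 203, 244, 267, 288, 308, 316, 322, 334, 337, 345, 360, 371, 459, 464, 473, 475, 488, 505, 516, 519, 523, 535, 547, 564, 567, 585, 596, 601, 611, 614, 621, 622, 631, 644, 676, 684, 688, 694]) (.leaf [51, 74, 77, 82, 84, 92, 146, 156, 158, 182, 201, 206, 232, 234, 237, 253, 257, 264, 285, 287, 292, 303, 304, 343, 348, 361, 364, 384, 404, 414, 424, 434, 477, 496, 516, 536, 548, 554, 557, 559, 581, 632, 642, 648, 650, 659, 667, 680, 683, 698])))) (.node (.node (.node (.node (.leaf [2, 9, 11, 74, 76, 84, 103, 104, 124, 128, 138, 140, 154, 199, 207, 235, 245, 253, 280, 282, 308, 312, 322, 329, 334, 342, 380, 411, 480, 493, 517, 518, 538, 575, 587, 595, 597,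 601, 606, 635, 636, 642, 645, 648, 658, 667, 686, 688, 693, 696]) (.leaf [2, 11, 29, 47, 87, 90, 101, 114, 124, 139, 151, 153, 166, 207, 234, 264, 269, 270, 276, 284, 287, 299, 302, 305, 331, 335, 346, 359, 363, 381, 402, 427, 454, 471, 477, 480, 492, 524, 537, 542, 545, 592, 613, 617, 619, 625, 642, 649, 656, 698])) (.leaf [24, 26, 30, 40, 47, 54, 57, 63, 65, 71, 81, 91, 98, 115, 128, 150, 152, 166, 185, 190, 216, 272, 290, 298, 317, 327, 332, 337, 346, 352, 386, 402, 418, 421, 422, 458, 471, 474, 477, 481, 489, 497, 511, 530, 535, 547, 629, 647, 671, 677])) (.node (.node (.leaf [6, 15, 19, 33, 35, 37, 81, 112, 132, 146, 180, 193, 210, 212, 228, 233, 238, 241, 246, 259, 274, 280, 295, 297, 300, 318, 320, 340, 356, 374, 383, 413, 416, 423, 433, 473, 498, 513, 525, 542, 572, 588, 603, 605, 608, 623, 665, 673, 674, 687]) (.leaf [1, 5, 13, 30, 54, 56, 68, 98, 102, 104, 120, 134, 154, 172, 176, 200, 202, 216, 218, 248, 253, 314, 332, 336, 350, 378, 383, 419, 440, 466, 478, 480, 488, 509, 539, 544, 564, 596, 600, 631, 635, 638,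 640, 646, 675, 677, 688, 692, 697, 702])) (.leaf [7, 23, 32, 35, 52, 63, 67, 79, 87, 97, 101, 130, 132, 149, 178, 209, 228, 248, 258, 271, 283, 284, 295, 299, 324, 339, 354, 358, 363, 377, 398, 400, 413, 426, 434, 441, 446, 449, 455, 472, 493, 498, 515, 533, 543, 550, 576, 590, 609, 625]))) (.node (.node (.node (.leaf [6, 18, 42, 73, 82, 87, 96, 130, 133, 180, 187, 194, 196, 216, 233, 234, 238, 256, 269, 295, 302, 325, 362, 366, 368, 370, 373, 404, 434, 454, 456, 470, 512, 527, 536, 543, 552, 558, 572, 585, 590, 593, 599, 619, 650, 664, 672, 682, 696, 699]) (.leaf [39, 81, 88, 107, 118, 160, 196, 210, 218, 232, 236, 238, 259, 264, 268, 296, 302, 307, 330, 341, 345, 348, 363, 364, 380, 405, 414, 417, 456, 469, 476, 487, 503, 506, 524, 536, 545, 562, 598, 603, 617, 626, 633, 657, 661, 665, 666, 672, 679, 685])) (.leaf [16, 21, 23, 50, 62, 78, 91, 131, 137, 142, 144, 151, 156, 166, 187, 216, 226, 234, 256, 260, 284, 286, 295, 304, 347, 357, 359, 361, 362, 371, 386, 399, 414, 455, 459, 497, 505, 521, 528, 533, 534, 547, 550,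 578, 592, 597, 611, 628, 651, 683])) (.node (.leaf [6, 18, 43, 46, 63, 87, 90, 115, 126, 142, 164, 168, 188, 196, 222, 228, 240, 249, 256, 272, 294, 309, 316, 320, 338, 359, 375, 386, 422, 437, 455, 459, 464, 471, 472, 475, 488, 504, 513, 520, 525, 561, 576, 584, 588, 593, 613, 624, 642, 655]) (.leaf [6, 16, 32, 36, 39, 76, 107, 133, 137, 139, 143, 157, 163, 210, 224, 228, 232, 257, 265, 284, 303, 320, 325, 357, 358, 362, 385, 387, 401, 402, 408, 428, 449, 454, 456, 495, 500, 513, 515, 525, 544, 557, 560, 602, 613, 620, 633, 683, 698, 703])))))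

def signBlk : Janko.Tree (List ℕ) :=
  (.node (.node (.node (.node signBlk0 signBlk8) (.node signBlk4 signBlk12)) (.node (.node signBlk2 signBlk10) (.node signBlk6 signBlk14))) (.node (.node (.node signBlk1 signBlk9) (.node signBlk5 signBlk13)) (.node (.node signBlk3 signBlk11) (.node signBlk7 signBlk15))))

def signTgt0 : Janko.Tree (ℕ × Bool) :=
  (.node (.node (.node (.node (.node (.leaf (1, false)) (.leaf (314, false))) (.leaf (197, false))) (.node (.node (.leaf (111, false)) (.leaf (318, false))) (.leaf (44, true)))) (.node (.node (.node (.leaf (57, false)) (.leaf (331, false))) (.leaf (229, false))) (.node (.leaf (157, false)) (.leaf (292, false))))) (.node (.node (.node (.node (.leaf (30, false)) (.leaf (224, true))) (.leaf (162, false))) (.node (.node (.leaf (133, false)) (.leaf (25, true))) (.leaf (95, false)))) (.node (.node (.node (.leaf (82, false)) (.leaf (15, false))) (.leaf (54, false))) (.node (.leaf (175, false)) (.leaf (304, false))))))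

def signTgt1 : Janko.Tree (ℕ × Bool) :=
  (.node (.node (.node (.node (.node (.leaf (2, false)) (.leaf (121, false))) (.leaf (198, false))) (.node (.node (.leaf (112, false)) (.leaf (320, false))) (.leaf (260, false)))) (.node (.node (.node (.leaf (58, false)) (.leaf (332, false))) (.leaf (171, true))) (.node (.leaf (45, true)) (.leaf (148, false))))) (.node (.node (.node (.node (.leaf (3, false)) (.leaf (133, false))) (.leaf (50, false))) (.node (.node (.leaf (96, true)) (.leaf (284, false))) (.leaf (81, false)))) (.node (.node (.node (.leaf (41, false)) (.leaf (340, true))) (.leaf (64, false))) (.node (.leaf (176, false)) (.leaf (305, false))))))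

def signTgt2 : Janko.Tree (ℕ × Bool) :=
  (.node (.node (.node (.node (.node (.leaf (3, false)) (.leaf (276, false))) (.leaf (75, true))) (.node (.node (.leaf (113, false)) (.leaf (156, true))) (.leaf (104, true)))) (.node (.node (.node (.leaf (59, false)) (.leaf (326, true))) (.leaf (230, false))) (.node (.leaf (92, true)) (.leaf (278, false))))) (.node (.node (.node (.node (.leaf (31, false)) (.leaf (185, false))) (.leaf (217, false))) (.node (.node (.leaf (134, false)) (.leaf (201, false))) (.leaf (275, false)))) (.node (.node (.node (.leaf (83, false)) (.leaf (90, false))) (.leaf (242, false))) (.node (.leaf (177, false)) (.leaf (137, true))))))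

def signTgt3 : Janko.Tree (ℕ × Bool) :=
  (.node (.node (.node (.node (.node (.leaf (4, false)) (.leaf (128, true))) (.leaf (83, false))) (.node (.node (.leaf (19, false)) (.leaf (204, false))) (.leaf (193, false)))) (.node (.node (.node (.leaf (60, false)) (.leaf (163, false))) (.leaf (231, false))) (.node (.leaf (31, false)) (.leaf (175, true))))) (.node (.node (.node (.node (.leaf (32, false)) (.leaf (259, true))) (.leaf (218, false))) (.node (.node (.leaf (135, false)) (.leaf (239, false))) (.leaf (276, false)))) (.node (.node (.node (.leaf (84, false)) (.leaf (199, true))) (.leaf (243, false))) (.node (.leaf (178, false)) (.leaf (225, true))))))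

def signTgt4 : Janko.Tree (ℕ × Bool) :=
  (.node (.node (.node (.node (.node (.leaf (5, false)) (.leaf (186, false))) (.leaf (199, false))) (.node (.node (.leaf (114, false)) (.leaf (310, true))) (.leaf (188, true)))) (.node (.node (.node (.leaf (61, false)) (.leaf (333, false))) (.leaf (221, false))) (.node (.leaf (158, false)) (.leaf (293, false))))) (.node (.node (.node (.node (.leaf (33, false)) (.leaf (295, false))) (.leaf (46, false))) (.node (.node (.leaf (136, false)) (.leaf (347, true))) (.leaf (32, true)))) (.node (.node (.node (.leaf (85, false)) (.leaf (312, false))) (.leaf (115, true))) (.node (.leaf (179, false)) (.leaf (236, false))))))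

def signTgt5 : Janko.Tree (ℕ × Bool) :=
  (.node (.node (.node (.node (.node (.leaf (6, false)) (.leaf (264, false))) (.leaf (200, false))) (.node (.node (.leaf (115, false)) (.leaf (345, false))) (.leaf (73, false)))) (.node (.node (.node (.leaf (9, false)) (.leaf (334, false))) (.leaf (169, true))) (.node (.leaf (47, false)) (.leaf (292, true))))) (.node (.node (.node (.node (.leaf (34, false)) (.leaf (138, true))) (.leaf (103, true))) (.node (.node (.leaf (137, false)) (.leaf (286, true))) (.leaf (266, false)))) (.node (.node (.node (.leaf (86, false)) (.leaf (319, true))) (.leaf (244, false))) (.node (.leaf (147, false)) (.leaf (251, false))))))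

def signTgt6 : Janko.Tree (ℕ × Bool) :=
  (.node (.node (.node (.node (.node (.leaf (7, false)) (.leaf (127, true))) (.leaf (80, false))) (.node (.node (.leaf (116, false)) (.leaf (29, false))) (.leaf (261, false)))) (.node (.node (.node (.leaf (62, false)) (.leaf (335, false))) (.leaf (106, true))) (.node (.leaf (34, true)) (.leaf (250, false))))) (.node (.node (.node (.node (.leaf (35, false)) (.leaf (198, false))) (.leaf (108, false))) (.node (.node (.leaf (138, false)) (.leaf (299, false))) (.leaf (277, false)))) (.node (.node (.node (.leaf (87, false)) (.leaf (342, false))) (.leaf (245, false))) (.node (.leaf (180, false)) (.leaf (306, false))))))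

def signTgt7 : Janko.Tree (ℕ × Bool) :=
  (.node (.node (.node (.node (.node (.leaf (8, false)) (.leaf (316, false))) (.leaf (201, false))) (.node (.node (.leaf (117, false)) (.leaf (329, true))) (.leaf (262, false)))) (.node (.node (.node (.leaf (63, false)) (.leaf (336, false))) (.leaf (232, false))) (.node (.leaf (159, false)) (.leaf (294, false))))) (.node (.node (.node (.node (.leaf (36, false)) (.leaf (322, false))) (.leaf (219, false))) (.node (.node (.leaf (139, false)) (.leaf (228, false))) (.leaf (278, false)))) (.node (.node (.node (.leaf (88, false)) (.leaf (177, false))) (.leaf (246, false))) (.node (.leaf (181, false)) (.leaf (307, false))))))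

def signTgt8 : Janko.Tree (ℕ × Bool) :=
  (.node (.node (.node (.node (.node (.leaf (9, false)) (.leaf (63, false))) (.leaf (202, false))) (.node (.node (.leaf (118, false)) (.leaf (272, true))) (.leaf (97, true)))) (.node (.node (.node (.leaf (64, false)) (.leaf (51, true))) (.leaf (233, false))) (.node (.leaf (110, true)) (.leaf (117, false))))) (.node (.node (.node (.node (.leaf (37, false)) (.leaf (262, false))) (.leaf (27, false))) (.node (.node (.leaf (140, false)) (.leaf (102, true))) (.leaf (279, false)))) (.node (.node (.node (.leaf (89, false)) (.leaf (281, true))) (.leaf (247, false))) (.node (.leaf (77, true)) (.leaf (139, true))))))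

def signTgt9 : Janko.Tree (ℕ × Bool) :=
  (.node (.node (.node (.node (.node (.leaf (10, false)) (.leaf (123, false))) (.leaf (203, false))) (.node (.node (.leaf (52, true)) (.leaf (270, true))) (.leaf (263, false)))) (.node (.node (.node (.leaf (65, false)) (.leaf (154, true))) (.leaf (234, false))) (.node (.leaf (160, false)) (.leaf (295, false))))) (.node (.node (.node (.node (.leaf (38, false)) (.leaf (245, false))) (.leaf (152, false))) (.node (.node (.leaf (141, false)) (.leaf (330, true))) (.leaf (213, true)))) (.node (.node (.node (.leaf (90, false)) (.leaf (195, false))) (.leaf (248, false))) (.node (.leaf (43, false)) (.leaf (113, false))))))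

def signTgt10 : Janko.Tree (ℕ × Bool) :=
  (.node (.node (.node (.node (.node (.leaf (11, false)) (.leaf (203, true))) (.leaf (204, false))) (.node (.node (.leaf (119, false)) (.leaf (346, false))) (.leaf (264, false)))) (.node (.node (.node (.leaf (66, false)) (.leaf (332, false))) (.leaf (235, false))) (.node (.leaf (161, false)) (.leaf (296, false))))) (.node (.node (.node (.node (.leaf (39, false)) (.leaf (323, false))) (.leaf (220, false))) (.node (.node (.leaf (142, false)) (.leaf (349, false))) (.leaf (280, false)))) (.node (.node (.node (.leaf (91, false)) (.leaf (334, false))) (.leaf (23, true))) (.node (.leaf (182, false)) (.leaf (308, false))))))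

def signTgt11 : Janko.Tree (ℕ × Bool) :=
  (.node (.node (.node (.node (.node (.leaf (12, false)) (.leaf (247, false))) (.leaf (205, false))) (.node (.node (.leaf (20, false)) (.leaf (325, false))) (.leaf (265, false)))) (.node (.node (.node (.leaf (67, false)) (.leaf (337, false))) (.leaf (211, false))) (.node (.leaf (162, false)) (.leaf (261, false))))) (.node (.node (.node (.node (.leaf (40, false)) (.leaf (324, false))) (.leaf (158, true))) (.node (.node (.leaf (143, false)) (.leaf (348, true))) (.leaf (281, false)))) (.node (.node (.node (.leaf (92, false)) (.leaf (280, false))) (.leaf (66, false))) (.node (.leaf (37, false)) (.leaf (209, false))))))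

def signTgt12 : Janko.Tree (ℕ × Bool) :=
  (.node (.node (.node (.node (.node (.leaf (13, false)) (.leaf (184, true))) (.leaf (192, false))) (.node (.node (.leaf (120, false)) (.leaf (38, false))) (.leaf (205, true)))) (.node (.node (.node (.leaf (68, false)) (.leaf (232, true))) (.leaf (12, true))) (.node (.leaf (163, false)) (.leaf (71, true))))) (.node (.node (.node (.node (.leaf (41, false)) (.leaf (226, true))) (.leaf (146, true))) (.node (.node (.leaf (143, false)) (.leaf (132, false))) (.leaf (282, false)))) (.node (.node (.node (.leaf (93, false)) (.leaf (60, false))) (.leaf (249, false))) (.node (.leaf (183, false)) (.leaf (309, false))))))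

def signTgt13 : Janko.Tree (ℕ × Bool) :=
  (.node (.node (.node (.node (.node (.leaf (0, false)) (.leaf (308, false))) (.leaf (206, false))) (.node (.node (.leaf (105, true)) (.leaf (309, false))) (.leaf (257, true)))) (.node (.node (.node (.leaf (69, false)) (.leaf (335, false))) (.leaf (236, false))) (.node (.leaf (107, true)) (.leaf (297, false))))) (.node (.node (.node (.node (.leaf (14, false)) (.leaf (165, false))) (.leaf (221, false))) (.node (.node (.leaf (144, false)) (.leaf (342, false))) (.leaf (131, true)))) (.node (.node (.node (.leaf (94, false)) (.leaf (179, false))) (.leaf (164, true))) (.node (.leaf (184, false)) (.leaf (310, false))))))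

def signTgt14 : Janko.Tree (ℕ × Bool) :=
  (.node (.node (.node (.node (.node (.leaf (14, false)) (.leaf (200, true))) (.leaf (207, false))) (.node (.node (.leaf (36, false)) (.leaf (274, false))) (.leaf (266, false)))) (.node (.node (.node (.leaf (70, false)) (.leaf (338, false))) (.leaf (237, false))) (.node (.leaf (164, false)) (.leaf (268, true))))) (.node (.node (.node (.node (.leaf (42, false)) (.leaf (325, false))) (.leaf (222, false))) (.node (.node (.leaf (145, false)) (.leaf (345, true))) (.leaf (283, false)))) (.node (.node (.node (.leaf (67, false)) (.leaf (322, true))) (.leaf (196, true))) (.node (.leaf (84, true)) (.leaf (311, false))))))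

def signTgt15 : Janko.Tree (ℕ × Bool) :=
  (.node (.node (.node (.node (.node (.leaf (15, false)) (.leaf (126, false))) (.leaf (208, false))) (.node (.node (.leaf (111, true)) (.leaf (338, true))) (.leaf (240, true)))) (.node (.node (.node (.leaf (71, false)) (.leaf (339, false))) (.leaf (70, true))) (.node (.leaf (87, true)) (.leaf (298, false))))) (.node (.node (.node (.node (.leaf (5, false)) (.leaf (311, false))) (.leaf (109, true))) (.node (.node (.leaf (146, false)) (.leaf (279, false))) (.leaf (136, true)))) (.node (.node (.node (.leaf (95, false)) (.leaf (343, false))) (.leaf (250, false))) (.node (.leaf (185, false)) (.leaf (229, false))))))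

def signTgt16 : Janko.Tree (ℕ × Bool) :=
  (.node (.node (.node (.node (.node (.leaf (10, false)) (.leaf (170, true))) (.leaf (209, false))) (.node (.node (.leaf (121, false)) (.leaf (112, true))) (.leaf (267, false)))) (.node (.node (.node (.leaf (72, false)) (.leaf (297, true))) (.leaf (160, false))) (.node (.leaf (165, false)) (.leaf (48, true))))) (.node (.node (.node (.node (.leaf (43, false)) (.leaf (321, true))) (.leaf (223, false))) (.node (.node (.leaf (147, false)) (.leaf (124, false))) (.leaf (284, false)))) (.node (.node (.node (.leaf (96, false)) (.leaf (181, true))) (.leaf (251, false))) (.node (.leaf (122, false)) (.leaf (298, true))))))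

def signTgt17 : Janko.Tree (ℕ × Bool) :=
  (.node (.node (.node (.node (.node (.leaf (16, false)) (.leaf (189, false))) (.leaf (142, true))) (.node (.node (.leaf (122, false)) (.leaf (347, false))) (.leaf (268, false)))) (.node (.node (.node (.leaf (11, false)) (.leaf (323, false))) (.leaf (238, false))) (.node (.leaf (33, false)) (.leaf (289, false))))) (.node (.node (.node (.node (.leaf (44, false)) (.leaf (326, false))) (.leaf (224, false))) (.node (.node (.leaf (28, false)) (.leaf (255, false))) (.leaf (85, false)))) (.node (.node (.node (.leaf (97, false)) (.leaf (300, true))) (.leaf (74, false))) (.node (.leaf (186, false)) (.leaf (140, false))))))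

def signTgt18 : Janko.Tree (ℕ × Bool) :=
  (.node (.node (.node (.node (.node (.leaf (17, false)) (.leaf (305, false))) (.leaf (210, false))) (.node (.node (.leaf (123, false)) (.leaf (219, true))) (.leaf (269, false)))) (.node (.node (.node (.leaf (73, false)) (.leaf (339, true))) (.leaf (239, false))) (.node (.leaf (166, false)) (.leaf (178, true))))) (.node (.node (.node (.node (.leaf (45, false)) (.leaf (2, true))) (.leaf (225, false))) (.node (.node (.leaf (148, false)) (.leaf (215, false))) (.leaf (254, true)))) (.node (.node (.node (.leaf (98, false)) (.leaf (88, false))) (.leaf (141, true))) (.node (.leaf (187, false)) (.leaf (241, false))))))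

def signTgt19 : Janko.Tree (ℕ × Bool) :=
  (.node (.node (.node (.node (.node (.leaf (18, false)) (.leaf (317, false))) (.leaf (202, true))) (.node (.node (.leaf (124, false)) (.leaf (296, true))) (.leaf (214, true)))) (.node (.node (.node (.leaf (26, false)) (.leaf (174, false))) (.leaf (101, true))) (.node (.leaf (167, false)) (.leaf (299, false))))) (.node (.node (.node (.node (.leaf (46, false)) (.leaf (212, true))) (.leaf (89, false))) (.node (.node (.leaf (93, false)) (.leaf (275, false))) (.leaf (217, false)))) (.node (.node (.node (.leaf (99, false)) (.leaf (183, false))) (.leaf (237, false))) (.node (.leaf (188, false)) (.leaf (312, false))))))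

def signTgt20 : Janko.Tree (ℕ × Bool) :=
  (.node (.node (.node (.node (.node (.leaf (19, false)) (.leaf (0, false))) (.leaf (211, false))) (.node (.node (.leaf (125, false)) (.leaf (271, true))) (.leaf (263, false)))) (.node (.node (.node (.leaf (74, false)) (.leaf (294, true))) (.leaf (238, true))) (.node (.leaf (168, false)) (.leaf (300, false))))) (.node (.node (.node (.node (.leaf (47, false)) (.leaf (327, false))) (.leaf (40, false))) (.node (.node (.leaf (149, false)) (.leaf (343, true))) (.leaf (6, true)))) (.node (.node (.node (.leaf (100, false)) (.leaf (285, false))) (.leaf (8, false))) (.node (.leaf (189, false)) (.leaf (208, false))))))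

def signTgt21 : Janko.Tree (ℕ × Bool) :=
  (.node (.node (.node (.node (.node (.leaf (1, false)) (.leaf (269, false))) (.leaf (207, true))) (.node (.node (.leaf (118, false)) (.leaf (304, false))) (.leaf (82, true)))) (.node (.node (.node (.leaf (75, false)) (.leaf (161, false))) (.leaf (62, false))) (.node (.leaf (157, true)) (.leaf (182, true))))) (.node (.node (.node (.node (.leaf (48, false)) (.leaf (328, false))) (.leaf (226, false))) (.node (.node (.leaf (68, true)) (.leaf (346, false))) (.leaf (285, false)))) (.node (.node (.node (.leaf (17, false)) (.leaf (187, false))) (.leaf (252, false))) (.node (.leaf (190, false)) (.leaf (313, false))))))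

def signTgt22 : Janko.Tree (ℕ × Bool) :=
  (.node (.node (.node (.node (.node (.leaf (20, false)) (.leaf (231, true))) (.leaf (212, false))) (.node (.node (.leaf (126, false)) (.leaf (324, false))) (.leaf (243, true)))) (.node (.node (.node (.leaf (76, false)) (.leaf (340, false))) (.leaf (176, true))) (.node (.leaf (169, false)) (.leaf (301, false))))) (.node (.node (.node (.node (.leaf (49, false)) (.leaf (316, false))) (.leaf (86, false))) (.node (.node (.leaf (150, false)) (.leaf (206, false))) (.leaf (286, false)))) (.node (.node (.node (.leaf (101, false)) (.leaf (190, true))) (.leaf (253, false))) (.node (.leaf (191, false)) (.leaf (21, true))))))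

def signTgt23 : Janko.Tree (ℕ × Bool) :=
  (.node (.node (.node (.node (.node (.leaf (21, false)) (.leaf (318, false))) (.leaf (129, false))) (.node (.node (.leaf (127, false)) (.leaf (267, false))) (.leaf (79, false)))) (.node (.node (.node (.leaf (77, false)) (.leaf (223, true))) (.leaf (100, true))) (.node (.leaf (59, true)) (.leaf (150, false))))) (.node (.node (.node (.node (.leaf (22, false)) (.leaf (283, false))) (.leaf (166, false))) (.node (.node (.leaf (53, true)) (.leaf (282, false))) (.leaf (114, false)))) (.node (.node (.node (.leaf (102, false)) (.leaf (344, false))) (.leaf (254, false))) (.node (.leaf (192, false)) (.leaf (287, true))))))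

def signTgt24 : Janko.Tree (ℕ × Bool) :=
  (.node (.node (.node (.node (.node (.leaf (22, false)) (.leaf (319, false))) (.leaf (213, false))) (.node (.node (.leaf (128, false)) (.leaf (348, false))) (.leaf (270, false)))) (.node (.node (.node (.leaf (16, false)) (.leaf (144, true))) (.leaf (56, false))) (.node (.leaf (94, true)) (.leaf (302, false))))) (.node (.node (.node (.node (.leaf (50, false)) (.leaf (194, false))) (.leaf (135, false))) (.node (.node (.leaf (151, false)) (.leaf (315, true))) (.leaf (287, false)))) (.node (.node (.node (.leaf (103, false)) (.leaf (244, true))) (.leaf (255, false))) (.node (.leaf (193, false)) (.leaf (307, true))))))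

def signTgt25 : Janko.Tree (ℕ × Bool) :=
  (.node (.node (.node (.node (.node (.leaf (23, false)) (.leaf (130, false))) (.leaf (180, false))) (.node (.node (.leaf (98, false)) (.leaf (220, false))) (.leaf (271, false)))) (.node (.node (.node (.leaf (78, false)) (.leaf (249, true))) (.leaf (151, true))) (.node (.leaf (170, false)) (.leaf (155, false))))) (.node (.node (.node (.node (.leaf (51, false)) (.leaf (291, false))) (.leaf (55, false))) (.node (.node (.leaf (91, true)) (.leaf (350, false))) (.leaf (288, false)))) (.node (.node (.node (.leaf (104, false)) (.leaf (273, true))) (.leaf (256, false))) (.node (.leaf (194, false)) (.leaf (120, false))))))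

def signTgt26 : Janko.Tree (ℕ × Bool) :=
  (.node (.node (.node (.node (.node (.leaf (24, false)) (.leaf (317, false))) (.leaf (214, false))) (.node (.node (.leaf (129, false)) (.leaf (337, false))) (.leaf (248, true)))) (.node (.node (.node (.leaf (79, false)) (.leaf (341, false))) (.leaf (240, false))) (.node (.leaf (171, false)) (.leaf (265, false))))) (.node (.node (.node (.node (.leaf (52, false)) (.leaf (329, false))) (.leaf (227, false))) (.node (.node (.leaf (152, false)) (.leaf (351, false))) (.leaf (65, false)))) (.node (.node (.node (.leaf (105, false)) (.leaf (216, true))) (.leaf (257, false))) (.node (.leaf (195, false)) (.leaf (313, true))))))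

def signTgt27 : Janko.Tree (ℕ × Bool) :=
  (.node (.node (.node (.node (.node (.leaf (25, false)) (.leaf (210, false))) (.leaf (49, false))) (.node (.node (.leaf (116, false)) (.leaf (306, true))) (.leaf (272, false)))) (.node (.node (.node (.leaf (80, false)) (.leaf (303, false))) (.leaf (134, true))) (.node (.leaf (172, false)) (.leaf (119, false))))) (.node (.node (.node (.node (.leaf (7, false)) (.leaf (145, false))) (.leaf (61, true))) (.node (.node (.leaf (153, false)) (.leaf (349, false))) (.leaf (235, false)))) (.node (.node (.node (.leaf (106, false)) (.leaf (197, false))) (.leaf (258, false))) (.node (.leaf (125, false)) (.leaf (301, true))))))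

def signTgt28 : Janko.Tree (ℕ × Bool) :=
  (.node (.node (.node (.node (.node (.leaf (26, false)) (.leaf (320, false))) (.leaf (58, true))) (.node (.node (.leaf (130, false)) (.leaf (256, true))) (.leaf (273, false)))) (.node (.node (.node (.leaf (81, false)) (.leaf (234, true))) (.leaf (18, true))) (.node (.leaf (173, false)) (.leaf (218, true))))) (.node (.node (.node (.node (.leaf (53, false)) (.leaf (330, false))) (.leaf (228, false))) (.node (.node (.leaf (154, false)) (.leaf (344, true))) (.leaf (289, false)))) (.node (.node (.node (.leaf (107, false)) (.leaf (336, true))) (.leaf (259, false))) (.node (.leaf (4, false)) (.leaf (288, false))))))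

def signTgt29 : Janko.Tree (ℕ × Bool) :=
  (.node (.node (.node (.node (.node (.leaf (27, false)) (.leaf (277, true))) (.leaf (215, false))) (.node (.node (.leaf (24, false)) (.leaf (222, false))) (.leaf (173, true)))) (.node (.node (.node (.leaf (13, false)) (.leaf (168, false))) (.leaf (230, false))) (.node (.leaf (35, false)) (.leaf (302, false))))) (.node (.node (.node (.node (.leaf (54, false)) (.leaf (327, false))) (.leaf (191, false))) (.node (.node (.leaf (30, false)) (.leaf (341, true))) (.leaf (290, false)))) (.node (.node (.node (.leaf (108, false)) (.leaf (331, false))) (.leaf (72, false))) (.node (.leaf (196, false)) (.leaf (314, false))))))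

def signTgt30 : Janko.Tree (ℕ × Bool) :=
  (.node (.node (.node (.node (.node (.leaf (28, false)) (.leaf (246, true))) (.leaf (172, false))) (.node (.node (.leaf (131, false)) (.leaf (260, true))) (.leaf (159, true)))) (.node (.node (.node (.leaf (78, false)) (.leaf (258, false))) (.leaf (167, false))) (.node (.leaf (174, false)) (.leaf (303, false))))) (.node (.node (.node (.node (.leaf (55, false)) (.leaf (328, true))) (.leaf (69, false))) (.node (.node (.leaf (155, false)) (.leaf (350, false))) (.leaf (291, false)))) (.node (.node (.node (.leaf (109, false)) (.leaf (252, false))) (.leaf (99, false))) (.node (.leaf (153, false)) (.leaf (290, false))))))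

def signTgt31 : Janko.Tree (ℕ × Bool) :=
  (.node (.node (.node (.node (.node (.leaf (29, false)) (.leaf (321, false))) (.leaf (216, false))) (.node (.node (.leaf (132, false)) (.leaf (227, false))) (.leaf (274, false)))) (.node (.node (.node (.leaf (76, false)) (.leaf (253, true))) (.leaf (241, false))) (.node (.leaf (39, true)) (.leaf (293, false))))) (.node (.node (.node (.node (.leaf (56, false)) (.leaf (242, true))) (.leaf (57, false))) (.node (.node (.leaf (156, false)) (.leaf (351, false))) (.leaf (233, true)))) (.node (.node (.node (.leaf (110, false)) (.leaf (333, false))) (.leaf (149, true))) (.node (.leaf (42, false)) (.leaf (315, false))))))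

def signTgt : Janko.Tree (ℕ × Bool) :=
  (.node (.node (.node (.node (.node signTgt0 signTgt16) (.node signTgt8 signTgt24)) (.node (.node signTgt4 signTgt20) (.node signTgt12 signTgt28))) (.node (.node (.node signTgt2 signTgt18) (.node signTgt10 signTgt26)) (.node (.node signTgt6 signTgt22) (.node signTgt14 signTgt30)))) (.node (.node (.node (.node signTgt1 signTgt17) (.node signTgt9 signTgt25)) (.node (.node signTgt5 signTgt21) (.node signTgt13 signTgt29))) (.node (.node (.node signTgt3 signTgt19) (.node signTgt11 signTgt27)) (.node (.node signTgt7 signTgt23) (.node signTgt15 signTgt31)))))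

def signPar0 : Janko.Tree (ℕ) :=
  (.node (.node (.node (.node (.node (.leaf 0) (.leaf 0)) (.leaf 0)) (.node (.node (.leaf 0) (.leaf 0)) (.leaf 0))) (.node (.node (.node (.leaf 0) (.leaf 0)) (.leaf 0)) (.node (.leaf 0) (.leaf 0)))) (.node (.node (.node (.node (.leaf 0) (.leaf 0)) (.leaf 0)) (.node (.node (.leaf 0) (.leaf 0)) (.leaf 0))) (.node (.node (.node (.leaf 0) (.leaf 0)) (.leaf 0)) (.node (.leaf 0) (.leaf 0)))))

def signPar1 : Janko.Tree (ℕ) :=
  (.node (.node (.node (.node (.node (.leaf 0) (.leaf 0)) (.leaf 0)) (.node (.node (.leaf 0) (.leaf 0)) (.leaf 0))) (.node (.node (.node (.leaf 0) (.leaf 0)) (.leaf 0)) (.node (.leaf 0) (.leaf 0)))) (.node (.node (.node (.node (.leaf 0) (.leaf 0)) (.leaf 0)) (.node (.node (.leaf 0) (.leaf 0)) (.leaf 0))) (.node (.node (.node (.leaf 0) (.leaf 0)) (.leaf 0)) (.node (.leaf 0) (.leaf 0)))))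

def signPar2 : Janko.Tree (ℕ) :=
  (.node (.node (.node (.node (.node (.leaf 0) (.leaf 0)) (.leaf 0)) (.node (.node (.leaf 0) (.leaf 0)) (.leaf 0))) (.node (.node (.node (.leaf 0) (.leaf 0)) (.leaf 0)) (.node (.leaf 0) (.leaf 0)))) (.node (.node (.node (.node (.leaf 0) (.leaf 0)) (.leaf 0)) (.node (.node (.leaf 0) (.leaf 0)) (.leaf 0))) (.node (.node (.node (.leaf 0) (.leaf 0)) (.leaf 0)) (.node (.leaf 0) (.leaf 0)))))

def signPar3 : Janko.Tree (ℕ) :=
  (.node (.node (.node (.node (.node (.leaf 0) (.leaf 0)) (.leaf 0)) (.node (.node (.leaf 0) (.leaf 0)) (.leaf 0))) (.node (.node (.node (.leaf 0) (.leaf 0)) (.leaf 0)) (.node (.leaf 0) (.leaf 0)))) (.node (.node (.node (.node (.leaf 0) (.leaf 0)) (.leaf 0)) (.node (.node (.leaf 0) (.leaf 0)) (.leaf 0))) (.node (.node (.node (.leaf 0) (.leaf 0)) (.leaf 0)) (.node (.leaf 0) (.leaf 0)))))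

def signPar4 : Janko.Tree (ℕ) :=
  (.node (.node (.node (.node (.node (.leaf 0) (.leaf 0)) (.leaf 0)) (.node (.node (.leaf 0) (.leaf 0)) (.leaf 0))) (.node (.node (.node (.leaf 0) (.leaf 0)) (.leaf 0)) (.node (.leaf 0) (.leaf 0)))) (.node (.node (.node (.node (.leaf 0) (.leaf 0)) (.leaf 0)) (.node (.node (.leaf 0) (.leaf 0)) (.leaf 0))) (.node (.node (.node (.leaf 0) (.leaf 0)) (.leaf 0)) (.node (.leaf 0) (.leaf 0)))))

def signPar5 : Janko.Tree (ℕ) :=
  (.node (.node (.node (.node (.node (.leaf 0) (.leaf 0)) (.leaf 0)) (.node (.node (.leaf 0) (.leaf 0)) (.leaf 0))) (.node (.node (.node (.leaf 0) (.leaf 0)) (.leaf 0)) (.node (.leaf 0) (.leaf 0)))) (.node (.node (.node (.node (.leaf 0) (.leaf 0)) (.leaf 0)) (.node (.node (.leaf 0) (.leaf 0)) (.leaf 0))) (.node (.node (.node (.leaf 0) (.leaf 0)) (.leaf 0)) (.node (.leaf 0) (.leaf 0)))))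

def signPar6 : Janko.Tree (ℕ) :=
  (.node (.node (.node (.node (.node (.leaf 0) (.leaf 0)) (.leaf 0)) (.node (.node (.leaf 0) (.leaf 0)) (.leaf 0))) (.node (.node (.node (.leaf 0) (.leaf 0)) (.leaf 0)) (.node (.leaf 0) (.leaf 0)))) (.node (.node (.node (.node (.leaf 0) (.leaf 0)) (.leaf 0)) (.node (.node (.leaf 0) (.leaf 0)) (.leaf 0))) (.node (.node (.node (.leaf 0) (.leaf 0)) (.leaf 0)) (.node (.leaf 0) (.leaf 0)))))

def signPar7 : Janko.Tree (ℕ) :=
  (.node (.node (.node (.node (.node (.leaf 0) (.leaf 0)) (.leaf 0)) (.node (.node (.leaf 0) (.leaf 0)) (.leaf 0))) (.node (.node (.node (.leaf 0) (.leaf 0)) (.leaf 0)) (.node (.leaf 0) (.leaf 0)))) (.node (.node (.node (.node (.leaf 0) (.leaf 0)) (.leaf 0)) (.node (.node (.leaf 0) (.leaf 0)) (.leaf 0))) (.node (.node (.node (.leaf 0) (.leaf 0)) (.leaf 0)) (.node (.leaf 0) (.leaf 0)))))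

def signPar8 : Janko.Tree (ℕ) :=
  (.node (.node (.node (.node (.node (.leaf 0) (.leaf 0)) (.leaf 0)) (.node (.node (.leaf 0) (.leaf 0)) (.leaf 0))) (.node (.node (.node (.leaf 0) (.leaf 0)) (.leaf 0)) (.node (.leaf 0) (.leaf 0)))) (.node (.node (.node (.node (.leaf 0) (.leaf 0)) (.leaf 0)) (.node (.node (.leaf 0) (.leaf 0)) (.leaf 0))) (.node (.node (.node (.leaf 0) (.leaf 0)) (.leaf 0)) (.node (.leaf 0) (.leaf 0)))))

def signPar9 : Janko.Tree (ℕ) :=
  (.node (.node (.node (.node (.node (.leaf 0) (.leaf 0)) (.leaf 0)) (.node (.node (.leaf 0) (.leaf 0)) (.leaf 0))) (.node (.node (.node (.leaf 0) (.leaf 0)) (.leaf 0)) (.node (.leaf 0) (.leaf 0)))) (.node (.node (.node (.node (.leaf 0) (.leaf 0)) (.leaf 0)) (.node (.node (.leaf 0) (.leaf 0)) (.leaf 0))) (.node (.node (.node (.leaf 0) (.leaf 0)) (.leaf 0)) (.node (.leaf 0) (.leaf 0)))))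

def signPar10 : Janko.Tree (ℕ) :=
  (.node (.node (.node (.node (.node (.leaf 0) (.leaf 0)) (.leaf 0)) (.node (.node (.leaf 0) (.leaf 0)) (.leaf 0))) (.node (.node (.node (.leaf 0) (.leaf 0)) (.leaf 0)) (.node (.leaf 0) (.leaf 0)))) (.node (.node (.node (.node (.leaf 0) (.leaf 0)) (.leaf 0)) (.node (.node (.leaf 0) (.leaf 0)) (.leaf 0))) (.node (.node (.node (.leaf 0) (.leaf 0)) (.leaf 0)) (.node (.leaf 0) (.leaf 0)))))

def signPar11 : Janko.Tree (ℕ) :=
  (.node (.node (.node (.node (.node (.leaf 0) (.leaf 0)) (.leaf 0)) (.node (.node (.leaf 0) (.leaf 0)) (.leaf 0))) (.node (.node (.node (.leaf 0) (.leaf 0)) (.leaf 0)) (.node (.leaf 0) (.leaf 0)))) (.node (.node (.node (.node (.leaf 0) (.leaf 0)) (.leaf 0)) (.node (.node (.leaf 0) (.leaf 0)) (.leaf 0))) (.node (.node (.node (.leaf 0) (.leaf 0)) (.leaf 0)) (.node (.leaf 0) (.leaf 0)))))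

def signPar12 : Janko.Tree (ℕ) :=
  (.node (.node (.node (.node (.node (.leaf 0) (.leaf 0)) (.leaf 0)) (.node (.node (.leaf 0) (.leaf 0)) (.leaf 0))) (.node (.node (.node (.leaf 0) (.leaf 0)) (.leaf 0)) (.node (.leaf 0) (.leaf 0)))) (.node (.node (.node (.node (.leaf 0) (.leaf 0)) (.leaf 0)) (.node (.node (.leaf 0) (.leaf 0)) (.leaf 0))) (.node (.node (.node (.leaf 0) (.leaf 0)) (.leaf 0)) (.node (.leaf 0) (.leaf 12)))))

def signPar13 : Janko.Tree (ℕ) :=
  (.node (.node (.node (.node (.node (.leaf 0) (.leaf 0)) (.leaf 0)) (.node (.node (.leaf 0) (.leaf 0)) (.leaf 0))) (.node (.node (.node (.leaf 0) (.leaf 0)) (.leaf 0)) (.node (.leaf 0) (.leaf 0)))) (.node (.node (.node (.node (.leaf 0) (.leaf 0)) (.leaf 0)) (.node (.node (.leaf 0) (.leaf 0)) (.leaf 0))) (.node (.node (.node (.leaf 0) (.leaf 0)) (.leaf 0)) (.node (.leaf 0) (.leaf 0)))))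

def signPar14 : Janko.Tree (ℕ) :=
  (.node (.node (.node (.node (.node (.leaf 0) (.leaf 0)) (.leaf 0)) (.node (.node (.leaf 0) (.leaf 0)) (.leaf 0))) (.node (.node (.node (.leaf 0) (.leaf 0)) (.leaf 0)) (.node (.leaf 0) (.leaf 0)))) (.node (.node (.node (.node (.leaf 0) (.leaf 0)) (.leaf 0)) (.node (.node (.leaf 0) (.leaf 0)) (.leaf 0))) (.node (.node (.node (.leaf 0) (.leaf 0)) (.leaf 0)) (.node (.leaf 0) (.leaf 0)))))

def signPar15 : Janko.Tree (ℕ) :=
  (.node (.node (.node (.node (.node (.leaf 0) (.leaf 0)) (.leaf 0)) (.node (.node (.leaf 0) (.leaf 0)) (.leaf 0))) (.node (.node (.node (.leaf 0) (.leaf 0)) (.leaf 0)) (.node (.leaf 0) (.leaf 0)))) (.node (.node (.node (.node (.leaf 0) (.leaf 0)) (.leaf 0)) (.node (.node (.leaf 0) (.leaf 0)) (.leaf 0))) (.node (.node (.node (.leaf 0) (.leaf 0)) (.leaf 0)) (.node (.leaf 0) (.leaf 0)))))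

def signPar : Janko.Tree (ℕ) :=
  (.node (.node (.node (.node signPar0 signPar8) (.node signPar4 signPar12)) (.node (.node signPar2 signPar10) (.node signPar6 signPar14))) (.node (.node (.node signPar1 signPar9) (.node signPar5 signPar13)) (.node (.node signPar3 signPar11) (.node signPar7 signPar15))))

def signVia0 : Janko.Tree (ℕ) :=
  (.node (.node (.node (.node (.node (.leaf 0) (.leaf 58)) (.leaf 196)) (.node (.node (.leaf 225) (.leaf 72)) (.leaf 212))) (.node (.node (.node (.leaf 103) (.leaf 46)) (.leaf 23)) (.node (.leaf 141) (.leaf 23)))) (.node (.node (.node (.node (.leaf 58) (.leaf 23)) (.leaf 297)) (.node (.node (.leaf 10) (.leaf 16)) (.leaf 10))) (.node (.node (.node (.leaf 76) (.leaf 38)) (.leaf 10)) (.node (.leaf 30) (.leaf 16)))))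

def signVia1 : Janko.Tree (ℕ) :=
  (.node (.node (.node (.node (.node (.leaf 23) (.leaf 38)) (.leaf 23)) (.node (.node (.leaf 58) (.leaf 46)) (.leaf 141))) (.node (.node (.node (.leaf 46) (.leaf 17)) (.leaf 181)) (.node (.leaf 58) (.leaf 16)))) (.node (.node (.node (.node (.leaf 38) (.leaf 87)) (.leaf 16)) (.node (.node (.leaf 108) (.leaf 23)) (.leaf 30))) (.node (.node (.node (.leaf 46) (.leaf 87)) (.leaf 58)) (.node (.leaf 103) (.leaf 100)))))

def signVia2 : Janko.Tree (ℕ) :=
  (.node (.node (.node (.node (.node (.leaf 17) (.leaf 17)) (.leaf 326)) (.node (.node (.leaf 23) (.leaf 103)) (.leaf 10))) (.node (.node (.node (.leaf 10) (.leaf 10)) (.leaf 23)) (.node (.leaf 167) (.leaf 17)))) (.node (.node (.node (.node (.leaf 38) (.leaf 220)) (.leaf 46)) (.node (.node (.leaf 167) (.leaf 10)) (.leaf 10))) (.node (.node (.node (.leaf 30) (.leaf 167)) (.leaf 272)) (.node (.leaf 276) (.leaf 72)))))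

def signVia3 : Janko.Tree (ℕ) :=
  (.node (.node (.node (.node (.node (.leaf 265) (.leaf 201)) (.leaf 280)) (.node (.node (.leaf 38) (.leaf 10)) (.leaf 30))) (.node (.node (.node (.leaf 16) (.leaf 10)) (.leaf 145)) (.node (.leaf 10) (.leaf 167)))) (.node (.node (.node (.node (.leaf 10) (.leaf 76)) (.leaf 194)) (.node (.node (.leaf 77) (.leaf 10)) (.leaf 46))) (.node (.node (.node (.leaf 30) (.leaf 87)) (.leaf 93)) (.node (.leaf 10) (.leaf 16)))))

def signVia4 : Janko.Tree (ℕ) :=
  (.node (.node (.node (.node (.node (.leaf 30) (.leaf 194)) (.leaf 225)) (.node (.node (.leaf 58) (.leaf 23)) (.leaf 108))) (.node (.node (.node (.leaf 17) (.leaf 16)) (.leaf 46)) (.node (.leaf 16) (.leaf 30)))) (.node (.node (.node (.node (.leaf 16) (.leaf 17)) (.leaf 38)) (.node (.node (.leaf 141) (.leaf 30)) (.leaf 16))) (.node (.node (.node (.leaf 72) (.leaf 250)) (.leaf 181)) (.node (.leaf 23) (.leaf 196)))))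

def signVia5 : Janko.Tree (ℕ) :=
  (.node (.node (.node (.node (.node (.leaf 38) (.leaf 181)) (.leaf 10)) (.node (.node (.leaf 30) (.leaf 17)) (.leaf 100))) (.node (.node (.node (.leaf 17) (.leaf 93)) (.leaf 16)) (.node (.leaf 10) (.leaf 46)))) (.node (.node (.node (.node (.leaf 17) (.leaf 17)) (.leaf 16)) (.node (.node (.leaf 201) (.leaf 190)) (.leaf 297))) (.node (.node (.node (.leaf 76) (.leaf 16)) (.leaf 108)) (.node (.leaf 250) (.leaf 17)))))

def signVia6 : Janko.Tree (ℕ) :=
  (.node (.node (.node (.node (.node (.leaf 58) (.leaf 38)) (.leaf 16)) (.node (.node (.leaf 214) (.leaf 10)) (.leaf 17))) (.node (.node (.node (.leaf 23) (.leaf 100)) (.leaf 46)) (.node (.leaf 201) (.leaf 17)))) (.node (.node (.node (.node (.leaf 10) (.leaf 77)) (.leaf 58)) (.node (.node (.leaf 10) (.leaf 10)) (.leaf 30))) (.node (.node (.node (.leaf 30) (.leaf 58)) (.leaf 103)) (.node (.leaf 250) (.leaf 38)))))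

def signVia7 : Janko.Tree (ℕ) :=
  (.node (.node (.node (.node (.node (.leaf 190) (.leaf 30)) (.leaf 10)) (.node (.node (.leaf 77) (.leaf 10)) (.leaf 227))) (.node (.node (.node (.leaf 297) (.leaf 16)) (.leaf 30)) (.node (.leaf 23) (.leaf 17)))) (.node (.node (.node (.node (.leaf 16) (.leaf 16)) (.leaf 17)) (.node (.node (.leaf 23) (.leaf 23)) (.leaf 145))) (.node (.node (.node (.leaf 16) (.leaf 181)) (.leaf 16)) (.node (.leaf 76) (.leaf 10)))))

def signVia8 : Janko.Tree (ℕ) :=
  (.node (.node (.node (.node (.node (.leaf 93) (.leaf 10)) (.leaf 46)) (.node (.node (.leaf 38) (.leaf 16)) (.leaf 38))) (.node (.node (.node (.leaf 323) (.leaf 30)) (.leaf 10)) (.node (.leaf 46) (.leaf 167)))) (.node (.node (.node (.node (.leaf 10) (.leaf 30)) (.leaf 16)) (.node (.node (.leaf 23) (.leaf 250)) (.leaf 23))) (.node (.node (.node (.leaf 276) (.leaf 46)) (.leaf 10)) (.node (.leaf 76) (.leaf 146)))))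

def signVia9 : Janko.Tree (ℕ) :=
  (.node (.node (.node (.node (.node (.leaf 201) (.leaf 146)) (.leaf 76)) (.node (.node (.leaf 181) (.leaf 17)) (.leaf 23))) (.node (.node (.node (.leaf 16) (.leaf 17)) (.leaf 167)) (.node (.leaf 23) (.leaf 10)))) (.node (.node (.node (.node (.leaf 93) (.leaf 77)) (.leaf 100)) (.node (.node (.leaf 10) (.leaf 145)) (.leaf 72))) (.node (.node (.node (.leaf 295) (.leaf 10)) (.leaf 23)) (.node (.leaf 10) (.leaf 23)))))

def signVia10 : Janko.Tree (ℕ) :=
  (.node (.node (.node (.node (.node (.leaf 321) (.leaf 204)) (.leaf 16)) (.node (.node (.leaf 23) (.leaf 103)) (.leaf 23))) (.node (.node (.node (.leaf 46) (.leaf 93)) (.leaf 30)) (.node (.leaf 38) (.leaf 10)))) (.node (.node (.node (.node (.leaf 76) (.leaf 212)) (.leaf 145)) (.node (.node (.leaf 17) (.leaf 38)) (.leaf 196))) (.node (.node (.node (.leaf 87) (.leaf 77)) (.leaf 72)) (.node (.leaf 181) (.leaf 38)))))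

def signVia11 : Janko.Tree (ℕ) :=
  (.node (.node (.node (.node (.node (.leaf 326) (.leaf 10)) (.leaf 227)) (.node (.node (.leaf 145) (.leaf 30)) (.leaf 16))) (.node (.node (.node (.leaf 23) (.leaf 10)) (.leaf 201)) (.node (.leaf 17) (.leaf 196)))) (.node (.node (.node (.node (.leaf 10) (.leaf 225)) (.leaf 87)) (.node (.node (.leaf 23) (.leaf 10)) (.leaf 16))) (.node (.node (.node (.leaf 10) (.leaf 108)) (.leaf 196)) (.node (.leaf 108) (.leaf 212)))))

def signVia12 : Janko.Tree (ℕ) :=
  (.node (.node (.node (.node (.node (.leaf 10) (.leaf 16)) (.leaf 100)) (.node (.node (.leaf 279) (.leaf 108)) (.leaf 190))) (.node (.node (.node (.leaf 77) (.leaf 10)) (.leaf 76)) (.node (.leaf 16) (.leaf 265)))) (.node (.node (.node (.node (.leaf 16) (.leaf 58)) (.leaf 17)) (.node (.node (.leaf 220) (.leaf 17)) (.leaf 23))) (.node (.node (.node (.leaf 16) (.leaf 30)) (.leaf 38)) (.node (.leaf 38) (.leaf 264)))))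

def signVia13 : Janko.Tree (ℕ) :=
  (.node (.node (.node (.node (.node (.leaf 72) (.leaf 17)) (.leaf 17)) (.node (.node (.leaf 30) (.leaf 16)) (.leaf 204))) (.node (.node (.node (.leaf 194) (.leaf 212)) (.leaf 77)) (.node (.leaf 10) (.leaf 10)))) (.node (.node (.node (.node (.leaf 17) (.leaf 38)) (.leaf 17)) (.node (.node (.leaf 87) (.leaf 16)) (.leaf 145))) (.node (.node (.node (.leaf 10) (.leaf 23)) (.leaf 338)) (.node (.leaf 16) (.leaf 10)))))

def signVia14 : Janko.Tree (ℕ) :=
  (.node (.node (.node (.node (.node (.leaf 72) (.leaf 103)) (.leaf 23)) (.node (.node (.leaf 30) (.leaf 10)) (.leaf 58))) (.node (.node (.node (.leaf 16) (.leaf 17)) (.leaf 16)) (.node (.leaf 214) (.leaf 10)))) (.node (.node (.node (.node (.leaf 103) (.leaf 58)) (.leaf 141)) (.node (.node (.leaf 46) (.leaf 250)) (.leaf 17))) (.node (.node (.node (.leaf 145) (.leaf 72)) (.leaf 23)) (.node (.leaf 17) (.leaf 72)))))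

def signVia15 : Janko.Tree (ℕ) :=
  (.node (.node (.node (.node (.node (.leaf 274) (.leaf 23)) (.leaf 72)) (.node (.node (.leaf 16) (.leaf 10)) (.leaf 77))) (.node (.node (.node (.leaf 76) (.leaf 38)) (.leaf 16)) (.node (.leaf 72) (.leaf 10)))) (.node (.node (.node (.node (.leaf 194) (.leaf 17)) (.leaf 10)) (.node (.node (.leaf 87) (.leaf 17)) (.leaf 214))) (.node (.node (.node (.leaf 146) (.leaf 16)) (.leaf 16)) (.node (.leaf 76) (.leaf 10)))))

def signVia : Janko.Tree (ℕ) :=
  (.node (.node (.node (.node signVia0 signVia8) (.node signVia4 signVia12)) (.node (.node signVia2 signVia10) (.node signVia6 signVia14))) (.node (.node (.node signVia1 signVia9) (.node signVia5 signVia13)) (.node (.node signVia3 signVia11) (.node signVia7 signVia15))))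

def signRank0 : Janko.Tree (ℕ) :=
  (.node (.node (.node (.node (.node (.leaf 0) (.leaf 1)) (.leaf 1)) (.node (.node (.leaf 1) (.leaf 1)) (.leaf 1))) (.node (.node (.node (.leaf 1) (.leaf 1)) (.leaf 1)) (.node (.leaf 1) (.leaf 1)))) (.node (.node (.node (.node (.leaf 1) (.leaf 1)) (.leaf 1)) (.node (.node (.leaf 1) (.leaf 1)) (.leaf 1))) (.node (.node (.node (.leaf 1) (.leaf 1)) (.leaf 1)) (.node (.leaf 1) (.leaf 1)))))

def signRank1 : Janko.Tree (ℕ) :=
  (.node (.node (.node (.node (.node (.leaf 1) (.leaf 1)) (.leaf 1)) (.node (.node (.leaf 1) (.leaf 1)) (.leaf 1))) (.node (.node (.node (.leaf 1) (.leaf 1)) (.leaf 1)) (.node (.leaf 1) (.leaf 1)))) (.node (.node (.node (.node (.leaf 1) (.leaf 1)) (.leaf 1)) (.node (.node (.leaf 1) (.leaf 1)) (.leaf 1))) (.node (.node (.node (.leaf 1) (.leaf 1)) (.leaf 1)) (.node (.leaf 1) (.leaf 1)))))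

def signRank2 : Janko.Tree (ℕ) :=
  (.node (.node (.node (.node (.node (.leaf 1) (.leaf 1)) (.leaf 1)) (.node (.node (.leaf 1) (.leaf 1)) (.leaf 1))) (.node (.node (.node (.leaf 1) (.leaf 1)) (.leaf 1)) (.node (.leaf 1) (.leaf 1)))) (.node (.node (.node (.node (.leaf 1) (.leaf 1)) (.leaf 1)) (.node (.node (.leaf 1) (.leaf 1)) (.leaf 1))) (.node (.node (.node (.leaf 1) (.leaf 1)) (.leaf 1)) (.node (.leaf 1) (.leaf 1)))))

def signRank3 : Janko.Tree (ℕ) :=
  (.node (.node (.node (.node (.node (.leaf 1) (.leaf 1)) (.leaf 1)) (.node (.node (.leaf 1) (.leaf 1)) (.leaf 1))) (.node (.node (.node (.leaf 1) (.leaf 1)) (.leaf 1)) (.node (.leaf 1) (.leaf 1)))) (.node (.node (.node (.node (.leaf 1) (.leaf 1)) (.leaf 1)) (.node (.node (.leaf 1) (.leaf 1)) (.leaf 1))) (.node (.node (.node (.leaf 1) (.leaf 1)) (.leaf 1)) (.node (.leaf 1) (.leaf 1)))))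

def signRank4 : Janko.Tree (ℕ) :=
  (.node (.node (.node (.node (.node (.leaf 1) (.leaf 1)) (.leaf 1)) (.node (.node (.leaf 1) (.leaf 1)) (.leaf 1))) (.node (.node (.node (.leaf 1) (.leaf 1)) (.leaf 1)) (.node (.leaf 1) (.leaf 1)))) (.node (.node (.node (.node (.leaf 1) (.leaf 1)) (.leaf 1)) (.node (.node (.leaf 1) (.leaf 1)) (.leaf 1))) (.node (.node (.node (.leaf 1) (.leaf 1)) (.leaf 1)) (.node (.leaf 1) (.leaf 1)))))

def signRank5 : Janko.Tree (ℕ) :=
  (.node (.node (.node (.node (.node (.leaf 1) (.leaf 1)) (.leaf 1)) (.node (.node (.leaf 1) (.leaf 1)) (.leaf 1))) (.node (.node (.node (.leaf 1) (.leaf 1)) (.leaf 1)) (.node (.leaf 1) (.leaf 1)))) (.node (.node (.node (.node (.leaf 1) (.leaf 1)) (.leaf 1)) (.node (.node (.leaf 1) (.leaf 1)) (.leaf 1))) (.node (.node (.node (.leaf 1) (.leaf 1)) (.leaf 1)) (.node (.leaf 1) (.leaf 1)))))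

def signRank6 : Janko.Tree (ℕ) :=
  (.node (.node (.node (.node (.node (.leaf 1) (.leaf 1)) (.leaf 1)) (.node (.node (.leaf 1) (.leaf 1)) (.leaf 1))) (.node (.node (.node (.leaf 1) (.leaf 1)) (.leaf 1)) (.node (.leaf 1) (.leaf 1)))) (.node (.node (.node (.node (.leaf 1) (.leaf 1)) (.leaf 1)) (.node (.node (.leaf 1) (.leaf 1)) (.leaf 1))) (.node (.node (.node (.leaf 1) (.leaf 1)) (.leaf 1)) (.node (.leaf 1) (.leaf 1)))))

def signRank7 : Janko.Tree (ℕ) :=
  (.node (.node (.node (.node (.node (.leaf 1) (.leaf 1)) (.leaf 1)) (.node (.node (.leaf 1) (.leaf 1)) (.leaf 1))) (.node (.node (.node (.leaf 1) (.leaf 1)) (.leaf 1)) (.node (.leaf 1) (.leaf 1)))) (.node (.node (.node (.node (.leaf 1) (.leaf 1)) (.leaf 1)) (.node (.node (.leaf 1) (.leaf 1)) (.leaf 1))) (.node (.node (.node (.leaf 1) (.leaf 1)) (.leaf 1)) (.node (.leaf 1) (.leaf 1)))))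

def signRank8 : Janko.Tree (ℕ) :=
  (.node (.node (.node (.node (.node (.leaf 1) (.leaf 1)) (.leaf 1)) (.node (.node (.leaf 1) (.leaf 1)) (.leaf 1))) (.node (.node (.node (.leaf 1) (.leaf 1)) (.leaf 1)) (.node (.leaf 1) (.leaf 1)))) (.node (.node (.node (.node (.leaf 1) (.leaf 1)) (.leaf 1)) (.node (.node (.leaf 1) (.leaf 1)) (.leaf 1))) (.node (.node (.node (.leaf 1) (.leaf 1)) (.leaf 1)) (.node (.leaf 1) (.leaf 1)))))

def signRank9 : Janko.Tree (ℕ) :=
  (.node (.node (.node (.node (.node (.leaf 1) (.leaf 1)) (.leaf 1)) (.node (.node (.leaf 1) (.leaf 1)) (.leaf 1))) (.node (.node (.node (.leaf 1) (.leaf 1)) (.leaf 1)) (.node (.leaf 1) (.leaf 1)))) (.node (.node (.node (.node (.leaf 1) (.leaf 1)) (.leaf 1)) (.node (.node (.leaf 1) (.leaf 1)) (.leaf 1))) (.node (.node (.node (.leaf 1) (.leaf 1)) (.leaf 1)) (.node (.leaf 1) (.leaf 1)))))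

def signRank10 : Janko.Tree (ℕ) :=
  (.node (.node (.node (.node (.node (.leaf 1) (.leaf 1)) (.leaf 1)) (.node (.node (.leaf 1) (.leaf 1)) (.leaf 1))) (.node (.node (.node (.leaf 1) (.leaf 1)) (.leaf 1)) (.node (.leaf 1) (.leaf 1)))) (.node (.node (.node (.node (.leaf 1) (.leaf 1)) (.leaf 1)) (.node (.node (.leaf 1) (.leaf 1)) (.leaf 1))) (.node (.node (.node (.leaf 1) (.leaf 1)) (.leaf 1)) (.node (.leaf 1) (.leaf 1)))))

def signRank11 : Janko.Tree (ℕ) :=
  (.node (.node (.node (.node (.node (.leaf 1) (.leaf 1)) (.leaf 1)) (.node (.node (.leaf 1) (.leaf 1)) (.leaf 1))) (.node (.node (.node (.leaf 1) (.leaf 1)) (.leaf 1)) (.node (.leaf 1) (.leaf 1)))) (.node (.node (.node (.node (.leaf 1) (.leaf 1)) (.leaf 1)) (.node (.node (.leaf 1) (.leaf 1)) (.leaf 1))) (.node (.node (.node (.leaf 1) (.leaf 1)) (.leaf 1)) (.node (.leaf 1) (.leaf 1)))))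

def signRank12 : Janko.Tree (ℕ) :=
  (.node (.node (.node (.node (.node (.leaf 1) (.leaf 1)) (.leaf 1)) (.node (.node (.leaf 1) (.leaf 1)) (.leaf 1))) (.node (.node (.node (.leaf 1) (.leaf 1)) (.leaf 1)) (.node (.leaf 1) (.leaf 1)))) (.node (.node (.node (.node (.leaf 1) (.leaf 1)) (.leaf 1)) (.node (.node (.leaf 1) (.leaf 1)) (.leaf 1))) (.node (.node (.node (.leaf 1) (.leaf 1)) (.leaf 1)) (.node (.leaf 1) (.leaf 2)))))

def signRank13 : Janko.Tree (ℕ) :=
  (.node (.node (.node (.node (.node (.leaf 1) (.leaf 1)) (.leaf 1)) (.node (.node (.leaf 1) (.leaf 1)) (.leaf 1))) (.node (.node (.node (.leaf 1) (.leaf 1)) (.leaf 1)) (.node (.leaf 1) (.leaf 1)))) (.node (.node (.node (.node (.leaf 1) (.leaf 1)) (.leaf 1)) (.node (.node (.leaf 1) (.leaf 1)) (.leaf 1))) (.node (.node (.node (.leaf 1) (.leaf 1)) (.leaf 1)) (.node (.leaf 1) (.leaf 1)))))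

def signRank14 : Janko.Tree (ℕ) :=
  (.node (.node (.node (.node (.node (.leaf 1) (.leaf 1)) (.leaf 1)) (.node (.node (.leaf 1) (.leaf 1)) (.leaf 1))) (.node (.node (.node (.leaf 1) (.leaf 1)) (.leaf 1)) (.node (.leaf 1) (.leaf 1)))) (.node (.node (.node (.node (.leaf 1) (.leaf 1)) (.leaf 1)) (.node (.node (.leaf 1) (.leaf 1)) (.leaf 1))) (.node (.node (.node (.leaf 1) (.leaf 1)) (.leaf 1)) (.node (.leaf 1) (.leaf 1)))))

def signRank15 : Janko.Tree (ℕ) :=
  (.node (.node (.node (.node (.node (.leaf 1) (.leaf 1)) (.leaf 1)) (.node (.node (.leaf 1) (.leaf 1)) (.leaf 1))) (.node (.node (.node (.leaf 1) (.leaf 1)) (.leaf 1)) (.node (.leaf 1) (.leaf 1)))) (.node (.node (.node (.node (.leaf 1) (.leaf 1)) (.leaf 1)) (.node (.node (.leaf 1) (.leaf 1)) (.leaf 1))) (.node (.node (.node (.leaf 1) (.leaf 1)) (.leaf 1)) (.node (.leaf 1) (.leaf 1)))))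

def signRank : Janko.Tree (ℕ) :=
  (.node (.node (.node (.node signRank0 signRank8) (.node signRank4 signRank12)) (.node (.node signRank2 signRank10) (.node signRank6 signRank14))) (.node (.node (.node signRank1 signRank9) (.node signRank5 signRank13)) (.node (.node signRank3 signRank11) (.node signRank7 signRank15))))

/-- The signs and blocks. -/
def signs : CentralTable.Blocks where
  bit := signBit
  M := 352
  blk := signBlk
  tgt := signTgt
  par := signPar
  via := signVia
  rank := signRank
  word := [false, false, true, false, true, false, false, true, false, true, false, false, true, false, true]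

end Cfsg.Agent.Lie.HigmanSimsMult
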