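import Mathlib
import Cfsg.Agent.Lib.Lie.CentralTable

/-!
Data for the multiplier of the Higman–Sims group: the Higman–Sims group.
-/

set_option autoImplicit false
set_option maxRecDepth 40000
set_option maxHeartbeats 4000000

namespace Cfsg.Agent.Lie.HigmanSimsMult

open Cfsg.Agent.Lie

def certGNext0 : Janko.Tree (ℕ) :=
  (.node (.node (.node (.node (.node (.leaf 1) (.leaf 219)) (.leaf 191)) (.node (.node (.leaf 31) (.leaf 345)) (.leaf 254))) (.node (.node (.node (.leaf 57) (.leaf 302)) (.leaf 223)) (.node (.leaf 149) (.leaf 285)))) (.node (.node (.node (.node (.leaf 28) (.leaf 234)) (.leaf 47)) (.node (.node (.leaf 127) (.leaf 349)) (.leaf 268))) (.node (.node (.node (.leaf 81) (.leaf 336)) (.leaf 240)) (.node (.leaf 159) (.leaf 4)))))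

def certGNext1 : Janko.Tree (ℕ) :=
  (.node (.node (.node (.node (.node (.leaf 2) (.leaf 277)) (.leaf 192)) (.node (.node (.leaf 106) (.leaf 323)) (.leaf 81))) (.node (.node (.node (.leaf 58) (.leaf 297)) (.leaf 140)) (.node (.leaf 32) (.leaf 286)))) (.node (.node (.node (.node (.leaf 29) (.leaf 319)) (.leaf 208)) (.node (.node (.leaf 26) (.leaf 350)) (.leaf 92))) (.node (.node (.node (.leaf 82) (.leaf 230)) (.leaf 241)) (.node (.leaf 41) (.leaf 298)))))

def certGNext2 : Janko.Tree (ℕ) :=
  (.node (.node (.node (.node (.node (.leaf 3) (.leaf 24)) (.leaf 192)) (.node (.node (.leaf 106) (.leaf 25)) (.leaf 255))) (.node (.node (.node (.leaf 18) (.leaf 317)) (.leaf 224)) (.node (.leaf 150) (.leaf 263)))) (.node (.node (.node (.node (.leaf 30) (.leaf 320)) (.leaf 209)) (.node (.node (.leaf 6) (.leaf 213)) (.leaf 222))) (.node (.node (.node (.leaf 83) (.leaf 338)) (.leaf 242)) (.node (.leaf 172) (.leaf 166)))))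

def certGNext3 : Janko.Tree (ℕ) :=
  (.node (.node (.node (.node (.node (.leaf 4) (.leaf 295)) (.leaf 48)) (.node (.node (.leaf 107) (.leaf 246)) (.leaf 225))) (.node (.node (.node (.leaf 10) (.leaf 248)) (.leaf 62)) (.node (.leaf 151) (.leaf 130)))) (.node (.node (.node (.node (.leaf 31) (.leaf 278)) (.leaf 210)) (.node (.node (.leaf 128) (.leaf 337)) (.leaf 269))) (.node (.node (.node (.leaf 15) (.leaf 335)) (.leaf 231)) (.node (.leaf 173) (.leaf 115)))))

def certGNext4 : Janko.Tree (ℕ) :=
  (.node (.node (.node (.node (.node (.leaf 5) (.leaf 298)) (.leaf 72)) (.node (.node (.leaf 105) (.leaf 144)) (.leaf 66))) (.node (.node (.node (.leaf 59) (.leaf 300)) (.leaf 225)) (.node (.leaf 152) (.leaf 287)))) (.node (.node (.node (.node (.leaf 32) (.leaf 173)) (.leaf 211)) (.node (.node (.leaf 29) (.leaf 239)) (.leaf 124))) (.node (.node (.node (.leaf 84) (.leaf 85)) (.leaf 40)) (.node (.leaf 174) (.leaf 146)))))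

def certGNext5 : Janko.Tree (ℕ) :=
  (.node (.node (.node (.node (.node (.leaf 6) (.leaf 310)) (.leaf 193)) (.node (.node (.leaf 21) (.leaf 256)) (.leaf 83))) (.node (.node (.node (.leaf 60) (.leaf 183)) (.leaf 226)) (.node (.leaf 153) (.leaf 276)))) (.node (.node (.node (.node (.leaf 33) (.leaf 250)) (.leaf 188)) (.node (.node (.leaf 129) (.leaf 338)) (.leaf 270))) (.node (.node (.node (.leaf 85) (.leaf 316)) (.leaf 211)) (.node (.leaf 127) (.leaf 202)))))

def certGNext6 : Janko.Tree (ℕ) :=
  (.node (.node (.node (.node (.node (.leaf 7) (.leaf 261)) (.leaf 176)) (.node (.node (.leaf 80) (.leaf 312)) (.leaf 256))) (.node (.node (.node (.leaf 60) (.leaf 329)) (.leaf 227)) (.node (.leaf 154) (.leaf 270)))) (.node (.node (.node (.node (.leaf 34) (.leaf 311)) (.leaf 212)) (.node (.node (.leaf 130) (.leaf 288)) (.leaf 271))) (.node (.node (.node (.leaf 82) (.leaf 245)) (.leaf 96)) (.node (.leaf 175) (.leaf 299)))))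

def certGNext7 : Janko.Tree (ℕ) :=
  (.node (.node (.node (.node (.node (.leaf 3) (.leaf 135)) (.leaf 194)) (.node (.node (.leaf 108) (.leaf 346)) (.leaf 84))) (.node (.node (.node (.leaf 61) (.leaf 330)) (.leaf 64)) (.node (.leaf 155) (.leaf 288)))) (.node (.node (.node (.node (.leaf 35) (.leaf 147)) (.leaf 213)) (.node (.node (.leaf 131) (.leaf 253)) (.leaf 205))) (.node (.node (.node (.leaf 86) (.leaf 339)) (.leaf 73)) (.node (.leaf 176) (.leaf 238)))))

def certGNext8 : Janko.Tree (ℕ) :=
  (.node (.node (.node (.node (.node (.leaf 8) (.leaf 137)) (.leaf 193)) (.node (.node (.leaf 109) (.leaf 94)) (.leaf 100))) (.node (.node (.node (.leaf 62) (.leaf 331)) (.leaf 179)) (.node (.leaf 121) (.leaf 284)))) (.node (.node (.node (.node (.leaf 36) (.leaf 303)) (.leaf 181)) (.node (.node (.leaf 65) (.leaf 327)) (.leaf 272))) (.node (.node (.node (.leaf 87) (.leaf 128)) (.leaf 208)) (.node (.leaf 76) (.leaf 198)))))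

def certGNext9 : Janko.Tree (ℕ) :=
  (.node (.node (.node (.node (.node (.leaf 9) (.leaf 142)) (.leaf 195)) (.node (.node (.leaf 79) (.leaf 331)) (.leaf 182))) (.node (.node (.node (.leaf 63) (.leaf 306)) (.leaf 110)) (.node (.leaf 34) (.leaf 280)))) (.node (.node (.node (.node (.leaf 5) (.leaf 162)) (.leaf 57)) (.node (.node (.leaf 132) (.leaf 333)) (.leaf 273))) (.node (.node (.node (.leaf 88) (.leaf 308)) (.leaf 138)) (.node (.leaf 177) (.leaf 300)))))

def certGNext10 : Janko.Tree (ℕ) :=
  (.node (.node (.node (.node (.node (.leaf 10) (.leaf 157)) (.leaf 88)) (.node (.node (.leaf 110) (.leaf 122)) (.leaf 257))) (.node (.node (.node (.leaf 64) (.leaf 63)) (.leaf 228)) (.node (.leaf 156) (.leaf 289)))) (.node (.node (.node (.node (.leaf 37) (.leaf 321)) (.leaf 214)) (.node (.node (.leaf 133) (.leaf 313)) (.leaf 274))) (.node (.node (.node (.leaf 20) (.leaf 112)) (.leaf 243)) (.node (.leaf 178) (.leaf 269)))))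

def certGNext11 : Janko.Tree (ℕ) :=
  (.node (.node (.node (.node (.node (.leaf 11) (.leaf 311)) (.leaf 196)) (.node (.node (.leaf 111) (.leaf 257)) (.leaf 228))) (.node (.node (.node (.leaf 65) (.leaf 332)) (.leaf 229)) (.node (.leaf 157) (.leaf 285)))) (.node (.node (.node (.node (.leaf 38) (.leaf 322)) (.leaf 215)) (.node (.node (.leaf 134) (.leaf 349)) (.leaf 275))) (.node (.node (.node (.leaf 89) (.leaf 340)) (.leaf 218)) (.node (.leaf 179) (.leaf 290)))))

def certGNext12 : Janko.Tree (ℕ) :=
  (.node (.node (.node (.node (.node (.leaf 12) (.leaf 286)) (.leaf 195)) (.node (.node (.leaf 58) (.leaf 344)) (.leaf 258))) (.node (.node (.node (.leaf 56) (.leaf 217)) (.leaf 230)) (.node (.leaf 158) (.leaf 117)))) (.node (.node (.node (.node (.leaf 39) (.leaf 323)) (.leaf 216)) (.node (.node (.leaf 135) (.leaf 347)) (.leaf 134))) (.node (.node (.node (.leaf 90) (.leaf 233)) (.leaf 244)) (.node (.leaf 180) (.leaf 301)))))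

def certGNext13 : Janko.Tree (ℕ) :=
  (.node (.node (.node (.node (.node (.leaf 0) (.leaf 312)) (.leaf 50)) (.node (.node (.leaf 112) (.leaf 305)) (.leaf 259))) (.node (.node (.node (.leaf 66) (.leaf 190)) (.leaf 67)) (.node (.leaf 159) (.leaf 266)))) (.node (.node (.node (.node (.leaf 40) (.leaf 212)) (.leaf 184)) (.node (.node (.leaf 28) (.leaf 328)) (.leaf 274))) (.node (.node (.node (.leaf 91) (.leaf 334)) (.leaf 133)) (.node (.leaf 181) (.leaf 296)))))

def certGNext14 : Janko.Tree (ℕ) :=
  (.node (.node (.node (.node (.node (.leaf 13) (.leaf 14)) (.leaf 197)) (.node (.node (.leaf 113) (.leaf 161)) (.leaf 44))) (.node (.node (.node (.leaf 67) (.leaf 333)) (.leaf 231)) (.node (.leaf 160) (.leaf 259)))) (.node (.node (.node (.node (.leaf 41) (.leaf 103)) (.leaf 171)) (.node (.node (.leaf 136) (.leaf 249)) (.leaf 276))) (.node (.node (.node (.leaf 78) (.leaf 220)) (.leaf 51)) (.node (.leaf 182) (.leaf 294)))))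

def certGNext15 : Janko.Tree (ℕ) :=
  (.node (.node (.node (.node (.node (.leaf 14) (.leaf 242)) (.leaf 198)) (.node (.node (.leaf 114) (.leaf 223)) (.leaf 260))) (.node (.node (.node (.leaf 68) (.leaf 325)) (.leaf 232)) (.node (.leaf 161) (.leaf 116)))) (.node (.node (.node (.node (.leaf 42) (.leaf 324)) (.leaf 217)) (.node (.node (.leaf 137) (.leaf 271)) (.leaf 207))) (.node (.node (.node (.leaf 75) (.leaf 201)) (.leaf 245)) (.node (.leaf 43) (.leaf 302)))))

def certGNext16 : Janko.Tree (ℕ) :=
  (.node (.node (.node (.node (.node (.leaf 15) (.leaf 194)) (.leaf 199)) (.node (.node (.leaf 115) (.leaf 340)) (.leaf 139))) (.node (.node (.node (.leaf 35) (.leaf 332)) (.leaf 215)) (.node (.leaf 91) (.leaf 290)))) (.node (.node (.node (.node (.leaf 43) (.leaf 107)) (.leaf 86)) (.node (.node (.leaf 129) (.leaf 275)) (.leaf 277))) (.node (.node (.node (.leaf 92) (.leaf 341)) (.leaf 246)) (.node (.leaf 183) (.leaf 49)))))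

def certGNext17 : Janko.Tree (ℕ) :=
  (.node (.node (.node (.node (.node (.leaf 16) (.leaf 174)) (.leaf 200)) (.node (.node (.leaf 23) (.leaf 347)) (.leaf 120))) (.node (.node (.node (.leaf 12) (.leaf 321)) (.leaf 233)) (.node (.leaf 113) (.leaf 268)))) (.node (.node (.node (.node (.leaf 44) (.leaf 197)) (.leaf 152)) (.node (.node (.leaf 126) (.leaf 272)) (.leaf 156))) (.node (.node (.node (.leaf 17) (.leaf 252)) (.leaf 204)) (.node (.leaf 136) (.leaf 303)))))

def certGNext18 : Janko.Tree (ℕ) :=
  (.node (.node (.node (.node (.node (.leaf 16) (.leaf 229)) (.leaf 201)) (.node (.node (.leaf 116) (.leaf 343)) (.leaf 189))) (.node (.node (.node (.leaf 69) (.leaf 322)) (.leaf 125)) (.node (.leaf 153) (.leaf 291)))) (.node (.node (.node (.node (.leaf 45) (.leaf 325)) (.leaf 218)) (.node (.node (.leaf 138) (.leaf 351)) (.leaf 278))) (.node (.node (.node (.leaf 93) (.leaf 237)) (.leaf 221)) (.node (.leaf 184) (.leaf 114)))))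

def certGNext19 : Janko.Tree (ℕ) :=
  (.node (.node (.node (.node (.node (.leaf 1) (.leaf 313)) (.leaf 95)) (.node (.node (.leaf 117) (.leaf 341)) (.leaf 261))) (.node (.node (.node (.leaf 70) (.leaf 227)) (.leaf 234)) (.node (.leaf 36) (.leaf 109)))) (.node (.node (.node (.node (.leaf 7) (.leaf 172)) (.leaf 59)) (.node (.node (.leaf 139) (.leaf 345)) (.leaf 97))) (.node (.node (.node (.leaf 94) (.leaf 255)) (.leaf 216)) (.node (.leaf 55) (.leaf 123)))))

def certGNext20 : Janko.Tree (ℕ) :=
  (.node (.node (.node (.node (.node (.leaf 17) (.leaf 314)) (.leaf 202)) (.node (.node (.leaf 118) (.leaf 61)) (.leaf 262))) (.node (.node (.node (.leaf 71) (.leaf 22)) (.leaf 235)) (.node (.leaf 162) (.leaf 292)))) (.node (.node (.node (.node (.leaf 46) (.leaf 326)) (.leaf 206)) (.node (.node (.leaf 140) (.leaf 350)) (.leaf 279))) (.node (.node (.node (.leaf 95) (.leaf 108)) (.leaf 131)) (.node (.leaf 185) (.leaf 304)))))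

def certGNext21 : Janko.Tree (ℕ) :=
  (.node (.node (.node (.node (.node (.leaf 18) (.leaf 304)) (.leaf 143)) (.node (.node (.leaf 119) (.leaf 299)) (.leaf 263))) (.node (.node (.node (.leaf 72) (.leaf 191)) (.leaf 164)) (.node (.leaf 163) (.leaf 251)))) (.node (.node (.node (.node (.leaf 47) (.leaf 175)) (.leaf 160)) (.node (.node (.leaf 141) (.leaf 320)) (.leaf 118))) (.node (.node (.node (.leaf 96) (.leaf 314)) (.leaf 247)) (.node (.leaf 45) (.leaf 214)))))

def certGNext22 : Janko.Tree (ℕ) :=
  (.node (.node (.node (.node (.node (.leaf 19) (.leaf 315)) (.leaf 203)) (.node (.node (.leaf 120) (.leaf 339)) (.leaf 54))) (.node (.node (.node (.leaf 73) (.leaf 334)) (.leaf 236)) (.node (.leaf 164) (.leaf 111)))) (.node (.node (.node (.node (.leaf 48) (.leaf 264)) (.leaf 210)) (.node (.node (.leaf 142) (.leaf 232)) (.leaf 280))) (.node (.node (.node (.leaf 97) (.leaf 330)) (.leaf 248)) (.node (.leaf 186) (.leaf 273)))))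

def certGNext23 : Janko.Tree (ℕ) :=
  (.node (.node (.node (.node (.node (.leaf 20) (.leaf 158)) (.leaf 53)) (.node (.node (.leaf 121) (.leaf 279)) (.leaf 264))) (.node (.node (.node (.leaf 74) (.leaf 291)) (.leaf 69)) (.node (.leaf 37) (.leaf 293)))) (.node (.node (.node (.node (.leaf 49) (.leaf 243)) (.leaf 219)) (.node (.node (.leaf 30) (.leaf 342)) (.leaf 99))) (.node (.node (.node (.leaf 98) (.leaf 244)) (.leaf 249)) (.node (.leaf 187) (.leaf 169)))))

def certGNext24 : Janko.Tree (ℕ) :=
  (.node (.node (.node (.node (.node (.leaf 21) (.leaf 316)) (.leaf 204)) (.node (.node (.leaf 98) (.leaf 310)) (.leaf 265))) (.node (.node (.node (.leaf 75) (.leaf 74)) (.leaf 68)) (.node (.leaf 165) (.leaf 196)))) (.node (.node (.node (.node (.leaf 50) (.leaf 307)) (.leaf 38)) (.node (.node (.leaf 143) (.leaf 293)) (.leaf 281))) (.node (.node (.node (.leaf 99) (.leaf 342)) (.leaf 250)) (.node (.leaf 188) (.leaf 305)))))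

def certGNext25 : Janko.Tree (ℕ) :=
  (.node (.node (.node (.node (.node (.leaf 22) (.leaf 167)) (.leaf 154)) (.node (.node (.leaf 122) (.leaf 235)) (.leaf 150))) (.node (.node (.node (.leaf 13) (.leaf 315)) (.leaf 237)) (.node (.leaf 166) (.leaf 294)))) (.node (.node (.node (.node (.leaf 51) (.leaf 327)) (.leaf 185)) (.node (.node (.leaf 144) (.leaf 348)) (.leaf 101))) (.node (.node (.node (.leaf 100) (.leaf 292)) (.leaf 93)) (.node (.leaf 189) (.leaf 262)))))

def certGNext26 : Janko.Tree (ℕ) :=
  (.node (.node (.node (.node (.node (.leaf 23) (.leaf 141)) (.leaf 205)) (.node (.node (.leaf 123) (.leaf 247)) (.leaf 266))) (.node (.node (.node (.leaf 11) (.leaf 335)) (.leaf 163)) (.node (.leaf 167) (.leaf 295)))) (.node (.node (.node (.node (.leaf 52) (.leaf 89)) (.leaf 42)) (.node (.node (.leaf 145) (.leaf 170)) (.leaf 282))) (.node (.node (.node (.leaf 101) (.leaf 200)) (.leaf 251)) (.node (.leaf 0) (.leaf 306)))))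

def certGNext27 : Janko.Tree (ℕ) :=
  (.node (.node (.node (.node (.node (.leaf 24) (.leaf 317)) (.leaf 206)) (.node (.node (.leaf 124) (.leaf 309)) (.leaf 178))) (.node (.node (.node (.leaf 76) (.leaf 336)) (.leaf 104)) (.node (.leaf 168) (.leaf 281)))) (.node (.node (.node (.node (.leaf 8) (.leaf 165)) (.leaf 220)) (.node (.node (.leaf 146) (.leaf 329)) (.leaf 267))) (.node (.node (.node (.leaf 19) (.leaf 209)) (.leaf 77)) (.node (.leaf 46) (.leaf 307)))))

def certGNext28 : Janko.Tree (ℕ) :=
  (.node (.node (.node (.node (.node (.leaf 9) (.leaf 168)) (.leaf 148)) (.node (.node (.leaf 27) (.leaf 348)) (.leaf 241))) (.node (.node (.node (.leaf 77) (.leaf 324)) (.leaf 238)) (.node (.leaf 169) (.leaf 296)))) (.node (.node (.node (.node (.leaf 53) (.leaf 328)) (.leaf 2)) (.node (.node (.leaf 147) (.leaf 260)) (.leaf 70))) (.node (.node (.node (.leaf 102) (.leaf 187)) (.leaf 252)) (.node (.leaf 190) (.leaf 308)))))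

def certGNext29 : Janko.Tree (ℕ) :=
  (.node (.node (.node (.node (.node (.leaf 25) (.leaf 145)) (.leaf 199)) (.node (.node (.leaf 125) (.leaf 258)) (.leaf 90))) (.node (.node (.node (.leaf 78) (.leaf 186)) (.leaf 203)) (.node (.leaf 170) (.leaf 283)))) (.node (.node (.node (.node (.leaf 54) (.leaf 287)) (.leaf 221)) (.node (.node (.leaf 148) (.leaf 301)) (.leaf 102))) (.node (.node (.node (.leaf 103) (.leaf 343)) (.leaf 236)) (.node (.leaf 52) (.leaf 254)))))

def certGNext30 : Janko.Tree (ℕ) :=
  (.node (.node (.node (.node (.node (.leaf 26) (.leaf 132)) (.leaf 207)) (.node (.node (.leaf 126) (.leaf 319)) (.leaf 267))) (.node (.node (.node (.leaf 79) (.leaf 337)) (.leaf 226)) (.node (.leaf 155) (.leaf 297)))) (.node (.node (.node (.node (.leaf 55) (.leaf 318)) (.leaf 177)) (.node (.node (.leaf 33) (.leaf 346)) (.leaf 283))) (.node (.node (.node (.leaf 104) (.leaf 151)) (.leaf 253)) (.node (.leaf 119) (.leaf 309)))))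

def certGNext31 : Janko.Tree (ℕ) :=
  (.node (.node (.node (.node (.node (.leaf 27) (.leaf 318)) (.leaf 180)) (.node (.node (.leaf 39) (.leaf 326)) (.leaf 149))) (.node (.node (.node (.leaf 80) (.leaf 289)) (.leaf 239)) (.node (.leaf 171) (.leaf 282)))) (.node (.node (.node (.node (.leaf 56) (.leaf 224)) (.leaf 222)) (.node (.node (.leaf 87) (.leaf 351)) (.leaf 284))) (.node (.node (.node (.leaf 105) (.leaf 344)) (.leaf 240)) (.node (.leaf 71) (.leaf 265)))))

def certGNext : Janko.Tree (ℕ) :=
  (.node (.node (.node (.node (.node certGNext0 certGNext16) (.node certGNext8 certGNext24)) (.node (.node certGNext4 certGNext20) (.node certGNext12 certGNext28))) (.node (.node (.node certGNext2 certGNext18) (.node certGNext10 certGNext26)) (.node (.node certGNext6 certGNext22) (.node certGNext14 certGNext30)))) (.node (.node (.node (.node certGNext1 certGNext17) (.node certGNext9 certGNext25)) (.node (.node certGNext5 certGNext21) (.node certGNext13 certGNext29))) (.node (.node (.node certGNext3 certGNext19) (.node certGNext11 certGNext27)) (.node (.node certGNext7 certGNext23) (.node certGNext15 certGNext31)))))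

def certGLab0 : Janko.Tree (List Bool) :=
  (.node (.node (.node (.node (.node (.leaf []) (.leaf [false, true, true, true, false, false, true, false, true, true, true, false, false, true, false, false, true])) (.leaf [])) (.node (.node (.leaf [true, false, false, true, true, true, false, true, false, false, true, false, false, true, true, true, true]) (.leaf [])) (.leaf []))) (.node (.node (.node (.leaf []) (.leaf [false, true, false, true, false, true, true, true, false, false, true, true, true, false, false, true, false, true])) (.leaf [])) (.node (.leaf []) (.leaf [])))) (.node (.node (.node (.node (.leaf []) (.leaf [false, false, true, false, true, true, false, false, true, false, false, true, false, true, false, true])) (.leaf [false, true, true, true, true, false, true, true, true, true, false, true, false, true])) (.node (.node (.leaf []) (.leaf [])) (.leaf []))) (.node (.node (.node (.leaf []) (.leaf [true, false, true, false, false, false, true, true, false, true])) (.leaf [])) (.node (.leaf [false, false, false, true, true, true, false, false, false, true, false, false, true, false, true, true]) (.leaf [false, true, true, true, false, true, true, true, false, false, false, false, true, false, false, false, true,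 false, true])))))

def certGLab1 : Janko.Tree (List Bool) :=
  (.node (.node (.node (.node (.node (.leaf []) (.leaf [true, true, true, false, false, true, true, true, true, false, false, true, true, false, true])) (.leaf [])) (.node (.node (.leaf []) (.leaf [true, true, false, false, false, false, false, false, true, true, true, false, true, true, true, false, true])) (.leaf []))) (.node (.node (.node (.leaf []) (.leaf [false, false, true, false, true, false, false, true, true, true, false, false, false, true, true, false, true, false])) (.leaf [true, false, false, false, false, true, false, true, true, true, false, true, false, true, true, false])) (.node (.leaf []) (.leaf [])))) (.node (.node (.node (.node (.leaf []) (.leaf [])) (.leaf [])) (.node (.node (.leaf []) (.leaf [])) (.leaf []))) (.node (.node (.node (.leaf []) (.leaf [true, false, false, false, false, false, true, true, false, true, false, false, false])) (.leaf [])) (.node (.leaf []) (.leaf [])))))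

def certGLab2 : Janko.Tree (List Bool) :=
  (.node (.node (.node (.node (.node (.leaf []) (.leaf [true, false, false, true, false, true, true, true, true, false, false, true, true])) (.leaf [false, true, true, false, true, false, false, true, true, true, false, false, true, false, false, false])) (.node (.node (.leaf [false, false, true, false, true, true, false, true, false, true, false, false, false, true]) (.leaf [false, true, false, true, true, true, false, true, false, false, false, false, false, true, true, false, false, true])) (.leaf []))) (.node (.node (.node (.leaf [false, false, false, false, false, true, false, false, false, true, false, true, false, false, true, true, false, true, false]) (.leaf [false, true, true, false, false, false, false, true, false, true, true, true, false, false, false, false])) (.leaf [])) (.node (.leaf []) (.leaf [true, false, true, true, true, false, true, true, true, true])))) (.node (.node (.node (.node (.leaf []) (.leaf [])) (.leaf [])) (.node (.node (.leaf [false, true, false, false, true, true, true, false, true, true, true, false, true, true, false, false, true]) (.leaf [false, true, true, false, false, false, true, false, true, false, true, true, false, false, false, true,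 true])) (.leaf [true, false, false, false, true, true, true, true, false, false, true, false, false, true, false, true]))) (.node (.node (.node (.leaf []) (.leaf [])) (.leaf [])) (.node (.leaf []) (.leaf [false, false, true, false, false, true, true, true, false, true, true, false, false, false, true, true])))))

def certGLab3 : Janko.Tree (List Bool) :=
  (.node (.node (.node (.node (.node (.leaf []) (.leaf [false, true, true, false, false, true, true, false, false, false, true, false, false, false])) (.leaf [])) (.node (.node (.leaf []) (.leaf [false, false, true, false, false, false, true, true, false, false, true, false, false, false, true, true, false, false])) (.leaf [false, true, true, false, true, true, true, false, true, true, false, false, true, false, false]))) (.node (.node (.node (.leaf []) (.leaf [false, false, false, true, true, true, false, false, true, true, true, false, false, false, true, false])) (.leaf [])) (.node (.leaf []) (.leaf [false, true, true, true, false, true, true, true, false, false, true, true, false, false, true])))) (.node (.node (.node (.node (.leaf []) (.leaf [true, false, true, false, false, true, false, true, true, false, false, true, false, true, false, false, false, false])) (.leaf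 [])) (.node (.node (.leaf []) (.leaf [true, true, false, true, false, true, false, false, true, false, false, false, true, true, false])) (.leaf []))) (.node (.node (.node (.leaf []) (.leaf [false, true, false, true, false, false, false, false, true, false, false, false, false, false, true])) (.leaf [false, false, false, true, false, true, true, false, true, false, false, true, true])) (.node (.leaf []) (.leaf [])))))

def certGLab4 : Janko.Tree (List Bool) :=
  (.node (.node (.node (.node (.node (.leaf []) (.leaf [false, true, true, false, false, true, true, true, false, false, true, false, true, true, false, false, false, true, false])) (.leaf [true, false, false, false, false, false, true, false, false, false, true, false, true, false])) (.node (.node (.leaf [true, false, false, true, true, true, false, false, false, true, true, true, false, true, false, false]) (.leaf [true, false, false, false, false, false, false, true, false, false, false, true, false, false, false, true])) (.leaf [true, false, true, false, true, true, true, false, true, true, false, false, true, true, false, false, true]))) (.node (.node (.node (.leaf []) (.leaf [true, true, true, false, false, false, true, true, false, false, false, false, false,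 false, true])) (.leaf [])) (.node (.leaf []) (.leaf [])))) (.node (.node (.node (.node (.leaf []) (.leaf [false, false, true, false, true, true, false, true, false, false, true, false, true, true, false, true])) (.leaf [])) (.node (.node (.leaf [false, false, false, true, true, false, true, true, true, false, true, false, true, true, true, false]) (.leaf [false, false, true, false, false, true, true, false, false, false, true, false, true, false, true, true])) (.leaf [true, false, false, false, false, false, false, true, true, true, false, true, false, true, true, true, true]))) (.node (.node (.node (.leaf []) (.leaf [true, false, true, false, false, false, false, true, true, false, true, false, true, true, true, false, true, false])) (.leaf [true, false, false, false, false, true, false, false, false, false, false, true, true, false, true, false, false])) (.node (.leaf []) (.leaf [true, true, false, false, false, false, false, true, false, true, true, false, true, true, true, true])))))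

def certGLab5 : Janko.Tree (List Bool) :=
  (.node (.node (.node (.node (.node (.leaf []) (.leaf [])) (.leaf [])) (.node (.node (.leaf []) (.leaf [false, false, false, true, true, false, false, false, true, true, true, false, false, false, true, true, true, false, true, false])) (.leaf []))) (.node (.node (.node (.leaf []) (.leaf [true, false, false, true, false, true, true, false, false, true, false, true, false, false, false])) (.leaf [])) (.node (.leaf []) (.leaf [true, true, false, true, false, false, true, false, true, false, true])))) (.node (.node (.node (.node (.leaf []) (.leaf [true, false, false, true, false, false, true, true, true, false, true, true, false, true])) (.leaf [false, false, true, false, true, true, true, false, true, false, true, false, false, true])) (.node (.node (.leaf []) (.leaf [false, true, false, true, true, false, true, true, true, true, false, false, true, true, false, true, true, false])) (.leaf []))) (.node (.node (.node (.leaf []) (.leaf [false, true, false, false, false, false, false, false, true, false, true, false, false, true, false])) (.leaf [false, true, true, false, true, false, false, false, false, true, false, true, false, false, true, false, false, false])) (.node (.leaf [false,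 false, false, false, true, true, false, true, true, false, false, true, false, true, false, true, true]) (.leaf [false, false, false, false, true, false, false, true, false, true, true, false, true, true, false, true])))))

def certGLab6 : Janko.Tree (List Bool) :=
  (.node (.node (.node (.node (.node (.leaf []) (.leaf [true, true, true, false, false, true, false, true, false, false, true, true, true, true, false, false, true])) (.leaf [false, true, false, true, false, false, true, true, true, false, true, true, false, false, true])) (.node (.node (.leaf [false, false, false, true, true, false, false, false, true, false, true, false, true]) (.leaf [false, true, true, false, true, false, false, false, false, false, true, false, true, true, true, true, false])) (.leaf []))) (.node (.node (.node (.leaf [true, true, false, false, true, true, true, true, false, false, false, false, false, true, false, false, false]) (.leaf [])) (.leaf [])) (.node (.leaf []) (.leaf [false, false, true, false, false, false, true, false, false, true, false, false, true, false])))) (.node (.node (.node (.node (.leaf []) (.leaf [true, false, true, true, false, false, true, true, true, false, true, true, true, true, false])) (.leaf [])) (.node (.node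 (.leaf []) (.leaf [false, true, false, true, true, true, false, false, true, true, false, false, false, true, false, true])) (.leaf []))) (.node (.node (.node (.leaf [true, false, false, true, true, true, true, false, true, false, false, true, true, false, false]) (.leaf [false, false, true, false, false, false, true, false, true, true, true, true])) (.leaf [true, false, true, true, false, false, false, false, true, false, false, true, true])) (.node (.leaf []) (.leaf [])))))

def certGLab7 : Janko.Tree (List Bool) :=
  (.node (.node (.node (.node (.node (.leaf [true, true, false, false, true, false, false, true, false, false, false, false, false, true, false]) (.leaf [])) (.leaf [])) (.node (.node (.leaf []) (.leaf [])) (.leaf []))) (.node (.node (.node (.leaf []) (.leaf [])) (.leaf [])) (.node (.leaf []) (.leaf [])))) (.node (.node (.node (.node (.leaf []) (.leaf [])) (.leaf [])) (.node (.node (.leaf []) (.leaf [])) (.leaf [true, true, false, true]))) (.node (.node (.node (.leaf []) (.leaf [])) (.leaf [])) (.node (.leaf []) (.leaf [false, false, true, false, true, false, false, false, true, true, true, true, false, false, true, true])))))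

def certGLab8 : Janko.Tree (List Bool) :=
  (.node (.node (.node (.node (.node (.leaf []) (.leaf [false, true, true, true, false, false, true, false, false, false, false, true, true, false, false])) (.leaf [true, false, false, true, true, false, true, true, false, true, true, false, true, false, false, true])) (.node (.node (.leaf []) (.leaf [true, false, true, false, true, false, false, true, true, true, false, false, true, true, true, false])) (.leaf [true, true, false, false, true, true, true, true, false, false, false, false, false, true, false, false, false]))) (.node (.node (.node (.leaf []) (.leaf [])) (.leaf [false, true, true, false, true, false, true, true, true, false, false, true, false, false, false, false, false, true, true])) (.node (.leaf [false, true, true, true, false, false, false, true, true, false, false, true, true, true, false, false]) (.leaf [true, true, true, false, true, true, false, true, false, false, true, true, true, true, false, true, false, true, false])))) (.node (.node (.node (.node (.leaf []) (.leaf [false, true, false, false, true, true, true, true, false, true, true, false, false, true, false, true, true])) (.leaf [true, true, true, true, false, true, true, false, true, true, true,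 false, false, true, false, true, true, true])) (.node (.node (.leaf [true, false, true, false, false, true, false, true, false, false, false, false, true, true, true, true]) (.leaf [true, false, true, true, false, true, true, false, false, false, true, false, false])) (.leaf []))) (.node (.node (.node (.leaf []) (.leaf [false, true, true, false, true, true, true, false, false, false, true, false, false, true, false, false])) (.leaf [false, false, true, false, false, true, false, false, false, true, true, true, true, false, true, true])) (.node (.leaf [false, true, false, false, true, false, false, true, false, false, true, false, true, true, false, true, false]) (.leaf [false, false, true, false, true, true, false, false, false, false, true, true, false, false, false, true])))))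

def certGLab9 : Janko.Tree (List Bool) :=
  (.node (.node (.node (.node (.node (.leaf []) (.leaf [true, true, false, true, false, false, false, false, true, true, false, true, true, false, false, false, true])) (.leaf [])) (.node (.node (.leaf [false, false, false, false, false, false, true, false, true, false, true, true, true, false, false, true, false]) (.leaf [false, true, false, false, false, true, true, true, false, true, false, false, true, false])) (.leaf [true, false, false, false, true, true, false, false, true, true, true, false, false, true, false, true, true]))) (.node (.node (.node (.leaf []) (.leaf [true, false, true, false, false, true, true, true, false, true, true, false, false, true, false, false, true])) (.leaf [true, true, false, true, true, false, false, true, true, false, false, false, false, true, true, true, false])) (.node (.leaf []) (.leaf [true, true, true, false, true, false, false, false, false, false, false, true, false])))) (.node (.node (.node (.node (.leaf []) (.leaf [false, true, true, false, true, false, true, true, true, true])) (.leaf [])) (.node (.node (.leaf []) (.leaf [false, true, false, true, true, true, false, false, false, false, true, true, false, true, true, true])) (.leaf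 []))) (.node (.node (.node (.leaf []) (.leaf [true, false, true, true, false, true, false, false, true, false, false, false, true, false, true, true, true, true])) (.leaf [true, false, true, true, true, false, true, false, false, true, true, true])) (.node (.leaf []) (.leaf [])))))

def certGLab10 : Janko.Tree (List Bool) :=
  (.node (.node (.node (.node (.node (.leaf []) (.leaf [false, false, false, false, false, true, false, false, false, true, true, false, true, false, true, true, true, true])) (.leaf [false, false, true, false, false, false, true, true, false, false, false, false, true, false, false, true])) (.node (.node (.leaf []) (.leaf [false, true, false, false, false, true, true, false, true, true, false, true, false, false, false])) (.leaf []))) (.node (.node (.node (.leaf []) (.leaf [false, false, false, true, false, false, true, true, false, false, false, false, false, true, false, true, false, false, true])) (.leaf [])) (.node (.leaf []) (.leaf [])))) (.node (.node (.node (.node (.leaf []) (.leaf [])) (.leaf [])) (.node (.node (.leaf []) (.leaf [false, false, true, false, true, true, true, true, false, true, false, true, true, false, true, false, false, true])) (.leaf []))) (.node (.node (.node (.leaf [false,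 false, false, false, false, false, true, true, false, false, false, true, true, false, false, false]) (.leaf [false, false, false, false, false, true, true, false, false, false, true, false, true, true, true, false, false, false, false])) (.leaf [])) (.node (.leaf []) (.leaf [true, false, false, false, true, true, true, false, false, true, false, true, true, true, false])))))

def certGLab11 : Janko.Tree (List Bool) :=
  (.node (.node (.node (.node (.node (.leaf []) (.leaf [])) (.leaf [])) (.node (.node (.leaf []) (.leaf [true, true, false, true, false, false, false, false, true, false, true, false, false, true, false])) (.leaf [false, true, true, true, false, true, false, false, false, true, false, false, false, true, true, false]))) (.node (.node (.node (.leaf []) (.leaf [])) (.leaf [])) (.node (.leaf []) (.leaf [false, false, false, false, true, true, false, false, true, false, false, false, false, false, true, false, true])))) (.node (.node (.node (.node (.leaf []) (.leaf [])) (.leaf [])) (.node (.node (.leaf []) (.leaf [true, true, true, true, false, true, false, false, false, false, true, true, true, false, false, true])) (.leaf []))) (.node (.node (.node (.leaf []) (.leaf [])) (.leaf [true, true, false, false, false,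 false, true, true, true, false, true, false, true, false])) (.node (.leaf []) (.leaf [false, false, false, true, true, true, false, false, false, true, true, true, false, false, true, true])))))

def certGLab12 : Janko.Tree (List Bool) :=
  (.node (.node (.node (.node (.node (.leaf []) (.leaf [true, false, false, false, true, true, false, true, false, true, true, false, true, true, false])) (.leaf [false, false, false, true, false, true, true, true, true, false, true, true])) (.node (.node (.leaf [true, true, false, true, false, false, false, false, true, true, true, true, false, false, true, true, false, true]) (.leaf [true, false, true, true, true, false, false, true, true, false, false, false, false, true, true, false])) (.leaf []))) (.node (.node (.node (.leaf [false, true, true, false, false, true, true, false, false, true, true, false, false, true, false, false, true]) (.leaf [true, true, false, true, true, false, true, true, false, false, false, false, false, true, false, true, false])) (.leaf [])) (.node (.leaf []) (.leaf [false, false, false, true, true, false, true, true, true, true, false, false, false, true, true, false, true])))) (.node (.node (.node (.node (.leaf []) (.leaf [])) (.leaf [])) (.node (.node (.leaf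 []) (.leaf [false, true, true, false, false, false, true, false, true, false, false, false, false, true, false, true])) (.leaf [true, false, true, false, true, false, false, true, true, true, false, true, true, false, true, false, true]))) (.node (.node (.node (.leaf []) (.leaf [])) (.leaf [])) (.node (.leaf []) (.leaf [])))))

def certGLab13 : Janko.Tree (List Bool) :=
  (.node (.node (.node (.node (.node (.leaf []) (.leaf [])) (.leaf [])) (.node (.node (.leaf []) (.leaf [false, false, false, true, false, true, true, false, false, true, false, false, true, true, true, false, false])) (.leaf []))) (.node (.node (.node (.leaf []) (.leaf [false, true, true, true, true, false, true, false, false, true, false, false, true, true])) (.leaf [])) (.node (.leaf []) (.leaf [true, false, true, true, true, true, false, false, true, false, true, false, false, true])))) (.node (.node (.node (.node (.leaf []) (.leaf [true, false, false, true, true, false, true, false, true, true, false, false, false, false, true, false, false])) (.leaf [true, true, true, true, false, false, false, false, true, true, false, false, false, false, false])) (.node (.node (.leaf []) (.leaf [false, true, false, true, false, true, true, true, true, false, false,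 false, true, false, true, true, true, true])) (.leaf [false, true, false, true, true, false, false, false, true, true, false, false, true, false, true, false, false]))) (.node (.node (.node (.leaf []) (.leaf [true, true, true, false, false, true, false, true, true, true, false, false, true, false, true])) (.leaf [false, true, false, false, true, false, true, false, false, false, false, false, true, true, true, false, true])) (.node (.leaf []) (.leaf [false, false, false, true, true, true, false, true, true, true, false, false, true, false, false, false])))))

def certGLab14 : Janko.Tree (List Bool) :=
  (.node (.node (.node (.node (.node (.leaf []) (.leaf [false, false, false, true, false, false, true, true, false, true, true, false, false, true, true, false])) (.leaf [])) (.node (.node (.leaf []) (.leaf [false, true, false, false, false, true, false, true, false, false, false, true, true, false, false, false, true, true, true])) (.leaf [false, false, true, false, false, false, true, false, false, false, false, true, false, false, false, false, false, false]))) (.node (.node (.node (.leaf []) (.leaf [])) (.leaf [])) (.node (.leaf []) (.leaf [true, true, true, false, true, true, false, false, false, false, false, false,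 true])))) (.node (.node (.node (.node (.leaf []) (.leaf [true, true, false, false, true, true, true, false, false, false, true, false, false, true, false])) (.leaf [false, false, false, true, true, false, true, true, true, true, false, true, true])) (.node (.node (.leaf []) (.leaf [false, true, false, false, true, false, false, true, false, false, false, false, true, true, false, false, true])) (.leaf []))) (.node (.node (.node (.leaf [false, true, true, false, false, false, false, false, false, true, true, false, false, true, false, false, true]) (.leaf [true, true, true, true, false, false, false, true, false, false, false, false, true, true])) (.leaf [false, false, false, true, true, true, false, false, false, true, true, true, false, false, true, true])) (.node (.leaf []) (.leaf [false, true, false, true, true, false, false, false, false, false, false, true, true, false, true, false, true])))))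

def certGLab15 : Janko.Tree (List Bool) :=
  (.node (.node (.node (.node (.node (.leaf []) (.leaf [false, false, true, true, false, false, false, true, true, false, true, false, false, true, true, true])) (.leaf [])) (.node (.node (.leaf []) (.leaf [])) (.leaf []))) (.node (.node (.node (.leaf []) (.leaf [false, false, true, false, false, true, true, true, true, false, true, true, false, true])) (.leaf [])) (.node (.leaf []) (.leaf [false, false, false, true, false, false, false, false, true, true, true, false, false, false, true])))) (.node (.node (.node (.node (.leaf []) (.leaf [])) (.leaf [])) (.node (.node (.leaf []) (.leaf [])) (.leaf [false, true, true, false, true, false, false, true, true, false, false, false, true, false, true, false]))) (.node (.node (.node (.leaf [false, false, false, false, false, true, true, true, false, false, true, true, false, false, false, true, true]) (.leaf [])) (.leaf [])) (.node (.leaf []) (.leaf [])))))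

def certGLab16 : Janko.Tree (List Bool) :=
  (.node (.node (.node (.node (.node (.leaf []) (.leaf [true, false, false, false, true, false, true, true, false, false, false, true, false, false, false])) (.leaf [])) (.node (.node (.leaf []) (.leaf [true, false, false, true, false, false, true, true, false, false, true, true, true])) (.leaf [true, true, true, true, false, false, true, true, false, false, true, false, false, false, false]))) (.node (.node (.node (.leaf [false, true, true, true, true, false, true, false, true, true, false, false, false, false, true, false, true]) (.leaf [true, true, false, true, false, true, true, true, true, false, true, false, false, false, true, true, false])) (.leaf [true, false, true, true, false, true, false, true, true, false, false, false, false, true, true])) (.node (.leaf [true, false, false, true, false, false, true, false, false, true, true, false, true, true, false, true, false, true]) (.leaf [])))) (.node (.node (.node (.node (.leaf []) (.leaf [false, false, false, false, false, true, false, true, true, true, true, false, false, false, false, false])) (.leaf [false, true, false, false, true, true, false, false, true, false, true, false, false, false, false, false])) (.node (.node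 (.leaf [false, false, false, true, true, true, false, false, true, false, false, true, true, false, true, false]) (.leaf [true, true, false, false, true, false, true, true, true, true, false, true, true])) (.leaf []))) (.node (.node (.node (.leaf []) (.leaf [])) (.leaf [])) (.node (.leaf []) (.leaf [false, false, false, true, true, false, false, false, true, false, true, false, true, true, true, false, false, false, false])))))

def certGLab17 : Janko.Tree (List Bool) :=
  (.node (.node (.node (.node (.node (.leaf []) (.leaf [true, true, true, true, false, true, true, false, true, true, false, false, false, true, false, true])) (.leaf [])) (.node (.node (.leaf []) (.leaf [])) (.leaf [false, false, false, true, false, true, false, false, false, false, true, false, true, true, true, false, false, false]))) (.node (.node (.node (.leaf []) (.leaf [true, true, true, false, false, true, false, true, false, false, false, false, true, true, false, false, false, false])) (.leaf [])) (.node (.leaf [false, false, false, true, true, false, false, true, false, false, true, false, false, false, false, true]) (.leaf [false, true, true, false, true, false, false, false, false, false, true, true, false, true, false, false])))) (.node (.node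 (.node (.node (.leaf []) (.leaf [true, true, true, false, false, false, false, true, true, true, true, false, true])) (.leaf [false, false, true, true, true, false, true, false, false, true, true, true, false, true, true, false, true, false])) (.node (.node (.leaf [false, false, true, false, true, false, false, true, true, false, false, false, false, true, false, false]) (.leaf [])) (.leaf [false, false, true, false, false, true, true, false, true, true, true, false, true, true, true]))) (.node (.node (.node (.leaf []) (.leaf [false, true, false, true, true, true, true, false, false, false, false, true, false, true, false, true])) (.leaf [false, true, true, true, false, false, true, false, false, false, false, true, true, false])) (.node (.leaf [false, true, false, true, true, false, false, false, false, true, false, false, true, false, true, false, false]) (.leaf [])))))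

def certGLab18 : Janko.Tree (List Bool) :=
  (.node (.node (.node (.node (.node (.leaf [true, true, true, false, false, false, true, false, true, false, false, false, false, true, true, false, true]) (.leaf [false, false, false, false, true, true, false, true, false, true, true, false, true, false, false, true, true, false, false])) (.leaf [])) (.node (.node (.leaf []) (.leaf [true, true, true, true, false, false, false, false, false, true, false, false, false, false, true, false, true, true])) (.leaf [true, false, false, true, true, false, false, false, false, true, false, true, false, false, false, false, false]))) (.node (.node (.node (.leaf []) (.leaf [false, true, true, true, true, false, true, true, false, true, false, false, true, true, true, true])) (.leaf [true, true, true, false, false, false, true, true, false, false, false, true, false, true, false, false, true])) (.node (.leaf [true, false, false, false, false, true, true, true, true, false, true, true, true, false, true, false, true]) (.leaf [])))) (.node (.node (.node (.node (.leaf []) (.leaf [])) (.leaf [])) (.node (.node (.leaf []) (.leaf [])) (.leaf []))) (.node (.node (.node (.leaf []) (.leaf [false, true, false, false, true, false, false, false, false,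 false, true, false, true, true, true, true, false, false])) (.leaf [false, true, true, false, false, true, false, true, true, true, true, false, false, true, true, true, true])) (.node (.leaf []) (.leaf [true, false, false, false, false, true, true, false, false, false, true, false, true, false])))))

def certGLab19 : Janko.Tree (List Bool) :=
  (.node (.node (.node (.node (.node (.leaf []) (.leaf [])) (.leaf [true, true, true, false, false, true, true, false, false, true, true, false, true, false, true, true, false])) (.node (.node (.leaf []) (.leaf [false, false, false, true, false, true, false, false, true, false, true, true, true, true, false, true])) (.leaf []))) (.node (.node (.node (.leaf []) (.leaf [false, false, false, true, false, false, false, true, true, false])) (.leaf [])) (.node (.leaf []) (.leaf [])))) (.node (.node (.node (.node (.leaf []) (.leaf [false, false, false, true, true, true, true, false, true, false, false, false, false, true, false, true, true, true])) (.leaf [])) (.node (.node (.leaf []) (.leaf [false, false, false, false, false, true, false, true, true, true, false, false, true, false, false, true, true, false, true])) (.leaf []))) (.node (.node (.node (.leaf []) (.leaf [true, false, false,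 false, false, false, false, true, true, false, false, false, false, true, true])) (.leaf [false, false, true, false, true, false, true, true, false, true, false, false, true, true])) (.node (.leaf [false, true, true, false, true, false, true, true, true, false, true, true, false, false, false, false, true, false]) (.leaf [])))))

def certGLab20 : Janko.Tree (List Bool) :=
  (.node (.node (.node (.node (.node (.leaf []) (.leaf [])) (.leaf [])) (.node (.node (.leaf []) (.leaf [true, true, false, false, true, true, true, true, false, false, false, false, false, true, false, false, false])) (.leaf []))) (.node (.node (.node (.leaf []) (.leaf [true, false, false, true, true, false, false, false, true, false, false, true, false, false, false])) (.leaf [])) (.node (.leaf []) (.leaf [])))) (.node (.node (.node (.node (.leaf []) (.leaf [])) (.leaf [false, false, false, true, false, true, false, false, false, false, true, false, false, false])) (.node (.node (.leaf []) (.leaf [false, false, false, false, false, false, true, false, true, false, false, true, false, false, false, false, false, false])) (.leaf []))) (.node (.node (.node (.leaf []) (.leaf [false, true, true, true, false, false, true, false, true, true, true, false, true,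 true, false, true])) (.leaf [false, false, true, true, false, false, false, true, true, true, true, false, true, true, false])) (.node (.leaf []) (.leaf [])))))

def certGLab21 : Janko.Tree (List Bool) :=
  (.node (.node (.node (.node (.node (.leaf []) (.leaf [true, false, false, true, true, false, true, false, false, false, true, true, false, false, true, false])) (.leaf [false, false, false, false, false, false, true, false, false, true, false, false, false, true, false, false, true, false, true])) (.node (.node (.leaf []) (.leaf [false, true, false, true, true, false, true, true, false, true, false, false, true, true, false, false, true])) (.leaf []))) (.node (.node (.node (.leaf []) (.leaf [false, false, true, false, true, true, false, false, false, false, true, false, false, true, false, true, false])) (.leaf [true, false, false, true, true, true, true, false, true, false, false, true, false, true, false])) (.node (.leaf []) (.leaf [false, false, false, true, false, true, false, true, true, true, true, false, true, true, false, true, true, true, true])))) (.node (.node (.node (.node (.leaf []) (.leaf [true, false, false, false, false, false, true, true, true, false, true, true, true, false, true, true])) (.leaf [false,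 false, true, true, false, false, true, false, false, true, true, true, false, false, false, true, false])) (.node (.node (.leaf []) (.leaf [true, true, false, true, true, true, false, true, true, true, false, false, true, true, true])) (.leaf [true, false, true, true, true, false, false, false, true, true, true]))) (.node (.node (.node (.leaf []) (.leaf [true, true, true, true, false, true, false, false, false, true, true, false, true, true, false])) (.leaf [])) (.node (.leaf []) (.leaf [false, true, true, false, false, false, false, false, true, false, false, false, false, false, true])))))

def certGLab22 : Janko.Tree (List Bool) :=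
  (.node (.node (.node (.node (.node (.leaf []) (.leaf [])) (.leaf [])) (.node (.node (.leaf []) (.leaf [false, true, true, true, false, true, false, true, true, false, false, true, true, false, true, false, true, true])) (.leaf [true, true, false, true, false, false, true, true, false, true, false, true, true, false, false]))) (.node (.node (.node (.leaf []) (.leaf [])) (.leaf [])) (.node (.leaf []) (.leaf [false, false, true, true, false, false, true, false, true, true, false, false, true, false, false, false])))) (.node (.node (.node (.node (.leaf []) (.leaf [true, false, false, true, true, false, true, false, false, true, true, false, false, true])) (.leaf [true, false, true, true, true, false, false, true, true, true, false, false, true, false, false, true, true])) (.node (.node (.leaf []) (.leaf [false, true, true, true, true, false, true, true, true, false, false, true, false, false, true, true, false, true])) (.leaf []))) (.node (.node (.node (.leaf []) (.leaf [true, false, false, true, true, true, true, false, false, false, true, false, false, false, true])) (.leaf [])) (.node (.leaf []) (.leaf [true, false, false, false, false, false, true, true, false, false, true, false, false, false, false, false, true, true])))))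

def certGLab23 : Janko.Tree (List Bool) :=
  (.node (.node (.node (.node (.node (.leaf []) (.leaf [false, false, false, true, false, false, true, true, false, true, true, true, false, true, false, true])) (.leaf [])) (.node (.node (.leaf []) (.leaf [false, true, false, false, false, true, true, true, false, false, false, true, true, true, true, false, true])) (.leaf []))) (.node (.node (.node (.leaf []) (.leaf [false, true, false, false, true, true, true, true, false, false, false, false, true, false, true, false, false, false])) (.leaf [])) (.node (.leaf []) (.leaf [])))) (.node (.node (.node (.node (.leaf []) (.leaf [false, true, false, false, true, true, true, true, false, false, false, true, true, true, true, false])) (.leaf [])) (.node (.node (.leaf []) (.leaf [true, true, false, true, false, true, false, false, false, false, false, true, true, false, true])) (.leaf []))) (.node (.node (.node (.leaf []) (.leaf [false, false, true, true, true, true, false, false, true, true, false, false, false, false, false, true, false, true])) (.leaf [])) (.node (.leaf []) (.leaf [true, false, false, false, false, false, true, false, true, true, false, true, true, true, false, false, false, false])))))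

def certGLab24 : Janko.Tree (List Bool) :=
  (.node (.node (.node (.node (.node (.leaf []) (.leaf [])) (.leaf [])) (.node (.node (.leaf [true, false, true, true, true, false, false, false, false, true, true, false, true, true, true, false, true, true]) (.leaf [true, false, true, true, true, false, false, false, false, true, false, false, true, false, true])) (.leaf []))) (.node (.node (.node (.leaf []) (.leaf [false, false, false, true, true, true, false, false, false, true, false, false, true, true, true, false])) (.leaf [false, true, true, false, false, false, true, false, false, false, true, false, true, false, true, true, false, true])) (.node (.leaf []) (.leaf [false, true, false, false, false, true, false, true, true, true, true, false, true, false, false])))) (.node (.node (.node (.node (.leaf []) (.leaf [false, false, true, false, false, false, false, false, false, true, true, false, false, true, false, false])) (.leaf [false, true, false, false, false, true, true, true, false, true, false, false, false, false, false, true, true, true])) (.node (.node (.leaf []) (.leaf [true, true, true, false, false, false, true, false, true, false, true, true, true, false, false, true, true])) (.leaf []))) (.node (.node (.node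 (.leaf []) (.leaf [])) (.leaf [])) (.node (.leaf []) (.leaf [])))))

def certGLab25 : Janko.Tree (List Bool) :=
  (.node (.node (.node (.node (.node (.leaf []) (.leaf [false, true, false, true, true, false, false, true, false, true, true, false, true, true, true, false, true])) (.leaf [true, false, false, true, true, false, false, true, true, false, false, true, true, true, true])) (.node (.node (.leaf []) (.leaf [])) (.leaf [false, false, true, false, true, true, false, false, false, false, true, false, false, false, true, true]))) (.node (.node (.node (.leaf []) (.leaf [false, true, true, false, false, false, true, false, true, true, false, true, true, false, true, false, true])) (.leaf [])) (.node (.leaf []) (.leaf [])))) (.node (.node (.node (.node (.leaf []) (.leaf [])) (.leaf [true, false, false, true, false, true, true, false, false, false, false, false, false, true, false, false, true])) (.node (.node (.leaf []) (.leaf [false, false, true, true, false, true, false, false, false, false, true, true, true, false, false, true, true])) (.leaf []))) (.node (.node (.node (.leaf []) (.leaf [true, true, true, true, false, false, true, false, false, false, true, true, false, false, true, false])) (.leaf [true, true, true,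 false, false, true, false, false, false, true, true, false, true, false, true, true])) (.node (.leaf []) (.leaf [false, true, false, false, false, false, true, true, false, true, false, true])))))

def certGLab26 : Janko.Tree (List Bool) :=
  (.node (.node (.node (.node (.node (.leaf []) (.leaf [true, true, true, false, true, false, false, false, true, false, false, false, true, false])) (.leaf [])) (.node (.node (.leaf []) (.leaf [true, false, true, true, false, false, false, true, true, false, false, false, false, true, false])) (.leaf []))) (.node (.node (.node (.leaf [false, false, false, false, true, false, true, false, false, false, true, true, false, false, false, false, true]) (.leaf [])) (.leaf [true, false, true, true, true, true, false, false, true, false, false, false, true, false, true])) (.node (.leaf []) (.leaf [])))) (.node (.node (.node (.node (.leaf []) (.leaf [false, true, false, true, false, false, true, false, false, true, false, false, true])) (.leaf [false, false, false, false, false, true, false, false, false, true, true, false, true, true, false, false, false])) (.node (.node (.leaf []) (.leaf [false, false, false, false, true, false, false, true, true, true, true, false, false, true, false, true,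 true, false, true])) (.leaf []))) (.node (.node (.node (.leaf []) (.leaf [true, false, true, true, true, false, true, true, false, false, false, false, true])) (.leaf [])) (.node (.leaf [true, true, false, false, false, true, true, false, true, false, false, false, false, true, true, true]) (.leaf [])))))

def certGLab27 : Janko.Tree (List Bool) :=
  (.node (.node (.node (.node (.node (.leaf []) (.leaf [])) (.leaf [])) (.node (.node (.leaf []) (.leaf [false, true, false, true, true, true, false, false, false, false, true, true, false, true, true, true])) (.leaf [false, true, true, true, false, true, true, false, false, true, true, false, true, true, true, false, false, true, true]))) (.node (.node (.node (.leaf []) (.leaf [])) (.leaf [false, true, true, true, false, false, false, false, true, true, false, true, false, true, true, false, true, false, false])) (.node (.leaf []) (.leaf [true, true, false, false, false, true, true, true, false, true, false, false, true, true, false, false, true])))) (.node (.node (.node (.node (.leaf []) (.leaf [false, false, true, true, false, false, true, true, false, true, false, false, false, false, false, true, true, false])) (.leaf [])) (.node (.node (.leaf []) (.leaf [false, false, false,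 true, true, false, true, true, false, false, false, false, false, true, true])) (.leaf [true, true, false, false, true, false, true, false, false, false, true, false, true, true, false]))) (.node (.node (.node (.leaf []) (.leaf [])) (.leaf [])) (.node (.leaf []) (.leaf [])))))

def certGLab28 : Janko.Tree (List Bool) :=
  (.node (.node (.node (.node (.node (.leaf [false, false, false, true, true, false, false, true, true, false, true, false, false, true, false, true]) (.leaf [false, true, false, false, false, false, false, true, true, false, false, true, false, false, false, false])) (.leaf [false, true, false, true, false, false, true, true, false, true, false, true, false, false, true, true])) (.node (.node (.leaf [true, false, true, false, false, false, false, false, true, false, false, false, false, true, true, false, true]) (.leaf [])) (.leaf [false, true, true, false, false, false, true, true, true, true, false, false, false, true, true, false]))) (.node (.node (.node (.leaf []) (.leaf [false, true, false, false, false, true, true, true, false, false, true, true, false, false, false, false, true, false])) (.leaf [])) (.node (.leaf []) (.leaf [])))) (.node (.node (.node (.node (.leaf []) (.leaf [])) (.leaf [false,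 false, false, false, true, true, true, false, false, false, false, true, true, true, false])) (.node (.node (.leaf []) (.leaf [true, false, false, false, false, true, true, false, false, true, false, true, true, true, false])) (.leaf [true, true, false, true, true, true, true, false, false, true, true, false, true, true, true]))) (.node (.node (.node (.leaf []) (.leaf [true, false, true, false, true, true, false, true, true, true, false, false, true, false, true, true, true, false])) (.leaf [])) (.node (.leaf []) (.leaf [])))))

def certGLab29 : Janko.Tree (List Bool) :=
  (.node (.node (.node (.node (.node (.leaf []) (.leaf [])) (.leaf [true, true, true, false, true, false, false, false, false, true, true, true, true, false, false, false, false, true])) (.node (.node (.leaf []) (.leaf [false, false, false, true, false, true, false, false, true, true, false, true, true, false])) (.leaf []))) (.node (.node (.node (.leaf []) (.leaf [])) (.leaf [true, true, false, false, true, false, true, true, false, true, true, false, true, true])) (.node (.leaf []) (.leaf [true, true, true, false, false, false, true, true, true, false, true, true, false, false])))) (.node (.node (.node (.node (.leaf []) (.leaf [true, true, false, true,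 false, false, false, true, true, false, true, false, false, false, true, false, false, false])) (.leaf [])) (.node (.node (.leaf []) (.leaf [])) (.leaf []))) (.node (.node (.node (.leaf []) (.leaf [])) (.leaf [false, true, true, true, false, false, false, true, false, false, true, true, false, false, false, false])) (.node (.leaf [true, false, true, true, true, true, false, true, true, true, true, false, true, true, true, true, false, true]) (.leaf [false, true, false, false, false, false, false, false, true, false, true, false, false, true, true, false, false])))))

def certGLab30 : Janko.Tree (List Bool) :=
  (.node (.node (.node (.node (.node (.leaf []) (.leaf [false, false, true, false, true, false, true, true, false, false, true, false, false, true, false, false, false, false])) (.leaf [])) (.node (.node (.leaf []) (.leaf [true, true, false, true, false, false, false, false, true, true, false, true, false, true, true, true])) (.leaf []))) (.node (.node (.node (.leaf []) (.leaf [])) (.leaf [true, true, false, true, true, true, true, false, true, true, false, false, false, false])) (.node (.leaf [false, true, false, true, true, false, true, true, true, true, false, false, true, true, false, true]) (.leaf [])))) (.node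 (.node (.node (.node (.leaf []) (.leaf [false, false, true, true, false, true, false, true, true, true, true, false, false, false, false, true, false])) (.leaf [false, false, true, false, true, true, false, false, false, true, true, false, false, true, true, false, true])) (.node (.node (.leaf [true, false, true, true, true, false, false, true, false, true, true, true, false, true, false, false]) (.leaf [true, true, true, false, false, false, true, true, true, true, false, false, true, false, true, true])) (.leaf []))) (.node (.node (.node (.leaf []) (.leaf [true, false, true, true, true, true, false, false, true, false, true, true, false])) (.leaf [])) (.node (.leaf [true, false, false, true, false, false, false, false, false, false, true, false, false, true, false, true]) (.leaf [])))))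

def certGLab31 : Janko.Tree (List Bool) :=
  (.node (.node (.node (.node (.node (.leaf []) (.leaf [])) (.leaf [true, false, false, true, false, true, true, false, true, true, false, false, false, false, true, true, false])) (.node (.node (.leaf [false, true, true, false, true, false, true, true, true, false, true, true, false, true, false, true, true, false]) (.leaf [true, false, false, false, false, true, true, true, false, false, true, true, false, true, false, false, false, false])) (.leaf [true, true, false, false, false, false, true, true, true, false, false, true, true, false, false, false]))) (.node (.node (.node (.leaf []) (.leaf [false, true, false, false, false, true, true, true, false, true, true, true, false, false, true, false, false])) (.leaf [])) (.node (.leaf []) (.leaf [true, false, true, true, true, false, true, true, true, false, false, false, true, true, true, true])))) (.node (.node (.node (.node (.leaf []) (.leaf [false, true, true, false, true, true, false, true, true, true, false, true, true, false, false, true, true])) (.leaf [])) (.node (.node (.leaf [true, true, false, false, true, true, false, true, false, false, true, true, true, true, false, true, true, false]) (.leaf [true, false, false,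 false, true, true, true, true, false, true, false, true, false, false, true, false])) (.leaf []))) (.node (.node (.node (.leaf []) (.leaf [])) (.leaf [false, false, false, false, true, false, true, false, false, false, false, true, false, true, true, true, false, false])) (.node (.leaf [false, true, true, true, false, true, false, false, false, true, false, false, false, false]) (.leaf [true, true, true, false, false, false, true, true, true, false, true, true, true, true])))))

def certGLab : Janko.Tree (List Bool) :=
  (.node (.node (.node (.node (.node certGLab0 certGLab16) (.node certGLab8 certGLab24)) (.node (.node certGLab4 certGLab20) (.node certGLab12 certGLab28))) (.node (.node (.node certGLab2 certGLab18) (.node certGLab10 certGLab26)) (.node (.node certGLab6 certGLab22) (.node certGLab14 certGLab30)))) (.node (.node (.node (.node certGLab1 certGLab17) (.node certGLab9 certGLab25)) (.node (.node certGLab5 certGLab21) (.node certGLab13 certGLab29))) (.node (.node (.node certGLab3 certGLab19) (.node certGLab11 certGLab27)) (.node (.node certGLab7 certGLab23) (.node certGLab15 certGLab31)))))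

def certGWord0 : Janko.Tree (List Bool) :=
  (.node (.node (.node (.node (.node (.leaf []) (.leaf [false, true, false, true, false, false, false, true, true, false])) (.leaf [false, true, false, false, true, false, false, true])) (.node (.node (.leaf [true, true, false, false, false, false]) (.leaf [true, false, false, true, false, false, true, false, false, true, false])) (.leaf [false, true, false, false, true, false, false, true, true]))) (.node (.node (.node (.leaf [true, false, false, true, false]) (.leaf [true, true, false, false, false, false, true, true, false, true])) (.leaf [true, false, true, true, false, false, true, false])) (.node (.leaf [true, false, false, true, false, true, true]) (.leaf [true, false, true, true, false, false, true, true, false])))) (.node (.node (.node (.node (.leaf [false, true, false, true]) (.leaf [true, false, false, true, false, false, true, false, false, false])) (.leaf [true, false, false, false, true, true, false, true])) (.node (.node (.leaf [false, true, false, false, false, true, true]) (.leaf [false, false, false, false, true, true, false, true, false, false, false, true])) (.leaf [true, false, false, false, true, true, false, true, true]))) (.node (.node (.node (.leaf [false,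 true, false, false, true, false]) (.leaf [false, true, false, false, false, false, false, true, false, false, false])) (.leaf [false, false, false, false, false, true, true, false, true])) (.node (.leaf [false, false, false, false, false, false, true, true]) (.leaf [false, false, false, false, false, true, true, false, true, false])))))

def certGWord1 : Janko.Tree (List Bool) :=
  (.node (.node (.node (.node (.node (.leaf [false]) (.leaf [false, true, false, true, false, true, true, false, false, false])) (.leaf [false, true, false, false, true, false, true, true])) (.node (.node (.leaf [true, true, false, false, false, true]) (.leaf [true, false, true, false, false, false, false, false, false, false, false])) (.leaf [false, true, false, false, true, true, false, false, true]))) (.node (.node (.node (.leaf [true, false, false, true, true]) (.leaf [true, true, false, true, false, false, true, false, true, false])) (.leaf [true, false, true, true, false, false, true, true])) (.node (.leaf [true, false, true, false, false, false, false]) (.leaf [true, true, false, false, false, false, true, false, false])))) (.node (.node (.node (.node (.leaf [true, false, false, false]) (.leaf [true, false, false, true, false, false, true,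 false, false, true])) (.leaf [true, false, false, true, false, false, false, false])) (.node (.node (.leaf [false, true, false, false, true, false, false]) (.leaf [false, true, false, false, false, false, false, false, true, false, true, false])) (.leaf [true, false, false, true, false, false, false, false, false]))) (.node (.node (.node (.leaf [false, true, false, false, true, true]) (.leaf [false, true, false, false, false, true, false, false, false, false, false])) (.leaf [false, false, false, false, true, false, false, false, true])) (.node (.leaf [false, false, false, false, false, true, false, false]) (.leaf [false, false, false, false, false, true, true, false, true, true])))))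

def certGWord2 : Janko.Tree (List Bool) :=
  (.node (.node (.node (.node (.node (.leaf [true]) (.leaf [false, true, false, true, false, true, true, false, true, false])) (.leaf [false, true, false, false, true, true, false, false])) (.node (.node (.leaf [true, true, false, false, true, true]) (.leaf [true, false, true, false, false, false, false, false, false, false, true])) (.leaf [false, true, false, false, true, true, false, true, true]))) (.node (.node (.node (.leaf [true, false, true, false, false]) (.leaf [true, true, false, true, false, true, false, false, true, false])) (.leaf [true, true, false, false, false, false, true, false])) (.node (.leaf [true, false, true, false, false, false, true]) (.leaf [true, true, false, false, false, false, true, false, true])))) (.node (.node (.node (.node (.leaf [true, false, false, true]) (.leaf [true, false, false, true, false, false, true, false, true, false])) (.leaf [true, false, false, true, false, false, false, true])) (.node (.node (.leaf [false, true, false, false, true, false, true]) (.leaf [false, true, false, false, false, true, false, false, false, false, false, false])) (.leaf [true, false, false, true, false, false, false, false, true]))) (.node (.node (.node (.leaf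 [false, true, false, true, false, false]) (.leaf [false, true, false, false, true, false, false, true, false, false, false])) (.leaf [false, false, false, false, true, false, false, true, false])) (.node (.leaf [false, false, false, false, false, true, false, true]) (.leaf [false, false, false, false, true, false, false, false, true, false])))))

def certGWord3 : Janko.Tree (List Bool) :=
  (.node (.node (.node (.node (.node (.leaf [false, false]) (.leaf [false, true, false, true, false, true, true, false, true, true])) (.leaf [false, true, false, false, true, true, false, true])) (.node (.node (.leaf [true, true, false, true, false, false]) (.leaf [true, false, true, false, false, false, false, true, true, false, false])) (.leaf [false, true, false, true, false, false, false, true, true]))) (.node (.node (.node (.leaf [true, false, true, false, true]) (.leaf [true, true, false, true, false, true, false, true, true, false])) (.leaf [true, true, false, false, false, false, true, true])) (.node (.leaf [true, false, true, false, false, true, false]) (.leaf [true, true, false, false, false, false, true, true, false])))) (.node (.node (.node (.node (.leaf [true, false, true, false]) (.leaf [true, false, false, true, false, false,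 true, false, true, true])) (.leaf [true, false, false, true, false, false, true, false])) (.node (.node (.leaf [false, true, false, false, true, true, false]) (.leaf [false, true, false, false, true, false, false, true, false, false, true, true])) (.leaf [true, false, false, true, false, false, false, true, false]))) (.node (.node (.node (.leaf [false, true, false, true, false, true]) (.leaf [false, true, false, false, true, false, false, true, false, false, true])) (.leaf [false, false, false, false, true, false, false, true, true])) (.node (.leaf [false, false, false, false, false, true, true, false]) (.leaf [false, false, false, false, true, false, true, false, true, false])))))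

def certGWord4 : Janko.Tree (List Bool) :=
  (.node (.node (.node (.node (.node (.leaf [false, true]) (.leaf [false, true, false, true, true, false, false, false, false, true])) (.leaf [false, true, false, true, false, false, false, true])) (.node (.node (.leaf [true, true, false, true, false, true]) (.leaf [true, false, true, false, false, false, true, true, false, false, true])) (.leaf [false, true, false, true, false, false, true, false, true]))) (.node (.node (.node (.leaf [true, false, true, true, false]) (.leaf [false, false, false, false, false, false, false, false, false, true, false])) (.leaf [true, true, false, false, false, true, true, false])) (.node (.leaf [true, false, true, false, false, true, true]) (.leaf [true, true, false, true, false, false, true, false, false])))) (.node (.node (.node (.node (.leaf [true, false, true, true]) (.leaf [true, false, false, true, false, true, true, false, true, false])) (.leaf [true, false, false, true, false, false, true, true])) (.node (.node (.leaf [false, true, false, true, false, false, false]) (.leaf [false, true, false, false, true, true, false, false, true, false, false, true])) (.leaf [true, false, false, true, false, false, true, false, false]))) (.node (.node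 (.node (.leaf [false, true, false, true, true, false]) (.leaf [false, true, false, false, true, false, false, true, true, false, false])) (.leaf [false, false, false, false, true, false, true, false, false])) (.node (.leaf [false, false, false, false, true, false, false, false]) (.leaf [false, false, false, false, true, false, true, true, false, false])))))

def certGWord5 : Janko.Tree (List Bool) :=
  (.node (.node (.node (.node (.node (.leaf [true, false]) (.leaf [false, true, false, true, true, false, false, true, false, true])) (.leaf [false, true, false, true, false, false, true, false])) (.node (.node (.leaf [false, false, false, false, false, false, false]) (.leaf [true, false, true, false, true, true, false, true, true, false, false])) (.leaf [false, true, false, true, false, true, true, false, false]))) (.node (.node (.node (.leaf [true, true, false, false, false]) (.leaf [false, false, false, false, false, false, false, false, true, false, true])) (.leaf [true, true, false, true, false, false, true, false])) (.node (.leaf [true, false, true, false, true, true, false]) (.leaf [true, true, false, true, false, false, true, false, true])))) (.node (.node (.node (.node (.leaf [true, true, false, false]) (.leaf [true,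 false, true, false, false, false, false, false, false, false])) (.leaf [true, false, false, true, false, true, true, false])) (.node (.node (.leaf [false, true, false, true, false, false, true]) (.leaf [true, false, false, false, false, false, true, false, false, false, true, false])) (.leaf [true, false, false, true, false, false, true, false, true]))) (.node (.node (.node (.leaf [true, false, false, false, false, false]) (.leaf [false, true, false, false, true, true, false, false, true, false, false])) (.leaf [false, false, false, false, true, false, true, false, true])) (.node (.leaf [false, false, false, false, true, false, false, true]) (.leaf [false, false, false, false, true, true, false, false, false, true])))))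

def certGWord6 : Janko.Tree (List Bool) :=
  (.node (.node (.node (.node (.node (.leaf [true, true]) (.leaf [true, false, false, false, false, false, true, false, false, false])) (.leaf [false, true, false, true, false, false, true, true])) (.node (.node (.leaf [false, false, false, false, false, false, true]) (.leaf [true, false, true, true, false, false, false, false, true, false, false])) (.leaf [false, true, false, true, false, true, true, false, true]))) (.node (.node (.node (.leaf [true, true, false, false, true]) (.leaf [false, false, false, false, false, false, false, true, true, false, true])) (.leaf [true, true, false, true, false, false, true, true])) (.node (.leaf [true, false, true, true, false, false, false]) (.leaf [true, true, false, true, false, false, true, true, false])))) (.node (.node (.node (.node (.leaf [true, true, false, true]) (.leaf [true, false, true, false, false, false, false, true, true, false])) (.leaf [true, false, true, false, false, false, false, false])) (.node (.node (.leaf [false, true, false, true, false, true, true]) (.leaf [true, false, false, false, true, true, false, true, true, false, false, false])) (.leaf [true, false, false, true, false, true, true, false, false]))) (.node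 (.node (.node (.leaf [true, false, false, false, false, true]) (.leaf [false, true, false, true, false, true, true, false, true, false, true])) (.leaf [false, false, false, false, true, false, true, true, false])) (.node (.leaf [false, false, false, false, true, false, true, false]) (.leaf [false, false, false, false, true, true, false, true, false, false])))))

def certGWord7 : Janko.Tree (List Bool) :=
  (.node (.node (.node (.node (.node (.leaf [false, false, false]) (.leaf [true, false, false, false, false, false, true, false, false, true])) (.leaf [false, true, false, true, false, true, true, false])) (.node (.node (.leaf [false, false, false, false, false, true, false]) (.leaf [true, false, true, true, false, false, true, false, false, true, true])) (.leaf [false, true, false, true, true, false, false, false, false]))) (.node (.node (.node (.leaf [true, true, false, true, false]) (.leaf [false, false, false, false, false, true, false, false, false, true, false])) (.leaf [true, true, false, true, false, true, false, false])) (.node (.leaf [true, false, true, true, false, false, true]) (.leaf [true, true, false, true, false, true, false, false, false])))) (.node (.node (.node (.node (.leaf [false, false, false, false,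 false]) (.leaf [true, false, true, false, false, false, true, true, false, false])) (.leaf [true, false, true, false, false, false, false, true])) (.node (.node (.leaf [false, true, false, true, true, false, false]) (.leaf [true, false, false, true, false, false, false, true, false, false, true, true])) (.leaf [true, false, false, true, false, true, true, false, true]))) (.node (.node (.node (.leaf [true, false, false, false, true, false]) (.leaf [false, true, false, true, true, false, false, true, false, true, true])) (.leaf [false, false, false, false, true, true, false, false, false])) (.node (.leaf [false, false, false, false, true, false, true, true]) (.leaf [false, true, false, false, false, false, false, false, false, true])))))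

def certGWord8 : Janko.Tree (List Bool) :=
  (.node (.node (.node (.node (.node (.leaf [false, true, false]) (.leaf [true, false, false, false, false, false, true, true, false, true])) (.leaf [false, true, false, true, true, false, false, false])) (.node (.node (.leaf [false, false, false, false, false, true, true]) (.leaf [true, false, true, true, false, false, true, true, false, true, false])) (.leaf [false, true, false, true, true, false, false, false, true]))) (.node (.node (.node (.leaf [true, true, false, true, true]) (.leaf [false, false, false, false, false, true, false, true, false, false, false])) (.leaf [true, true, false, true, false, true, false, true])) (.node (.leaf [true, false, true, true, false, true, false]) (.leaf [true, true, false, true, false, true, false, false, true])))) (.node (.node (.node (.node (.leaf [false, false, false, false, true]) (.leaf [true, false, true, false, false, true, false, true, true, false])) (.leaf [true, false, true, false, false, false, true, false])) (.node (.node (.leaf [false, true, false, true, true, false, true]) (.leaf [true, false, false, true, false, false, true, false, false, false, true, true])) (.leaf [true, false, true, false, false, false, false, false, false])))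 (.node (.node (.node (.leaf [true, false, false, false, true, true]) (.leaf [true, false, false, false, false, false, true, false, false, false, true])) (.leaf [false, false, false, false, true, true, false, true, false])) (.node (.leaf [false, false, false, false, true, true, false, false]) (.leaf [false, true, false, false, false, false, false, false, true, false])))))

def certGWord9 : Janko.Tree (List Bool) :=
  (.node (.node (.node (.node (.node (.leaf [false, true, true]) (.leaf [true, false, false, false, false, true, false, false, false, false])) (.leaf [false, true, false, true, true, false, false, true])) (.node (.node (.leaf [false, false, false, false, true, false, false]) (.leaf [true, true, false, true, false, true, false, true, true, false, false])) (.leaf [false, true, false, true, true, false, false, true, false]))) (.node (.node (.node (.leaf [false, false, false, false, false, false]) (.leaf [false, false, false, false, false, true, true, false, false, true, false])) (.leaf [false, false, false, false, false, false, false, false, false])) (.node (.leaf [true, false, true, true, false, true, true]) (.leaf [true, true, false, true, false, true, false, true, true])))) (.node (.node (.node (.node (.leaf [false,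 false, false, true, true]) (.leaf [true, false, true, false, true, true, false, true, true, false])) (.leaf [true, false, true, false, false, false, true, true])) (.node (.node (.leaf [true, false, false, false, false, false, true]) (.leaf [true, false, false, true, false, false, true, false, false, true, false, false])) (.leaf [true, false, true, false, false, false, false, true, true]))) (.node (.node (.node (.leaf [true, false, false, true, false, false]) (.leaf [true, false, false, false, false, true, false, false, false, false, true])) (.leaf [false, false, false, true, true, false, true, true, false])) (.node (.leaf [false, false, false, false, true, true, false, true]) (.leaf [false, true, false, false, false, false, false, false, true, true])))))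

def certGWord10 : Janko.Tree (List Bool) :=
  (.node (.node (.node (.node (.node (.leaf [true, false, false]) (.leaf [true, false, false, false, false, true, false, true, false, false])) (.leaf [true, false, false, false, false, false, true, false])) (.node (.node (.leaf [false, false, false, false, true, false, true]) (.leaf [true, true, false, true, false, true, false, true, true, false, true])) (.leaf [true, false, false, false, false, false, true, false, false]))) (.node (.node (.node (.leaf [false, false, false, false, false, true]) (.leaf [false, false, false, false, false, true, true, false, true, false, true])) (.leaf [false, false, false, false, false, false, false, false, true])) (.node (.leaf [true, true, false, false, false, false, true]) (.leaf [false, false, false, false, false, false, false, false, false, true])))) (.node (.node (.node (.node (.leaf [false, true, false, false, false]) (.leaf [true, false, true, true, false, false, false, false, true, false])) (.leaf [true, false, true, false, false, true, false, false])) (.node (.node (.leaf [true, false, false, false, false, true, false]) (.leaf [true, false, true, false, false, false, false, true, true, false, false, true])) (.leaf [true, false, true,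 false, false, false, true, true, false]))) (.node (.node (.node (.leaf [true, false, false, true, false, true]) (.leaf [true, false, false, false, false, true, false, true, false, false, false])) (.leaf [false, true, false, false, false, false, false, false, false])) (.node (.leaf [false, false, false, true, true, false, true, true]) (.leaf [false, true, false, false, false, false, false, true, false, false])))))

def certGWord11 : Janko.Tree (List Bool) :=
  (.node (.node (.node (.node (.node (.leaf [true, false, true]) (.leaf [true, false, false, false, true, true, false, false, false, false])) (.leaf [true, false, false, false, false, false, true, true])) (.node (.node (.leaf [false, false, false, false, true, true, false]) (.leaf [false, false, false, false, false, false, false, false, false, true, false, false])) (.leaf [true, false, false, false, false, false, true, true, false]))) (.node (.node (.node (.leaf [false, false, false, false, true, false]) (.leaf [false, false, false, false, true, false, true, false, true, false, false])) (.leaf [false, false, false, false, false, false, false, true, true])) (.node (.leaf [true, true, false, false, false, true, true]) (.leaf [false, false, false, false, false, false, false,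 false, true, false])))) (.node (.node (.node (.node (.leaf [false, true, false, false, true]) (.leaf [true, false, true, true, false, false, true, false, false, false])) (.leaf [true, false, true, false, false, true, false, true])) (.node (.node (.leaf [true, false, false, false, false, true, true]) (.leaf [true, false, true, true, false, false, true, true, false, true, false, true])) (.leaf [true, false, true, false, false, true, false, true, true]))) (.node (.node (.node (.leaf [true, false, true, false, false, false]) (.leaf [true, false, false, false, true, true, false, false, false, false, false])) (.leaf [false, true, false, false, false, false, false, false, true])) (.node (.leaf [false, true, false, false, false, false, false, false]) (.leaf [false, true, false, false, false, false, false, true, true, false])))))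

def certGWord12 : Janko.Tree (List Bool) :=
  (.node (.node (.node (.node (.node (.leaf [true, true, false]) (.leaf [true, false, false, false, true, true, false, true, true, false])) (.leaf [true, false, false, false, false, true, false, false])) (.node (.node (.leaf [false, false, false, true, true, false, true]) (.leaf [false, false, false, false, false, false, false, false, true, false, true, true])) (.leaf [true, false, false, false, false, true, false, false, false]))) (.node (.node (.node (.leaf [false, false, false, false, true, true]) (.leaf [false, false, false, false, true, false, true, true, false, false, true])) (.leaf [false, false, false, false, false, true, false, false, false])) (.node (.leaf [true, true, false, true, false, false, true]) (.leaf [false, false, false, false, false, false, false, true, true, false])))) (.node (.node (.node (.node (.leaf [false, true, false, true, false]) (.leaf [true, false, true, true, false, false, true, false, false, true])) (.leaf [true, false, true, false, true, true, false, false])) (.node (.node (.leaf [true, false, false, false, true, true, false]) (.leaf [false, false, false, false, true, false, true, false, true, false, false, false, false])) (.leaf [true, false,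 true, false, true, true, false, true, true]))) (.node (.node (.node (.leaf [true, false, true, false, false, true]) (.leaf [true, false, false, false, true, true, false, true, true, false, false])) (.leaf [false, true, false, false, false, false, false, true, false])) (.node (.leaf [false, true, false, false, false, false, false, true]) (.leaf [false, true, false, false, false, true, false, false, false, false])))))

def certGWord13 : Janko.Tree (List Bool) :=
  (.node (.node (.node (.node (.node (.leaf [false, false, false, false]) (.leaf [true, false, false, true, false, false, false, false, false, true])) (.leaf [true, false, false, false, false, true, false, true])) (.node (.node (.leaf [false, true, false, false, false, false, false]) (.leaf [false, false, false, false, false, true, false, false, false, true, false, false])) (.leaf [true, false, false, false, false, true, false, true, false]))) (.node (.node (.node (.leaf [false, false, false, true, true, false]) (.leaf [false, false, false, false, true, true, false, true, false, false, false])) (.leaf [false, false, false, false, false, true, false, false, true])) (.node (.leaf [true, true, false, true, false, true, false]) (.leaf [false, false, false, false, false,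 true, false, false, false, true])))) (.node (.node (.node (.node (.leaf [false, true, false, true, true]) (.leaf [true, false, true, true, false, false, true, true, false, false])) (.leaf [true, false, true, false, true, true, false, true])) (.node (.node (.leaf [true, false, false, true, false, false, false]) (.leaf [false, false, false, false, true, true, false, true, false, false, false, true, false])) (.leaf [true, false, true, true, false, false, false, false, true]))) (.node (.node (.node (.leaf [true, false, true, false, true, true]) (.leaf [true, false, false, true, false, false, false, false, false, true, true])) (.leaf [false, true, false, false, false, false, false, true, true])) (.node (.leaf [false, true, false, false, false, false, true, true]) (.leaf [false, true, false, false, true, false, false, true, false, false])))))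

def certGWord14 : Janko.Tree (List Bool) :=
  (.node (.node (.node (.node (.node (.leaf [false, false, false, true]) (.leaf [true, false, false, true, false, false, false, false, true, true])) (.leaf [true, false, false, false, false, true, true, false])) (.node (.node (.leaf [false, true, false, false, false, false, true]) (.leaf [false, false, false, false, true, false, true, false, true, false, false, false])) (.leaf [true, false, false, false, false, true, false, true, true]))) (.node (.node (.node (.leaf [false, true, false, false, false, false]) (.leaf [false, true, false, false, false, false, false, false, false, true, true])) (.leaf [false, false, false, false, false, true, false, true, false])) (.node (.leaf [false, false, false, false, false, false, false, false]) (.leaf [false, false, false, false, false, true, false, true, false, false])))) (.node (.node (.node (.node (.leaf [true, false, false, false, false]) (.leaf [true, false, true, true, false, false, true, true, false, true])) (.leaf [true, false, true, true, false, false, false, false])) (.node (.node (.leaf [true, false, false, true, false, false, true]) (.leaf [false, false, false, false, true, true, false, true, false, false, false, true, true]))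 (.leaf [true, false, true, true, false, false, false, true, true]))) (.node (.node (.node (.leaf [true, false, true, true, false, false]) (.leaf [true, false, false, true, false, false, false, true, false, false, true])) (.leaf [false, true, false, false, false, true, false, false, false])) (.node (.leaf [false, true, false, false, false, true, false, false]) (.leaf [false, true, false, false, true, false, false, true, true, false])))))

def certGWord15 : Janko.Tree (List Bool) :=
  (.node (.node (.node (.node (.node (.leaf [false, true, false, false]) (.leaf [true, false, false, true, false, false, false, true, false, false])) (.leaf [true, false, false, false, true, true, false, false])) (.node (.node (.leaf [false, true, false, false, false, true, false]) (.leaf [false, false, false, false, true, true, false, true, false, false, false, false])) (.leaf [true, false, false, false, true, true, false, false, false]))) (.node (.node (.node (.leaf [false, true, false, false, false, true]) (.leaf [false, true, false, false, false, false, false, false, true, false, true])) (.leaf [false, false, false, false, false, true, true, false, false])) (.node (.leaf [false, false, false, false, false, false, false, true]) (.leaf [false,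 false, false, false, false, true, true, false, false, true])))) (.node (.node (.node (.node (.leaf [true, false, false, false, true]) (.leaf [true, true, false, false, false, false, true, false, true, false])) (.leaf [true, false, true, true, false, false, false, true])) (.node (.node (.leaf [true, false, false, true, false, true, false]) (.leaf [true, false, false, true, false, false, true, false, false, true, false, false, false])) (.leaf [true, false, true, true, false, false, true, false, false]))) (.node (.node (.node (.leaf [true, false, true, true, false, true]) (.leaf [true, false, false, true, false, false, true, false, false, false, true])) (.leaf [false, true, false, false, true, false, false, true, false])) (.node (.leaf [false, true, false, false, false, true, true, false]) (.leaf [false, true, false, false, true, true, false, false, true, false])))))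

def certGWord : Janko.Tree (List Bool) :=
  (.node (.node (.node (.node certGWord0 certGWord8) (.node certGWord4 certGWord12)) (.node (.node certGWord2 certGWord10) (.node certGWord6 certGWord14))) (.node (.node (.node certGWord1 certGWord9) (.node certGWord5 certGWord13)) (.node (.node certGWord3 certGWord11) (.node certGWord7 certGWord15))))

def certGPerm0 : Janko.Tree (ℕ) :=
  (.node (.node (.node (.node (.node (.leaf 4100094770554042515533122004313285236735003534074830538881045787921142082201184208296423565880205964959118971074454247199955378650214568923506906026203450061729621922836307612900092799561144844784840892852764800) (.leaf 1405372836931298606977442256912789034900050494007204530407115345833688356044883072848201346145569339347200623102651998373809467932678529153892641838905974275513923773393125603975170674480011893125167273035978844)) (.leaf 4042734740560346714187757705176522291266912077842041881605564621527085769223014507992899768072893661065101608110557918913985063345668227563023297672662751278191016427972782684325686705687744628192702599171268247)) (.node (.node (.leaf 1743074716373643255280993460005961866443052080754938616490597222040735572553838262480723599287994835943106257311855463022241655508456329288611612442278867471762706318163442756194233332882624652412841093281489751)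 (.leaf 1323077221072349031397989598133066042419208041015022925794515695651753786384193236260525783518487082491318491216311166312635717836817954958368793511404176552979550837829807459491151051596463933494923361129940683)) (.leaf 802143280846610557895749076115056836025922585721074691011708123114069404994543309189162620160878336197031853195677903059239028848101592093382615380913686331692691366407933336513308179231210088400607712509275191))) (.node (.node (.node (.leaf 2061588367604065888132968372353462137583304353730349829769184900545125690931337775277431707667455026902671431114912916755528248220391519560954546381424451154471752073359609116211943098796919008014513571441962685) (.leaf 2695628755671705578781179139383876602402601832100029451201453927486123178069847208173842600387538356306801928605635467144953849646991366116697101307492888122285848140742655614590136527140659430324781862875040980)) (.leaf 4049635952343636858763360483347589077791952274854156569592287261723782721962028420072481911857691457094138331356384531282968160594782958742872125128195554283478144136569191869267577849157393781144843733705673872)) (.node (.leaf 1547292153863774846982372359488597294558148730596631811547268449040223760226238157845636082807936855526434827881782096805135954218969135737718697898435092051559224244652124008665928836796243806418816081135770505)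 (.leaf 3599505893486677417289690946507715261895239519288029223728645578571566948970248548030934531824577549156741439374309646092755603519514276766835348252816352027736751065079809415906468484322698755507225821046542620)))) (.node (.node (.node (.node (.leaf 3396988186900699872035167215274864273406077006373880784724970998409459391357646421558573617474986590515665740369165803109298332170182599634216218256480200184820214291452052469082362653201849343974742677251276928) (.leaf 2358987937586918612380779193955626843741832891250176051351049855751191640606135957160803828945020023480080403536641957661888170215834582851776512195941511283503727690260242530091711859897196903545377890442604606)) (.leaf 3000120827289120808301049230031143889662682309126087976730740226284558424746345815821045718613670708959306862287171335540451975114517406646119096492389118656664566579843112787736669464985272387377110120054071642)) (.node (.node (.leaf 1194426303841610119823772276377255784200821356350972707351644498948690884490270823957282619413199488242891726894397504346295849588484479553097250945286999263033161682872172806036326813598450588040850146743119945) (.leaf 3261184512652420855668211336535688692080911818790312638157854610841844672873477679770731216503515505122031790265679605347862482114842420513391606722913584135125985636383586051414837881246186718645103837955231250))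 (.leaf 90773731108049732571261723367027831291153402799656905698646693663264376301949357176696466036458301545374461167207232928247185284163991257651677516767683517917144041657180484317435114709344881914035221447102854))) (.node (.node (.node (.leaf 3166701832938255365866843508151661234470396764559039244170704888096667498476024348963972250491797818755828473992174390307862323697866954701799862760287405358434830668785586102786577881942154457098947268498196119) (.leaf 684330497048557972816891067836797490354268086060168384692971783455115117995896254286462064587049972918391403996055760901755574275183577241173869772328263577341421552642453312161305586136236444154056604218826168)) (.leaf 658607076108082717704835153196672700989947686735123911211189353185626454186786929537131259960502013404960761205944825394011731103538610947489686606369322784758249102518861875708806664478602642684466245117413342)) (.node (.leaf 1710331835733041039098167666261215494357263376050115909784210897375490539787455839234179883894676905662322385920551848570269087662941843795400077081225216724131119355465676952399229920683451178823357827243583123) (.leaf 1181164093067686023010897593440259776675290160144407561279279318405391889954447045171560851761783240793631707632674347329770957978841212222560353583514255382567295880228037497651148217102605454561247697019428785)))))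

def certGPerm1 : Janko.Tree (ℕ) :=
  (.node (.node (.node (.node (.node (.leaf 3430379504080639232812969989586109651454160751742146318879706536964372633637954063356955997281500482562989690873594656291120761708849756832075277810408392229956682069775621537412674135997863134965889728211185432) (.leaf 3582192613718942256280949732140169284157436980514560598558222188475286802494150114432667555893162015992029980108502912302387921564781420349867742839409273261176663060764133298663351041485318774142009507997621671)) (.leaf 3766159176013166342654673467328646709471141676474906104171376211451417392666502076661790731775784866107529663091687953303870325540322986872941994448691333679364519731962690303101563549922913372188007614039556224)) (.node (.node (.leaf 191758324728519277242385795191958679306233541744360893525911008212834441223165186876116667689064965878161573059620188698454236468079425331306022502556642457643906416157425244954140208730799959031135735187672397) (.leaf 1915635554403364022775113079002876169508598600129822671776013907560182936773147932008156524287452627102713776067035910071810444562534593359900230307237248470785380621199433458398898293438667592666068048189317666)) (.leaf 3255963808208875987653362574856234934112610176058265291535076486633861313117350779432526100184612039554493209504664844306886306864820304316459033867074380364196914890505441586577973746714550777226481260135714268)))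 (.node (.node (.node (.leaf 3139051195803020555635589096869605740747094916674304263974816557266350457949047681537964547153910489134977635844387595212198895760938046945841235606522646434987836901505902526540313930737276379806955326508145625) (.leaf 296656213203541266664902501100901018127568953772599009450652354277837237474334058811028997679366463965270313273993130739721809865043590157907286824137884577459611810802360921873106546383617730641609727760673996)) (.leaf 3680316978764999262574974044065828249132080947393622077756399530701478652289601376454475475653679808149680021178730378941557305973890027742782071578503921714096287051401802236522848087524335414257546072153427894)) (.node (.leaf 1417147877377826813499433227184862252399445819717162752459810669932720913434772611000979935848434491347107192673733495120131812821531298098898538147874550042525610407810034726210985517360305904034701611696035155) (.leaf 16562734929701128814362170562217256469539799838944747045984686848553880147808311776326509202032789622845656253987801156139474618660215535281496480780730971146877818382142940492162278768826096284171835244299487)))) (.node (.node (.node (.node (.leaf 4081750936444213315913337965260985461546784714914318855378911721037241446445285303730624898754310548610657458733012432365436257689386467076423336798575437835173261935620248257531278934200094010816639494868078983)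 (.leaf 2960781893309124963145305893862426117804641685421637351102848920103813243402930518204399540904528798630119322380957719994283508677192603528426669590439373126748371679457154043154187778172131772285692637422176258)) (.leaf 1530825946257706143364723559231545409990414231849547044719973069567085152164037430581204603744416452199561754541884766655120709393105031395891793901928430912054997417317053434210211369081754563391003414015349043)) (.node (.node (.leaf 1854743469855410832078326808815189687709945882391688000493974947657573840856894482042062815226709642822627927448756512346698956721908736509856269380794239649977980669425782577333197123037307562417868658817771305) (.leaf 688483640817009242146681240076312104437557916970058268665480910005928809119939164805456311698672400692933219620281430965107760438913200919666775621176180734325211502801698222329953108221261424088473539630617406)) (.leaf 3884504769125951801653423507185454499835306714903088556864227446163482559457989122404918161978855352219710323417129604378218878394011117957952943342142596509610060128284975288784233869432561813556661701285699634))) (.node (.node (.node (.leaf 666387456099902136986678782033029258492525161961651710757616561380948704286379263331303679137526841078554458128612466246297825357851862847545451908628399878401413819171669011300176243846701684976468117792440479)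 (.leaf 1163909461193541766977205971098768916311178439986450388156438339835884577920694816136842846414366957884166199272665605226640741077205187752577157884320744335376539005404118256087097249951712604482990397139912405)) (.leaf 1374600546247722673611254657365288902995288645230947975281470752128510732952748609761869979110250275933712921981961704329671119041272961682545891144655968176917297298150535774812166738173778592676913319387513439)) (.node (.leaf 10959336904859305134995764563219299649052188826085752161324712813830680755839537917997054676606110541265294754401873622217493226381971915561736551056239402207700367475847647111033329169906683563746950884085468) (.leaf 1537950673351653558256870663142364549587134719594646155095547487175150320011614056005625787493625886705346355025750808695117609706919743574437459330954099444217084763359063780639944676274338056067924205586813501)))))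

def certGPerm2 : Janko.Tree (ℕ) :=
  (.node (.node (.node (.node (.node (.leaf 724114342418236144952804052487022600757019637584277357342786543943869456961313761171661569684788068896435534404568697146319212226876090035512030396625382666562487823830461867435281792157280812196608924190037897) (.leaf 294752321669537953870550615646828869164691821647789187151876854701659343501580496465643525308414569571806592412491951132319578051740511187379636603470781151996638658170100006361928266974760488203737174141667279)) (.leaf 1850315051107277165627788740978437238603607097875536227040164961895431935854466855319760081158132485881433000149182283474588088813440634183652402731946940616537992511147894630079000647923587427631938360885681566)) (.node (.node (.leaf 1207567069086852696255940265865909301572911684200274070565419327839698698877235095903639620518452025588050961805193617246589368151414861180984799479869967515980469669461471473677468147340715098378422551804390719) (.leaf 1337841440228965170836203961355982355359308777139072521855766065379256147210372792923839562576980502586835075339321534587955578864952488381084662123991052889334604055452206965603370866983467944876427323015669475)) (.leaf 1995748923308185173373957172411367641890898075566345697056120283634144738993063493958155536380640494081017200312032119004778915538940076394246265333183054141073392161853965581873361320067662325140975745493713555)))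 (.node (.node (.node (.leaf 4099905405200860726078616740104550124007259798432072553505846723212034869605707525688743160690184800460855773207129906652655034042660591877570164900689527763653679487499424973793823118295633375613440602231566403) (.leaf 3559876380992928819073054637450246156172587638429892749332644878571395670216340013876707892007456190842504347921503132894218656143729260753185533274773122672865815247787377794294056737244676773447609171885245774)) (.leaf 2695367305101785429740136810824278070035789914111522837830552838899964507625065620782195558496573439086362220144650966775289938421923992833507953983693576239505875875209961192368563075873708627092997521696918355)) (.node (.leaf 2024482256773467374271991162501641120499805680484065180135526404527252155070171439455288283460608708176187028447507070427590148525987957789516709410570401294282410967747925839610089505683932661221533679165672259) (.leaf 1210464805727616484338407438895328316722177951145008559170049155135238088190266660048948947724334327286707672061365590909221076166584387335973808172634067729859743274312313589172884106689558648040824314234145238)))) (.node (.node (.node (.node (.leaf 2109516928660682251975326053136912692589346717788410418785828752642797907155938739499119410616583123701410423293411116112597083333924304317030087946017078245574658458526979658796258989793915008900124033364322186)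 (.leaf 2071574783139247890064329737441540961703044389527673062454232335816962085189416691684671271189583883860092584477221596300561701218248669627718675319631598614512848739700333294454826066357070203238435750998317913)) (.leaf 2936585009740527403971804479586923814644251146483977403652162404385066768162158815049390814839878019342172252250136092405519922087873711222570984769782298006796293955799064700322521777441478735944007009608223384)) (.node (.node (.leaf 3426199777352465112907517208502842379442246890717095923067537074663864287379665184592612521751008315205644148778480671676965677058004534482920053263811166868921326887773737772669355622224173197134086440277994538) (.leaf 3010941453341522955303008309612974650328545315811399247182779722138853461632089588005883143108047799123529109425766896904744080877701380650386490215482865890216379549588939263815992341489406154768317762401441680)) (.leaf 749065635502071115860320624603028744064161343035637955344039292159084661318226566442533489659682024550859284143137194175301488487071605862256091240455949804911511789557025193736082558661967412517686667952751181))) (.node (.node (.node (.leaf 3430264546932965745162608054383844997742971295032867025322085761745395865618226797133042564072326200203946149194905493632105076591752462991313561946186184853003227623828544158616407522504844085042185800618794130)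 (.leaf 1870021051434682886503536396663837153386440997262229095144398638083627176209839740439494345459475682116954542158610026274236582194022233800635697769406178738584534075410795266633218682924593897858176714805599390)) (.leaf 2159299798390479961279502784676072854121413618753911701704262209366550985544100000151978175562594101115953456153864491956875132013791334236864779999894191646838321262531128819509332449314187474683057020398166437)) (.node (.leaf 389310340857733353911108237368839479589946323510432832520489087602264042827815285521482657954671005223144493929843044086301294048524396052886632047629940512256952834114419060020899838557862898279373445131141859) (.leaf 646423881580046156572539196219190558995912609542811845193085171150057672429191516714691340474873237974239218818859991325914535884862377721959060871012090769221877620792945080242594213209139964603291017408596029)))))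

def certGPerm3 : Janko.Tree (ℕ) :=
  (.node (.node (.node (.node (.node (.leaf 3385978610267790325029332794611497020981417744993991234330992341899062337035570817837193472529532349771027380885343866127092874911284549548245071146909936035096345044313846348080326703134739105097597110026635689) (.leaf 1983546394631753468722892108321976260727650653522631734375507535161390551828702464393511016203971320039675955378212698449302852032511826961958237270253257437856977704965869721317866183530162704713622526762282308)) (.leaf 3186778621532685444612579180543789149765447083348483182452549554738536698028485617428843201556650645920513423570245890838685628384085686799533430190764510469510654377384997428503128721844536891284764000009283615)) (.node (.node (.leaf 724131164089358742185802556269655750638591266269194017517178509962300738291230967589234935977568243988180322910505484060401525974391457999735307161274016460043360846990504189318547827456549078124779342981260045) (.leaf 2690303059674079003707326528835605705842394371592321940950137040794199888696709007375434575863510037217994031541934990748899697055438083508327405565059763008422642412697809631636113826068740104130172970326577628)) (.leaf 385595784179197802623583396048937531338874467944225864201629157161423182792771664048157177501767204920993094295803282209347170698649514724586300406801416966229576019597237998129450601807859312726669859044469311)))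 (.node (.node (.node (.leaf 3370235110811859205790564523697838580787518959915787142068656856590235199399246425967667798486605004259114096811184055257550217147644006973542905149164548820756095887158774869823239978110366099009468557952604041) (.leaf 496775695065437908578544892404503338892662653138831080369641235148596303764098452735238492746943200024633328669842130628775585867585668243736694361078541468751149214967189920547908700519254847248705952365826144)) (.leaf 2808958795698533970216370781173071973508261038132758395717992214765787435746113651161953793682029860415306489264956311932503788306329710065400591154731531392240088045317101459012855778475549102276759035768229204)) (.node (.leaf 1712652716101519316104743416562602946704031829896583778234733531511707267830831143715512471999336062807843930174392435347283316795404472934631425928611459235929334732840475485735152478237826327697446384377782928) (.leaf 1661563393709413506674780826238502441792412976489305483128990793051316079685563548991514870302945620301641053985193357195793906479600842041119725528404185920627584120194292554586622713002629761098418596343793630)))) (.node (.node (.node (.node (.leaf 1609937614233243231553436011613053749750929572705786244693881325681108896436689127122376240421379135873632037559979779816684518873719107034409746833465449817313026833176399590868502660851992120522127253996609582)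 (.leaf 1223554486274753800304153105468144432397462443377757899847858912034324607122076212917521027048130190133330246066890937273767751443758976876062825607039712364713554872580236529932210046921823047556280660496525066)) (.leaf 2192191616855705246392190406448521451780581672821625636076149023336742728896407686928410037463099958623517932802557000735777491172285797047061636485329684530378142040395684661869372109028581305927186604220351874)) (.node (.node (.leaf 2024629878355807047414631295104997105554689520188598506871825373127198095551080596908867463299375257661431166923270042941829949839251347574894666699226942917280475438724855982077881597630585374779200258350244060) (.leaf 1439748203140084511435815305262444040346418374548692851700105466486986987537018361102449408292537041963167838730331294037449982618906406470242778022519713429119181428266110811668663155930580082788479930206684897)) (.leaf 2741620370898354843243620348259648697307905027621683528710364285136680713105232882788011532935462836330256674717635119231528585168149700008294396435429940391875152221923678665423977082637296321477176428979922054))) (.node (.node (.node (.leaf 3605431869786056144452425856274172380517725505109756603943190987982991115116114405703359922056708375571304721247043086137761368280368616307204457433016026069619390508533584322748328208249921634071123934924042368)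 (.leaf 1817213099648664638652255873887282561281655887811629552378920168907595524150896708530853208528284431017442025427952676168731676654166575138063682261271393646815700861137792909949424906916027202828888335169837127)) (.leaf 1751470104311857139631692425309228590790890916990406098779671422435268944444112655831975365978688727228585349319219764324702359406712198531521256539199434212168880671240457634419561492086008200212028330242547085)) (.node (.leaf 2982346912847598438406724860612971342730678294305334060118976943711889522719951497031420730079202949560558006806675139661096659736496692107326042709899740488472004361699022961438243810033776940144365155398865752) (.leaf 595888520141754180462727258072600522740816144961037578842385548827704986083729186789171194470441635909480870803754451301678302186540149920369529039706721350063570543756863095549250081392917017605342683236132522)))))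

def certGPerm4 : Janko.Tree (ℕ) :=
  (.node (.node (.node (.node (.node (.leaf 113014900703178576738028663025818929017389296960548715599896023662677324631882045285490131849121881318788694508977563910934460219139991971766959220852496850508509697604350779848772847010533678078476535068930176) (.leaf 464652139258590311602423003672662616174810221216705398877891306262370158645217067968763653355926444710422897928913941653323164416879621746407631513207699820783166766851708033396871690004788980052120620784675533)) (.leaf 1135068005720600654539394250523769896240218993164529098558884610542184115606662683846362865667616198903859965594347880041070055803902449838727149018323042742657500291197578107589911724505927068243017513765984786)) (.node (.node (.leaf 3385090758849769196024656012360799686511661752987471173824958956070412525586567655583201073982686103672205001728674021549305653709791487594819941090266355312904428240987484632658914914955141812959819369067866692) (.leaf 167309236339003285251078709375011898837235573803068876005330172627452483340772859425384481404132273293260050017570299178416249952879869557414373503365872173473647174968067600294132197390712496985071739218978271)) (.leaf 3549455132304153814726419056861295215749344758398955950062500969759722344340864136386705721593069995588089586930140604019141013770221419643418506519516586719760482358791223424517201264659354498611056736081571137)))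 (.node (.node (.node (.leaf 2102267992763907826443276147631422551605963018966709132567430377387828431428932034362383610753043806159383100290419746507511738100294541382853999175779579704053360341423200686839784334117696544842299738126893860) (.leaf 2511364491637203256857716513920511758689565603844303762466083811866940645802278973212158453646275543926931356785410077118899949464628536468219127072353271757691602754750032244456863696826362098720453088642510736)) (.leaf 850278181525333628323473544584292770523547950357181918237232695147528211026466751237840495523621639674210543531148110784142581844731580134511326820279371326953507390755234968246269669276515005572652880870547108)) (.node (.leaf 639309857777392173049818467027669264298149899905983259807590058683767899270297204327403774616374039263369712652313047108687106490512756789408290914352119325564318337949281113390391480292919202358889108094998491) (.leaf 3524941247698703262115008567097345397743431874330125719767453778669264525757209600244679925306756903338308670045910775561137020263125111834141702436555258270766332663137341891444219433183284469114234912657977165)))) (.node (.node (.node (.node (.leaf 2343768043684320477900145716944593800131921764112600955893092701087926265457566774676694988108582637497281374841903202814888326478805735847259513037277236251720946998341658178622940417538818134575924838551644737)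 (.leaf 1047436241242543637758592917693334453627203431794602180485222456452083741103217861951706220396474947931134120468560252168881413483797271108905547604666838136173386549275127472833157448167184376131149734183362490)) (.leaf 3890447659202840613751853680900761218616026627229957990999026913762676503642344185444799885255767904674231500267205427334926411929666223133300548002919540355765991312370335212487144050355602929977198136536164099)) (.node (.node (.leaf 3554211282677031663486189200139637580127883764263171947092741704495257626014491304011413868760726774651479043962105473725257161445183962988160775551167674890409900193311624732599287957349104572688162461372161462) (.leaf 3632432789929942213267493518161716054227799718834410064103915330949865108128078251886853776753131857193214156799012959524260112338300639688727719213823556256478486938568561578313673443735393044216456295595331271)) (.leaf 1547266783772478373412237406526747065088255305931291683119967154067227942449146245580998237517198690241568927118938092763176795403093768083399680219593253240753140339905894164716984718923411457543270098629992455))) (.node (.node (.node (.leaf 2651621480485488464615468267369860584273748456143236674995980874413954347338149106607256338213490706899280658467580446350717254336072194455474678769077619314563300409011950460034742883678423665811625186715274808)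 (.leaf 3763263812821137324363201813815378274485266312830509126482588416910192547542905435457363048841476106641338505443204313120271705952185018711160530622137310818229095547153988902937008451360101044353499536825834642)) (.leaf 1907495940636749216185951462712017578635829947776911016762698615221480366522487317955768557701861792217461857101573546348703439899275798042639928116618493597185558662287654347264056304963124725957789877078842713)) (.node (.leaf 1916756376306327811556268217067786206290868227067699748204502929234279691799594659543654237656634182799268957914834489745959541574555064834794209632821023964051225713807624040331528171654594527498609655064711558) (.leaf 1895240363511392847117894879143969040120690257654992438361733481505848870708295174743529943743305848210133394615004471232431863128297680337968045154832931281892660887004924261465087085981496141392279885343366228)))))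

def certGPerm5 : Janko.Tree (ℕ) :=
  (.node (.node (.node (.node (.node (.leaf 1584917654773056408977809182763987505776575019781740690765077201682108130330311594726958087420631329177830239412130618998449009353926688906743296034771135993197556062532956377579697841644319154580072016435275530) (.leaf 3398071051731824353591700989520239687980456663452028207843810773955670407103551531336421594539603311412920936329304195959520205936009059259277812821644855892318932425138471418905693375547827131769035729540599352)) (.leaf 1614634702180870787058518564108484447241510515111080306185885005821385128523174606611664467093406453265991843059504174972633790253737247877986231722363827065685686042091472267200475529949246388634687307939054384)) (.node (.node (.leaf 22604686741593491089606640718680096981811799302618208792865868730569191086945406717182942635643285332243589565027443117666645485626660120267060253650482622851816048739022270293269035809757897066537731849298519) (.leaf 3398734727508249651492747311023211368857344882391366927889170133479907385109158172564720801659453447723799472844568164946230292847616029600056279091853384252625647968171109137290868177172901197663570589305656653)) (.leaf 3559865743874905968097806820465570699390982451996292403032980439441722227008270840007815636387614588646535956676385090232533870680138027027147133162587444600323416058883380468697253161642909047641326466594722206)))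 (.node (.node (.node (.leaf 708337182985948214713635188430467462177601551114702907754158320242944074593748982769609482915580855600480077489304442887866464342755440236798190206371210009147228523696305159773701191297455168827370959542749654) (.leaf 1702034102211174717822341823294019947122370253134402579158460756496661175820316592302886985104749642157279823097838908747111311174231848314151461262870060218273335668901484706784273106335511161197487480965292631)) (.leaf 1245519972406080306546329955855651891210370237105207517799194847248528741226461760718680225881050160010956967488707563210079883106465509175366911163877557918313273661248673047659287601288246403234811323091952015)) (.node (.leaf 744098813571029817799920328834404727471820232650325997263470168526222059096391120725378319938284955951369638187849067858393070228966342090979676029031655331276207650533363464851351979616983740049384729637589556) (.leaf 82524604157557252744410520007041857790873732332972657324072367472207891311236208575491992975138932994180838693285225824336245433562466644337391112090680910617958205771226668586809044909204592078555894502476089)))) (.node (.node (.node (.node (.leaf 3381720424913629884296018364807600245242453500341865719227085634003757137224849851646342644429783134171484209270674362547589491752044093214286183632323010036253098902029032957020765152149337872757423343002522061)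 (.leaf 399542173064788633456540488276795251590401168432492428244513993663766298907973417429362181297841192763005939320247419644051931034761715245314597736972280058815300173749086152487657233573488510284760990268884262)) (.leaf 4014659446151096405975273880213211981090845502553119844324319316077989064554584981708162532114966550520089369541372923027646318721120003317360931140633556146960036750634825554337771985064734184204282134531436416)) (.node (.node (.leaf 500748630580246272533853162116303121742823096963070810636239767570243806536384277067225342171441848330696146317316093259392102522806276549839477635386656097058843856069465385139197637503852938128645036006812225) (.leaf 2323547918522083603995113758056972432053018945877752122723988247944974975345920830092580255212651831245827041376564530223394931510926360631146844261308907495308298688096548208674741693216859402393737273815576336)) (.leaf 3387539641572046999187866341435264104432737840836729756324734214104421634985769578939021922251500946653541089576489466574041708360150533926844558921123825329956510929727630587368365520766221875705142680423591613))) (.node (.node (.node (.leaf 3143244018684893844425364112680064757484755065589610313229664548060676603308361348942180654187563436309140514727088943753692713805300682450526338233503585818019995287981819765862359192433339620322374156573650470)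 (.leaf 1995718109810284813569303919284639119732170342747272570506785059864198429187777521645394362686278399105682923971305795224474551632122600907914923956950084384063392050528211139653781580998930029338031796579250071)) (.leaf 371607775358144357497870286275749065872598458207590484669097950864914755536988148807092242140553091523905114009987621965961989952932086781554277521352319165008931840896861342424021019596420633172038302076475687)) (.node (.leaf 3520826263239060501650303159040441306304657592590322870297837319948258482512173152524551899098199591022500688093911828914625880852914529491355725715172810557850356429793614857559748016928960183685019170767611942) (.leaf 339120832226620560365870081527791839260680125997958719534927617104425814120354547724029134807693397759572485653034316276719117024963603399057290229660174255348339550136852728727560850352271410198386149866974534)))))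

def certGPerm6 : Janko.Tree (ℕ) :=
  (.node (.node (.node (.node (.node (.leaf 3594095560270988802785426088169311340567387985029742855511436251597892976157814961968537581608663796369695593520584910749606471536235399454012494300110881525069782427767779596346104369193726932262799373037578820) (.leaf 3155203289372625249501491703598469032622086666037438137617623271510481711571579657221971784762614340805025105780904680636204215904070531058196214745647110452552669481035984380711624082749116884487801532991621540)) (.leaf 1317831359636405859142375126974658955137375860588951976352852712084038808129362472552689693790508381102526622214336071298631429862512937144380980858594196552072605519425513499984350017583038491843258285709455564)) (.node (.node (.leaf 2982996721437534060214391950006199225238520030591642618692418490138818204475336429043583168070156560790613652993115776084274972399146823708212022209589220261419890101395023208807428540348182853840005008556301011) (.leaf 416851476341412318210777289577945576253629252390375947768369579105618824898494024261613056137528790416220189500113438530616896699635554184780558607497756723169854532978487936521842704951902522103637132572525724)) (.leaf 85519948652732070574317481850280637931329944406809323699520010100614429737741435162199557224845082528220891712892703069173713804447631324230576786983712725689781783645663623706496596350771778199051783437130653)))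 (.node (.node (.node (.leaf 1124448793706167084537648732144615136579739259137975997378095752172071732312389642482287238620271981860915341723199258088479417355546643229375418481233564605616872572967864246416421532434866819844250411030830342) (.leaf 411402552131224366560936445561128275790298743510260865144993210041530597016024518137140964107796932264945697321176781903872149966774379488902086905511238009713488526667996268717781917545929365531183359072030011)) (.leaf 961681680152143107107853885313734803659138949531921526936805826885673926083736863901224144260063839485142578625809344464122159175307081310049286667816010372090437344200665221682573752216801227012584935617178185)) (.node (.leaf 3432563845093651980016997803482569171042768668913912419296299603672609261293557364966246993340671431280311636136022034457819125562644815440104076691320937528328592907595450217406445544200016910451563525740646834) (.leaf 2028222579404172972412888963768846749762083829806457514667543366568931727321824691513718433589686744758848405395501137792830447711614113489888785398171949662258489040248531630352255257982105948012468353073974948)))) (.node (.node (.node (.node (.leaf 1563419729552077499113938857526249612812380533554580518353644471290474311837997915018281829931094254240423653216992349722168608022824283149462339177572546665530879014344714388199599755815485877854438013067898180)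 (.leaf 1093994767550076292051075880001002673916336076480472221274607776994948571828790101120870747388852790896614839203683849535201918258884519651851763602053184692150910790107745148534362604773763499861688393557634822)) (.leaf 641300496269098896638149606699252629640974282550644727447752001309305155297439921552326821264563797872333799262091562806347705214954415891934065902301223850601002172757820304149403502721536420644053825855232039)) (.node (.node (.leaf 1371035397745062189856997606266222337508809058466711366511023531159092226972703334415307620519904309358048556139620717460392810583236571494650862180826745844033799628154098283830348373545779911518478172579469213) (.leaf 3004268735374707286721441684686315543805945647545697720864177054237875464485766374228520244581460373342656592240132016780217423483389210834500405393433820873506251834479362170860819884191689662384153360669863473)) (.leaf 3391185263119115562208522914255026554934954861548781268925415320399254155407102940712052324994384648517495609267955230685100663772211801877762572380093474927884870255849772779733915592210126786536740841350967328))) (.node (.node (.node (.leaf 3052984387425439017953386314376027750770997565999816806385479742604061873149232280690505499163993415899700917403461844717674736535504813988737061891743503531350902580563856272976438491136313342760245403327866887)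 (.leaf 3565435034857562251081331500062920108168489062631170971492803361904564415965696662445725674121346819955513010763354417367910506665058658878683554242278021752451474024894518537357870452376589011121922072838002589)) (.leaf 3501106231293586651879821506835785294854688112711906619205024429161871875121379709751958753212560095425561786184930441936413957143704027197115280290410261612870736501507957163400247034122635423229017666498340611)) (.node (.leaf 3590584656454848268301265283682803816186510897067752511385440553963577433172918353919383088881029623942349672818648381291059162993898539536279335487628218755618928945975934241870013900454294317925394668698722584) (.leaf 601082746542264191952696635559878104906660674890205772415309949278342846501225306275259667064054318487206118991555457400783256632255496543807221757702384375334046000815314756718544328890920475334452891331326226)))))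

def certGPerm7 : Janko.Tree (ℕ) :=
  (.node (.node (.node (.node (.node (.leaf 3600096710799007429946535841068592937759322322537597987886319866934306585927047820124547657316136920371347621717190075851947747666999546438904424806251163984553045258718554782880667647923151252187888184019099047) (.leaf 2728504936698173509982955059296016364449385778402495827492859719137495742462364309832919125848000957162203279398197805140160769859044096057317436476280826365467118660252084315602191057693663831434462821396721959)) (.leaf 496785337263305953998900553634847743271283685147184313611592191643868166004551815268011363024546397125948628525934713918114876239671283005341470166833689252835330160691944752301464131678135608545395284598512710)) (.node (.node (.leaf 663121097900381275817809007673827312331478334534649217141518618937174735875729676714404963839723594407917199713989227764773028824410133910956413301262743151160472964905431840942847265901605685077713902459981654) (.leaf 2642123578739559410479899684996389454435347471940632077530252157861876514975695191795922016943957126338349373272881690333821955687885297230237437168521937487603047473496376124461920610468864279515962577010000731)) (.leaf 954859074177709955739999566960830226470918425224245088699101367616291489566554377222017444417004652785300971598989925571935514829867242816901597101063218280961893660005996764140621022073756840518153359125032749)))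 (.node (.node (.node (.leaf 307582732644234820121888522162846122018976612297727127547863824610234816772710968955935671266524994237534033805122755407923471375240563497970988131107388237843377769964813965479049011472415308481683873563281721) (.leaf 1319321954288084142206821140458100084506042129817134432405411227229067323991606593015851937359555527488701343408184673891415136756843742055079091805063888509336329044638997897050376775801786617068443056281557015)) (.leaf 90679402346454335220114776957814214503704313048419616448920848505779293664114597800199857007005378424075918702004733890942565611477163033920918224145763676490433957733691288118732832666833336009770441361905472)) (.node (.leaf 3517475628470958462873530466447786276080209624244919891489253356637228009702159921634679210376814175618092449027340435901369519773458481428046788505187202557971426520691324683706097803563480755211590629825233444) (.leaf 294792742017672073130067711577795621339801328244821104819695051995296051838536797488921809581109318190558214638587522792315061867366032036544672591773085279282559576402675526896681057409565837944146202446219741)))) (.node (.node (.node (.node (.leaf 2678360340172564271801022488622382809390766232596557689720877512650126937284761208646340037878969738411020920866822030510878662931347298831741827561726048148122662687247385722735341407001868266162217987381269075)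 (.leaf 634431300513138681672430236558136326643369156190905452731188619400584149864648121568899243376093145256166141291308297722104124460055647922150187905269032666266267809069269703275071776221942304073170651527287228)) (.leaf 1133045840161388349537038070979872168356231045670541270569366397524048205443358520391609400821893324259456943686979856093153693344310443269195694179510580415213671719621993140137096332875184023168787412070691116)) (.node (.node (.leaf 3438327791783993747537452284731189020774324703482923962921069294661267045145834497101195515481910922822177775862326650910395103183055688024181052638472756141116104203058069151960069878089051541311176557642620310) (.leaf 3926690100613758064001466024589967577919869628037791412178374237387137474392915047988614887597938664518151213556787412089116632332748631765275683670414604368465586862228609177789291800600578497764181307468869128)) (.leaf 1582289732872023389106623481118848211870158457662713515453520381173523274532026798726032564476612241081741677229814082643184700479119386512428273592101526234604484053127999886272743100004447129400030955966864137))) (.node (.node (.node (.leaf 3008032913131136132992449595725338826766751427200188151941657728027234936311553941455952648328685066779076188387550423038802559274683947312681381667614738627397080972005930942261675384937494083356463878967388944)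 (.leaf 1634575231115307747633965077704770218277430101069154832846489920886260315312845915524188603310087494892588545316778047204855361875437443973411841459135849012770129739793275322472412815558783945611341188245233545)) (.leaf 605948838600997547611216347173563922924702754767951893804681163028870665285504398667686181448082765369051833711415800054617634756411613909817360172084111022463199212535640230579888056718709567101330976135339024)) (.node (.leaf 3084707046791591319333311889020402407018575860340716740463765131801875779651827234792086538145985775187384474644329874453756827716090130635540510511699422503289207759594310301682787875138140846102929026579815977) (.leaf 2145774995220445303165226104257627043468002646346916238134413200830457186614368824457586114691268689465470577807615837264586535057612540838940190387460798429108721086776714069958033618862774419815241539549564759)))))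

def certGPerm8 : Janko.Tree (ℕ) :=
  (.node (.node (.node (.node (.node (.leaf 3548522150174901928333644020381227165393662187915457727057765946789536210869671995291342545246840126942633499804312334596368657865918447092657449717489753711911256934134799395889557750835136505942026190886808618) (.leaf 645197387703527759488057339659234955416955922589255201616267664216760981832716038588555142682350253491981875784586180434384892970282438137543666748218088109649387836667906115823441719726595120750836719334607822)) (.leaf 3375767487396555732160744097850313813897948609055265473935148575339371405431089082631571762515410804831771874369376518559700782883536576403591996338159892246172379378664493273384344840247889030140635641077223885)) (.node (.node (.leaf 996907921017243953804891204876120751777205476691961143784420262466066176445632100778867484831473160112723592297554709664221427460150258011504034608978156143770692442753241208140157148092020355496347110526425438) (.leaf 291347377153834189299094173284289375880553017104627182893904214457447924801108860861946206605012704604039887244722493840769995675100557033684874523860986866430544933092012005789161856875454430755451479548773417)) (.leaf 1904315851750869265627551243373587242586324702686688336703124656477207286223895001327543480483264305921424215782571962425575744295864471536469310729491082099890515935412220284655457552384804502991643190069944726)))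 (.node (.node (.node (.leaf 1728779321415193831585501944611523085659358596596387411037457168798765253100658787632889684783090312635304815541117538730883307576584338191884134053471062084120620335008534922050852515274114495549868991561449676) (.leaf 666562293996415582802143796049049943018036618654422241340644465685296318968524864798647651823679746659903922724911923976485564052739999769192615219587534098141575128853221506549589253000400799775248160213852674)) (.leaf 714233403297299827115852012269455553308904054705988522840566635388137496772733332070778661722989402884825505939750404628900085528208337801741872921274005737665248678745871780901544620112082491128210568431840580)) (.node (.leaf 1833123888655238880216096422795817778656869708233614269130559709865369300164456646680771840896048365218691820904462511108306400874599172703267698827490423178330816214446066805138836297027550020337904457430287906) (.leaf 498091525266345732434192120247212746980496483567674780269752862495736367966790808430842590221462390890198082188896340691233901549922451700593383222929551550408452283014189869269484453884333859577359406240749469)))) (.node (.node (.node (.node (.leaf 601161530682008946601772982106016816013318215518944694434438660332844247283789725067318479027873203934737644570244508845300576541813566419578489299204243185643492667842024997902383281512112180104179625476774183)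 (.leaf 3276554918730187519071611171771079273621633275137051312732224546419209621300647433949161971867080550597194648380863825464127802646076017552227747710086351778386431455893972180997858670547730557526283026734124554)) (.leaf 1869576652366271927083727316427702602307025202638656318205043808930998818906174271390923550146704806629468482396558773494220882618837097007606470683042546766678547525055446395748064140291411675801233813162482014)) (.node (.node (.leaf 4093546429322395424066514283181155324610167906916945039131799967409158341694061520758086679022623252904978783308865580385476369597998844561030077350116077165803439247104701152467423077624579016346867227241537417) (.leaf 129161692644128935042719946736324458442186789495064177267753475153569869480081643892830249240335144810220545685407212271914612573117105391868104333070689921360893588537644045631797019912507293490678628614522978)) (.leaf 2690620483589625380834186768728495939957657248642993576298662111964837672733578355646144781671219011191240782541186519039253569536543893576154743258577863934893950737215100846350284668977860718571739614601020131))) (.node (.node (.node (.leaf 2817407529015809056742144593866314792814082240173556946686183472302429828995305426362320126382488346156008402014038281388508294212614654979492102875248558621742834797175580789860643567233599413439595160787904474)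 (.leaf 2394579818275700413202058155450220808934014751607895292430601137631700121364708357793709865005417744695760003118323131154049362327783152793209350146958655442158780704999503169882232107270969162879763953650264988)) (.leaf 255631827437792255133829627858611595202913793261853696681268948251015401188664643105814316983291225426626407180481618485465030589561562694820476408135010366384079711864158960836367582045998789941755185906290635)) (.node (.leaf 385490233155041453632474670464971681243580195386458641440501174685751905320637662747960043048946126199133475623457968530373175005073217297997806531966207179777710961736437087422812234645551116735899735399993798) (.leaf 807172097854080457539675841970544825550847671323880035831610352346841245019635342159635921686183161379413237286721652500720273654863077185998686374939350699532910136546534396191305567377350952778155076398156109)))))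

def certGPerm9 : Janko.Tree (ℕ) :=
  (.node (.node (.node (.node (.node (.leaf 1914624151065624775702650868793843021845439640494798590759558753351725373508497456688014117944092349916185212396826694829456270922276379104530064369169442020140260760806028182201469312177534109197224340480169885) (.leaf 164907015514062551018584724881485962313667231225367235617044748888907492583349686906000451169064672043241780873625064689286410644496525984260536890811180780488011663967598741344632840007566017058763549633311050)) (.leaf 2717466381372456235301248999017881847492838537434133495541657278183363650809506193348296126282396747673948633778813583258771957429515723782704576902098509284502647704794592264823161457874436766404898268931983544)) (.node (.node (.leaf 378532895848560465857588350686431688198454030515613664749424027171279931909766959280642314517280265657660974671619436742112194919474938388564217723953093931193557924001609380637941519299744612346743414059459167) (.leaf 303745410189518397444548952558505989335978439709868252766301885857793538241967897882032113507340544250227855773811795495681339943927098921938150301963521050010415746346677174655860645638632896027541263594380713)) (.leaf 2467656498125461579421810059175917682673636809769304802174356816652475796110506293448174988459046121820513954234231496141480451270129352249849571655070051262357327909212176890768579697392263127990028037837581488)))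 (.node (.node (.node (.leaf 386604223619046487562180639007561067320193467185310103213525494331499057879039393102341660927087771036604091647701684768164859496740836642899333720520629436774763862511843266491450035943266295908611537091894354) (.leaf 1403106656666676835723803144602998681050722288564184605782416947378763853077805330121602047579350282538967948154171482483954949503023330878767709075166401179667205734504367100743169705320504607513654735195431899)) (.leaf 1700188120957768685761524643843775809491914526513949151265657858930451219759715388345102716167709952108216617253791394083316434721902197851374836376035254009445050197378613407804186174094045730728164042261725633)) (.node (.leaf 2530616061805326320473784830290641141887704653797374545161988974461330421986435525805509127634909305861455311263738010894805589655106957988167191418313170862897608829362083952792774062964174460903909258370426639) (.leaf 1369856796200461080095129653503067182401169169443057160835105843346803392155252353927284378020636677693410335695728360895179386733657174273961688077460523410378662000678589046905557181029125161654371681340850380)))) (.node (.node (.node (.node (.leaf 378688631533358260540070281364421239534590559291041913660085048215859236268186790949904535683478384468333139940119382922171134893229805461039007739888216386109917235986370245847297277664299562679628060459200823)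 (.leaf 2720674475523301640213613547325820479663705221777034082682624082651461547561118336950607511640258714684342731644662641092950086488216722006859270448804452693446452851095287292132034882965347539031683420824691078)) (.leaf 2695445131066944900760552696201150240574853236121650597590140082418640337152024810786930358405307464118321907766946211229695459118223048389288815469891164359966920010979788929531604303190645457687306141518488351)) (.node (.node (.leaf 1675497898514500621865833401012461932697260419499040525671049460406036803103734123852405802378014523754122264004710033647079671191592606869236997886194956488961006645891040278339006616909850205099281332997002385) (.leaf 1223598193635259431056400737005319781824172197769222304385081541006915198170403178457661402792967822442358268779216614707821605576546992260763617554206514780986339492670177083596001804490477270577903003066732493)) (.leaf 391064226875110372315781538957310249073528224174934900636139126983959941911774705276058687919548865481458539431453029474103522522234867418175879634031284831132004617078026661586223585077862189461868980920011575))) (.node (.node (.node (.leaf 2343742297924126135416505285400416428207434118348113044609142298711535678027764637027065215791318479232676287459725706012356897973018469271202602195835589494280265686715752577728812907254346434310128227587321368)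 (.leaf 1304166549487603051871525836588854233602772552494120646719175051474366113272537231108543378589562811131849481873242898212259722715260955402150766633057372710387622702270065193671098940944448491785764325032698776)) (.leaf 3260797088174631634639641167800350926072322327822897614948973282524612574107026876041522618264074657247175923104740403519434810642399020447533981438663434965944831381881923953925214139124841895797975455242580373)) (.node (.leaf 3132667708796122075624169188185028357420173889096939719906802196079711929861290119063369792090499562194074662902645721823891098197132147751602543771602816499090724694063049862812255638297728709170526119503484289) (.leaf 2859792999058035179619337421435625489918415725381568408468759289179045065913108505145158056062556115391254063060653854197217111224890441537322619233486740665567445035262517089814579765614228648981075804769538949)))))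

def certGPerm10 : Janko.Tree (ℕ) :=
  (.node (.node (.node (.node (.node (.leaf 3395640085333993271769201611960317616390845182064774378020773679788272822220333703451671870812014913597637316576575573260309902508536850293260293729110865269163465125990211459275947258741861364082085173883231646) (.leaf 2359631453972835862976661199138950620085057862403738155587694277902858314397857990355262232425674251892582432339759592452949088139919665637945747319467188771813991242584060272722269395129399368828379019560792383)) (.leaf 644600606272236914968631821142828717036204117308871260506308474105818948058401013309229280963393729153494020577800896122937183746966623413312703773148286009119578251264998745124712573039203276848500097430890151)) (.node (.node (.leaf 2702751500678618673840502654884082428221590608516055382754532296546746067293842416398390068243785712138773788260884351519595598331974591859502786165914319904905322939578322543072609512804105633596996552021400999) (.leaf 1569312399103868105609778197386604022173238370430112604141054734777587238846130028240546777916166417946308443398072658767469621173266968282760930195683896854168724136824700676108617258385920088708943098121679052)) (.leaf 397361711428267777198333355816027831201408187150318135549074539338249016839278756067708102302074424472138691495960224930829609937596394506565814715821444683472647644112242640529997503492004112464018616051736732)))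 (.node (.node (.node (.leaf 1662427273780852642058501421873225449674453016851557577559448323479115320509648973229223277382600111385059032531011249213622663382112642336692735132970668972555703181091059228430772769529167500776381037234251491) (.leaf 24759466814092667121529537867612217340263228109961847899515337648324912485361730670553222342510566548821347357788251922277061510669278043923091585784308664530920062062835008596222887006535074900651081504266590)) (.leaf 2227959878996882821036320242691949474961925202739397727999352992331895017405122320573865930652334332836067194709051321271843102303926661729727161768956741233501949594396222518459915609580635535139446634280802903)) (.node (.leaf 837997696620603826223247779853862289570618928223908553632626471827000541140170348344792217926440946082570209171127350079524841241228125444018724223157383906986252435972072517308779627842071395347682616460923606) (.leaf 3339668730318554249275379851099307590712019614742381387371313769258361638617009830639245311312793639921717586464621982871493295470620819839648933862569805350423468384941446293109723055541695749012861881544205102)))) (.node (.node (.node (.node (.leaf 3423537723388491113052395350848630295038708676201812848864561928616621828840101902902369601731135947252885946423857803385194290472668335023883165218780916712420832756125627854561742898626806143861588262021550526)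 (.leaf 2810282506723543522953887285247687109220421275824204516889256386774811706272935149394485002444002120308878902589027690565970328964798258106843787778048078394561196641298391302771203325804334461452634853504208978)) (.leaf 1425371026385975877736020157724283555612570933672315456818886372837779178030109428756885037235911899025078444682417620197255135497939758626219744109777174793278788231697698388655851774973737112158303664706082846)) (.node (.node (.leaf 1194411544396994307153693911851420654469189297923004649487684677302482864063132418175452024076486403968275954120538294209036024230179800895059888233910801219889711888320449883661053524190780666641022302112404994) (.leaf 56099863611938143709220136019272560707668624354972733586770473422945099982516136367268568885413516707379422926126012577938423012194658964882237246293897742478656650598911855944606988556087789796272461958275334)) (.leaf 1113600859263760949396237772805288847953796663942501073869547175116395502937223845234321340839438393594239326877427584460154490511689597071636851783221444865778095987324787687637739908634887067036103043694266463))) (.node (.node (.node (.leaf 4095554142045252302939189892146971796649224304342964149666897075415660195021100102060344086431796799971615605918771278514337334625808526919597608366515056236825399893495952736741578417767378800444823825225246474)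 (.leaf 1199588210512444224948147517510647438510254195407566041203923811735766481739663380730654937824545869144147331481401183882764786819130681202020653312593004986293948581331998153447209616798716837080026555427691095)) (.leaf 11623294622879167891705546055190172714350640240846707942644058239242636957494364195006950133555300678522889056294302606994654651681338254790356736039696695548909982038467462963306931499975840010178477558975571)) (.node (.leaf 1584840605337398877297394209194159033704668602276957463638890846696151240935838050244967173606494579632897293412774520211086351046628018117666014355064793764564174889885718776836819170850427448617758879038659978) (.leaf 21305548391150193835003557513745478707610431329903205052252376373065097313682757641496648854722239934526670041885759605145463931435187453470514473029857480215488375843095634155169798119150876751595557071537375)))))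

def certGPerm11 : Janko.Tree (ℕ) :=
  (.node (.node (.node (.node (.node (.leaf 3433461009512409625036875256786669244627755854022120081369165627092998543980277784658234026679386839004207160108967092893530658887153706674452526393679195261263627108400455076246467382698048187499371817709378441) (.leaf 83885865387383273279879298906369135954993382185198277362311236686974984924094004110219386236871018391942432330825501615049961824863343746333916433609167501649248258558765522291791962763770244731936539563875268)) (.leaf 421602319878522243399010798729969239884920294506016143971952637101150441738748147696819400408047387356322385613660520966191628024044795918452897689129070917723131347104642133061828291724307136034218900730406990)) (.node (.node (.leaf 1672773009287553172698200251770044434334098386946605965039641347765054500013574596188943058672324091989911056848508480332884594400705078196827610873964251525337099242995603359698114217084857332704842210614971342) (.leaf 4086722481756995330696654131700801752406836062666573198524452155685967957116231016081096715388872531031846957793268079946826173954442595474643577880377052149209820862480289082043050347461101659827751497055350535)) (.leaf 1078501127918179657948115188796225513339164862257443438750363647990253722896741681486509630148654605857782930506131218605283134803415189864355254349291841189719737452006090458762656931657967988293697306498859328)))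 (.node (.node (.node (.leaf 3124692261441318710389532687521832176251501249164858677327663182607825818525388410773301950860075352638568519525269416757149802197998458689378572968616205500679847192415229515532868496913374535340076181665177382) (.leaf 3124651097769283233634715780456239388547598258088822703385830548133716911030989446166862991272656770805550570267161988337259114495688577252947306390723838334207045656224650556092899778061151431609359645988236062)) (.leaf 1633584004469170019823978544775960910792691935965991699606186715033611217817950043220428043900213165325798125064794410307544002296733740434278481768071081063710109831622109889879551378857525029566545647496239803)) (.node (.leaf 16539436302609685854899976942392701896691074710758374578376958591821069051462065061642878730524889479471555344050968483492884493454133271532696708617573815441788210962888773061759029140976220045228402780134753) (.leaf 1728618558714127573809350512723075519032405387913926822352029845945158026255233233761182026547753152350667477182805913892125447558197147879588265667944600185512089835561443959446938115982965156921497180768308812)))) (.node (.node (.node (.node (.leaf 2649873843612762771791919890893366280769156073914751303782277288171998852655482479639238149370259620332151422077300197537190574956253459457678854048248522422537279927961279605426272133555737956559232336833867818)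 (.leaf 4086873340609146113066588979565611335357167746017042710069580917490504691319060634792355254103134774331340292441611751174753437781424028627455020290254420627391024434710143329238856076657426419401980121609367559)) (.leaf 1588748787667006092043799083601746014621094232116344038763033921802282769839812854211899040899449333791813117764478308840750066740313730061797652949953061615313754455223499253819969708501116173954755870342029358)) (.node (.node (.leaf 397347283448104157656786127874699922201944101465015189853165457154416973257204079044075771597811605854010245916882218496241876143172554433747167375870793901829534193176562886710807182162921264670008434032600111) (.leaf 2508151175269060604803000807056908847196399996101310439522037138048504289186741313380605057295969350093077162451119149562070435373885881514480898176435803742974149982813033465477641763508822731434497763009974198)) (.leaf 3026312241167455850362766698237797734009237095961174226739003829255334054148514243027109448826066423726025891705660277681017332291049154809892959653456539967983897730958164635063161608035097627778464590076696457))) (.node (.node (.node (.leaf 1564097470031977868584760001705690103826996294699317784863981814772376648689345795913442286237982238272245417200906738817759827330530751712011001966691040926282874434413944259571009565071513176487344497448372652)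 (.leaf 1934037640294212435983793889701805862065403710403031845661512072624063220799091280241869485129495445911721887212318540068227467070675714454693144291858191884284217546993778663795908571422465014839209063420352586)) (.leaf 3046670759399333453290235697570727068600068775156741781695573360800143099764768468796812760937324088280066722199842940333978471566344564181760217163445590314172708573959586519123468696941118327748587801263737686)) (.node (.leaf 1200172708050238310413053871343308706425711291684723219826415155187061157277440271271141317344510229010894306312008377804108648567261733477329328872549583508002729854905493513250126309370116420529076537633088343) (.leaf 3061441934102230540247216276612916489486850614867438552247473284245383148386195281247178117615310127405124815385895277591962579749606187457134584842501713903940636794940628887829380493829818313702253858353275866)))))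

def certGPerm12 : Janko.Tree (ℕ) :=
  (.node (.node (.node (.node (.node (.leaf 90683391281581245779431871235756980309689872304705661283082993699404440655071842478184117342985659577736099920741938087286476616766691629379542993915951346078967990372904259780831926711853643427107503346210822) (.leaf 2390628390276087404103697924998570698958330792882536759900522949963831432846251128318926999946022797496861846689753878077223941015759551946711456127502706736589667196045048985614516724598110068811555284824688861)) (.leaf 2817262867390247007457471935627320824019213953977034008603691539081413721000747162244962474437263175947320559575689181116133117628540826003227131371134796317541950969715185456028562479910232920744353740800671839)) (.node (.node (.leaf 3761706472886357065737812513339749949097843693756355061128547261392122817517346312121503656015197246393854350882019101180078273516162498155169066096051250483270848831284228448575898319463712992500843692004761911) (.leaf 1370285349630110473740841577621359695748589674302957037065276755311913300016473032321302590746414000275245408831322887370232320571612982781183474705690735207742672185394640540036496553773044196799863108111698770)) (.leaf 2368910568830921208882872094777343099640548884739286381280738194704638772396457448329672070711625559204389119572032672607058279163491021615897612667304525688032119673674574367347315760512027548368164100688562584)))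 (.node (.node (.node (.leaf 11024234694483118223645848056226428885002381051809315484091484498777388799023811928890294103481695860722477418927352745542124302113818624360684493993288218529830549492437425401889764639439883229785816002928129) (.leaf 1328715077735334745749491261585755508428673776324608674970465393773179059198097652704317314030145307738532706573680732490879013902119369845963950018916224878276587723990394125908202212872812352169210674676777987)) (.leaf 2699179874742681497222203333345692538374617158042342008884172342583300057229696524433367735862896983872010774823106022978080183102702711436764724338232069395257367696234825456298785847443312098984792996699263388)) (.node (.leaf 3635972849988602073189768907357838930611735001951257750754304949505852459194616873364673477115929430027317795104482707429513601784311180703996567490078336023579319196711471642866844677691166879181535587063595705) (.leaf 2240552090067915781893785281527054864674610857555034937079731545316588660457844304337693753311210596181421034477888062780087240190196561110070303351003128444338406650337533202438226486950779590992624028247921287)))) (.node (.node (.node (.node (.leaf 4085292284643013540598834402104799611075983408437812329261679717705554631923945125634569869342254909021277837064981976037992337739685082931644061183306199377384807313203794178340281743338912085394977248508063041)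 (.leaf 1949498449872000288290336046457661936488536463678958939381683731889634421402953938937270913422660948197241211518207445812443203324412799375657971727295986992276277926678298185575122375669915362488410904922220048)) (.leaf 1576084449446558722583662001971933600886629872926437539068939727702286320113597520949141469721521266663378507699986250684213760707608952462839960137416565601040073682444394144524025553909525541669484249482154430)) (.node (.node (.leaf 3046973296522201783750184196715485186685201441074944230977095347025780675812879547131744724041615800286734631899683730182867832618342787243968184272023790925261964746339722416154337032496570847635968686077943452) (.leaf 1871783826724083677619966627174888064103616197216650111304774123002591626588761893226020726748298067657679372208898669420350719665383591291589154446917290476157011738386953752225846482944720686360027419669582473)) (.leaf 666409206379018001908752380888722694276159126134546060833632887394387846875012470752275361101396875431599858805502367054227189678705725562904348984035571657427157428733287378246237205008442388423220461987782712))) (.node (.node (.node (.leaf 759453031005601823198005581778752865525693301224122660187920426848557910541397974841372437214166887318028882194428771853282469833456290848481474718340356693829241253065507231586379163003308214992302211229917998)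 (.leaf 3104319833153290974808829463626293643509876688432412082571453579129709294407176108634695399297108880761381152952294679031429556530054492944477414097879313803664247677044894283399261288287390042318241390730467845)) (.leaf 1329954427905263591755324062866382960994450785744721844099348506002273775696722140904617891175266608030085784362265790378677345413244233023439800318853437118999075612040698442280506175979988444504074959796755171)) (.node (.leaf 2978233474562117068027954040050274343318048407421851128395841629681897619966175939013831090227466607958022803375223984706490917045980949645017003597509258126518473757274565000021362753273972735786530497456722818) (.leaf 2477463097645087441710001684642001321335631991248867941904932131635186086376997018839673025673806484252360234037077747370627540938970603828375888765154195381683093024320774006227727072630641379696865537771564465)))))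

def certGPerm13 : Janko.Tree (ℕ) :=
  (.node (.node (.node (.node (.node (.leaf 1907571433476393176172334901140209876963718758529975964876901691261717767447088561401797664442964551352242597615585247450190317730761322515584965670854244904291683092879879446416387811299738494905512228293313251) (.leaf 929855817927913650012129402585677676633351663142883399881250459370382986689115449938618433747850759976104960936071423392768109399707109060591602956388031715254942247529879472566550621049317278741347786108061875)) (.leaf 3148771444968289607379292022629960654695944272765738024822047086566961003912433772442622461219554588343625626021004163180578234716877611608711814712237506460754415717116548484665894071271914842032928351457448327)) (.node (.node (.leaf 667204104086895424138839359510904720839122813666264344346821529372225123278625340146922703810919360219724024650341144547460459708780508902845559755198066620706460168754714637516857750794739142309510897189693270) (.leaf 2537638421092267325144354793247684321989466279345075437243923837950517031734915256954101689631442271430322041079929598177458740039865046470931638411749283389552636135170866066766423295377190551759976722097156407)) (.leaf 4095553975715947703061329665718959095170900996346560348888575259194358255170996080998085282421511145398065283783954156883369297216100083278275643180308480697038814769695174848752181267405604951096903048885625098)))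 (.node (.node (.node (.leaf 595942496741870764774076081679192992197470891844543979669438077192011976488818547331051797967937327479133925399304945630079707432508368918860314616360277777701480985259578985541913188923173487769495808905567964) (.leaf 1649130203573276618050366701215259745338848379223996976150181351165087951521614634448626640168184952719685962473231141015966928113006542404946591623080645337519384708445645666946547411221411291864838493034390063)) (.leaf 2724212775715600154793776205658330064361038514854330194565677754535141672450150787003384996509682407832221446920225046729640927613271994242311259973885224023364611164809652942121496697089519263658495084405480790)) (.node (.leaf 3593345786943878550227507289075488394745780732041182162007940173105894624882673417931548283092958838019817306270379723681069537171151732368244341591558486834706456351455534876618276862393780315501650538330790813) (.leaf 3261010364723585678347810741112320356448489204856619030475188895927151064468521352145465232805800371617454492173057852199097932554717463322494862946578236649473665041951608910681277462404398423329233350385486044)))) (.node (.node (.node (.node (.leaf 1854883993980163776445686147925589974856722979442357112834907976317440852858789525753942401073964503519806799308945211457716223659219902700925066581709944395513105309083537311385900949303590643507679843011057545)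 (.leaf 2528804491310957069488630817545943304869335096428836698819266021925566334792352901285773887415664694264766887412986186032855951750155285339520142422674841858887419718837704168124896627880798313866964458334187541)) (.leaf 714233966803852891558078884251040902722549490867459291982404253860898093179263595466273377701666745368938320958683637273862444537595345029365532889662057953606702659514067319419424723724870005280505951825789380)) (.node (.node (.leaf 3375243072582615643483744123684108925059200531035598706123279152065159202275600774668545551777204040750989136454933276313487416233550975622266291548999128144930736290073428246387886364073967071245679424191105485) (.leaf 2348619043993105786744778863778144963470801366900532900890040147607705039614635536218067931222124236460359199600302060871029875080540129519759090181871089137701867595576193481480196966712852334571448599065087422)) (.leaf 547483604620493911244299402052019991975052485769091183835047435823916145957062479055111962518630722851738569935239926779322621545486432873142886311491610137090505215223389726734863999689582685942188214482003122))) (.node (.node (.node (.leaf 1425163708554541404021733258380663751189727483708133805107426129799552349537507401236491060905857120963861492282650695754556694744649567777181392502585293182174499454223791126691026003233574524620303683547327044)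 (.leaf 2529355131700847946840812757584585216528487661377666989251268042893984534931073092671933624369282373271763902083332821502011485793812231732414773547721144928393200748241140014957904741541268208254273751536829021)) (.leaf 1751441222695554101471499778166331134774570258061574639826584660980537936787265426813857342807904760979739698659126125074317341648069545770065538645110569129511030636050741196964635461095527989211632556912942424)) (.node (.leaf 21199723619287821197218965187289608913159770845328322512667912611136760345379893027215771816144785243901962409834799395190032756052122037272415450452586883532710894626327072982339649076638153981822112421172833) (.leaf 3766090209185456669746024781264619001473591153540988600916316112137545249719558195152935368951180831594926738978295395531528413304560253417305663859881231794583121507324914170512234900920967603454167286035574078)))))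

def certGPerm14 : Janko.Tree (ℕ) :=
  (.node (.node (.node (.node (.node (.leaf 343255459179935519551592911457570804084141693131966196273250377408038181025589287635161513256614404906236495744295648840522651737024074280522485250308888704880388787516106724430318698736734857975964445092585001) (.leaf 437171821766161781366467115810657491146794734784272268241278458627948380849974557651386619954845865537972146982572151261685507307180153367909702155896551276188930903409326019469463323096670403311154671251786447)) (.leaf 1675148040254000112847633378084965769874236388087903995860961448919825474715911593646937102202136547427013655255835832706958101411056656716872107508631186335182543032368804884447236926676264090468360444798142512)) (.node (.node (.leaf 2125140912203726166476267992295664081795325454150971321457000668239354769504909785859734480001007903165873011857248610233325422684086310658718438459026486373737265536808491234858593813799086501223044160055156030) (.leaf 3580717530653120232300815709299314472121757539746489522670481827489634091726852904211133452751217671765884528241423560431284771302405728673583528136920237354816928075696380846141402750391843685419691138391478725)) (.leaf 188487523753913747167998383811647650284405058277548662292357746344253099234047226667863992538500701866979790319274416182201365183330671222413431000363584626578316475704839452320847376953064150447622097529791518)))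 (.node (.node (.node (.leaf 1856428697371847222145184827933087296847419611240824513988767068604345481422155152950543918587334446089240611999244177191650692017171541276627951814185489346306392478163275878195859089553582212139469940982946946) (.leaf 2574974117897073728133232595997489007547558103972579225808388266442680305530204495780778832968198707430043314356129909777394533960234066299745409997230144552218170511095645169484711079951120575802158440700644131)) (.leaf 1921655779684662027792083061285898220141126655355309026955927846504506005442853095508666083415547563150497026946515059638642616790732997285654774515378480346771146878700913668467780575430622383331866136670098857)) (.node (.leaf 1013420204532309620128013812748463365797765500777115264244560562174242764596089610510490254729752205437795055216611176980019765140843309090001977065475714125546033280317942751416195594788767422610072351171432110) (.leaf 2678470812608691534801033297543839261917424765929771305174771754727858548490602813411164881014508001307027856428608200443847155415373830678933723492972892817399141939228195179395207792380530107160266643022030239)))) (.node (.node (.node (.node (.leaf 2359524861208819758113971091809107384414318774481979823642856224780512671504125239222815609156527236895795176063310657177052795887600322163493112652786831160258936883052869542877449271939108488919300058456403985)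 (.leaf 4046632577467277696278684986123543158589151825890946161168970394270816995898039610352605830012877054297027828194258664178630173245792454269457668993301688628640490099185519334101275562520387149349729690893373622)) (.leaf 2526858241935291036969452332498134923728514798157951336342165291528193617219917736490170755080734086226194109251355006026752504021268766768081681885110267989484244402296677190576113212997961984905365357511213241)) (.node (.node (.leaf 3991567939396207988748539421417403594065742558507819821954434194384739353478982147737027947567438629547160966223645050270411193352428780669751181602480814958982604429150756053747449571965813685104690845214610749) (.leaf 1728785321202156235843988919433994977856626555891834830246749254806762229552953449943933380528708302914685412122614337557022494040455837700396961535494079554075217610521853950343918404143830139972394526207528586)) (.leaf 416930419912859814749071908239739504636582377607657001459781329831703995960566912760146462172752684466341344388964646102348925857223394618613688925638068304046393745291233452002508253570293693858835377038606927))) (.node (.node (.node (.leaf 4091874713113672140355436101894452611872104269323594510291306135618688561861990953140816392470728462648695238086839639363038681244821569946229843346074551249090665300783524747610416026448914578868989773913377205)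 (.leaf 2243382748726810676508478822109605716299642155572058347776108813963702616311324403487695681041389885831970142962815620847017838449782077012516766101698231004591168308426526084171764691424069199554819789908385030)) (.leaf 3438548311868420948943308204038825185333459985232988313224531816954163262536966265493149175470346690027453521883191723472817584534487367203307940557788030988764940792906369126742980644640087745683134820847754642)) (.node (.leaf 666410306474354020845917569508833239627079848739652502704515510373508889144733486685160242813240993789454355197435960926668791693888196551768758229496219591312882654716265132420144460285954317886321527870235448) (.leaf 354287859120532913662253520839704874888092097923287774793436961896922013489738540801587758513076655833802749914957193714764791789447616312815626842019372102016846836417337875273801917808987747142374543548812938)))))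

def certGPerm15 : Janko.Tree (ℕ) :=
  (.node (.node (.node (.node (.node (.leaf 3593980717417974585866497536034247473691214764921062989867553087491612565891115887023734817537177570399403000968227457433302603337305067300765522822081328816660741492963264568994389291177678049655411147109319365) (.leaf 3890431721332413250149067486576714761560122058308781310103496589211980459174865761658703026027123187683834218594516453242737015572782251188340124939594431233063191902290505154884708640111786222290021050353991808)) (.leaf 3128067103407421295276507454473999996750090232426929653442952781803285208401412157984925883939760491620892452015767597712536255729013241697756005326584432658784304598860225385901371459352490480931960454717950368)) (.node (.node (.leaf 3521716897834331755202233384463193434492668539896776439864872929278900915011861410166740692320736498989860673315088397135471070099417088567461455770209929913214762215391479020196007940335567088048786425733173936) (.leaf 1320533788988359092518667433743646595285299142320303289746428680252619919572646785592760455792765946646672219037246528144033496284779306026261960141749537509357528135720325612758544966796149522996900560000879692)) (.leaf 3093707643671057796797349020738246585857304845422222238136796662672566843411097440082931994200359204000731828982688687037979805364163863192163731334696156951617219210077305931343036372567077342902312664081575453)))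 (.node (.node (.node (.leaf 2024253105520446635458155176562060301922811333775156489430697141468236153775145116340812481968339103823947704641019891685502592918760002026327100925573353176935052536332079568624312124038428632137013317679666757) (.leaf 18677644984451434455707747081630686984959358283455753077715488038300730147507480489122264878660038465479600463265210411730208173969247643840533223228444137648228558518142386589722106144517724766114746645260118)) (.leaf 3394150967568983690293010881293545113411765354163369265769677021924498260251056603221634027774258291655998390966952589025794799946442169886930784980315382531894904013175372640294611057574317768111837461844436)) (.node (.leaf 1824045298011325568015379875565536611482127828566316878181402377589445498449911872253876170468487214787684071218644923960184704000263927101535532748328687918809435806033554030005763224785599793873620427375774546) (.leaf 2355663477312390968988177938134447020277160058748876781163997544291659737782931706207729106749231369569274950480407616308602006329759105471879713812657959023262296649338161728281831104286606812277882856980222168)))) (.node (.node (.node (.node (.leaf 3093175762302323432209898512676343581447169419008705586859605518592176495812285090525169323218977183911356255702506949862684874033309688024801310924894980874184824855598429565658448197367779762166876524552021022)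 (.leaf 699079905883869759812777195011365291003290212334569888635670725839685729133613380416849024944945807334361086387485997037212021532239677030783729079290665056035803689853913982251544110641265991770464692437410054)) (.leaf 3596486398538527458980666793634339551955096016409519737396365657114668053712529854847282781870255021488880155561418853412197896606164733830107587460864309907530911171483369229461433258887279315309355110711118389)) (.node (.node (.leaf 1563418849608962687873131578008515938323665302292553672630289789856917432594752539512675344098336161486351267210164753405064714816714031395128562806317897336121290254306333075800429135392088115663493417650540484) (.leaf 1551899393735990533032003012566572558799379879544332080928760005923107134802931956679904937093545691623246413689036284585535721038850100544630410722520668501699051245760117268950297725775720793098032688592195907)) (.leaf 2530715937561642329487070749232777933979278575174210767640671917413515717843081883423179123253854149248171957897086844237690988341743842245337283000344081262291610027186617063551946885264114547718953674635259822))) (.node (.node (.node (.leaf 1632446330337573740264070484683732910477328950378546549750915199993014282515572099443258621990314706124153832325704001281970564331434492890524199228976869826111123034882961040003248061075696250096963510911684545)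 (.leaf 3056910033037969361852392794362912460379454743342562467512284193932371751242675024593171594027511669578277409120943716291498857923103235856689732846638759900565533537990270890166639385255780536228301130967766535)) (.leaf 921543690060178866350442252777337370382781865029712611540477468459888487703568816131308762489248584169961846016023642938596324895910764187313339999898813249606721650533505593346038343180245169334070631281134151)) (.node (.leaf 2099708104147507640737632611987240740814077552063858348978337490071645550774752009915070490567967258590634861185075546151248778975061602296219043310313295940719791642013839223441283493202415025754715344361147359) (.leaf 705106585942028581457313113025180057015623974404768141500123349984142307829904613646753532145403206106898596025964702634134564821025335569082667116838019970890530088380873341214269030381186934444002754367457095)))))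

def certGPerm : Janko.Tree (ℕ) :=
  (.node (.node (.node (.node certGPerm0 certGPerm8) (.node certGPerm4 certGPerm12)) (.node (.node certGPerm2 certGPerm10) (.node certGPerm6 certGPerm14))) (.node (.node (.node certGPerm1 certGPerm9) (.node certGPerm5 certGPerm13)) (.node (.node certGPerm3 certGPerm11) (.node certGPerm7 certGPerm15))))

def certGPar0 : Janko.Tree (ℕ × Bool) :=
  (.node (.node (.node (.node (.node (.leaf (0, false)) (.leaf (195, false))) (.leaf (81, true))) (.node (.node (.leaf (37, false)) (.leaf (273, false))) (.leaf (128, true)))) (.node (.node (.node (.leaf (18, false)) (.leaf (227, true))) (.leaf (103, false))) (.node (.leaf (58, true)) (.leaf (161, false))))) (.node (.node (.node (.node (.leaf (8, true)) (.leaf (212, false))) (.leaf (92, true))) (.node (.node (.leaf (47, true)) (.leaf (301, true))) (.leaf (144, true)))) (.node (.node (.node (.leaf (27, false)) (.leaf (250, false))) (.leaf (115, true))) (.node (.leaf (70, true)) (.leaf (176, false))))))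

def certGPar1 : Janko.Tree (ℕ × Bool) :=
  (.node (.node (.node (.node (.node (.leaf (0, false)) (.leaf (197, false))) (.leaf (82, true))) (.node (.node (.leaf (37, true)) (.leaf (277, false))) (.leaf (130, true)))) (.node (.node (.node (.leaf (18, true)) (.leaf (229, false))) (.leaf (103, true))) (.node (.leaf (59, false)) (.leaf (162, false))))) (.node (.node (.node (.node (.leaf (10, false)) (.leaf (212, true))) (.leaf (93, false))) (.node (.node (.leaf (48, false)) (.leaf (303, false))) (.leaf (145, false)))) (.node (.node (.node (.leaf (27, true)) (.leaf (252, false))) (.leaf (116, true))) (.node (.leaf (71, false)) (.leaf (176, true))))))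

def certGPar2 : Janko.Tree (ℕ × Bool) :=
  (.node (.node (.node (.node (.node (.leaf (0, true)) (.leaf (198, false))) (.leaf (83, false))) (.node (.node (.leaf (38, true)) (.leaf (277, true))) (.leaf (131, true)))) (.node (.node (.node (.leaf (19, false)) (.leaf (232, false))) (.leaf (106, false))) (.node (.leaf (59, true)) (.leaf (162, true))))) (.node (.node (.node (.node (.leaf (10, true)) (.leaf (213, false))) (.leaf (93, true))) (.node (.node (.leaf (48, true)) (.leaf (305, false))) (.leaf (145, true)))) (.node (.node (.node (.leaf (28, false)) (.leaf (253, false))) (.leaf (117, false))) (.node (.leaf (71, true)) (.leaf (177, false))))))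

def certGPar3 : Janko.Tree (ℕ × Bool) :=
  (.node (.node (.node (.node (.node (.leaf (1, false)) (.leaf (198, true))) (.leaf (83, true))) (.node (.node (.leaf (39, false)) (.leaf (278, false))) (.leaf (132, true)))) (.node (.node (.node (.leaf (19, true)) (.leaf (233, false))) (.leaf (106, true))) (.node (.leaf (60, false)) (.leaf (163, false))))) (.node (.node (.node (.node (.leaf (11, false)) (.leaf (213, true))) (.leaf (94, false))) (.node (.node (.leaf (49, false)) (.leaf (307, true))) (.leaf (146, false)))) (.node (.node (.node (.leaf (28, true)) (.leaf (253, true))) (.leaf (117, true))) (.node (.leaf (72, false)) (.leaf (181, false))))))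

def certGPar4 : Janko.Tree (ℕ × Bool) :=
  (.node (.node (.node (.node (.node (.leaf (1, true)) (.leaf (199, true))) (.leaf (84, true))) (.node (.node (.leaf (39, true)) (.leaf (279, true))) (.leaf (133, true)))) (.node (.node (.node (.leaf (20, false)) (.leaf (234, false))) (.leaf (107, false))) (.node (.leaf (60, true)) (.leaf (165, false))))) (.node (.node (.node (.node (.leaf (11, true)) (.leaf (215, false))) (.leaf (94, true))) (.node (.node (.leaf (50, false)) (.leaf (309, true))) (.leaf (147, false)))) (.node (.node (.node (.leaf (29, false)) (.leaf (254, false))) (.leaf (118, false))) (.node (.leaf (73, false)) (.leaf (182, false))))))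

def certGPar5 : Janko.Tree (ℕ × Bool) :=
  (.node (.node (.node (.node (.node (.leaf (2, false)) (.leaf (201, true))) (.leaf (85, false))) (.node (.node (.leaf (41, false)) (.leaf (281, false))) (.leaf (135, false)))) (.node (.node (.node (.leaf (21, false)) (.leaf (235, true))) (.leaf (108, false))) (.node (.leaf (61, false)) (.leaf (165, true))))) (.node (.node (.node (.node (.leaf (12, false)) (.leaf (216, false))) (.leaf (96, false))) (.node (.node (.leaf (50, true)) (.leaf (312, false))) (.leaf (147, true)))) (.node (.node (.node (.leaf (30, false)) (.leaf (255, false))) (.leaf (118, true))) (.node (.leaf (73, true)) (.leaf (183, true))))))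

def certGPar6 : Janko.Tree (ℕ × Bool) :=
  (.node (.node (.node (.node (.node (.leaf (2, true)) (.leaf (202, false))) (.leaf (85, true))) (.node (.node (.leaf (41, true)) (.leaf (282, false))) (.leaf (135, true)))) (.node (.node (.node (.leaf (21, true)) (.leaf (236, true))) (.leaf (108, true))) (.node (.leaf (62, false)) (.leaf (166, false))))) (.node (.node (.node (.node (.leaf (12, true)) (.leaf (217, false))) (.leaf (97, false))) (.node (.node (.leaf (51, true)) (.leaf (316, false))) (.leaf (149, false)))) (.node (.node (.node (.leaf (30, true)) (.leaf (258, true))) (.leaf (119, false))) (.node (.leaf (74, false)) (.leaf (184, false))))))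

def certGPar7 : Janko.Tree (ℕ × Bool) :=
  (.node (.node (.node (.node (.node (.leaf (3, false)) (.leaf (202, true))) (.leaf (86, false))) (.node (.node (.leaf (42, false)) (.leaf (284, true))) (.leaf (136, false)))) (.node (.node (.node (.leaf (22, false)) (.leaf (237, false))) (.leaf (109, false))) (.node (.leaf (62, true)) (.leaf (167, false))))) (.node (.node (.node (.node (.leaf (13, false)) (.leaf (218, false))) (.leaf (97, true))) (.node (.node (.leaf (52, false)) (.leaf (318, true))) (.leaf (149, true)))) (.node (.node (.node (.leaf (31, false)) (.leaf (261, true))) (.leaf (120, false))) (.node (.leaf (74, true)) (.leaf (186, true))))))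

def certGPar8 : Janko.Tree (ℕ × Bool) :=
  (.node (.node (.node (.node (.node (.leaf (4, false)) (.leaf (203, true))) (.leaf (87, false))) (.node (.node (.leaf (42, true)) (.leaf (286, false))) (.leaf (136, true)))) (.node (.node (.node (.leaf (22, true)) (.leaf (238, false))) (.leaf (109, true))) (.node (.leaf (63, false)) (.leaf (167, true))))) (.node (.node (.node (.node (.leaf (13, true)) (.leaf (219, false))) (.leaf (98, false))) (.node (.node (.leaf (52, true)) (.leaf (319, true))) (.leaf (150, false)))) (.node (.node (.node (.leaf (31, true)) (.leaf (262, true))) (.leaf (121, false))) (.node (.leaf (75, false)) (.leaf (187, false))))))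

def certGPar9 : Janko.Tree (ℕ × Bool) :=
  (.node (.node (.node (.node (.node (.leaf (4, true)) (.leaf (204, false))) (.leaf (87, true))) (.node (.node (.leaf (43, false)) (.leaf (291, false))) (.leaf (137, false)))) (.node (.node (.node (.leaf (23, false)) (.leaf (239, false))) (.leaf (110, false))) (.node (.leaf (63, true)) (.leaf (168, true))))) (.node (.node (.node (.node (.leaf (14, true)) (.leaf (220, false))) (.leaf (98, true))) (.node (.node (.leaf (53, true)) (.leaf (320, false))) (.leaf (151, true)))) (.node (.node (.node (.leaf (32, false)) (.leaf (265, true))) (.leaf (122, false))) (.node (.leaf (75, true)) (.leaf (187, true))))))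

def certGPar10 : Janko.Tree (ℕ × Bool) :=
  (.node (.node (.node (.node (.node (.leaf (5, false)) (.leaf (205, false))) (.leaf (89, false))) (.node (.node (.leaf (43, true)) (.leaf (291, true))) (.leaf (138, false)))) (.node (.node (.node (.leaf (23, true)) (.leaf (240, true))) (.leaf (110, true))) (.node (.leaf (64, true)) (.leaf (169, true))))) (.node (.node (.node (.node (.leaf (15, false)) (.leaf (221, false))) (.leaf (99, false))) (.node (.node (.leaf (54, false)) (.leaf (323, true))) (.leaf (153, false)))) (.node (.node (.node (.leaf (32, true)) (.leaf (266, false))) (.leaf (123, false))) (.node (.leaf (76, true)) (.leaf (188, false))))))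

def certGPar11 : Janko.Tree (ℕ × Bool) :=
  (.node (.node (.node (.node (.node (.leaf (5, true)) (.leaf (207, false))) (.leaf (89, true))) (.node (.node (.leaf (44, false)) (.leaf (292, false))) (.leaf (139, false)))) (.node (.node (.node (.leaf (24, false)) (.leaf (243, false))) (.leaf (111, true))) (.node (.leaf (65, true)) (.leaf (170, false))))) (.node (.node (.node (.node (.leaf (15, true)) (.leaf (223, false))) (.leaf (99, true))) (.node (.node (.leaf (54, true)) (.leaf (328, true))) (.leaf (155, true)))) (.node (.node (.node (.leaf (34, false)) (.leaf (267, false))) (.leaf (123, true))) (.node (.leaf (77, false)) (.leaf (189, false))))))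

def certGPar12 : Janko.Tree (ℕ × Bool) :=
  (.node (.node (.node (.node (.node (.leaf (6, false)) (.leaf (208, false))) (.leaf (90, false))) (.node (.node (.leaf (45, true)) (.leaf (293, true))) (.leaf (140, false)))) (.node (.node (.node (.leaf (24, true)) (.leaf (244, true))) (.leaf (113, false))) (.node (.leaf (67, true)) (.leaf (171, false))))) (.node (.node (.node (.node (.leaf (16, false)) (.leaf (223, true))) (.leaf (101, false))) (.node (.node (.leaf (56, false)) (.leaf (334, false))) (.leaf (157, true)))) (.node (.node (.node (.leaf (34, true)) (.leaf (268, false))) (.leaf (124, false))) (.node (.leaf (77, true)) (.leaf (190, false))))))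

def certGPar13 : Janko.Tree (ℕ × Bool) :=
  (.node (.node (.node (.node (.node (.leaf (7, false)) (.leaf (209, true))) (.leaf (90, true))) (.node (.node (.leaf (46, false)) (.leaf (295, false))) (.leaf (141, false)))) (.node (.node (.node (.leaf (25, false)) (.leaf (246, false))) (.leaf (113, true))) (.node (.leaf (68, false)) (.leaf (172, true))))) (.node (.node (.node (.node (.leaf (16, true)) (.leaf (224, false))) (.leaf (101, true))) (.node (.node (.leaf (57, false)) (.leaf (336, false))) (.leaf (158, true)))) (.node (.node (.node (.leaf (35, true)) (.leaf (269, true))) (.leaf (124, true))) (.node (.leaf (78, true)) (.leaf (191, false))))))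

def certGPar14 : Janko.Tree (ℕ × Bool) :=
  (.node (.node (.node (.node (.node (.leaf (7, true)) (.leaf (210, true))) (.leaf (91, false))) (.node (.node (.leaf (46, true)) (.leaf (299, false))) (.leaf (141, true)))) (.node (.node (.node (.leaf (26, false)) (.leaf (247, true))) (.leaf (114, false))) (.node (.leaf (69, false)) (.leaf (174, false))))) (.node (.node (.node (.node (.leaf (17, false)) (.leaf (224, true))) (.leaf (102, false))) (.node (.node (.leaf (57, true)) (.leaf (336, true))) (.leaf (159, true)))) (.node (.node (.node (.leaf (36, false)) (.leaf (271, true))) (.leaf (126, false))) (.node (.leaf (79, false)) (.leaf (192, false))))))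

def certGPar15 : Janko.Tree (ℕ × Bool) :=
  (.node (.node (.node (.node (.node (.leaf (8, false)) (.leaf (211, false))) (.leaf (92, false))) (.node (.node (.leaf (47, false)) (.leaf (301, false))) (.leaf (143, false)))) (.node (.node (.node (.leaf (26, true)) (.leaf (248, true))) (.leaf (115, false))) (.node (.leaf (69, true)) (.leaf (175, true))))) (.node (.node (.node (.node (.leaf (17, true)) (.leaf (226, false))) (.leaf (102, true))) (.node (.node (.leaf (58, false)) (.leaf (345, false))) (.leaf (160, false)))) (.node (.node (.node (.leaf (36, true)) (.leaf (272, true))) (.leaf (128, false))) (.node (.leaf (80, false)) (.leaf (193, false))))))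

def certGPar : Janko.Tree (ℕ × Bool) :=
  (.node (.node (.node (.node certGPar0 certGPar8) (.node certGPar4 certGPar12)) (.node (.node certGPar2 certGPar10) (.node certGPar6 certGPar14))) (.node (.node (.node certGPar1 certGPar9) (.node certGPar5 certGPar13)) (.node (.node certGPar3 certGPar11) (.node certGPar7 certGPar15))))

def certGL0 : Janko.Tree (List ℤ) :=
  (.node (.node (.node (.node (.node (.leaf []) (.leaf [6420, (-370), 1097, (-6487), (-652), (-12), (-349), (-115), (-415), (-169), 14, 102, 380, 220, 16, (-161), 216, (-233), (-7)])) (.leaf [])) (.node (.node (.leaf [0, (-1), 0, 0, (-1), 0, 0, 0, 0, 0, 0, 0, 0, 0, (-1), 0, 0, 0, 0]) (.leaf [])) (.leaf []))) (.node (.node (.node (.leaf []) (.leaf [25, (-1), 3, (-12), (-2), (-1), 2, 0, 2, 0, 0, 0, (-2), (-2), (-1), (-1), 0, (-1), 0])) (.leaf [])) (.node (.node (.leaf []) (.leaf [])) (.leaf [])))) (.node (.node (.node (.node (.leaf []) (.leaf [5133, (-337), 1027, (-2396), (-1041), 51, 251, (-265), (-33), 138, 55, 48, (-113), (-263), 136, (-99), 328, (-93), (-8)])) (.leaf [18, (-1), 4, (-6), (-1), 0, 2, 0, 2, (-1), 0, 0, (-2), (-2), 0, (-1), 0, (-1), 0])) (.node (.node (.leaf []) (.leaf [])) (.leaf []))) (.node (.node (.node (.leaf []) (.leaf [14069, (-679), 2259,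 (-9533), (-2046), 90, 193, (-562), (-223), 69, 74, 173, 8, (-281), 180, (-225), 558, (-231), (-17)])) (.leaf [])) (.node (.node (.leaf [3953, (-198), 687, (-3802), (-410), (-4), (-169), (-78), (-209), (-84), 10, 58, 186, 95, 21, (-82), 129, (-132), (-4)]) (.leaf [0, 0, 0, 0, 0, 0, 0, 0, 0, 0, 0, 5, 0, 0, 0, 0, 0, 0, 0])) (.leaf [(-1), 0, (-1), 3, 0, (-1), 0, 0, 0, 0, 0, 0, 0, 0, 0, 0, 0, 0, 0])))))

def certGL1 : Janko.Tree (List ℤ) :=
  (.node (.node (.node (.node (.node (.leaf []) (.leaf [(-455), (-9), (-3), 283, 40, (-7), (-18), 23, (-19), (-3), 1, (-2), 18, 12, 1, (-6), 8, (-11), 0])) (.leaf [])) (.node (.node (.leaf []) (.leaf [(-746296), 44994, (-138255), 539398, 117410, (-4630), (-1964), 26073, 25656, (-2522), (-4581), (-9947), (-11934), 7939, (-13518), 15279, (-36867), 19902, 859])) (.leaf []))) (.node (.node (.node (.leaf []) (.leaf [(-136), 7, (-17), 202, 7, (-1), 22, 0, 19, 10, 1, (-3), (-23), (-20), (-1), 1, 1, 6, 0])) (.leaf [172682, (-17587), 46658, (-67706), (-43811), 1879, 9825, (-8767), (-4874), 6747, 2506, 2000, (-2528), (-10279), 7639, (-4820), 16484, (-5839), (-249)])) (.node (.node (.leaf []) (.leaf [])) (.leaf [])))) (.node (.node (.node (.node (.leaf []) (.leaf [])) (.leaf [])) (.node (.node (.leaf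 []) (.leaf [])) (.leaf []))) (.node (.node (.node (.leaf []) (.leaf [385, (-3), 57, (-393), (-31), 0, (-15), (-6), (-14), (-10), 1, 5, 14, 7, 0, (-6), 9, (-12), 0])) (.leaf [])) (.node (.node (.leaf []) (.leaf [375, (-5), 40, (-630), 15, (-5), (-65), 10, (-45), (-35), (-5), 10, 55, 50, (-10), (-10), (-5), (-20), 0])) (.leaf [])))))

def certGL2 : Janko.Tree (List ℤ) :=
  (.node (.node (.node (.node (.node (.leaf []) (.leaf [0, 0, 0, 0, 0, 0, 0, 0, 0, 0, 0, 0, 0, 0, 0, 0, 0, 0, 1])) (.leaf [2, 0, (-1), 0, (-1), 0, 0, 0, 0, 0, 0, 0, 0, 0, 0, 0, 0, 0, 0])) (.node (.node (.leaf [56, 4, 2, (-40), (-6), 1, 2, (-4), 1, 1, 1, 0, (-2), (-2), 2, 2, 0, 0, 0]) (.leaf [(-51), 13, (-33), 123, 0, 3, 16, (-6), 17, 7, (-1), (-2), (-16), (-10), (-1), 6, (-8), 11, 0])) (.leaf []))) (.node (.node (.node (.leaf [40, (-3), 6, (-84), 0, 0, (-12), 2, (-10), (-5), (-1), 2, 12, 11, 0, (-1), (-1), (-3), 0]) (.leaf [(-91), 26, (-15), (-355), 80, (-9), (-75), 33, (-45), (-37), (-7), 1, 58, 61, (-13), (-2), (-18), (-19), 1])) (.leaf [])) (.node (.node (.leaf []) (.leaf [2, 0, 0, 0, 0, 0, 0, 0, 0, 0, 0, 0, 0, 0, 0, 0, 0, 0, 0])) (.leaf [(-1400), 208, (-541), 93, 529, (-24), (-134), 92, 53, (-94), (-32), (-13), 38, 137, (-99), 59, (-210), 69, 4])))) (.node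 (.node (.node (.node (.leaf []) (.leaf [])) (.leaf [])) (.node (.node (.leaf [0, 0, 0, 0, 1, 0, 0, 0, 0, 0, 0, 0, 0, 0, 0, 0, 0, 0, 0]) (.leaf [(-17429), 1340, (-3838), 11231, 3184, (-96), (-210), 660, 633, (-184), (-152), (-210), (-200), 383, (-419), 424, (-1117), 544, 24])) (.leaf [1988, (-122), 364, (-1474), (-293), 10, (-8), (-69), (-62), (-5), 12, 29, 36, (-13), 28, (-38), 84, (-50), (-3)]))) (.node (.node (.node (.leaf []) (.leaf [])) (.leaf [])) (.node (.leaf []) (.leaf [3, 0, 0, (-3), 0, 0, 0, 0, 1, (-1), 0, 0, 0, 0, 0, 0, 0, 0, 0])))))

def certGL3 : Janko.Tree (List ℤ) :=
  (.node (.node (.node (.node (.node (.leaf []) (.leaf [(-2304), 136, (-392), 1660, 337, (-10), (-5), 85, 65, (-2), (-13), (-29), (-28), 27, (-25), 50, (-103), 51, 4])) (.leaf [])) (.node (.node (.leaf []) (.leaf [209925, (-9269), 32387, (-165354), (-27354), 1167, (-1175), (-6854), (-6208), (-792), 736, 2950, 3704, (-475), 2271, (-3502), 7364, (-4450), (-198)])) (.leaf [4186, (-192), 696, (-959), (-1024), 94, 474, (-274), 84, 265, 37, 75, (-270), (-381), 199, (-41), 309, (-1), 3]))) (.node (.node (.node (.leaf []) (.leaf [(-10), 0, 0, 12, 0, 0, 0, 0, (-1), 0, (-1), 0, 0, 0, 0, 0, 0, 0, 0])) (.leaf [])) (.node (.node (.leaf []) (.leaf [0, 0, 0,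 3, 0, 0, 0, 0, 0, 0, 0, 0, 0, 0, 0, 0, 0, 0, 0])) (.leaf [973, (-44), 176, (-859), (-113), 2, (-20), (-24), (-38), (-12), 6, 12, 26, 5, 12, (-15), 35, (-33), (-1)])))) (.node (.node (.node (.node (.leaf []) (.leaf [488489, (-49223), 128923, (-264816), (-110232), 3532, 12859, (-20496), (-21325), 11013, 6226, 5742, 4156, (-17155), 17571, (-14663), 42025, (-19052), (-805)])) (.leaf [])) (.node (.node (.leaf []) (.leaf [7736, (-700), 1914, (-3951), (-1713), 67, 280, (-344), (-257), 207, 92, 92, (-15), (-323), 276, (-204), 635, (-255), (-10)])) (.leaf []))) (.node (.node (.node (.leaf []) (.leaf [8080, (-592), 1672, (-6975), (-1169), 15, (-238), (-205), (-498), (-81), 61, 86, 374, 111, 130, (-214), 420, (-318), (-11)])) (.leaf [2272, (-163), 450, (-1157), (-438), 20, 88, (-109), (-28), 49, 19, 22, (-32), (-98), 51, (-49), 142, (-43), (-4)])) (.node (.leaf []) (.leaf [])))))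

def certGL4 : Janko.Tree (List ℤ) :=
  (.node (.node (.node (.node (.node (.leaf []) (.leaf [(-73), 14, (-32), 466, (-41), 7, 82, (-26), 63, 40, 3, (-4), (-73), (-66), 9, 12, 4, 28, 0])) (.leaf [(-1), (-1), (-2), (-3), (-1), 0, (-2), 0, (-1), 0, 0, 0, 2, 2, 0, 0, (-1), 0, 0])) (.node (.node (.leaf [1810, 171, (-175), (-1004), (-29), 25, 145, (-116), 209, 21, (-14), 23, (-181), (-110), (-42), 58, (-108), 113, 1]) (.leaf [(-322), (-274), 547, 1419, (-481), 21, 145, (-29), (-93), 129, 46, (-19), (-21), (-139), 149, (-53), 251, (-104), (-4)])) (.leaf [(-80), (-3), (-6), 55, 8, (-1), (-4), 4, (-3), 0, (-1), 0, 4, 4, (-1), (-1), 0, 1, 0]))) (.node (.node (.node (.leaf []) (.leaf [(-242), 17, (-42), 602, (-31), 6, 80, (-19), 61, 40, 1, (-5), (-71), (-64), 9, 12, 4, 28, 0])) (.leaf [])) (.node (.node (.leaf []) (.leaf [2, 0, 0, 0, 0, 0, 0, 0, 0, 0, 0, 0, 0, 0, 0, 0, 0, 0, 0])) (.leaf [])))) (.node (.node (.node (.node (.leaf []) (.leaf [(-74), 5, (-7), 123, (-2), 1, 13, (-2), 10, 7, 1, (-2), (-12), (-11), 2, 2, 1, 4, 0])) (.leaf [])) (.node (.node (.leaf [1, 0, 0, 0, 0, 0, 0, 0, 0, 0, 0, 0, 0, 0, 0, 0, 0, 0, 0]) (.leaf [(-9525), 1107, (-2389), 25499, (-1362), 444, 3998, (-845), 2712, 2042, 73, (-92), (-3370), (-3003), 686, 638,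 263, 1256, 53])) (.leaf [107, (-38), 45, (-60), (-36), 3, (-7), (-3), (-16), (-3), 0, 4, 13, 5, 4, (-10), 14, (-9), (-1)]))) (.node (.node (.node (.leaf []) (.leaf [(-30), (-1), (-2), 19, 5, (-1), 0, (-1), (-1), 1, 1, 0, 0, 0, 0, 0, 0, 0, 0])) (.leaf [(-388), 14, (-57), 441, 26, 1, 27, 4, 25, 14, 0, (-6), (-26), (-19), 0, 7, (-6), 14, 0])) (.node (.leaf []) (.leaf [35767, (-3031), 8298, (-21724), (-7096), 232, 655, (-1421), (-1399), 564, 363, 452, 364, (-953), 1027, (-935), 2564, (-1190), (-50)])))))

def certGL5 : Janko.Tree (List ℤ) :=
  (.node (.node (.node (.node (.node (.leaf []) (.leaf [])) (.leaf [])) (.node (.node (.leaf []) (.leaf [776, 6, 27, (-541), (-67), 10, 18, (-35), 19, 0, (-1), 5, (-18), (-12), (-1), 6, (-8), 11, 0])) (.leaf []))) (.node (.node (.node (.leaf []) (.leaf [(-2), 0, 0, 3, 0, 0, (-1), 0, 0, 0, 0, 0, 0, 0, 0, 0, 0, 0, 0])) (.leaf [])) (.node (.node (.leaf []) (.leaf [(-6), 0, 0, 9, 0, 0, 0, 0, 0, 0, 0, 0, 0, 0, 0, 0, 0, 0, 0])) (.leaf [(-2355), 47, (-293), 588, 552, (-68), (-304), 153, (-50), (-177), (-18), (-50), 173, 222, (-138), 0, (-166), (-11), (-7)])))) (.node (.node (.node (.node (.leaf []) (.leaf [(-30), (-2), (-6), (-16), 5, 0, (-10), 3, (-8), (-4), (-1), 1, 10, 10, 0, (-1), (-2), (-2),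 0])) (.leaf [(-461), (-29), (-2), 392, 12, (-3), (-7), 17, (-17), 3, 2, (-3), 14, 5, 4, (-10), 14, (-9), (-1)])) (.node (.node (.leaf []) (.leaf [279469, (-25202), 67866, (-169858), (-57176), 1824, 4570, (-10914), (-12097), 4347, 3035, 3390, 3746, (-7181), 8490, (-7766), 21075, (-10207), (-433)])) (.leaf []))) (.node (.node (.node (.leaf []) (.leaf [224592, (-16734), 47891, (-127929), (-43930), 1928, 6469, (-9694), (-5986), 4314, 2130, 2725, (-271), (-7552), 6227, (-5039), 14855, (-6007), (-297)])) (.leaf [(-267), 9, (-41), 360, 16, 1, 32, (-1), 28, 15, 1, (-6), (-31), (-24), 1, 8, (-5), 14, 0])) (.node (.leaf [29, (-2), 2, (-27), 0, 0, 0, 0, 0, (-2), 0, 0, 0, 0, (-1), (-1), 0, (-1), 0]) (.leaf [439, (-14), 54, (-474), (-25), 0, (-23), (-6), (-21), (-14), 0, 6, 22, 16, (-1), (-7), 6, (-12), 0])))))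

def certGL6 : Janko.Tree (List ℤ) :=
  (.node (.node (.node (.node (.node (.leaf []) (.leaf [688, (-10), 62, (-1164), 26, (-5), (-120), 16, (-82), (-68), (-9), 18, 102, 97, (-20), (-15), (-17), (-33), 0])) (.leaf [0, 0, 0, 0, 0, 0, 0, 0, 0, 1, 0, 0, 0, 0, 0, 0, 0, 0, 0])) (.node (.node (.leaf [(-1), (-1), 0, 3, 0, 0, 0, 0, (-1), 0, 0, 0, 0, 0, 0, 0, 0, 0, 0]) (.leaf [583677, (-30092), 99639, (-382503), (-93561), 4810, 11093, (-23330), (-11765), 6165, 3469, 7701, 288, (-13295), 11124, (-9761), 27477, (-11385), (-548)])) (.leaf []))) (.node (.node (.node (.leaf [(-3), 1, (-4), 3, 0, 0, 0, 0, 0, 0, 0, (-1), 1, 0, 0, 0, 0, 0, 0]) (.leaf [])) (.leaf [])) (.node (.node (.leaf []) (.leaf [2, 0, 0, 0, 0, 0, 0, 0, 0, 0, 0, 0, 0, 0, 0, 0, 0, 0, 0])) (.leaf [195, 28, (-5), (-507), 57, (-8), (-56), 17, (-26), (-33), (-7), 6, 39, 43, (-15), (-1), (-19), (-12), 1])))) (.node (.node (.node (.node (.leaf []) (.leaf [10868, (-714), 2109, (-8934), (-1540), 26, (-222), (-310), (-521), (-98), 59, 144, 368, 60, 138, (-261), 509, (-357), (-15)])) (.leaf [])) (.node (.node (.leaf []) (.leaf [(-232), (-99), 139, (-19), (-59), (-5), (-72), 26, (-111), (-13), 10, 0, 96, 56, 24, (-30), 58, (-57), (-1)])) (.leaf []))) (.node (.node (.node (.leaf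 [0, 0, 1, 0, 0, 0, 0, 0, 0, 0, 0, 0, 0, 0, 0, 0, 0, 0, 0]) (.leaf [(-98), (-16), 15, (-336), 63, (-10), (-83), 32, (-64), (-36), (-1), 0, 73, 66, (-9), (-12), (-4), (-28), 0])) (.leaf [(-1220), 31, (-171), 1359, 85, 2, 79, 14, 75, 41, 1, (-20), (-76), (-55), (-1), 20, (-21), 42, 0])) (.node (.leaf []) (.leaf [])))))

def certGL7 : Janko.Tree (List ℤ) :=
  (.node (.node (.node (.node (.node (.leaf [(-5), 0, 0, 5, 0, 0, 0, 0, 0, 0, 0, 0, 0, 0, 0, 0, 0, 0, 0]) (.leaf [])) (.leaf [])) (.node (.node (.leaf []) (.leaf [])) (.leaf []))) (.node (.node (.node (.leaf []) (.leaf [])) (.leaf [])) (.node (.node (.leaf []) (.leaf [0, 4, 0, 0, 0, 0, 0, 0, 0, 0, 0, 0, 0, 0, 0, 0, 0, 0, 0])) (.leaf [])))) (.node (.node (.node (.node (.leaf []) (.leaf [])) (.leaf [])) (.node (.node (.leaf []) (.leaf [])) (.leaf [(-129), 5, (-19), 87, 11, 0, (-5), 5, (-3), (-1), (-1), 0, 5, 5, (-1), 0, (-2), 1, 0]))) (.node (.node (.node (.leaf []) (.leaf [])) (.leaf [])) (.node (.leaf []) (.leaf [60750, (-3948), 11802, (-44293), (-9826), 361, 37, (-2057), (-2423), 216, 395, 829, 1195, (-572), 1219, (-1346), 3256, (-1799), (-65)])))))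

def certGL8 : Janko.Tree (List ℤ) :=
  (.node (.node (.node (.node (.node (.leaf []) (.leaf [2, (-1), (-3), (-15), 1, 0, (-3), 0, (-2), (-1), 0, 1, 2, 2, 0, 0, 0, (-1), 0])) (.leaf [(-3780), 340, (-929), 303, 1161, (-92), (-505), 262, (-27), (-307), (-59), (-60), 260, 420, (-251), 70, (-413), 56, (-1)])) (.node (.node (.leaf []) (.leaf [(-102379), 7366, (-21314), 62861, 18959, (-756), (-2126), 4141, 3071, (-1508), (-864), (-1315), (-449), 2775, (-2569), 2302, (-6409), 2800, 127])) (.leaf [(-5), 1, (-4), 6, 0, 0, 0, 0, 0, 0, 0, (-1), 1, 0, 0, 0, 0, 0, 0]))) (.node (.node (.node (.leaf []) (.leaf [])) (.leaf [(-7507), 457, (-1338), 5257, 1141, (-33), (-36), 279, 208, (-21), (-41), (-100), (-80), 108, (-98), 159, (-352), 167, 10])) (.node (.node (.leaf [5, (-1), 4, (-3), 0, 0, 0, 0, 0, 0, 0, 0, (-1), 0, (-1), (-1), 0, 0, 0]) (.leaf [4, 0, 4, 0, 0, 0, 0, 0, 0, 0, 0, 0, 0, 0, 0, 0, 0, 0, 0])) (.leaf [47188, (-3353), 10006, (-31336), (-8669), 364, 589, (-1751), (-1869), 555, 417, 610, 658, (-899), 1307, (-1052), 2969, (-1511), (-49)])))) (.node (.node (.node (.node (.leaf []) (.leaf [(-100), 6, (-8), 192, 0, 0, 24, (-4), 20, 10, 1, (-5), (-24), (-22), 0, 2, 2, 6, 0])) (.leaf [91857, (-6799), 19592, (-55022), (-17537), 716, 2136,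 (-3772), (-2800), 1518, 814, 1193, 320, (-2681), 2470, (-2104), 5996, (-2582), (-113)])) (.node (.node (.leaf [(-1455), (-104), 73, 1221, 2, (-10), (-26), 60, (-84), 22, 15, (-24), 57, 18, 35, (-27), 73, (-50), (-1)]) (.leaf [314983, (-23755), 67959, (-190324), (-60253), 2399, 6877, (-12833), (-10092), 5060, 2902, 3961, 1573, (-8875), 8549, (-7305), 20720, (-9158), (-401)])) (.leaf []))) (.node (.node (.node (.leaf []) (.leaf [0, 0, 0, 0, 0, 0, 0, 1, 0, 0, 0, 0, 0, 0, 0, 0, 0, 0, 0])) (.leaf [2009, (-285), 679, (-419), (-640), 24, 154, (-119), (-61), 104, 40, 20, (-44), (-164), 108, (-79), 251, (-84), (-6)])) (.node (.leaf [25, (-1), 0, (-23), (-5), 1, (-2), (-3), (-2), (-1), 0, 1, 2, 2, 0, 0, 0, 0, (-1)]) (.leaf [(-497), 6, (-45), 1012, (-39), 7, 122, (-23), 84, 66, 9, (-14), (-104), (-99), 20, 15, 17, 33, 0])))))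

def certGL9 : Janko.Tree (List ℤ) :=
  (.node (.node (.node (.node (.node (.leaf []) (.leaf [(-1), 0, (-4), (-3), 1, 0, (-1), 0, 0, 0, 0, 0, 0, 0, 0, 1, 0, 1, 0])) (.leaf [])) (.node (.node (.leaf [0, 0, 0, 0, 0, 0, 0, 0, (-1), 0, 0, 0, 0, 0, 0, 0, 0, 0, 0]) (.leaf [156638, (-11349), 32476, (-106675), (-27335), 956, 1114, (-5713), (-5961), 1205, 1260, 1981, 2416, (-2499), 3494, (-3689), 9284, (-4771), (-208)])) (.leaf [(-268), 4, (-18), 213, 19, (-2), (-2), 11, (-1), 2, (-1), (-3), 2, 2, 0, 0, 0, 0, 0]))) (.node (.node (.node (.leaf []) (.leaf [(-3073), 103, (-396), 1600, 467, (-29), (-151), 165, (-53), (-64), (-22), (-25), 107, 147, (-38), 26, (-105), 3, 4])) (.leaf [65, 3, 14, 39, (-16), 3, 22, (-7), 17, 8, 1, 0, (-21), (-19), 5, 5, 2, 3, 0])) (.node (.node (.leaf []) (.leaf [0, 0, 0, 3, 0, 0, 0, 0, 0, 0, 0, 0, 0, 0, 0, 0, 0, 0, 0])) (.leaf [1126, (-63), 196, (-1424), (-63), (-10), (-114), 1, (-104), (-57), (-1), 22, 110, 80, (-6), (-33), 26, (-55), (-1)])))) (.node (.node (.node (.node (.leaf []) (.leaf [(-16), 67, (-92), (-149), 70, 1, (-15), 7, 13, (-15), (-9), 2, 0, 17, (-12), 15, (-35), 14, 2])) (.leaf [])) (.node (.node (.leaf []) (.leaf [(-2855), (-79), (-46), 1807, 332, (-59), (-188), 128, (-58), (-92), 10, (-74),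 112, 107, (-60), (-15), (-37), (-46), (-8)])) (.leaf []))) (.node (.node (.node (.leaf []) (.leaf [(-30), 0, (-3), 26, 2, 0, 0, 0, 0, 0, 0, 0, 0, 0, 0, 0, 0, 0, 0])) (.leaf [13, (-14), 22, (-128), 11, (-4), (-23), 10, (-21), (-10), 0, 2, 22, 16, (-1), (-7), 6, (-12), 0])) (.node (.leaf []) (.leaf [])))))

def certGL10 : Janko.Tree (List ℤ) :=
  (.node (.node (.node (.node (.node (.leaf []) (.leaf [5, (-1), 0, (-3), (-1), 1, 0, 0, 0, (-1), 0, 1, 0, 0, 0, 0, 0, 0, 0])) (.leaf [29, 1, 3, (-22), (-3), 1, 0, 0, 1, (-1), (-1), 0, 0, 0, 0, 0, 0, 0, 0])) (.node (.node (.leaf []) (.leaf [(-2236), 146, (-407), 1671, 330, (-8), 7, 77, 79, 2, (-14), (-31), (-41), 20, (-27), 55, (-111), 60, 3])) (.leaf []))) (.node (.node (.node (.leaf []) (.leaf [(-29676), 2350, (-6285), 28377, 3873, 42, 1515, 568, 2160, 656, (-163), (-401), (-1836), (-868), (-287), 885, (-1430), 1312, 50])) (.leaf [])) (.node (.node (.leaf []) (.leaf [0, 0, 0, 3, 0, 0, 0, 0, 0, 0, 0, 0, 0, 0, 0, 0, 0, 0, 0])) (.leaf [])))) (.node (.node (.node (.node (.leaf []) (.leaf [])) (.leaf [])) (.node (.node (.leaf []) (.leaf [122586, (-10413), 28642, (-76029), (-24281), 804, 1864, (-4744), (-5029), 1718, 1218, 1542, 1581, (-2970), 3497, (-3257), 8762, (-4241), (-180)])) (.leaf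 []))) (.node (.node (.node (.leaf [69, (-2), 9, (-74), (-5), 0, (-4), (-1), (-4), (-2), 0, 1, 4, 3, 0, (-1), 1, (-2), 0]) (.leaf [(-18695), 1163, (-3586), 14870, 2851, (-97), 194, 541, 900, 29, (-94), (-289), (-556), (-11), (-371), 416, (-958), 615, 15])) (.leaf [])) (.node (.leaf []) (.leaf [(-1817), 136, (-366), 1736, 225, 1, 87, 36, 122, 38, (-11), (-28), (-105), (-50), (-19), 49, (-79), 76, 3])))))

def certGL11 : Janko.Tree (List ℤ) :=
  (.node (.node (.node (.node (.node (.leaf []) (.leaf [])) (.leaf [])) (.node (.node (.leaf []) (.leaf [54, (-1), 9, (-50), (-3), (-1), (-2), (-1), (-1), (-1), 0, (-1), 1, 1, (-1), (-1), 0, (-1), (-1)])) (.leaf [(-1236), 100, (-293), 1395, 138, 6, 104, 4, 124, 45, (-3), (-22), (-114), (-68), (-13), 42, (-61), 72, 2]))) (.node (.node (.node (.leaf []) (.leaf [])) (.leaf [])) (.node (.node (.leaf []) (.leaf [0, 0, 0, 3, 0, 0, 0, 0, 0, 0, 0, 0, 0, 0, 0, 0, 0, 0, 0])) (.leaf [(-1385), (-414), 654, 4362, (-766), 43, 504, (-121), 104, 323, 85, (-50), (-306), (-457), 202, (-77), 399, (-37), (-8)])))) (.node (.node (.node (.node (.leaf []) (.leaf [])) (.leaf [])) (.node (.node (.leaf []) (.leaf [23336, (-2179), 5599, (-22790), (-3336), (-51), (-1401), (-382), (-2025), (-568), 159, 317, 1723,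 818, 304, (-808), 1336, (-1228), (-47)])) (.leaf []))) (.node (.node (.node (.leaf []) (.leaf [])) (.leaf [399, (-2), 28, (-318), (-31), 3, 2, (-13), 2, (-3), 0, 2, (-1), (-2), 0, 0, 0, 0, 0])) (.node (.leaf []) (.leaf [2, 0, 0, (-3), 0, 0, 1, 0, 0, 0, 0, 0, 0, 0, 0, 0, 0, 0, 0])))))

def certGL12 : Janko.Tree (List ℤ) :=
  (.node (.node (.node (.node (.node (.leaf []) (.leaf [(-233685), 17275, (-50026), 139319, 44910, (-1892), (-5609), 9645, 7112, (-4005), (-2157), (-2904), (-726), 6928, (-6440), 5298, (-15357), 6644, 290])) (.leaf [631, 108, (-142), (-227), 23, 13, 88, (-49), 128, 16, (-11), 7, (-112), (-66), (-25), 37, (-66), 69, 1])) (.node (.node (.leaf [57, 1, 7, (-22), (-7), 1, 7, (-4), 4, 3, 1, 0, (-6), (-6), 2, 2, 2, 1, 0]) (.leaf [843565, (-60359), 177574, (-450474), (-168549), 8035, 31564, (-38260), (-17982), 19958, 8048, 10589, (-6977), (-33900), 25072, (-17625), 56593, (-20549), (-944)])) (.leaf []))) (.node (.node (.node (.leaf [(-6), 0, (-3), 6, 1, 0, 0, 0, 0, 0, 0, 0, 0, 0, 0, 1, (-1), 1, 0]) (.leaf [909633, (-72662), 203106, (-531213), (-180454), 7102, 22074, (-37891), (-29542), 16213, 9032, 11008, 3618, (-27922), 25945, (-22091), 62972, (-27425), (-1272)])) (.leaf [])) (.node (.node (.leaf []) (.leaf [30,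 0, 3, (-19), (-2), 0, 0, 0, 0, 0, 0, 0, 0, 0, 0, 0, 0, 0, 0])) (.leaf [867, (-26), 120, (-950), (-59), (-2), (-54), (-11), (-53), (-27), (-1), 14, 52, 38, 1, (-13), 14, (-28), 0])))) (.node (.node (.node (.node (.leaf []) (.leaf [])) (.leaf [])) (.node (.node (.leaf []) (.leaf [(-5380328), 393881, (-1132746), 3510066, 974607, (-36592), (-68638), 204340, 192702, (-58277), (-45174), (-68661), (-61960), 110559, (-130801), 125636, (-332173), 161533, 7003])) (.leaf [(-11886), 1301, (-3111), 10289, 2012, 26, 516, 277, 967, 169, (-123), (-129), (-737), (-224), (-207), 440, (-820), 629, 30]))) (.node (.node (.node (.leaf []) (.leaf [4, 0, 0, (-3), 0, 0, 0, 0, 0, 0, 0, 0, 0, 0, 0, 0, 0, 0, 0])) (.leaf [])) (.node (.leaf []) (.leaf [])))))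

def certGL13 : Janko.Tree (List ℤ) :=
  (.node (.node (.node (.node (.node (.leaf []) (.leaf [])) (.leaf [])) (.node (.node (.leaf []) (.leaf [15671, (-1193), 2986, (-30440), 773, (-410), (-3984), 627, (-2755), (-2079), (-78), 208, 3370, 2959, (-682), (-693), (-169), (-1297), (-55)])) (.leaf []))) (.node (.node (.node (.leaf []) (.leaf [365339, (-28164), 80412, (-180302), (-77123), 3676, 15886, (-17351), (-7335), 10033, 3892, 4311, (-4375), (-16725), 11709, (-8039), 26337, (-9126), (-464)])) (.leaf [])) (.node (.node (.leaf []) (.leaf [(-2), 0, (-2), 0, 0, 0, (-2), 0, (-2), 0, 0, 0, 2, 2, 0, 0, 0, 0, 0])) (.leaf [24734, (-1768), 5179, (-15725), (-4678), 220, 480, (-936), (-924), 390, 190, 375, 238, (-581), 735, (-555), 1616, (-746), (-19)])))) (.node (.node (.node (.node (.leaf []) (.leaf [(-388721), 29075, (-83729), 199547, 79790, (-3752), (-15618), 18078, 7999, (-9852), (-3950), (-4632), 3934, 16684, (-11846), 8401, (-27011), 9566, 481])) (.leaf [7802, (-876), 2295, (-3483), (-1947), 63, 327, (-354), (-315), 256, 118, 83, (-14), (-388), 339, (-241), 769, (-319), (-13)])) (.node (.node (.leaf []) (.leaf [(-949768), 69860, (-201782), 572535, 180627, (-7527), (-21601), 38933, 29069, (-15391), (-8575), (-11968), (-3663),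 27148, (-25544), 21487, (-61444), 26803, 1185])) (.leaf [73, (-1), 8, (-126), 3, (-1), (-13), 2, (-9), (-7), (-1), 2, 11, 10, (-2), (-2), (-1), (-4), 0]))) (.node (.node (.node (.leaf []) (.leaf [122, (-249), 492, (-93), (-256), (-27), (-86), 20, (-203), 0, 25, 11, 144, 29, 58, (-82), 183, (-123), (-2)])) (.leaf [(-53), (-1), (-6), 45, 8, (-1), 2, 1, 1, 1, 1, 0, (-2), (-2), 0, 0, 0, 0, 0])) (.node (.leaf []) (.leaf [6439, (-201), 781, (-6847), (-408), (-5), (-369), (-107), (-302), (-228), (-17), 111, 332, 249, (-60), (-121), 69, (-152), (-6)])))))

def certGL14 : Janko.Tree (List ℤ) :=
  (.node (.node (.node (.node (.node (.leaf []) (.leaf [(-314), 17, (-46), 368, 16, 1, 23, 2, 21, 13, 0, (-5), (-22), (-16), 1, 7, (-6), 12, 0])) (.leaf [])) (.node (.node (.leaf []) (.leaf [(-277060), 20528, (-59260), 165345, 53166, (-2213), (-6602), 11434, 8447, (-4702), (-2538), (-3488), (-897), 8184, (-7604), 6288, (-18162), 7850, 343])) (.leaf [(-1), 0, (-1), 0, 0, 0, (-1), 0, 0, 0, 0, 0, 0, 0, 0, 0, 0, 0, 0]))) (.node (.node (.node (.leaf []) (.leaf [])) (.leaf [])) (.node (.node (.leaf []) (.leaf [2, 0, 0, 0, 0, 0, 0, 0, 0, 0, 0, 0, 0, 0, 0, 0, 0, 0, 0])) (.leaf [(-249), 2, (-25), (-73), 58, (-6), (-55), 26, (-38), (-26), (-3), 2,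 47, 47, (-8), (-4), (-12), (-13), 0])))) (.node (.node (.node (.node (.leaf []) (.leaf [(-85558), 6668, (-18885), 49852, 16947, (-694), (-2188), 3563, 2729, (-1586), (-818), (-1099), (-267), 2676, (-2482), 2036, (-5903), 2526, 107])) (.leaf [3093, (-103), 402, (-1607), (-472), 30, 151, (-164), 54, 63, 21, 26, (-108), (-147), 38, (-26), 105, (-3), (-4)])) (.node (.node (.leaf []) (.leaf [7913, (-510), 1445, (-8471), (-796), (-19), (-539), (-104), (-618), (-250), 22, 117, 581, 363, 27, (-220), 282, (-341), (-10)])) (.leaf []))) (.node (.node (.node (.leaf [0, 0, 0, 0, 0, 0, 0, 0, 0, 0, 0, 0, 0, 0, 1, 0, 0, 0, 0]) (.leaf [4, 4, 0, (-6), (-1), 1, 0, 0, 0, (-1), 0, 0, 1, 0, 0, 0, 0, 0, 0])) (.leaf [0, 0, 0, 0, 0, 0, 1, 0, 0, 0, 0, 0, 0, 0, 0, 0, 0, 0, 0])) (.node (.leaf []) (.leaf [(-551814), 41182, (-118456), 289994, 112012, (-5195), (-20820), 25256, 12010, (-13251), (-5483), (-6669), 4550, 22579, (-16442), 12031, (-37910), 13786, 692])))))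

def certGL15 : Janko.Tree (List ℤ) :=
  (.node (.node (.node (.node (.node (.leaf []) (.leaf [(-118), 11, (-30), 216, (-2), 3, 23, (-6), 21, 11, 0, (-3), (-22), (-16), 1, 7, (-6), 12, 0])) (.leaf [])) (.node (.node (.leaf []) (.leaf [])) (.leaf []))) (.node (.node (.node (.leaf []) (.leaf [2250, (-135), 383, (-1610), (-334), 11, 7, (-84), (-64), 3, 13, 30, 27, (-28), 26, (-49), 103, (-50), (-3)])) (.leaf [])) (.node (.node (.leaf []) (.leaf [14, 0, 2, 0, 0, 0, 2, 0, 2, 0, 0, 0, (-2), (-2), 0, 0, 0, 0, 0])) (.leaf [(-2416), 125, (-378), 1327, 392, (-20), (-91), 118, (-2), (-41), (-16), (-24), 49, 97, (-34), 38, (-108), 22, 4])))) (.node (.node (.node (.node (.leaf []) (.leaf [])) (.leaf [])) (.node (.node (.leaf []) (.leaf [])) (.leaf [(-23113), 1677, (-4775), 17875, 3585, (-52), 283, 714, 1100, 49, (-163), (-291), (-674), 49, (-386), 581, (-1264), 785, 32]))) (.node (.node (.node (.leaf [0, 0, 0, 0, 0, 0, 0, 0, 0, 0, 0, 0, 0, 0, 0, (-1), 0, 0, 0]) (.leaf [])) (.leaf [])) (.node (.leaf []) (.leaf [])))))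

def certGL16 : Janko.Tree (List ℤ) :=
  (.node (.node (.node (.node (.node (.leaf []) (.leaf [11, (-2), 4, (-46), 3, (-1), (-9), 3, (-7), (-5), (-1), 1, 8, 7, (-2), (-3), 0, (-3), 0])) (.leaf [])) (.node (.node (.leaf []) (.leaf [239342, (-17044), 49903, (-145293), (-44949), 1935, 5470, (-9769), (-7124), 3863, 2083, 3054, 808, (-6762), 6345, (-5275), 15180, (-6574), (-281)])) (.leaf [(-67), 2, (-9), 74, 5, 0, 4, 1, 4, 2, 0, (-1), (-4), (-3), 0, 1, (-1), 3, 0]))) (.node (.node (.node (.leaf [10, (-1), 0, (-9), 0, 0, 0, 0, 0, (-1), 0, 1, 0, 0, 0, 0, (-1), 0, 0]) (.leaf [25482, (-2279), 5887, (-23137), (-3798), (-27), (-1139), (-545), (-1921), (-424), 193, 319, 1530, 590, 373, (-812), 1464, (-1210), (-47)])) (.leaf [(-1522), 202, (-524), 915, 405, (-15), (-11), 50, 126, (-24), (-25), (-19), (-61), 32, (-79), 62, (-170), 100, 3])) (.node (.node (.leaf [(-58), (-1), (-11), 16, 11, (-1), (-7), 4, (-4), (-3), (-1), 0, 6, 6, (-2), (-1), (-2), (-1), 0]) (.leaf [840, (-48), 164, (-782), (-97), (-1), (-31), (-16), (-45), (-15), 4, 12, 37, 15, 9, (-18), 33, (-32), (-1)])) (.leaf [])))) (.node (.node (.node (.node (.leaf []) (.leaf [(-353), 11, (-45), 600, (-17), 6, 61, (-10), 42, 34, 3, (-9), (-52), (-46), 10, 10, 5, 20, 0])) (.leaf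 [(-100), 0, (-4), 80, 9, (-1), 0, 4, 0, 1, 0, 0, (-1), 0, 0, 0, 0, 0, 0])) (.node (.node (.leaf [(-1), 0, 0, 3, (-1), 0, 0, 0, 0, 0, 0, 0, 0, 0, 0, 0, 0, 0, 0]) (.leaf [(-4295), 47, (-330), 4502, 186, (-1), 214, 102, 115, 165, 4, (-44), (-172), (-153), 69, 45, 43, 53, 6])) (.leaf []))) (.node (.node (.node (.leaf []) (.leaf [])) (.leaf [])) (.node (.leaf []) (.leaf [0, 0, 0, 0, 0, 0, 0, 0, 0, 0, 1, 0, 0, 0, 0, 0, 0, 0, 0])))))

def certGL17 : Janko.Tree (List ℤ) :=
  (.node (.node (.node (.node (.node (.leaf []) (.leaf [(-2232844), 161100, (-464700), 1499997, 394871, (-14381), (-20307), 82416, 83015, (-19385), (-17990), (-28584), (-31409), 39017, (-51522), 52122, (-133805), 67658, 2942])) (.leaf [])) (.node (.node (.leaf []) (.leaf [])) (.leaf [0, (-1), (-3), (-12), 1, 0, (-3), 0, (-2), (-1), 0, 0, 2, 2, (-1), (-1), 0, 0, 0]))) (.node (.node (.node (.leaf []) (.leaf [(-6363), 188, (-743), 6701, 408, 3, 353, 113, 285, 221, 18, (-109), (-316), (-239), 61, 115, (-61), 141, 6])) (.leaf [])) (.node (.node (.leaf [(-63), 2, (-9), 62, 4, 0, 2, 1, 2, 2, 0, (-1), (-2), (-2), 0, 0, 0, 1, 0]) (.leaf [(-70), (-71), 122, (-444), 2, (-12), (-118), 43, (-124), (-45), 0, 8, 122, 90, 7, (-31), 36, (-64), 0])) (.leaf [(-4302), 876, (-1887),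 5232, 826, 93, 598, (-49), 847, 199, (-58), (-96), (-715), (-345), (-108), 327, (-541), 487, 11])))) (.node (.node (.node (.node (.leaf []) (.leaf [(-67), 4, 1, 117, (-2), 1, 13, (-2), 10, 7, 1, (-1), (-13), (-11), 2, 2, 1, 4, (-1)])) (.leaf [107, (-1), 8, (-86), (-9), 1, 0, (-4), 0, (-1), 0, 1, 0, 0, 0, 0, 0, 0, 0])) (.node (.node (.leaf [0, 0, 0, 0, 0, 0, 0, 0, 0, 0, 0, 0, (-1), 0, 0, 0, 0, 0, 0]) (.leaf [])) (.leaf [(-50370), 3324, (-9897), 32885, 8842, (-383), (-788), 1949, 1595, (-585), (-383), (-662), (-406), 1079, (-1190), 1061, (-2902), 1347, 53]))) (.node (.node (.node (.leaf []) (.leaf [(-4002), 129, (-429), 6075, (-21), 41, 588, (-42), 437, 300, 23, (-69), (-515), (-459), 92, 100, 25, 181, 2])) (.leaf [(-108240), 7098, (-21099), 80852, 17153, (-565), 423, 3579, 4484, (-113), (-718), (-1423), (-2467), 660, (-2010), 2425, (-5626), 3298, 135])) (.node (.leaf [0, 1, 3, 12, (-1), 0, 3, 0, 2, 1, 0, 0, (-2), (-2), 1, 1, 0, 0, 0]) (.leaf [])))))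

def certGL18 : Janko.Tree (List ℤ) :=
  (.node (.node (.node (.node (.node (.leaf [4, 0, 1, (-6), 1, 0, 0, 0, 0, 0, 0, 0, 0, 0, 0, 0, 0, 0, 0]) (.leaf [(-177264), 17955, (-47736), 70586, 44692, (-1908), (-9889), 8939, 5045, (-6798), (-2549), (-2057), 2476, 10390, (-7764), 4933, (-16794), 5996, 256])) (.leaf [])) (.node (.node (.leaf []) (.leaf [(-9227), 372, (-1344), 9186, 873, (-14), 420, 192, 482, 221, (-21), (-130), (-453), (-282), (-28), 167, (-218), 277, 9])) (.leaf [0, 0, 0, 3, 0, 0, 0, 0, 0, 0, (-1), 0, (-1), 0, 0, 0, 0, 0, 0]))) (.node (.node (.node (.leaf []) (.leaf [(-6202), 528, (-1443), 4550, 1111, (-26), 54, 199, 335, (-11), (-53), (-80), (-193), 33, (-150), 168, (-405), 249, 10])) (.leaf [0, 0, 0, 0, 0, 0, 0, 0, 0, 0, 0, (-1), 0, 0, 0, 0, 0, 0, 0])) (.node (.node (.leaf [(-174), (-69), 109, (-364), 10, (-13), (-118), 48, (-124), (-44), 0, 6, 123, 90, 7, (-31), 36, (-64), 0]) (.leaf [4, 4, 0, 0, 0, 0, 0, 0, 0, 0, 0, 0, 0, 0, 0, 0, 0, 0, 0])) (.leaf [])))) (.node (.node (.node (.node (.leaf []) (.leaf [])) (.leaf [])) (.node (.node (.leaf []) (.leaf [])) (.leaf []))) (.node (.node (.node (.leaf []) (.leaf [540075, (-46617), 127179, (-334789), (-107411), 3528, 8216, (-20886), (-22620), 7762, 5549, 6656, 7163,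 (-13101), 15653, (-14480), 39045, (-18970), (-798)])) (.leaf [5831, (-231), 829, (-5035), (-599), 11, (-124), (-164), (-173), (-86), 6, 83, 144, 50, 5, (-100), 145, (-112), (-6)])) (.node (.leaf []) (.leaf [(-63), 30, (-43), 23, 33, 0, 2, 4, 15, (-2), (-4), 0, (-9), 0, (-5), 9, (-17), 11, 1])))))

def certGL19 : Janko.Tree (List ℤ) :=
  (.node (.node (.node (.node (.node (.leaf []) (.leaf [])) (.leaf [0, 0, 0, 0, 0, 0, 0, 0, 0, 0, 0, 0, 0, 0, 0, 0, 0, 1, 0])) (.node (.node (.leaf []) (.leaf [(-25954), 2201, (-5841), 24345, 3667, 27, 1290, 512, 1971, 523, (-171), (-332), (-1635), (-715), (-326), 813, (-1390), 1219, 49])) (.leaf []))) (.node (.node (.node (.leaf []) (.leaf [136, (-7), 17, (-202), (-7), 1, (-22), 0, (-19), (-10), (-1), 3, 23, 20, 1, (-1), (-1), (-6), 0])) (.leaf [])) (.node (.node (.leaf []) (.leaf [0, 0, 0, 0, 4, 0, 0, 0, 0, 0, 0, 0, 0, 0, 0, 0, 0, 0, 0])) (.leaf [])))) (.node (.node (.node (.node (.leaf []) (.leaf [(-3), 1, 0, 3, 1, (-1), 0, 0, 1, 1, 0, (-1), (-1), (-1), 0, 0, 0, 0, 0])) (.leaf [])) (.node (.node (.leaf []) (.leaf [(-5327400), 388603, (-1118703), 3447389, 968144, (-36969), (-73879), 204330, 186200, (-60462), (-44890), (-67669), (-56074), 114007, (-130032), 123544, (-328959), 157858, 6941]))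 (.leaf []))) (.node (.node (.node (.leaf []) (.leaf [(-179536), 18974, (-49651), 73248, 45572, (-1796), (-9339), 8907, 5805, (-6639), (-2670), (-2001), 1824, 10120, (-7860), 5264, (-17352), 6488, 284])) (.leaf [(-11707), 891, (-2582), 7635, 2128, (-60), (-121), 437, 439, (-117), (-99), (-144), (-152), 240, (-281), 282, (-745), 368, 16])) (.node (.leaf [0, 0, 0, 0, 0, 0, 0, 0, 0, 0, 0, 0, 0, 0, 0, 1, 0, 0, 0]) (.leaf [])))))

def certGL20 : Janko.Tree (List ℤ) :=
  (.node (.node (.node (.node (.node (.leaf []) (.leaf [])) (.leaf [])) (.node (.node (.leaf []) (.leaf [(-11), 1, (-4), 12, 0, 0, 0, 0, 0, 0, 0, (-1), 1, 0, 0, 0, 0, 0, 0])) (.leaf []))) (.node (.node (.node (.leaf []) (.leaf [0, 0, 0, 0, 0, 0, 0, 0, 0, 0, 0, 0, 0, 0, 0, 0, 1, 0, 0])) (.leaf [])) (.node (.node (.leaf []) (.leaf [0, 4, 0, 0, 0, 0, 0, 0, 0, 0, 0, 0, 0, 0, 0, 0, 0, 0, 0])) (.leaf [])))) (.node (.node (.node (.node (.leaf []) (.leaf [])) (.leaf [(-407), 1, (-47), 353, 33, 1, 3, 11, 7, 4, (-1), (-5), (-2), 3, (-2), 4, (-9), 9, 0])) (.node (.node (.leaf []) (.leaf [(-376796), 41739, (-107097), 174333, 93952, (-3204), (-14885), 17239, 15997, (-11800), (-5568), (-4293), (-489), 17630, (-16027), 11983, (-36653), 15383, 642])) (.leaf []))) (.node (.node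 (.node (.leaf []) (.leaf [(-3376), 323, (-865), 1887, 739, (-23), (-73), 138, 141, (-64), (-38), (-42), (-35), 107, (-112), 97, (-273), 126, 6])) (.leaf [1, 0, 1, (-3), 0, 1, 0, 0, 0, (-1), 0, 0, 0, 0, 0, 0, 0, 0, 0])) (.node (.leaf []) (.leaf [])))))

def certGL21 : Janko.Tree (List ℤ) :=
  (.node (.node (.node (.node (.node (.leaf []) (.leaf [(-17451), 904, (-2949), 12224, 2559, (-96), (-142), 652, 392, (-57), (-84), (-227), (-110), 281, (-232), 311, (-746), 345, 19])) (.leaf [(-21613), 506, (-2512), 13838, 2906, (-226), (-668), 946, (-96), (-244), (-57), (-293), 387, 623, (-257), 169, (-588), 94, 12])) (.node (.node (.leaf []) (.leaf [(-4975), 318, (-900), 5184, 476, 16, 305, 67, 346, 151, (-5), (-85), (-319), (-190), (-7), 138, (-176), 197, 6])) (.leaf []))) (.node (.node (.node (.leaf []) (.leaf [0, 0, 0, 0, 0, (-1), 0, 0, 0, 0, 0, 0, 0, 0, 0, 0, 0, 0, 0])) (.leaf [(-50), (-3), (-14), (-54), 16, (-3), (-22), 7, (-17), (-8), (-1), 0, 21, 19, (-5), (-5), (-2), (-3), 0])) (.node (.node (.leaf []) (.leaf [4, 0, 4, 0, 0, 0, 0, 0, 0, 0, 0, 0, 0, 0, 0, 0, 0, 0, 0])) (.leaf [(-76), (-3), (-1), 64, 6, 0, 0, 4, 1, 0, (-2), 0, (-1), 0, 0, 0, 0, 0, 0])))) (.node (.node (.node (.node (.leaf []) (.leaf [544983, (-47594), 129530,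 (-326974), (-110992), 3859, 10358, (-21679), (-22013), 8966, 5775, 6715, 5822, (-14875), 16510, (-14595), 40306, (-19003), (-811)])) (.leaf [(-229750), 21074, (-57205), 115074, 51695, (-2056), (-8678), 10397, 7505, (-6252), (-2802), (-2756), 633, 9890, (-8341), 6097, (-18970), 7624, 328])) (.node (.node (.leaf []) (.leaf [(-3161712), 237462, (-677425), 2010137, 586726, (-22161), (-49051), 122728, 111454, (-39749), (-27776), (-40069), (-31034), 72842, (-80466), 74875, (-201815), 95488, 4166])) (.leaf [(-93), (-1), (-4), 75, 4, 0, (-2), 1, (-2), 0, 0, 1, 1, 2, 0, 0, 0, 0, 0]))) (.node (.node (.node (.leaf []) (.leaf [(-3871), 536, (-1361), 1573, 1378, (-101), (-268), 145, 387, (-270), (-68), (-106), (-89), 197, (-390), 146, (-597), 274, (-6)])) (.leaf [])) (.node (.leaf []) (.leaf [(-43), 3, (-2), 142, (-8), 1, 23, (-5), 17, 11, 2, (-3), (-21), (-20), 2, 3, 3, 6, 0])))))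

def certGL22 : Janko.Tree (List ℤ) :=
  (.node (.node (.node (.node (.node (.leaf []) (.leaf [])) (.leaf [])) (.node (.node (.leaf []) (.leaf [(-29841), 1690, (-4981), 34392, 2337, 103, 2481, 279, 2387, 1256, (-40), (-410), (-2448), (-1754), 91, 765, (-705), 1262, 43])) (.leaf [(-260360), 19155, (-55431), 136370, 52774, (-2501), (-10014), 11989, 5448, (-6298), (-2576), (-3147), 2344, 10762, (-7753), 5587, (-17745), 6374, 324]))) (.node (.node (.node (.leaf []) (.leaf [])) (.leaf [])) (.node (.node (.leaf []) (.leaf [0, 4, 0, 0, 0, 0, 0, 0, 0, 0, 0, 0, 0, 0, 0, 0, 0, 0, 0])) (.leaf [938, (-48), 165, (-920), (-99), (-1), (-42), (-17), (-55), (-20), 5, 12, 47, 24, 6, (-20), 33, (-36), (-1)])))) (.node (.node (.node (.node (.leaf []) (.leaf [4926066, (-364062), 1042142, (-3264037), (-887069), 32140, 51314, (-183717), (-184513), 47685, 41168, 62784, 66664, (-92418), 117945, (-116918), 303498, (-151671), (-6572)])) (.leaf [(-681), 49, (-108), 932, 37, 1, 89, (-3), 79, 47, 2, (-16), (-89), (-71), 5, 22, (-8), 35, 1])) (.node (.node (.leaf []) (.leaf [868830, (-63961), 184257, (-542653), (-161738), 6361, 15863, (-34456), (-28642), 11993, 7629, 10987, 6302, (-21810), 22334, (-19995), 55188, (-25261), (-1106)])) (.leaf []))) (.node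 (.node (.node (.leaf []) (.leaf [24572, (-1850), 5261, (-18863), (-3949), 63, (-286), (-756), (-1226), (-32), 186, 315, 741, (-67), 459, (-636), 1417, (-882), (-34)])) (.leaf [])) (.node (.leaf []) (.leaf [(-867328), 63424, (-183196), 540455, 161286, (-6417), (-16203), 34517, 28118, (-12080), (-7582), (-10950), (-5874), 22009, (-22245), 19801, (-54839), 24957, 1100])))))

def certGL23 : Janko.Tree (List ℤ) :=
  (.node (.node (.node (.node (.node (.leaf []) (.leaf [16959, (-1051), 3152, (-15249), (-2119), 11, (-586), (-403), (-931), (-270), 71, 226, 752, 297, 151, (-406), 700, (-584), (-21)])) (.leaf [])) (.node (.node (.leaf []) (.leaf [(-189362), 12520, (-37500), 111297, 35057, (-1662), (-5292), 8115, 4338, (-3326), (-1599), (-2323), 504, 6026, (-4804), 3799, (-11348), 4485, 221])) (.leaf []))) (.node (.node (.node (.leaf []) (.leaf [11014, (-570), 1789, (-8595), (-1420), 34, (-80), (-362), (-324), (-48), 46, 139, 186, (-45), 92, (-210), 416, (-245), (-14)])) (.leaf [])) (.node (.node (.leaf []) (.leaf [4, 0, 4, 0, 0, 0, 0, 0, 0, 0, 0, 0, 0, 0, 0, 0, 0, 0, 0])) (.leaf [])))) (.node (.node (.node (.node (.leaf []) (.leaf [(-52521), 3630, (-10721), 36080, 9156, (-356), (-432), 1891, 2052, (-464), (-415), (-687), (-816),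 825, (-1271), 1176, (-3109), 1607, 56])) (.leaf [])) (.node (.node (.leaf []) (.leaf [5251675, (-384997), 1106968, (-3416057), (-953924), 35991, 68973, (-199987), (-187584), 58070, 44248, 67122, 59275, (-109458), 128524, (-122616), 325260, (-157606), (-6816)])) (.leaf []))) (.node (.node (.node (.leaf []) (.leaf [14622, (-1068), 3101, (-10133), (-2500), 64, 53, (-515), (-577), 88, 113, 181, 252, (-215), 308, (-353), 871, (-459), (-19)])) (.leaf [])) (.node (.leaf []) (.leaf [76, 3, 1, (-64), (-6), 0, 0, (-4), (-1), 0, 2, 0, 1, 0, 0, 0, 0, 0, 0])))))

def certGL24 : Janko.Tree (List ℤ) :=
  (.node (.node (.node (.node (.node (.leaf []) (.leaf [])) (.leaf [])) (.node (.node (.leaf [75, 1, 4, (-57), (-4), 0, 2, (-1), 2, 0, 0, (-1), (-1), (-2), 0, 0, 0, 0, 0]) (.leaf [(-5146263), 375462, (-1078736), 3447639, 915559, (-33027), (-47569), 190132, 193484, (-45891), (-42026), (-65882), (-73049), 91052, (-120312), 121238, (-311837), 157545, 6804])) (.leaf []))) (.node (.node (.node (.leaf []) (.leaf [206, (-2), 16, (-163), (-18), 2, 0, (-8), 0, (-2), 0, 2, 0, 0, 0, 0, 0, 0, 0])) (.leaf [0, 0, 0, 0, 0, 0, 0, 0, 0, 0, 0, 0, 0, 1, 0, 0, 0, 0, 0])) (.node (.node (.leaf []) (.leaf [0, 4, 0, 0, 0, 0, 0, 0, 0, 0, 0, 0, 0, 0, 0, 0, 0, 0,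 0])) (.leaf [(-14879), 680, (-2274), 12860, 1684, (-26), 326, 418, 560, 184, (-38), (-213), (-425), (-131), (-67), 287, (-475), 354, 14])))) (.node (.node (.node (.node (.leaf []) (.leaf [(-108032), 6494, (-19744), 85356, 15601, (-479), 1178, 3340, 4496, 385, (-582), (-1457), (-2844), (-15), (-1571), 2322, (-4933), 3131, 128])) (.leaf [(-546), 14, (-67), 835, 0, 2, 78, (-7), 59, 45, 3, (-14), (-70), (-62), 8, 11, 6, 27, 0])) (.node (.node (.leaf []) (.leaf [4526921, (-330700), 949977, (-3022098), (-807692), 29327, 43962, (-167806), (-169375), 41621, 37129, 57966, 62787, (-81791), 106557, (-106619), 275268, (-138393), (-5970)])) (.leaf []))) (.node (.node (.node (.leaf []) (.leaf [])) (.leaf [])) (.node (.leaf []) (.leaf [])))))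

def certGL25 : Janko.Tree (List ℤ) :=
  (.node (.node (.node (.node (.node (.leaf []) (.leaf [6980, (-176), 809, (-6624), (-536), 5, (-229), (-170), (-211), (-155), (-7), 106, 212, 134, (-31), (-98), 91, (-122), (-5)])) (.leaf [412, (-4), 54, (-341), (-33), (-2), (-1), (-11), (-3), (-3), 1, 5, (-1), (-5), 3, (-3), 8, (-9), 0])) (.node (.node (.leaf []) (.leaf [])) (.leaf [103561, (-6779), 20108, (-76239), (-16547), 565, (-182), (-3502), (-4118), 209, 695, 1359, 2164, (-809), 1939, (-2300), 5395, (-3080), (-130)]))) (.node (.node (.node (.leaf []) (.leaf [(-12695), 1428, (-3631), 8051, 2747, (-25), (-42), 442, 791, (-166), (-159), (-160), (-363), 254, (-415), 453, (-1142), 605, 22])) (.leaf [])) (.node (.node (.leaf []) (.leaf [4, 0, 4, 0, 0, 0, 0, 0, 0, 0, 0, 0, 0, 0, 0, 0, 0, 0, 0])) (.leaf [])))) (.node (.node (.node (.node (.leaf []) (.leaf [])) (.leaf [76896, (-5620), 16297, (-45366), (-14801), 642, 1966, (-3200), (-2246), 1363, 682, 999, 140, (-2353), 2125, (-1722), 5024, (-2114), (-90)])) (.node (.node (.leaf []) (.leaf [492717, (-47227), 124842, (-295855), (-104528), 3244, 7966, (-19197), (-23145), 8074, 5733, 5888, 7621, (-12807), 15996, (-14450), 39252, (-19329), (-809)])) (.leaf []))) (.node (.node (.node (.leaf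 []) (.leaf [65464, (-4110), 12494, (-42705), (-11172), 472, 1063, (-2568), (-1847), 728, 483, 836, 378, (-1450), 1434, (-1309), 3587, (-1623), (-70)])) (.leaf [140, 32, (-22), (-134), 15, 0, 7, (-5), 17, 0, (-2), 0, (-14), (-5), (-4), 10, (-14), 9, 1])) (.node (.leaf []) (.leaf [2935, 166, (-264), (-5298), 479, (-43), (-512), 47, (-189), (-307), (-47), 41, 349, 434, (-192), 4, (-271), (-17), 2])))))

def certGL26 : Janko.Tree (List ℤ) :=
  (.node (.node (.node (.node (.node (.leaf []) (.leaf [1898, (-143), 378, (-1901), (-226), 0, (-110), (-32), (-143), (-49), 9, 31, 130, 72, 18, (-51), 77, (-81), (-3)])) (.leaf [])) (.node (.node (.leaf []) (.leaf [(-13425), 1241, (-3405), 9093, 2624, (-62), (-2), 456, 704, (-91), (-134), (-164), (-348), 195, (-382), 393, (-992), 563, 24])) (.leaf []))) (.node (.node (.node (.leaf [51, (-13), 33, (-123), 0, (-3), (-16), 6, (-17), (-7), 1, 2, 16, 10, 1, (-6), 8, (-11), 0]) (.leaf [])) (.leaf [1, 0, (-2), (-9), 2, 0, (-2), 0, (-2), (-1), 0, 0, 2, 2, 0, 0, 0, 0, 0])) (.node (.node (.leaf []) (.leaf [(-8), 8, 16, 96, (-8), 0, 16, 0, 16, 8, 0, 0, (-16), (-16), 8, 8, 0, 0, 0])) (.leaf [])))) (.node (.node (.node (.node (.leaf []) (.leaf [(-1058), 480, (-933), (-3072), 1109, (-64), (-623), 250,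 (-161), (-368), (-98), 29, 397, 572, (-220), 97, (-467), 26, 11])) (.leaf [(-8), 1, 0, 9, 0, 0, 0, 0, 0, 1, 0, (-1), 0, 0, 0, 0, 0, 0, 0])) (.node (.node (.leaf []) (.leaf [7355, (-379), 1228, (-5701), (-993), 25, (-47), (-238), (-236), (-24), 28, 100, 133, (-33), 77, (-143), 298, (-172), (-7)])) (.leaf []))) (.node (.node (.node (.leaf []) (.leaf [156, (-35), 50, (-93), (-40), 2, (-5), (-7), (-16), (-1), 4, 3, 13, 3, 5, (-9), 14, (-9), (-1)])) (.leaf [])) (.node (.leaf [0, 0, 0, 0, 0, 0, 0, 0, 0, 0, 0, 1, 0, 0, 0, 0, 0, 0, 0]) (.leaf [])))))

def certGL27 : Janko.Tree (List ℤ) :=
  (.node (.node (.node (.node (.node (.leaf []) (.leaf [])) (.leaf [])) (.node (.node (.leaf []) (.leaf [17948, (-1149), 3520, (-13672), (-2871), 101, (-79), (-553), (-821), 37, 102, 271, 459, (-81), 390, (-402), 973, (-582), (-15)])) (.leaf [396, (-14), 60, (-447), (-27), (-1), (-27), (-4), (-25), (-14), 0, 6, 26, 19, 0, (-8), 7, (-15), 0]))) (.node (.node (.node (.leaf []) (.leaf [])) (.leaf [63, (-2), 9, (-62), (-4), 0, (-2), (-1), (-2), (-2), 0, 1, 2, 2, 0, 0, 0, (-1), 0])) (.node (.node (.leaf []) (.leaf [(-452), 11, (-61), 487, 34, 0, 27, 7, 26, 13, 1, (-8), (-26), (-19), (-3), 5, (-7), 14, 0])) (.leaf [3, (-1), 0, (-3), (-1), 1, 0, 0, (-1),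 (-1), 0, 1, 1, 1, 0, 0, 0, 0, 0])))) (.node (.node (.node (.node (.leaf []) (.leaf [(-702), 154, (-335), (-1053), 426, (-29), (-272), 117, (-108), (-147), (-35), 3, 193, 247, (-78), 25, (-159), (-13), 4])) (.leaf [])) (.node (.node (.leaf []) (.leaf [(-198771), 9290, (-31631), 154157, 26851, (-1140), 778, 6584, 6026, 468, (-785), (-2769), (-3423), 753, (-2414), 3428, (-7454), 4372, 191])) (.leaf [(-16959), 1051, (-3152), 15249, 2119, (-11), 586, 403, 931, 270, (-71), (-226), (-752), (-297), (-151), 406, (-700), 584, 21]))) (.node (.node (.node (.leaf []) (.leaf [])) (.leaf [])) (.node (.leaf []) (.leaf [])))))

def certGL28 : Janko.Tree (List ℤ) :=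
  (.node (.node (.node (.node (.node (.leaf [0, 0, 0, 1, 0, 0, 0, 0, 0, 0, 0, 0, 0, 0, 0, 0, 0, 0, 0]) (.leaf [694, (-50), 112, (-944), (-37), (-1), (-89), 3, (-79), (-47), (-2), 17, 88, 71, (-5), (-22), 8, (-35), (-1)])) (.leaf [(-2367), 171, (-432), 1684, 373, (-13), 2, 88, 81, (-2), (-14), (-33), (-41), 22, (-31), 57, (-117), 58, 4])) (.node (.node (.leaf [0, 1, 0, 0, 0, 0, 0, 0, 0, 0, 0, 0, 0, 0, 0, 0, 0, 0, 0]) (.leaf [])) (.leaf [(-82), 11, (-12), 165, 0, 0, 24, (-4), 20, 11, 2, (-3), (-25), (-22), 1, 2, 2, 5, 0]))) (.node (.node (.node (.leaf []) (.leaf [105911, (-7785), 22475, (-63727), (-20009), 802, 2401, (-4335), (-3145), 1686, 923, 1352, 348, (-3064), 2773, (-2404), 6812, (-2942), (-135)])) (.leaf [])) (.node (.node (.leaf []) (.leaf [(-2690), 272, (-731), 1057, 670, (-28), (-146), 136, 64, (-93), (-38), (-27), 42, 159, (-110), 73, (-245), 89, 5])) (.leaf [])))) (.node (.node (.node (.node (.leaf []) (.leaf [])) (.leaf [(-69), 2, (-9), 74, 5, 0, 4, 1, 4, 2, 0, (-1), (-4), (-3), 0, 1, (-1), 2, 0])) (.node (.node (.leaf []) (.leaf [(-111631), 7494, (-21839), 90832, 16224, (-318), 2103, 3229, 5388, 818, (-658), (-1449), (-3734), (-535), (-1538), 2689, (-5371), 3696, 163])) (.leaf [(-4067), 187, (-676), 3475, 473,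 (-7), 86, 110, 145, 50, (-11), (-58), (-113), (-29), (-29), 71, (-132), 104, 4]))) (.node (.node (.node (.leaf []) (.leaf [(-73), (-24), 26, 82, (-23), 0, (-5), 1, (-16), 2, 3, 0, 12, 3, 5, (-9), 15, (-10), (-1)])) (.leaf [])) (.node (.leaf []) (.leaf [])))))

def certGL29 : Janko.Tree (List ℤ) :=
  (.node (.node (.node (.node (.node (.leaf []) (.leaf [])) (.leaf [1, 0, 4, 3, (-1), 0, 1, 0, 0, 0, 0, 0, 0, 0, 0, (-1), 0, (-1), 0])) (.node (.node (.leaf []) (.leaf [(-1533), (-120), 83, 874, 88, (-22), (-100), 94, (-130), (-18), 9, (-17), 116, 76, 20, (-38), 59, (-70), (-1)])) (.leaf []))) (.node (.node (.node (.leaf []) (.leaf [])) (.leaf [171265, (-12534), 36312, (-83687), (-35596), 1793, 7811, (-8295), (-2774), 4745, 1771, 1998, (-2568), (-8053), 5303, (-3551), 11861, (-3872), (-215)])) (.node (.node (.leaf []) (.leaf [483, (-14), 63, (-518), (-35), 0, (-28), (-7), (-28), (-14), 0, 7, 28, 21, 0, (-7), 7, (-14), 0])) (.leaf [(-483360), 44277, (-119186), 267757, 104084, (-3724), (-13003), 20370, 18538, (-10332), (-5575), (-5861), (-2715), 16571, (-16115), 13263, (-38356), 16920, 724])))) (.node (.node (.node (.node (.leaf []) (.leaf [234701, (-16868), 49279, (-142370), (-44244), 1877, 5294, (-9583), (-7085), 3763, 2074, 2951,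 871, (-6620), 6248, (-5211), 14976, (-6533), (-282)])) (.leaf [])) (.node (.node (.leaf []) (.leaf [])) (.leaf []))) (.node (.node (.node (.leaf []) (.leaf [])) (.leaf [27227, (-1193), 4069, (-24443), (-2889), 29, (-760), (-711), (-1105), (-425), 53, 404, 903, 379, 79, (-528), 802, (-662), (-24)])) (.node (.leaf [0, 0, 0, 0, 0, 0, 0, 0, 0, 0, 0, 0, 1, 0, 0, 0, 0, 0, 0]) (.leaf [25, 0, 3, (-20), (-2), 0, 0, (-1), 0, 0, 0, 0, 0, 0, 0, 0, 0, 0, 0])))))

def certGL30 : Janko.Tree (List ℤ) :=
  (.node (.node (.node (.node (.node (.leaf []) (.leaf [773, (-13), 77, (-763), (-56), 3, (-30), (-16), (-26), (-19), (-1), 10, 29, 22, (-1), (-8), 5, (-14), 0])) (.leaf [])) (.node (.node (.leaf []) (.leaf [(-10277), 1123, (-2979), 4739, 2553, (-85), (-398), 462, 428, (-316), (-151), (-107), (-9), 483, (-437), 321, (-999), 423, 18])) (.leaf []))) (.node (.node (.node (.leaf []) (.leaf [])) (.leaf [(-3471), 322, (-896), 1887, 757, (-22), (-96), 145, 125, (-74), (-43), (-42), (-13), 127, (-117), 94, (-277), 128, 6])) (.node (.node (.leaf [(-619), 34, (-129), 265, 131, (-8), (-39), 34, (-3), (-22), (-9), (-3), 24, 39, (-22), 5, (-39), 13, 1]) (.leaf [6395, (-311), 1024, (-7962), (-386), (-32), (-626), (-10), (-571), (-312), (-11), 103, 600,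 460, (-32), (-161), 124, (-288), (-5)])) (.leaf [])))) (.node (.node (.node (.node (.leaf []) (.leaf [(-7053), 429, (-1238), 7699, 667, 17, 504, 87, 557, 237, (-15), (-105), (-533), (-346), (-14), 192, (-233), 299, 8])) (.leaf [(-7191), 146, (-796), 5975, 657, (-26), 66, 232, 86, 82, 3, (-102), (-68), (-3), 11, 74, (-101), 67, 6])) (.node (.node (.leaf [0, 0, 0, 3, 0, 0, 0, 0, 0, 0, 0, (-1), 0, 0, (-1), 0, 0, 0, 0]) (.leaf [3706365, (-285311), 807263, (-2344697), (-696648), 25836, 57750, (-143838), (-134564), 47880, 33439, 46884, 38265, (-86405), 96687, (-89700), 241918, (-114957), (-4984)])) (.leaf []))) (.node (.node (.node (.leaf []) (.leaf [22063, (-1700), 4851, (-15995), (-3765), 81, (-79), (-716), (-1042), 69, 168, 295, 542, (-205), 467, (-581), 1369, (-774), (-28)])) (.leaf [])) (.node (.leaf [376, (-13), 56, (-438), (-26), (-1), (-29), (-4), (-27), (-13), 0, 6, 28, 21, 0, (-7), 7, (-14), 0]) (.leaf [])))))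

def certGL31 : Janko.Tree (List ℤ) :=
  (.node (.node (.node (.node (.node (.leaf []) (.leaf [])) (.leaf [(-22580), 2185, (-5789), 14214, 4651, (-108), (-204), 841, 1134, (-288), (-262), (-262), (-459), 488, (-679), 683, (-1777), 918, 40])) (.node (.node (.leaf [0, 0, 0, 0, 0, 0, 0, 0, 1, 0, 0, 0, 0, 0, 0, 0, 0, 0, 0]) (.leaf [1603111, (-122698), 346750, (-1073380), (-291106), 9984, 13138, (-58666), (-64614), 14383, 13779, 20330, 25822, (-27675), 39023, (-39502), 101099, (-52002), (-2215)])) (.leaf [20499, (-1222), 3690, (-17450), (-2677), 37, (-473), (-566), (-974), (-206), 98, 276, 714, 183, 224, (-451), 855, (-630), (-24)]))) (.node (.node (.node (.leaf []) (.leaf [22, 0, 0, (-24), 0, 0, 0, 0, 1, 0, 1, 0, 0, 0, 0, 0, 0, 0, 0])) (.leaf [])) (.node (.node (.leaf []) (.leaf [])) (.leaf [(-361853), 35969, (-94670), 201370, 80803, (-2631), (-8759), 14912, 16283, (-7743), (-4539), (-4340), (-3744), 11928, (-12937), 10767, (-30721), 14237, 580])))) (.node (.node (.node (.node (.leaf []) (.leaf [7214, (-941), 2306, (-1348), (-2146), 79, 609, (-450), (-99), 391, 147, 49, (-265), (-644), 349, (-250), 840, (-242), (-20)])) (.leaf [])) (.node (.node (.leaf [0, 0, 0, 0, 0, 0, 0, 0, 0, 0, 0, 0, 0, 0, 0, 0, 0, (-1), 0]) (.leaf [(-172661),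 13507, (-36103), 180689, 20623, 323, 11848, 2303, 14482, 5473, (-741), (-2445), (-13321), (-7735), (-1187), 5363, (-7501), 8419, 321])) (.leaf []))) (.node (.node (.node (.leaf []) (.leaf [])) (.leaf [0, 0, 0, 0, 0, 1, 0, 0, 0, 0, 0, 0, 0, 0, 0, 0, 0, 0, 0])) (.node (.leaf [(-29), 2, (-2), 27, 0, 0, 0, 0, 0, 2, 0, 0, 0, 0, 1, 1, 0, 1, 0]) (.leaf [148601, (-15879), 41482, (-54594), (-38957), 1642, 8944, (-7713), (-4267), 6168, 2290, 1650, (-2383), (-9339), 6866, (-4315), 14812, (-5207), (-229)])))))

def certGL : Janko.Tree (List ℤ) :=
  (.node (.node (.node (.node (.node certGL0 certGL16) (.node certGL8 certGL24)) (.node (.node certGL4 certGL20) (.node certGL12 certGL28))) (.node (.node (.node certGL2 certGL18) (.node certGL10 certGL26)) (.node (.node certGL6 certGL22) (.node certGL14 certGL30)))) (.node (.node (.node (.node certGL1 certGL17) (.node certGL9 certGL25)) (.node (.node certGL5 certGL21) (.node certGL13 certGL29))) (.node (.node (.node certGL3 certGL19) (.node certGL11 certGL27)) (.node (.node certGL7 certGL23) (.node certGL15 certGL31)))))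

def certGKind0 : Janko.Tree (ℕ) :=
  (.node (.node (.node (.node (.node (.leaf 0) (.leaf 3)) (.leaf 0)) (.node (.node (.leaf 3) (.leaf 0)) (.leaf 0))) (.node (.node (.node (.leaf 0) (.leaf 3)) (.leaf 0)) (.node (.node (.leaf 0) (.leaf 1)) (.leaf 0)))) (.node (.node (.node (.node (.leaf 0) (.leaf 3)) (.leaf 3)) (.node (.node (.leaf 0) (.leaf 0)) (.leaf 0))) (.node (.node (.node (.leaf 0) (.leaf 3)) (.leaf 0)) (.node (.node (.leaf 3) (.leaf 3)) (.leaf 3)))))

def certGKind1 : Janko.Tree (ℕ) :=
  (.node (.node (.node (.node (.node (.leaf 0) (.leaf 3)) (.leaf 0)) (.node (.node (.leaf 0) (.leaf 3)) (.leaf 3))) (.node (.node (.node (.leaf 0) (.leaf 3)) (.leaf 3)) (.node (.node (.leaf 3) (.leaf 1)) (.leaf 0)))) (.node (.node (.node (.node (.leaf 0) (.leaf 0)) (.leaf 0)) (.node (.node (.leaf 3) (.leaf 0)) (.leaf 3))) (.node (.node (.node (.leaf 0) (.leaf 3)) (.leaf 0)) (.node (.node (.leaf 3) (.leaf 3)) (.leaf 0)))))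

def certGKind2 : Janko.Tree (ℕ) :=
  (.node (.node (.node (.node (.node (.leaf 0) (.leaf 2)) (.leaf 3)) (.node (.node (.leaf 3) (.leaf 3)) (.leaf 0))) (.node (.node (.node (.leaf 3) (.leaf 3)) (.leaf 0)) (.node (.node (.leaf 0) (.leaf 3)) (.leaf 3)))) (.node (.node (.node (.node (.leaf 0) (.leaf 0)) (.leaf 0)) (.node (.node (.leaf 2) (.leaf 3)) (.leaf 3))) (.node (.node (.node (.leaf 0) (.leaf 0)) (.leaf 0)) (.node (.leaf 0) (.leaf 3)))))

def certGKind3 : Janko.Tree (ℕ) :=
  (.node (.node (.node (.node (.node (.leaf 0) (.leaf 3)) (.leaf 3)) (.node (.node (.leaf 0) (.leaf 3)) (.leaf 3))) (.node (.node (.node (.leaf 3) (.leaf 3)) (.leaf 3)) (.node (.node (.leaf 0) (.leaf 3)) (.leaf 3)))) (.node (.node (.node (.node (.leaf 0) (.leaf 3)) (.leaf 0)) (.node (.node (.leaf 0) (.leaf 3)) (.leaf 0))) (.node (.node (.node (.leaf 3) (.leaf 3)) (.leaf 3)) (.node (.leaf 0) (.leaf 3)))))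

def certGKind4 : Janko.Tree (ℕ) :=
  (.node (.node (.node (.node (.node (.leaf 0) (.leaf 3)) (.leaf 3)) (.node (.node (.leaf 3) (.leaf 3)) (.leaf 3))) (.node (.node (.node (.leaf 0) (.leaf 3)) (.leaf 0)) (.node (.node (.leaf 0) (.leaf 3)) (.leaf 0)))) (.node (.node (.node (.node (.leaf 0) (.leaf 3)) (.leaf 0)) (.node (.node (.leaf 2) (.leaf 3)) (.leaf 3))) (.node (.node (.node (.leaf 0) (.leaf 3)) (.leaf 3)) (.node (.leaf 0) (.leaf 3)))))

def certGKind5 : Janko.Tree (ℕ) :=
  (.node (.node (.node (.node (.node (.leaf 0) (.leaf 0)) (.leaf 0)) (.node (.node (.leaf 3) (.leaf 3)) (.leaf 3))) (.node (.node (.node (.leaf 0) (.leaf 3)) (.leaf 0)) (.node (.node (.leaf 0) (.leaf 3)) (.leaf 3)))) (.node (.node (.node (.node (.leaf 0) (.leaf 3)) (.leaf 3)) (.node (.node (.leaf 0) (.leaf 3)) (.leaf 0))) (.node (.node (.node (.leaf 0) (.leaf 3)) (.leaf 3)) (.node (.leaf 3) (.leaf 3)))))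

def certGKind6 : Janko.Tree (ℕ) :=
  (.node (.node (.node (.node (.node (.leaf 0) (.leaf 3)) (.leaf 2)) (.node (.node (.leaf 3) (.leaf 3)) (.leaf 0))) (.node (.node (.node (.leaf 3) (.leaf 0)) (.leaf 0)) (.node (.node (.leaf 0) (.leaf 3)) (.leaf 3)))) (.node (.node (.node (.node (.leaf 0) (.leaf 3)) (.leaf 0)) (.node (.node (.leaf 0) (.leaf 3)) (.leaf 0))) (.node (.node (.node (.leaf 2) (.leaf 3)) (.leaf 3)) (.node (.leaf 0) (.leaf 0)))))

def certGKind7 : Janko.Tree (ℕ) :=
  (.node (.node (.node (.node (.node (.leaf 3) (.leaf 3)) (.leaf 0)) (.node (.node (.leaf 0) (.leaf 0)) (.leaf 3))) (.node (.node (.node (.leaf 0) (.leaf 0)) (.leaf 3)) (.node (.node (.leaf 0) (.leaf 3)) (.leaf 0)))) (.node (.node (.node (.node (.leaf 0) (.leaf 3)) (.leaf 0)) (.node (.node (.leaf 0) (.leaf 3)) (.leaf 3))) (.node (.node (.node (.leaf 0) (.leaf 0)) (.leaf 3)) (.node (.leaf 0) (.leaf 3)))))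

def certGKind8 : Janko.Tree (ℕ) :=
  (.node (.node (.node (.node (.node (.leaf 0) (.leaf 3)) (.leaf 3)) (.node (.node (.leaf 0) (.leaf 3)) (.leaf 3))) (.node (.node (.node (.leaf 0) (.leaf 0)) (.leaf 3)) (.node (.node (.leaf 3) (.leaf 3)) (.leaf 3)))) (.node (.node (.node (.node (.leaf 0) (.leaf 3)) (.leaf 3)) (.node (.node (.leaf 3) (.leaf 3)) (.leaf 0))) (.node (.node (.node (.leaf 0) (.leaf 2)) (.leaf 3)) (.node (.leaf 3) (.leaf 3)))))

def certGKind9 : Janko.Tree (ℕ) :=
  (.node (.node (.node (.node (.node (.leaf 0) (.leaf 3)) (.leaf 0)) (.node (.node (.leaf 3) (.leaf 3)) (.leaf 3))) (.node (.node (.node (.leaf 0) (.leaf 3)) (.leaf 3)) (.node (.node (.leaf 3) (.leaf 3)) (.leaf 3)))) (.node (.node (.node (.node (.leaf 3) (.leaf 3)) (.leaf 3)) (.node (.node (.leaf 0) (.leaf 3)) (.leaf 0))) (.node (.node (.node (.leaf 0) (.leaf 3)) (.leaf 3)) (.node (.leaf 0) (.leaf 0)))))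

def certGKind10 : Janko.Tree (ℕ) :=
  (.node (.node (.node (.node (.node (.leaf 0) (.leaf 3)) (.leaf 3)) (.node (.node (.leaf 0) (.leaf 3)) (.leaf 0))) (.node (.node (.node (.leaf 0) (.leaf 3)) (.leaf 0)) (.node (.node (.leaf 0) (.leaf 3)) (.leaf 0)))) (.node (.node (.node (.node (.leaf 0) (.leaf 0)) (.leaf 0)) (.node (.node (.leaf 0) (.leaf 3)) (.leaf 0))) (.node (.node (.node (.leaf 3) (.leaf 3)) (.leaf 0)) (.node (.leaf 0) (.leaf 3)))))

def certGKind11 : Janko.Tree (ℕ) :=
  (.node (.node (.node (.node (.node (.leaf 0) (.leaf 0)) (.leaf 0)) (.node (.node (.leaf 0) (.leaf 3)) (.leaf 3))) (.node (.node (.node (.leaf 0) (.leaf 0)) (.leaf 0)) (.node (.node (.leaf 0) (.leaf 3)) (.leaf 3)))) (.node (.node (.node (.node (.leaf 0) (.leaf 0)) (.leaf 0)) (.node (.node (.leaf 0) (.leaf 3)) (.leaf 0))) (.node (.node (.node (.leaf 0) (.leaf 0)) (.leaf 3)) (.node (.leaf 0) (.leaf 3)))))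

def certGKind12 : Janko.Tree (ℕ) :=
  (.node (.node (.node (.node (.node (.leaf 0) (.leaf 3)) (.leaf 3)) (.node (.node (.leaf 3) (.leaf 3)) (.leaf 0))) (.node (.node (.node (.leaf 3) (.leaf 3)) (.leaf 0)) (.node (.node (.leaf 0) (.leaf 3)) (.leaf 3)))) (.node (.node (.node (.node (.leaf 0) (.leaf 0)) (.leaf 0)) (.node (.node (.leaf 0) (.leaf 3)) (.leaf 3))) (.node (.node (.node (.leaf 0) (.leaf 3)) (.leaf 0)) (.node (.leaf 0) (.leaf 0)))))

def certGKind13 : Janko.Tree (ℕ) :=
  (.node (.node (.node (.node (.node (.leaf 3) (.leaf 0)) (.leaf 3)) (.node (.node (.leaf 0) (.leaf 3)) (.leaf 0))) (.node (.node (.node (.leaf 0) (.leaf 3)) (.leaf 3)) (.node (.node (.leaf 0) (.leaf 3)) (.leaf 3)))) (.node (.node (.node (.node (.leaf 0) (.leaf 3)) (.leaf 3)) (.node (.node (.leaf 3) (.leaf 3)) (.leaf 3))) (.node (.node (.node (.leaf 0) (.leaf 3)) (.leaf 3)) (.node (.leaf 0) (.leaf 3)))))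

def certGKind14 : Janko.Tree (ℕ) :=
  (.node (.node (.node (.node (.node (.leaf 0) (.leaf 3)) (.leaf 0)) (.node (.node (.leaf 0) (.leaf 3)) (.leaf 3))) (.node (.node (.node (.leaf 0) (.leaf 0)) (.leaf 0)) (.node (.node (.leaf 0) (.leaf 3)) (.leaf 3)))) (.node (.node (.node (.node (.leaf 0) (.leaf 3)) (.leaf 3)) (.node (.node (.leaf 0) (.leaf 3)) (.leaf 0))) (.node (.node (.node (.leaf 2) (.leaf 3)) (.leaf 2)) (.node (.leaf 0) (.leaf 3)))))

def certGKind15 : Janko.Tree (ℕ) :=
  (.node (.node (.node (.node (.node (.leaf 0) (.leaf 3)) (.leaf 0)) (.node (.node (.leaf 0) (.leaf 3)) (.leaf 0))) (.node (.node (.node (.leaf 0) (.leaf 3)) (.leaf 0)) (.node (.node (.leaf 0) (.leaf 3)) (.leaf 3)))) (.node (.node (.node (.node (.leaf 0) (.leaf 0)) (.leaf 0)) (.node (.node (.leaf 0) (.leaf 3)) (.leaf 3))) (.node (.node (.node (.leaf 3) (.leaf 3)) (.leaf 0)) (.node (.leaf 3) (.leaf 0)))))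

def certGKind16 : Janko.Tree (ℕ) :=
  (.node (.node (.node (.node (.node (.leaf 0) (.leaf 3)) (.leaf 0)) (.node (.node (.leaf 0) (.leaf 3)) (.leaf 3))) (.node (.node (.node (.leaf 3) (.leaf 3)) (.leaf 3)) (.node (.node (.leaf 3) (.leaf 3)) (.leaf 0)))) (.node (.node (.node (.node (.leaf 0) (.leaf 3)) (.leaf 3)) (.node (.node (.leaf 3) (.leaf 3)) (.leaf 0))) (.node (.node (.node (.leaf 0) (.leaf 0)) (.leaf 0)) (.node (.leaf 0) (.leaf 2)))))

def certGKind17 : Janko.Tree (ℕ) :=
  (.node (.node (.node (.node (.node (.leaf 0) (.leaf 3)) (.leaf 0)) (.node (.node (.leaf 3) (.leaf 0)) (.leaf 3))) (.node (.node (.node (.leaf 3) (.leaf 3)) (.leaf 0)) (.node (.node (.leaf 3) (.leaf 3)) (.leaf 3)))) (.node (.node (.node (.node (.leaf 0) (.leaf 3)) (.leaf 3)) (.node (.node (.leaf 3) (.leaf 3)) (.leaf 3))) (.node (.node (.node (.leaf 3) (.leaf 3)) (.leaf 3)) (.node (.leaf 3) (.leaf 0)))))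

def certGKind18 : Janko.Tree (ℕ) :=
  (.node (.node (.node (.node (.node (.leaf 3) (.leaf 3)) (.leaf 0)) (.node (.node (.leaf 0) (.leaf 3)) (.leaf 3))) (.node (.node (.node (.leaf 0) (.leaf 3)) (.leaf 3)) (.node (.node (.leaf 3) (.leaf 3)) (.leaf 0)))) (.node (.node (.node (.node (.leaf 0) (.leaf 0)) (.leaf 0)) (.node (.node (.leaf 0) (.leaf 0)) (.leaf 0))) (.node (.node (.node (.leaf 0) (.leaf 3)) (.leaf 3)) (.node (.leaf 0) (.leaf 3)))))

def certGKind19 : Janko.Tree (ℕ) :=
  (.node (.node (.node (.node (.node (.leaf 3) (.leaf 0)) (.leaf 2)) (.node (.node (.leaf 0) (.leaf 3)) (.leaf 0))) (.node (.node (.node (.leaf 0) (.leaf 3)) (.leaf 0)) (.node (.node (.leaf 3) (.leaf 3)) (.leaf 3)))) (.node (.node (.node (.node (.leaf 3) (.leaf 3)) (.leaf 3)) (.node (.node (.leaf 0) (.leaf 3)) (.leaf 3))) (.node (.node (.node (.leaf 0) (.leaf 3)) (.leaf 3)) (.node (.leaf 2) (.leaf 3)))))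

def certGKind20 : Janko.Tree (ℕ) :=
  (.node (.node (.node (.node (.node (.leaf 0) (.leaf 0)) (.leaf 0)) (.node (.node (.leaf 0) (.leaf 3)) (.leaf 0))) (.node (.node (.node (.leaf 0) (.leaf 2)) (.leaf 0)) (.node (.node (.leaf 0) (.leaf 3)) (.leaf 0)))) (.node (.node (.node (.node (.leaf 0) (.leaf 0)) (.leaf 3)) (.node (.node (.leaf 0) (.leaf 3)) (.leaf 0))) (.node (.node (.node (.leaf 0) (.leaf 3)) (.leaf 3)) (.node (.leaf 0) (.leaf 0)))))

def certGKind21 : Janko.Tree (ℕ) :=
  (.node (.node (.node (.node (.node (.leaf 0) (.leaf 3)) (.leaf 3)) (.node (.node (.leaf 0) (.leaf 3)) (.leaf 0))) (.node (.node (.node (.leaf 0) (.leaf 3)) (.leaf 3)) (.node (.node (.leaf 0) (.leaf 3)) (.leaf 3)))) (.node (.node (.node (.node (.leaf 0) (.leaf 3)) (.leaf 3)) (.node (.node (.leaf 0) (.leaf 3)) (.leaf 3))) (.node (.node (.node (.leaf 0) (.leaf 3)) (.leaf 0)) (.node (.leaf 3) (.leaf 3)))))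

def certGKind22 : Janko.Tree (ℕ) :=
  (.node (.node (.node (.node (.node (.leaf 0) (.leaf 0)) (.leaf 0)) (.node (.node (.leaf 0) (.leaf 3)) (.leaf 3))) (.node (.node (.node (.leaf 0) (.leaf 0)) (.leaf 0)) (.node (.node (.leaf 0) (.leaf 3)) (.leaf 3)))) (.node (.node (.node (.node (.leaf 0) (.leaf 3)) (.leaf 3)) (.node (.node (.leaf 0) (.leaf 3)) (.leaf 0))) (.node (.node (.node (.leaf 0) (.leaf 3)) (.leaf 0)) (.node (.leaf 0) (.leaf 3)))))

def certGKind23 : Janko.Tree (ℕ) :=
  (.node (.node (.node (.node (.node (.leaf 0) (.leaf 3)) (.leaf 3)) (.node (.node (.leaf 0) (.leaf 3)) (.leaf 0))) (.node (.node (.node (.leaf 0) (.leaf 3)) (.leaf 3)) (.node (.node (.leaf 3) (.leaf 3)) (.leaf 0)))) (.node (.node (.node (.node (.leaf 0) (.leaf 3)) (.leaf 0)) (.node (.node (.leaf 3) (.leaf 3)) (.leaf 3))) (.node (.node (.node (.leaf 0) (.leaf 3)) (.leaf 0)) (.node (.leaf 0) (.leaf 3)))))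

def certGKind24 : Janko.Tree (ℕ) :=
  (.node (.node (.node (.node (.node (.leaf 0) (.leaf 0)) (.leaf 0)) (.node (.node (.leaf 3) (.leaf 3)) (.leaf 0))) (.node (.node (.node (.leaf 0) (.leaf 3)) (.leaf 2)) (.node (.node (.leaf 0) (.leaf 3)) (.leaf 3)))) (.node (.node (.node (.node (.leaf 0) (.leaf 3)) (.leaf 3)) (.node (.node (.leaf 0) (.leaf 3)) (.leaf 0))) (.node (.node (.node (.leaf 0) (.leaf 0)) (.leaf 0)) (.node (.leaf 0) (.leaf 0)))))

def certGKind25 : Janko.Tree (ℕ) :=
  (.node (.node (.node (.node (.node (.leaf 0) (.leaf 3)) (.leaf 3)) (.node (.node (.leaf 0) (.leaf 3)) (.leaf 3))) (.node (.node (.node (.leaf 3) (.leaf 3)) (.leaf 0)) (.node (.node (.leaf 0) (.leaf 3)) (.leaf 0)))) (.node (.node (.node (.node (.leaf 0) (.leaf 0)) (.leaf 3)) (.node (.node (.leaf 0) (.leaf 3)) (.leaf 3))) (.node (.node (.node (.leaf 0) (.leaf 3)) (.leaf 3)) (.node (.leaf 0) (.leaf 3)))))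

def certGKind26 : Janko.Tree (ℕ) :=
  (.node (.node (.node (.node (.node (.leaf 0) (.leaf 3)) (.leaf 0)) (.node (.node (.leaf 0) (.leaf 3)) (.leaf 0))) (.node (.node (.node (.leaf 3) (.leaf 0)) (.leaf 3)) (.node (.node (.leaf 0) (.leaf 3)) (.leaf 0)))) (.node (.node (.node (.node (.leaf 0) (.leaf 3)) (.leaf 3)) (.node (.node (.leaf 0) (.leaf 3)) (.leaf 0))) (.node (.node (.node (.leaf 0) (.leaf 3)) (.leaf 0)) (.node (.leaf 2) (.leaf 0)))))

def certGKind27 : Janko.Tree (ℕ) :=
  (.node (.node (.node (.node (.node (.leaf 0) (.leaf 0)) (.leaf 0)) (.node (.node (.leaf 0) (.leaf 3)) (.leaf 3))) (.node (.node (.node (.leaf 0) (.leaf 0)) (.leaf 3)) (.node (.node (.leaf 0) (.leaf 3)) (.leaf 3)))) (.node (.node (.node (.node (.leaf 3) (.leaf 3)) (.leaf 0)) (.node (.node (.leaf 0) (.leaf 3)) (.leaf 3))) (.node (.node (.node (.leaf 3) (.leaf 3)) (.leaf 3)) (.node (.leaf 3) (.leaf 0)))))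

def certGKind28 : Janko.Tree (ℕ) :=
  (.node (.node (.node (.node (.node (.leaf 2) (.leaf 3)) (.leaf 3)) (.node (.node (.leaf 2) (.leaf 0)) (.leaf 3))) (.node (.node (.node (.leaf 0) (.leaf 3)) (.leaf 0)) (.node (.node (.leaf 0) (.leaf 3)) (.leaf 0)))) (.node (.node (.node (.node (.leaf 0) (.leaf 0)) (.leaf 3)) (.node (.node (.leaf 0) (.leaf 3)) (.leaf 3))) (.node (.node (.node (.leaf 0) (.leaf 3)) (.leaf 0)) (.node (.leaf 0) (.leaf 0)))))

def certGKind29 : Janko.Tree (ℕ) :=
  (.node (.node (.node (.node (.node (.leaf 0) (.leaf 3)) (.leaf 3)) (.node (.node (.leaf 0) (.leaf 3)) (.leaf 3))) (.node (.node (.node (.leaf 0) (.leaf 3)) (.leaf 3)) (.node (.node (.leaf 0) (.leaf 3)) (.leaf 3)))) (.node (.node (.node (.node (.leaf 0) (.leaf 3)) (.leaf 0)) (.node (.node (.leaf 0) (.leaf 3)) (.leaf 3))) (.node (.node (.node (.leaf 0) (.leaf 0)) (.leaf 3)) (.node (.leaf 2) (.leaf 3)))))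

def certGKind30 : Janko.Tree (ℕ) :=
  (.node (.node (.node (.node (.node (.leaf 0) (.leaf 3)) (.leaf 0)) (.node (.node (.leaf 0) (.leaf 3)) (.leaf 0))) (.node (.node (.node (.leaf 0) (.leaf 0)) (.leaf 3)) (.node (.node (.leaf 3) (.leaf 3)) (.leaf 0)))) (.node (.node (.node (.node (.leaf 0) (.leaf 3)) (.leaf 3)) (.node (.node (.leaf 3) (.leaf 3)) (.leaf 0))) (.node (.node (.node (.leaf 0) (.leaf 3)) (.leaf 0)) (.node (.leaf 3) (.leaf 0)))))

def certGKind31 : Janko.Tree (ℕ) :=
  (.node (.node (.node (.node (.node (.leaf 0) (.leaf 0)) (.leaf 3)) (.node (.node (.leaf 2) (.leaf 3)) (.leaf 3))) (.node (.node (.node (.leaf 0) (.leaf 3)) (.leaf 0)) (.node (.node (.leaf 0) (.leaf 3)) (.leaf 3)))) (.node (.node (.node (.node (.leaf 0) (.leaf 3)) (.leaf 0)) (.node (.node (.leaf 3) (.leaf 3)) (.leaf 0))) (.node (.node (.node (.leaf 0) (.leaf 0)) (.leaf 2)) (.node (.leaf 3) (.leaf 3)))))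

def certGKind : Janko.Tree (ℕ) :=
  (.node (.node (.node (.node (.node certGKind0 certGKind16) (.node certGKind8 certGKind24)) (.node (.node certGKind4 certGKind20) (.node certGKind12 certGKind28))) (.node (.node (.node certGKind2 certGKind18) (.node certGKind10 certGKind26)) (.node (.node certGKind6 certGKind22) (.node certGKind14 certGKind30)))) (.node (.node (.node (.node certGKind1 certGKind17) (.node certGKind9 certGKind25)) (.node (.node certGKind5 certGKind21) (.node certGKind13 certGKind29))) (.node (.node (.node certGKind3 certGKind19) (.node certGKind11 certGKind27)) (.node (.node certGKind7 certGKind23) (.node certGKind15 certGKind31)))))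

def certGRank0 : Janko.Tree (ℕ) :=
  (.node (.node (.node (.node (.node (.leaf 0) (.leaf 260)) (.leaf 0)) (.node (.node (.leaf 127) (.leaf 0)) (.leaf 0))) (.node (.node (.node (.leaf 0) (.leaf 159)) (.leaf 0)) (.node (.node (.leaf 0) (.leaf 0)) (.leaf 0)))) (.node (.node (.node (.node (.leaf 0) (.leaf 266)) (.leaf 157)) (.node (.node (.leaf 0) (.leaf 0)) (.leaf 0))) (.node (.node (.node (.leaf 0) (.leaf 324)) (.leaf 0)) (.node (.node (.leaf 237) (.leaf 113)) (.leaf 86)))))

def certGRank1 : Janko.Tree (ℕ) :=
  (.node (.node (.node (.node (.node (.leaf 0) (.leaf 192)) (.leaf 0)) (.node (.node (.leaf 0) (.leaf 371)) (.leaf 24))) (.node (.node (.node (.leaf 0) (.leaf 180)) (.leaf 347)) (.node (.node (.leaf 43) (.leaf 0)) (.leaf 0)))) (.node (.node (.node (.node (.leaf 0) (.leaf 0)) (.leaf 0)) (.node (.node (.leaf 46) (.leaf 0)) (.leaf 20))) (.node (.node (.node (.leaf 0) (.leaf 205)) (.leaf 0)) (.node (.node (.leaf 39) (.leaf 206)) (.leaf 0)))))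

def certGRank2 : Janko.Tree (ℕ) :=
  (.node (.node (.node (.node (.node (.leaf 0) (.leaf 162)) (.leaf 82)) (.node (.node (.leaf 158) (.leaf 191)) (.leaf 0))) (.node (.node (.node (.leaf 177) (.leaf 232)) (.leaf 0)) (.node (.node (.leaf 0) (.leaf 64)) (.leaf 265)))) (.node (.node (.node (.node (.leaf 0) (.leaf 0)) (.leaf 0)) (.node (.node (.leaf 80) (.leaf 273)) (.leaf 235))) (.node (.node (.node (.leaf 0) (.leaf 0)) (.leaf 0)) (.node (.leaf 0) (.leaf 104)))))

def certGRank3 : Janko.Tree (ℕ) :=
  (.node (.node (.node (.node (.node (.leaf 0) (.leaf 240)) (.leaf 35)) (.node (.node (.leaf 0) (.leaf 353)) (.leaf 293))) (.node (.node (.node (.leaf 54) (.leaf 110)) (.leaf 30)) (.node (.node (.leaf 0) (.leaf 79)) (.leaf 218)))) (.node (.node (.node (.node (.leaf 0) (.leaf 363)) (.leaf 0)) (.node (.node (.leaf 0) (.leaf 278)) (.leaf 0))) (.node (.node (.node (.leaf 51) (.leaf 326)) (.leaf 242)) (.node (.leaf 0) (.leaf 14)))))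

def certGRank4 : Janko.Tree (ℕ) :=
  (.node (.node (.node (.node (.node (.leaf 0) (.leaf 231)) (.leaf 149)) (.node (.node (.leaf 251) (.leaf 258)) (.leaf 155))) (.node (.node (.node (.leaf 0) (.leaf 233)) (.leaf 0)) (.node (.node (.leaf 0) (.leaf 63)) (.leaf 0)))) (.node (.node (.node (.node (.leaf 0) (.leaf 175)) (.leaf 0)) (.node (.node (.leaf 60) (.leaf 358)) (.leaf 212))) (.node (.node (.node (.leaf 0) (.leaf 109)) (.leaf 197)) (.node (.leaf 0) (.leaf 298)))))

def certGRank5 : Janko.Tree (ℕ) :=
  (.node (.node (.node (.node (.node (.leaf 0) (.leaf 0)) (.leaf 0)) (.node (.node (.leaf 48) (.leaf 193)) (.leaf 23))) (.node (.node (.node (.leaf 0) (.leaf 92)) (.leaf 0)) (.node (.node (.leaf 0) (.leaf 90)) (.leaf 292)))) (.node (.node (.node (.node (.leaf 0) (.leaf 183)) (.leaf 211)) (.node (.node (.leaf 0) (.leaf 359)) (.leaf 0))) (.node (.node (.node (.leaf 0) (.leaf 332)) (.leaf 202)) (.node (.leaf 161) (.leaf 188)))))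

def certGRank6 : Janko.Tree (ℕ) :=
  (.node (.node (.node (.node (.node (.leaf 0) (.leaf 228)) (.leaf 103)) (.node (.node (.leaf 101) (.leaf 365)) (.leaf 0))) (.node (.node (.node (.leaf 132) (.leaf 0)) (.leaf 0)) (.node (.node (.leaf 0) (.leaf 62)) (.leaf 213)))) (.node (.node (.node (.node (.leaf 0) (.leaf 277)) (.leaf 0)) (.node (.node (.leaf 0) (.leaf 248)) (.leaf 0))) (.node (.node (.node (.leaf 71) (.leaf 234)) (.leaf 204)) (.node (.leaf 0) (.leaf 0)))))

def certGRank7 : Janko.Tree (ℕ) :=
  (.node (.node (.node (.node (.node (.leaf 89) (.leaf 12)) (.leaf 0)) (.node (.node (.leaf 0) (.leaf 0)) (.leaf 22))) (.node (.node (.node (.leaf 0) (.leaf 0)) (.leaf 29)) (.node (.node (.leaf 0) (.leaf 70)) (.leaf 0)))) (.node (.node (.node (.node (.leaf 0) (.leaf 10)) (.leaf 0)) (.node (.node (.leaf 0) (.leaf 4)) (.leaf 201))) (.node (.node (.node (.leaf 0) (.leaf 0)) (.leaf 26)) (.node (.leaf 0) (.leaf 337)))))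

def certGRank8 : Janko.Tree (ℕ) :=
  (.node (.node (.node (.node (.node (.leaf 0) (.leaf 154)) (.leaf 294)) (.node (.node (.leaf 0) (.leaf 315)) (.leaf 133))) (.node (.node (.node (.leaf 0) (.leaf 0)) (.leaf 267)) (.node (.node (.leaf 131) (.leaf 75)) (.leaf 339)))) (.node (.node (.node (.node (.leaf 0) (.leaf 181)) (.leaf 314)) (.node (.node (.leaf 250) (.leaf 341)) (.leaf 0))) (.node (.node (.node (.leaf 0) (.leaf 96)) (.leaf 254)) (.node (.leaf 185) (.leaf 229)))))

def certGRank9 : Janko.Tree (ℕ) :=
  (.node (.node (.node (.node (.node (.leaf 0) (.leaf 153)) (.leaf 0)) (.node (.node (.leaf 102) (.leaf 330)) (.leaf 146))) (.node (.node (.node (.leaf 0) (.leaf 245)) (.leaf 173)) (.node (.node (.leaf 42) (.leaf 78)) (.leaf 220)))) (.node (.node (.node (.node (.leaf 57) (.leaf 264)) (.leaf 32)) (.node (.node (.leaf 0) (.leaf 318)) (.leaf 0))) (.node (.node (.node (.leaf 0) (.leaf 99)) (.leaf 194)) (.node (.leaf 0) (.leaf 0)))))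

def certGRank10 : Janko.Tree (ℕ) :=
  (.node (.node (.node (.node (.node (.leaf 0) (.leaf 115)) (.leaf 108)) (.node (.node (.leaf 0) (.leaf 241)) (.leaf 0))) (.node (.node (.node (.leaf 0) (.leaf 301)) (.leaf 0)) (.node (.node (.leaf 0) (.leaf 77)) (.leaf 0)))) (.node (.node (.node (.node (.leaf 0) (.leaf 0)) (.leaf 0)) (.node (.node (.leaf 0) (.leaf 351)) (.leaf 0))) (.node (.node (.node (.leaf 166) (.leaf 320)) (.leaf 0)) (.node (.leaf 0) (.leaf 222)))))

def certGRank11 : Janko.Tree (ℕ) :=
  (.node (.node (.node (.node (.node (.leaf 0) (.leaf 0)) (.leaf 0)) (.node (.node (.leaf 0) (.leaf 163)) (.leaf 221))) (.node (.node (.node (.leaf 0) (.leaf 0)) (.leaf 0)) (.node (.node (.leaf 0) (.leaf 84)) (.leaf 288)))) (.node (.node (.node (.node (.leaf 0) (.leaf 0)) (.leaf 0)) (.node (.node (.leaf 0) (.leaf 302)) (.leaf 0))) (.node (.node (.node (.leaf 0) (.leaf 0)) (.leaf 196)) (.node (.leaf 0) (.leaf 94)))))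

def certGRank12 : Janko.Tree (ℕ) :=
  (.node (.node (.node (.node (.node (.leaf 0) (.leaf 343)) (.leaf 249)) (.node (.node (.leaf 170) (.leaf 373)) (.leaf 0))) (.node (.node (.node (.leaf 156) (.leaf 372)) (.leaf 0)) (.node (.node (.leaf 0) (.leaf 98)) (.leaf 198)))) (.node (.node (.node (.node (.leaf 0) (.leaf 0)) (.leaf 0)) (.node (.node (.leaf 0) (.leaf 380)) (.leaf 299))) (.node (.node (.node (.leaf 0) (.leaf 93)) (.leaf 0)) (.node (.leaf 0) (.leaf 0)))))

def certGRank13 : Janko.Tree (ℕ) :=
  (.node (.node (.node (.node (.node (.leaf 59) (.leaf 0)) (.leaf 34)) (.node (.node (.leaf 0) (.leaf 357)) (.leaf 0))) (.node (.node (.node (.leaf 0) (.leaf 367)) (.leaf 28)) (.node (.node (.leaf 0) (.leaf 121)) (.leaf 321)))) (.node (.node (.node (.node (.leaf 0) (.leaf 366)) (.leaf 276)) (.node (.node (.leaf 45) (.leaf 354)) (.leaf 176))) (.node (.node (.node (.leaf 0) (.leaf 307)) (.leaf 145)) (.node (.leaf 0) (.leaf 286)))))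

def certGRank14 : Janko.Tree (ℕ) :=
  (.node (.node (.node (.node (.node (.leaf 0) (.leaf 187)) (.leaf 0)) (.node (.node (.leaf 0) (.leaf 340)) (.leaf 95))) (.node (.node (.node (.leaf 0) (.leaf 0)) (.leaf 0)) (.node (.node (.leaf 0) (.leaf 61)) (.leaf 230)))) (.node (.node (.node (.node (.leaf 0) (.leaf 313)) (.leaf 244)) (.node (.node (.leaf 0) (.leaf 262)) (.leaf 0))) (.node (.node (.node (.leaf 125) (.leaf 123)) (.leaf 91)) (.node (.leaf 0) (.leaf 368)))))

def certGRank15 : Janko.Tree (ℕ) :=
  (.node (.node (.node (.node (.node (.leaf 0) (.leaf 189)) (.leaf 0)) (.node (.node (.leaf 0) (.leaf 6)) (.leaf 0))) (.node (.node (.node (.leaf 0) (.leaf 239)) (.leaf 0)) (.node (.node (.leaf 0) (.leaf 144)) (.leaf 243)))) (.node (.node (.node (.node (.leaf 0) (.leaf 0)) (.leaf 0)) (.node (.node (.leaf 0) (.leaf 3)) (.leaf 283))) (.node (.node (.node (.leaf 130) (.leaf 8)) (.leaf 0)) (.node (.leaf 38) (.leaf 0)))))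

def certGRank16 : Janko.Tree (ℕ) :=
  (.node (.node (.node (.node (.node (.leaf 0) (.leaf 169)) (.leaf 0)) (.node (.node (.leaf 0) (.leaf 344)) (.leaf 168))) (.node (.node (.node (.leaf 139) (.leaf 300)) (.leaf 257)) (.node (.node (.leaf 171) (.leaf 219)) (.leaf 0)))) (.node (.node (.node (.node (.leaf 0) (.leaf 214)) (.leaf 140)) (.node (.node (.leaf 83) (.leaf 325)) (.leaf 0))) (.node (.node (.node (.leaf 0) (.leaf 0)) (.leaf 0)) (.node (.leaf 0) (.leaf 107)))))

def certGRank17 : Janko.Tree (ℕ) :=
  (.node (.node (.node (.node (.node (.leaf 0) (.leaf 375)) (.leaf 0)) (.node (.node (.leaf 47) (.leaf 0)) (.leaf 137))) (.node (.node (.node (.leaf 53) (.leaf 285)) (.leaf 0)) (.node (.node (.leaf 164) (.leaf 247)) (.leaf 308)))) (.node (.node (.node (.node (.leaf 0) (.leaf 172)) (.leaf 143)) (.node (.node (.leaf 118) (.leaf 2)) (.leaf 311))) (.node (.node (.node (.leaf 50) (.leaf 327)) (.leaf 336)) (.node (.leaf 135) (.leaf 0)))))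

def certGRank18 : Janko.Tree (ℕ) :=
  (.node (.node (.node (.node (.node (.leaf 88) (.leaf 348)) (.leaf 0)) (.node (.node (.leaf 0) (.leaf 305)) (.leaf 119))) (.node (.node (.node (.leaf 0) (.leaf 259)) (.leaf 116)) (.node (.node (.leaf 246) (.leaf 69)) (.leaf 0)))) (.node (.node (.node (.node (.leaf 0) (.leaf 0)) (.leaf 0)) (.node (.node (.leaf 0) (.leaf 0)) (.leaf 0))) (.node (.node (.node (.leaf 0) (.leaf 361)) (.leaf 281)) (.node (.leaf 0) (.leaf 207)))))

def certGRank19 : Janko.Tree (ℕ) :=
  (.node (.node (.node (.node (.node (.leaf 58) (.leaf 0)) (.leaf 150)) (.node (.node (.leaf 0) (.leaf 303)) (.leaf 0))) (.node (.node (.node (.leaf 0) (.leaf 179)) (.leaf 0)) (.node (.node (.leaf 41) (.leaf 81)) (.leaf 15)))) (.node (.node (.node (.node (.leaf 56) (.leaf 122)) (.leaf 31)) (.node (.node (.leaf 0) (.leaf 385)) (.leaf 19))) (.node (.node (.node (.leaf 0) (.leaf 350)) (.leaf 271)) (.node (.leaf 129) (.leaf 13)))))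

def certGRank20 : Janko.Tree (ℕ) :=
  (.node (.node (.node (.node (.node (.leaf 0) (.leaf 0)) (.leaf 0)) (.node (.node (.leaf 0) (.leaf 134)) (.leaf 0))) (.node (.node (.node (.leaf 0) (.leaf 138)) (.leaf 0)) (.node (.node (.leaf 0) (.leaf 68)) (.leaf 0)))) (.node (.node (.node (.node (.leaf 0) (.leaf 0)) (.leaf 199)) (.node (.node (.leaf 0) (.leaf 362)) (.leaf 0))) (.node (.node (.node (.leaf 0) (.leaf 255)) (.leaf 105)) (.node (.leaf 0) (.leaf 0)))))

def certGRank21 : Janko.Tree (ℕ) :=
  (.node (.node (.node (.node (.node (.leaf 0) (.leaf 323)) (.leaf 309)) (.node (.node (.leaf 0) (.leaf 296)) (.leaf 0))) (.node (.node (.node (.leaf 0) (.leaf 87)) (.leaf 174)) (.node (.node (.leaf 0) (.leaf 74)) (.leaf 142)))) (.node (.node (.node (.node (.leaf 0) (.leaf 370)) (.leaf 346)) (.node (.node (.leaf 0) (.leaf 382)) (.leaf 195))) (.node (.node (.node (.leaf 0) (.leaf 322)) (.leaf 0)) (.node (.leaf 37) (.leaf 182)))))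

def certGRank22 : Janko.Tree (ℕ) :=
  (.node (.node (.node (.node (.node (.leaf 0) (.leaf 0)) (.leaf 0)) (.node (.node (.leaf 0) (.leaf 329)) (.leaf 333))) (.node (.node (.node (.leaf 0) (.leaf 0)) (.leaf 0)) (.node (.node (.leaf 0) (.leaf 67)) (.leaf 216)))) (.node (.node (.node (.node (.leaf 0) (.leaf 376)) (.leaf 225)) (.node (.node (.leaf 0) (.leaf 355)) (.leaf 0))) (.node (.node (.node (.leaf 0) (.leaf 282)) (.leaf 0)) (.node (.leaf 0) (.leaf 364)))))

def certGRank23 : Janko.Tree (ℕ) :=
  (.node (.node (.node (.node (.node (.leaf 0) (.leaf 279)) (.leaf 33)) (.node (.node (.leaf 0) (.leaf 331)) (.leaf 0))) (.node (.node (.node (.leaf 0) (.leaf 304)) (.leaf 27)) (.node (.node (.leaf 40) (.leaf 73)) (.leaf 0)))) (.node (.node (.node (.node (.leaf 0) (.leaf 338)) (.leaf 0)) (.node (.node (.leaf 44) (.leaf 381)) (.leaf 18))) (.node (.node (.node (.leaf 0) (.leaf 272)) (.leaf 0)) (.node (.leaf 0) (.leaf 141)))))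

def certGRank24 : Janko.Tree (ℕ) :=
  (.node (.node (.node (.node (.node (.leaf 0) (.leaf 0)) (.leaf 0)) (.node (.node (.leaf 148) (.leaf 377)) (.leaf 0))) (.node (.node (.node (.leaf 0) (.leaf 147)) (.leaf 120)) (.node (.node (.leaf 0) (.leaf 66)) (.leaf 269)))) (.node (.node (.node (.node (.leaf 0) (.leaf 345)) (.leaf 227)) (.node (.node (.leaf 0) (.leaf 378)) (.leaf 0))) (.node (.node (.node (.leaf 0) (.leaf 0)) (.leaf 0)) (.node (.leaf 0) (.leaf 0)))))

def certGRank25 : Janko.Tree (ℕ) :=
  (.node (.node (.node (.node (.node (.leaf 0) (.leaf 253)) (.leaf 224)) (.node (.node (.leaf 0) (.leaf 5)) (.leaf 335))) (.node (.node (.node (.leaf 52) (.leaf 306)) (.leaf 0)) (.node (.node (.leaf 0) (.leaf 72)) (.leaf 0)))) (.node (.node (.node (.node (.leaf 0) (.leaf 0)) (.leaf 312)) (.node (.node (.leaf 0) (.leaf 379)) (.leaf 17))) (.node (.node (.node (.leaf 0) (.leaf 310)) (.leaf 209)) (.node (.leaf 0) (.leaf 328)))))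

def certGRank26 : Janko.Tree (ℕ) :=
  (.node (.node (.node (.node (.node (.leaf 0) (.leaf 223)) (.leaf 0)) (.node (.node (.leaf 0) (.leaf 317)) (.leaf 0))) (.node (.node (.node (.leaf 190) (.leaf 0)) (.leaf 128)) (.node (.node (.leaf 0) (.leaf 136)) (.leaf 0)))) (.node (.node (.node (.node (.leaf 0) (.leaf 289)) (.leaf 114)) (.node (.node (.leaf 0) (.leaf 268)) (.leaf 0))) (.node (.node (.node (.leaf 0) (.leaf 210)) (.leaf 0)) (.node (.leaf 112) (.leaf 0)))))

def certGRank27 : Janko.Tree (ℕ) :=
  (.node (.node (.node (.node (.node (.leaf 0) (.leaf 0)) (.leaf 0)) (.node (.node (.leaf 0) (.leaf 319)) (.leaf 200))) (.node (.node (.node (.leaf 0) (.leaf 0)) (.leaf 165)) (.node (.node (.leaf 0) (.leaf 217)) (.leaf 124)))) (.node (.node (.node (.node (.leaf 55) (.leaf 287)) (.leaf 0)) (.node (.node (.leaf 0) (.leaf 352)) (.leaf 280))) (.node (.node (.node (.leaf 49) (.leaf 7)) (.leaf 25)) (.node (.leaf 36) (.leaf 0)))))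

def certGRank28 : Janko.Tree (ℕ) :=
  (.node (.node (.node (.node (.node (.leaf 76) (.leaf 226)) (.leaf 238)) (.node (.node (.leaf 65) (.leaf 0)) (.leaf 178))) (.node (.node (.node (.leaf 0) (.leaf 316)) (.leaf 0)) (.node (.node (.leaf 0) (.leaf 256)) (.leaf 0)))) (.node (.node (.node (.node (.leaf 0) (.leaf 0)) (.leaf 184)) (.node (.node (.leaf 0) (.leaf 356)) (.leaf 236))) (.node (.node (.node (.leaf 0) (.leaf 208)) (.leaf 0)) (.node (.leaf 0) (.leaf 0)))))

def certGRank29 : Janko.Tree (ℕ) :=
  (.node (.node (.node (.node (.node (.leaf 0) (.leaf 11)) (.leaf 151)) (.node (.node (.leaf 0) (.leaf 295)) (.leaf 21))) (.node (.node (.node (.leaf 0) (.leaf 9)) (.leaf 334)) (.node (.node (.leaf 0) (.leaf 167)) (.leaf 360)))) (.node (.node (.node (.node (.leaf 0) (.leaf 342)) (.leaf 0)) (.node (.node (.leaf 0) (.leaf 1)) (.leaf 16))) (.node (.node (.node (.leaf 0) (.leaf 0)) (.leaf 270)) (.node (.leaf 117) (.leaf 97)))))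

def certGRank30 : Janko.Tree (ℕ) :=
  (.node (.node (.node (.node (.node (.leaf 0) (.leaf 203)) (.leaf 0)) (.node (.node (.leaf 0) (.leaf 275)) (.leaf 0))) (.node (.node (.node (.leaf 0) (.leaf 0)) (.leaf 284)) (.node (.node (.leaf 215) (.leaf 263)) (.leaf 0)))) (.node (.node (.node (.node (.leaf 0) (.leaf 261)) (.leaf 252)) (.node (.node (.leaf 126) (.leaf 383)) (.leaf 0))) (.node (.node (.node (.leaf 0) (.leaf 274)) (.leaf 0)) (.node (.leaf 186) (.leaf 0)))))

def certGRank31 : Janko.Tree (ℕ) :=
  (.node (.node (.node (.node (.node (.leaf 0) (.leaf 0)) (.leaf 297)) (.node (.node (.leaf 100) (.leaf 374)) (.leaf 291))) (.node (.node (.node (.leaf 0) (.leaf 111)) (.leaf 0)) (.node (.node (.leaf 0) (.leaf 106)) (.leaf 369)))) (.node (.node (.node (.node (.leaf 0) (.leaf 290)) (.leaf 0)) (.node (.node (.leaf 152) (.leaf 384)) (.leaf 0))) (.node (.node (.node (.leaf 0) (.leaf 0)) (.leaf 85)) (.node (.leaf 160) (.leaf 349)))))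

def certGRank : Janko.Tree (ℕ) :=
  (.node (.node (.node (.node (.node certGRank0 certGRank16) (.node certGRank8 certGRank24)) (.node (.node certGRank4 certGRank20) (.node certGRank12 certGRank28))) (.node (.node (.node certGRank2 certGRank18) (.node certGRank10 certGRank26)) (.node (.node certGRank6 certGRank22) (.node certGRank14 certGRank30)))) (.node (.node (.node (.node certGRank1 certGRank17) (.node certGRank9 certGRank25)) (.node (.node certGRank5 certGRank21) (.node certGRank13 certGRank29))) (.node (.node (.node certGRank3 certGRank19) (.node certGRank11 certGRank27)) (.node (.node certGRank7 certGRank23) (.node certGRank15 certGRank31)))))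

def certGVia0 : Janko.Tree (ℕ × ℕ) :=
  (.node (.node (.node (.node (.node (.leaf (0, 0)) (.leaf (29, 308))) (.leaf (0, 0))) (.node (.node (.leaf (1, 81)) (.leaf (0, 0))) (.leaf (0, 0)))) (.node (.node (.node (.leaf (0, 0)) (.leaf (6, 186))) (.leaf (0, 0))) (.node (.node (.leaf (0, 0)) (.leaf (0, 0))) (.leaf (0, 0))))) (.node (.node (.node (.node (.leaf (0, 0)) (.leaf (29, 306))) (.leaf (15, 131))) (.node (.node (.leaf (0, 0)) (.leaf (0, 0))) (.leaf (0, 0)))) (.node (.node (.node (.leaf (0, 0)) (.leaf (33, 306))) (.leaf (0, 0))) (.node (.node (.leaf (22, 209)) (.leaf (32, 4))) (.leaf (11, 82))))))

def certGVia1 : Janko.Tree (ℕ × ℕ) :=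
  (.node (.node (.node (.node (.node (.leaf (0, 0)) (.leaf (23, 277))) (.leaf (0, 0))) (.node (.node (.leaf (0, 0)) (.leaf (33, 323))) (.leaf (0, 192)))) (.node (.node (.node (.leaf (0, 0)) (.leaf (14, 288))) (.leaf (33, 156))) (.node (.node (.leaf (0, 96)) (.leaf (0, 0))) (.leaf (0, 0))))) (.node (.node (.node (.node (.leaf (0, 0)) (.leaf (0, 0))) (.leaf (0, 0))) (.node (.node (.leaf (0, 80)) (.leaf (0, 0))) (.leaf (0, 208)))) (.node (.node (.node (.leaf (0, 0)) (.leaf (6, 250))) (.leaf (0, 0))) (.node (.node (.leaf (0, 112)) (.leaf (33, 179))) (.leaf (0, 0))))))

def certGVia2 : Janko.Tree (ℕ × ℕ) :=
  (.node (.node (.node (.node (.node (.leaf (0, 0)) (.leaf (18, 0))) (.leaf (14, 129))) (.node (.node (.leaf (5, 194)) (.leaf (1, 321))) (.leaf (0, 0)))) (.node (.node (.node (.leaf (13, 213)) (.leaf (18, 229))) (.leaf (0, 0))) (.node (.node (.leaf (0, 0)) (.leaf (2, 82))) (.leaf (33, 229))))) (.node (.node (.node (.node (.leaf (0, 0)) (.leaf (0, 0))) (.leaf (0, 0))) (.node (.node (.leaf (4, 0)) (.leaf (28, 303))) (.leaf (23, 307)))) (.node (.node (.node (.leaf (0, 0)) (.leaf (0, 0))) (.leaf (0, 0))) (.node (.leaf (0, 0)) (.leaf (14, 241))))))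

def certGVia3 : Janko.Tree (ℕ × ℕ) :=
  (.node (.node (.node (.node (.node (.leaf (0, 0)) (.leaf (25, 219))) (.leaf (0, 129))) (.node (.node (.leaf (0, 0)) (.leaf (33, 329))) (.leaf (31, 263)))) (.node (.node (.node (.leaf (0, 33)) (.leaf (5, 108))) (.leaf (0, 161))) (.node (.node (.leaf (0, 0)) (.leaf (3, 1))) (.leaf (9, 219))))) (.node (.node (.node (.node (.leaf (0, 0)) (.leaf (25, 278))) (.leaf (0, 0))) (.node (.node (.leaf (0, 0)) (.leaf (28, 275))) (.leaf (0, 0)))) (.node (.node (.node (.leaf (0, 49)) (.leaf (28, 344))) (.leaf (25, 325))) (.node (.leaf (0, 0)) (.leaf (0, 241))))))

def certGVia4 : Janko.Tree (ℕ × ℕ) :=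
  (.node (.node (.node (.node (.node (.leaf (0, 0)) (.leaf (32, 259))) (.leaf (13, 298))) (.node (.node (.leaf (32, 264)) (.leaf (26, 322))) (.leaf (13, 260)))) (.node (.node (.node (.leaf (0, 0)) (.leaf (22, 290))) (.leaf (0, 0))) (.node (.node (.leaf (0, 0)) (.leaf (4, 82))) (.leaf (0, 0))))) (.node (.node (.node (.node (.leaf (0, 0)) (.leaf (10, 213))) (.leaf (0, 0))) (.node (.node (.leaf (0, 0)) (.leaf (32, 305))) (.leaf (14, 210)))) (.node (.node (.node (.leaf (0, 0)) (.leaf (1, 308))) (.leaf (13, 240))) (.node (.leaf (0, 0)) (.leaf (33, 177))))))

def certGVia5 : Janko.Tree (ℕ × ℕ) :=
  (.node (.node (.node (.node (.node (.leaf (0, 0)) (.leaf (0, 0))) (.leaf (0, 0))) (.node (.node (.leaf (0, 66)) (.leaf (21, 277))) (.leaf (0, 194)))) (.node (.node (.node (.leaf (0, 0)) (.leaf (11, 109))) (.leaf (0, 0))) (.node (.node (.leaf (0, 0)) (.leaf (5, 48))) (.leaf (31, 337))))) (.node (.node (.node (.node (.leaf (0, 0)) (.leaf (23, 124))) (.leaf (21, 137))) (.node (.node (.leaf (0, 0)) (.leaf (32, 338))) (.leaf (0, 0)))) (.node (.node (.node (.leaf (0, 0)) (.leaf (33, 161))) (.leaf (20, 220))) (.node (.leaf (11, 199)) (.leaf (24, 182))))))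

def certGVia6 : Janko.Tree (ℕ × ℕ) :=
  (.node (.node (.node (.node (.node (.leaf (0, 0)) (.leaf (33, 136))) (.leaf (9, 0))) (.node (.node (.leaf (11, 67)) (.leaf (33, 278))) (.leaf (0, 0)))) (.node (.node (.node (.leaf (14, 125)) (.leaf (0, 0))) (.leaf (0, 0))) (.node (.node (.leaf (0, 0)) (.leaf (6, 82))) (.leaf (33, 192))))) (.node (.node (.node (.node (.leaf (0, 0)) (.leaf (16, 336))) (.leaf (0, 0))) (.node (.node (.leaf (0, 0)) (.leaf (17, 339))) (.leaf (0, 0)))) (.node (.node (.node (.leaf (2, 0)) (.leaf (19, 308))) (.leaf (19, 274))) (.node (.leaf (0, 0)) (.leaf (0, 0))))))

def certGVia7 : Janko.Tree (ℕ × ℕ) :=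
  (.node (.node (.node (.node (.node (.leaf (11, 129)) (.leaf (0, 259))) (.leaf (0, 0))) (.node (.node (.leaf (0, 0)) (.leaf (0, 0))) (.leaf (0, 195)))) (.node (.node (.node (.leaf (0, 0)) (.leaf (0, 0))) (.leaf (0, 163))) (.node (.node (.leaf (0, 0)) (.leaf (7, 15))) (.leaf (0, 0))))) (.node (.node (.node (.node (.leaf (0, 0)) (.leaf (0, 275))) (.leaf (0, 0))) (.node (.node (.leaf (0, 0)) (.leaf (0, 339))) (.leaf (24, 281)))) (.node (.node (.node (.leaf (0, 0)) (.leaf (0, 0))) (.leaf (0, 179))) (.node (.leaf (0, 0)) (.leaf (33, 321))))))

def certGVia8 : Janko.Tree (ℕ × ℕ) :=
  (.node (.node (.node (.node (.node (.leaf (0, 0)) (.leaf (14, 260))) (.leaf (28, 225))) (.node (.node (.leaf (0, 0)) (.leaf (33, 290))) (.leaf (11, 100)))) (.node (.node (.node (.leaf (0, 0)) (.leaf (0, 0))) (.leaf (28, 219))) (.node (.node (.leaf (21, 55)) (.leaf (8, 51))) (.leaf (33, 337))))) (.node (.node (.node (.node (.leaf (0, 0)) (.leaf (23, 215))) (.leaf (23, 218))) (.node (.node (.leaf (19, 191)) (.leaf (32, 340))) (.leaf (0, 0)))) (.node (.node (.node (.leaf (0, 0)) (.leaf (7, 0))) (.leaf (33, 222))) (.node (.leaf (1, 257)) (.leaf (22, 201))))))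

def certGVia9 : Janko.Tree (ℕ × ℕ) :=
  (.node (.node (.node (.node (.node (.leaf (0, 0)) (.leaf (31, 199))) (.leaf (0, 0))) (.node (.node (.leaf (9, 78)) (.leaf (32, 297))) (.leaf (14, 196)))) (.node (.node (.node (.leaf (0, 0)) (.leaf (11, 110))) (.leaf (15, 264))) (.node (.node (.leaf (0, 100)) (.leaf (9, 1))) (.leaf (16, 280))))) (.node (.node (.node (.node (.leaf (0, 20)) (.leaf (7, 226))) (.leaf (0, 148))) (.node (.node (.leaf (0, 0)) (.leaf (21, 302))) (.leaf (0, 0)))) (.node (.node (.node (.leaf (0, 0)) (.leaf (11, 192))) (.leaf (9, 263))) (.node (.leaf (0, 0)) (.leaf (0, 0))))))

def certGVia10 : Janko.Tree (ℕ × ℕ) :=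
  (.node (.node (.node (.node (.node (.leaf (0, 0)) (.leaf (9, 261))) (.leaf (12, 187))) (.node (.node (.leaf (0, 0)) (.leaf (14, 325))) (.leaf (0, 0)))) (.node (.node (.node (.leaf (0, 0)) (.leaf (20, 293))) (.leaf (0, 0))) (.node (.node (.leaf (0, 0)) (.leaf (10, 1))) (.leaf (0, 0))))) (.node (.node (.node (.node (.leaf (0, 0)) (.leaf (0, 0))) (.leaf (0, 0))) (.node (.node (.leaf (0, 0)) (.leaf (32, 255))) (.leaf (0, 0)))) (.node (.node (.node (.leaf (13, 183)) (.leaf (24, 295))) (.leaf (0, 0))) (.node (.leaf (0, 0)) (.leaf (18, 317))))))

def certGVia11 : Janko.Tree (ℕ × ℕ) :=
  (.node (.node (.node (.node (.node (.leaf (0, 0)) (.leaf (0, 0))) (.leaf (0, 0))) (.node (.node (.leaf (0, 0)) (.leaf (23, 257))) (.leaf (32, 230)))) (.node (.node (.node (.leaf (0, 0)) (.leaf (0, 0))) (.leaf (0, 0))) (.node (.node (.leaf (0, 0)) (.leaf (11, 81))) (.leaf (22, 197))))) (.node (.node (.node (.node (.leaf (0, 0)) (.leaf (0, 0))) (.leaf (0, 0))) (.node (.node (.leaf (0, 0)) (.leaf (33, 349))) (.leaf (0, 0)))) (.node (.node (.node (.leaf (0, 0)) (.leaf (0, 0))) (.leaf (11, 118))) (.node (.leaf (0, 0)) (.leaf (6, 198))))))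

def certGVia12 : Janko.Tree (ℕ × ℕ) :=
  (.node (.node (.node (.node (.node (.leaf (0, 0)) (.leaf (33, 318))) (.leaf (32, 277))) (.node (.node (.leaf (9, 200)) (.leaf (33, 333))) (.leaf (0, 0)))) (.node (.node (.node (.leaf (5, 91)) (.leaf (33, 289))) (.leaf (0, 0))) (.node (.node (.leaf (0, 0)) (.leaf (12, 254))) (.leaf (29, 241))))) (.node (.node (.node (.node (.leaf (0, 0)) (.leaf (0, 0))) (.leaf (0, 0))) (.node (.node (.leaf (0, 0)) (.leaf (28, 334))) (.leaf (32, 337)))) (.node (.node (.node (.leaf (0, 0)) (.leaf (4, 109))) (.leaf (0, 0))) (.node (.leaf (0, 0)) (.leaf (0, 0))))))

def certGVia13 : Janko.Tree (ℕ × ℕ) :=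
  (.node (.node (.node (.node (.node (.leaf (0, 6)) (.leaf (0, 0))) (.leaf (0, 134))) (.node (.node (.leaf (0, 0)) (.leaf (33, 350))) (.leaf (0, 0)))) (.node (.node (.node (.leaf (0, 0)) (.leaf (33, 319))) (.leaf (0, 166))) (.node (.node (.leaf (0, 0)) (.leaf (13, 52))) (.leaf (32, 266))))) (.node (.node (.node (.node (.leaf (0, 0)) (.leaf (33, 343))) (.leaf (32, 306))) (.node (.node (.leaf (0, 86)) (.leaf (33, 328))) (.leaf (20, 113)))) (.node (.node (.node (.leaf (0, 0)) (.leaf (31, 298))) (.leaf (15, 308))) (.node (.leaf (0, 0)) (.leaf (21, 176))))))

def certGVia14 : Janko.Tree (ℕ × ℕ) :=
  (.node (.node (.node (.node (.node (.leaf (0, 0)) (.leaf (20, 127))) (.leaf (0, 0))) (.node (.node (.leaf (0, 0)) (.leaf (33, 327))) (.leaf (1, 199)))) (.node (.node (.node (.leaf (0, 0)) (.leaf (0, 0))) (.leaf (0, 0))) (.node (.node (.leaf (0, 0)) (.leaf (14, 82))) (.leaf (13, 119))))) (.node (.node (.node (.node (.leaf (0, 0)) (.leaf (33, 267))) (.leaf (22, 111))) (.node (.node (.leaf (0, 0)) (.leaf (16, 343))) (.leaf (0, 0)))) (.node (.node (.node (.leaf (14, 0)) (.leaf (24, 220))) (.leaf (6, 0))) (.node (.leaf (0, 0)) (.leaf (33, 331))))))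

def certGVia15 : Janko.Tree (ℕ × ℕ) :=
  (.node (.node (.node (.node (.node (.leaf (0, 0)) (.leaf (22, 127))) (.leaf (0, 0))) (.node (.node (.leaf (0, 0)) (.leaf (0, 327))) (.leaf (0, 0)))) (.node (.node (.node (.leaf (0, 0)) (.leaf (15, 187))) (.leaf (0, 0))) (.node (.node (.leaf (0, 0)) (.leaf (15, 176))) (.leaf (31, 257))))) (.node (.node (.node (.node (.leaf (0, 0)) (.leaf (0, 0))) (.leaf (0, 0))) (.node (.node (.leaf (0, 0)) (.leaf (0, 343))) (.leaf (32, 207)))) (.node (.node (.node (.leaf (31, 81)) (.leaf (0, 311))) (.leaf (0, 0))) (.node (.leaf (0, 119)) (.leaf (0, 0))))))

def certGVia16 : Janko.Tree (ℕ × ℕ) :=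
  (.node (.node (.node (.node (.node (.leaf (0, 0)) (.leaf (24, 176))) (.leaf (0, 0))) (.node (.node (.leaf (0, 0)) (.leaf (32, 222))) (.leaf (14, 200)))) (.node (.node (.node (.leaf (14, 298)) (.leaf (29, 277))) (.leaf (28, 240))) (.node (.node (.leaf (19, 125)) (.leaf (16, 264))) (.leaf (0, 0))))) (.node (.node (.node (.node (.leaf (0, 0)) (.leaf (22, 317))) (.leaf (23, 308))) (.node (.node (.leaf (9, 82)) (.leaf (32, 344))) (.leaf (0, 0)))) (.node (.node (.node (.leaf (0, 0)) (.leaf (0, 0))) (.leaf (0, 0))) (.node (.leaf (0, 0)) (.leaf (10, 0))))))

def certGVia17 : Janko.Tree (ℕ × ℕ) :=
  (.node (.node (.node (.node (.node (.leaf (0, 0)) (.leaf (30, 309))) (.leaf (0, 0))) (.node (.node (.leaf (0, 72)) (.leaf (0, 0))) (.leaf (9, 136)))) (.node (.node (.node (.leaf (0, 40)) (.leaf (29, 343))) (.leaf (0, 0))) (.node (.node (.leaf (5, 281)) (.leaf (17, 308))) (.leaf (21, 310))))) (.node (.node (.node (.node (.leaf (0, 0)) (.leaf (23, 197))) (.leaf (11, 233))) (.node (.node (.leaf (14, 240)) (.leaf (0, 344))) (.leaf (32, 220)))) (.node (.node (.node (.leaf (0, 56)) (.leaf (33, 344))) (.leaf (32, 322))) (.node (.leaf (3, 136)) (.leaf (0, 0))))))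

def certGVia18 : Janko.Tree (ℕ × ℕ) :=
  (.node (.node (.node (.node (.node (.leaf (6, 240)) (.leaf (28, 140))) (.leaf (0, 0))) (.node (.node (.leaf (0, 0)) (.leaf (27, 291))) (.leaf (10, 187)))) (.node (.node (.node (.leaf (0, 0)) (.leaf (15, 297))) (.leaf (1, 169))) (.node (.node (.leaf (5, 325)) (.leaf (18, 8))) (.leaf (0, 0))))) (.node (.node (.node (.node (.leaf (0, 0)) (.leaf (0, 0))) (.leaf (0, 0))) (.node (.node (.leaf (0, 0)) (.leaf (0, 0))) (.leaf (0, 0)))) (.node (.node (.node (.leaf (0, 0)) (.leaf (33, 341))) (.leaf (23, 122))) (.node (.leaf (0, 0)) (.leaf (33, 83))))))

def certGVia19 : Janko.Tree (ℕ × ℕ) :=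
  (.node (.node (.node (.node (.node (.leaf (0, 9)) (.leaf (0, 0))) (.leaf (17, 0))) (.node (.node (.leaf (0, 0)) (.leaf (33, 310))) (.leaf (0, 0)))) (.node (.node (.node (.leaf (0, 0)) (.leaf (5, 288))) (.leaf (0, 0))) (.node (.node (.leaf (0, 105)) (.leaf (19, 27))) (.leaf (0, 233))))) (.node (.node (.node (.node (.leaf (0, 25)) (.leaf (4, 261))) (.leaf (0, 153))) (.node (.node (.leaf (0, 0)) (.leaf (33, 351))) (.leaf (0, 217)))) (.node (.node (.node (.leaf (0, 0)) (.leaf (31, 309))) (.leaf (28, 322))) (.node (.leaf (15, 0)) (.leaf (0, 249))))))

def certGVia20 : Janko.Tree (ℕ × ℕ) :=
  (.node (.node (.node (.node (.node (.leaf (0, 0)) (.leaf (0, 0))) (.leaf (0, 0))) (.node (.node (.leaf (0, 0)) (.leaf (5, 233))) (.leaf (0, 0)))) (.node (.node (.node (.leaf (0, 0)) (.leaf (16, 0))) (.leaf (0, 0))) (.node (.node (.leaf (0, 0)) (.leaf (20, 15))) (.leaf (0, 0))))) (.node (.node (.node (.node (.leaf (0, 0)) (.leaf (0, 0))) (.leaf (1, 241))) (.node (.node (.leaf (0, 0)) (.leaf (32, 346))) (.leaf (0, 0)))) (.node (.node (.node (.leaf (0, 0)) (.leaf (27, 298))) (.leaf (1, 240))) (.node (.leaf (0, 0)) (.leaf (0, 0))))))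

def certGVia21 : Janko.Tree (ℕ × ℕ) :=
  (.node (.node (.node (.node (.node (.leaf (0, 0)) (.leaf (24, 266))) (.leaf (22, 274))) (.node (.node (.leaf (0, 0)) (.leaf (25, 299))) (.leaf (0, 0)))) (.node (.node (.node (.leaf (0, 0)) (.leaf (9, 240))) (.leaf (31, 169))) (.node (.node (.leaf (0, 0)) (.leaf (21, 51))) (.leaf (0, 251))))) (.node (.node (.node (.node (.leaf (0, 0)) (.leaf (32, 271))) (.leaf (33, 339))) (.node (.node (.leaf (0, 0)) (.leaf (22, 280))) (.leaf (4, 263)))) (.node (.node (.node (.leaf (0, 0)) (.leaf (33, 314))) (.leaf (0, 0))) (.node (.leaf (0, 122)) (.leaf (21, 124))))))

def certGVia22 : Janko.Tree (ℕ × ℕ) :=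
  (.node (.node (.node (.node (.node (.leaf (0, 0)) (.leaf (0, 0))) (.leaf (0, 0))) (.node (.node (.leaf (0, 0)) (.leaf (33, 315))) (.leaf (32, 308)))) (.node (.node (.node (.leaf (0, 0)) (.leaf (0, 0))) (.leaf (0, 0))) (.node (.node (.leaf (0, 0)) (.leaf (22, 15))) (.leaf (12, 219))))) (.node (.node (.node (.node (.leaf (0, 0)) (.leaf (33, 317))) (.leaf (19, 245))) (.node (.node (.leaf (0, 0)) (.leaf (33, 330))) (.leaf (0, 0)))) (.node (.node (.node (.leaf (0, 0)) (.leaf (32, 311))) (.leaf (0, 0))) (.node (.leaf (0, 0)) (.leaf (33, 347))))))

def certGVia23 : Janko.Tree (ℕ × ℕ) :=
  (.node (.node (.node (.node (.node (.leaf (0, 0)) (.leaf (13, 337))) (.leaf (0, 139))) (.node (.node (.leaf (0, 0)) (.leaf (25, 307))) (.leaf (0, 0)))) (.node (.node (.node (.leaf (0, 0)) (.leaf (25, 349))) (.leaf (0, 171))) (.node (.node (.leaf (0, 107)) (.leaf (23, 51))) (.leaf (0, 0))))) (.node (.node (.node (.node (.leaf (0, 0)) (.leaf (33, 112))) (.leaf (0, 0))) (.node (.node (.leaf (0, 91)) (.leaf (33, 302))) (.leaf (0, 219)))) (.node (.node (.node (.leaf (0, 0)) (.leaf (29, 311))) (.leaf (0, 0))) (.node (.leaf (0, 0)) (.leaf (18, 137))))))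

def certGVia24 : Janko.Tree (ℕ × ℕ) :=
  (.node (.node (.node (.node (.node (.leaf (0, 0)) (.leaf (0, 0))) (.leaf (0, 0))) (.node (.node (.leaf (15, 192)) (.leaf (33, 307))) (.leaf (0, 0)))) (.node (.node (.node (.leaf (0, 0)) (.leaf (5, 196))) (.leaf (13, 0))) (.node (.node (.leaf (0, 0)) (.leaf (24, 26))) (.leaf (26, 336))))) (.node (.node (.node (.node (.leaf (0, 0)) (.leaf (32, 286))) (.leaf (33, 254))) (.node (.node (.leaf (0, 0)) (.leaf (32, 334))) (.leaf (0, 0)))) (.node (.node (.node (.leaf (0, 0)) (.leaf (0, 0))) (.leaf (0, 0))) (.node (.leaf (0, 0)) (.leaf (0, 0))))))

def certGVia25 : Janko.Tree (ℕ × ℕ) :=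
  (.node (.node (.node (.node (.node (.leaf (0, 0)) (.leaf (17, 245))) (.leaf (25, 176))) (.node (.node (.leaf (0, 0)) (.leaf (0, 332))) (.leaf (32, 336)))) (.node (.node (.node (.leaf (0, 44)) (.leaf (33, 258))) (.leaf (0, 0))) (.node (.node (.leaf (0, 0)) (.leaf (25, 16))) (.leaf (0, 0))))) (.node (.node (.node (.node (.leaf (0, 0)) (.leaf (0, 0))) (.leaf (31, 330))) (.node (.node (.leaf (0, 0)) (.leaf (33, 348))) (.leaf (0, 220)))) (.node (.node (.node (.leaf (0, 0)) (.leaf (33, 224))) (.leaf (24, 211))) (.node (.leaf (0, 0)) (.leaf (10, 349))))))

def certGVia26 : Janko.Tree (ℕ × ℕ) :=
  (.node (.node (.node (.node (.node (.leaf (0, 0)) (.leaf (24, 269))) (.leaf (0, 0))) (.node (.node (.leaf (0, 0)) (.leaf (27, 302))) (.leaf (0, 0)))) (.node (.node (.node (.leaf (10, 89)) (.leaf (0, 0))) (.leaf (13, 261))) (.node (.node (.leaf (0, 0)) (.leaf (26, 136))) (.leaf (0, 0))))) (.node (.node (.node (.node (.leaf (0, 0)) (.leaf (17, 285))) (.leaf (5, 241))) (.node (.node (.leaf (0, 0)) (.leaf (29, 336))) (.leaf (0, 0)))) (.node (.node (.node (.leaf (0, 0)) (.leaf (25, 317))) (.leaf (0, 0))) (.node (.leaf (11, 0)) (.leaf (0, 0))))))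

def certGVia27 : Janko.Tree (ℕ × ℕ) :=
  (.node (.node (.node (.node (.node (.leaf (0, 0)) (.leaf (0, 0))) (.leaf (0, 0))) (.node (.node (.leaf (0, 0)) (.leaf (25, 197))) (.leaf (6, 141)))) (.node (.node (.node (.leaf (0, 0)) (.leaf (0, 0))) (.leaf (25, 281))) (.node (.node (.leaf (0, 0)) (.leaf (27, 219))) (.leaf (6, 261))))) (.node (.node (.node (.node (.leaf (0, 29)) (.leaf (30, 321))) (.leaf (0, 0))) (.node (.node (.leaf (0, 0)) (.leaf (33, 340))) (.leaf (31, 158)))) (.node (.node (.node (.leaf (0, 61)) (.leaf (0, 317))) (.leaf (0, 189))) (.node (.leaf (0, 125)) (.leaf (0, 0))))))

def certGVia28 : Janko.Tree (ℕ × ℕ) :=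
  (.node (.node (.node (.node (.node (.leaf (3, 0)) (.leaf (6, 233))) (.leaf (26, 230))) (.node (.node (.leaf (1, 0)) (.leaf (0, 0))) (.leaf (24, 241)))) (.node (.node (.node (.leaf (0, 0)) (.leaf (33, 308))) (.leaf (0, 0))) (.node (.node (.leaf (0, 0)) (.leaf (28, 205))) (.leaf (0, 0))))) (.node (.node (.node (.node (.leaf (0, 0)) (.leaf (0, 0))) (.leaf (1, 158))) (.node (.node (.leaf (0, 0)) (.leaf (30, 350))) (.leaf (32, 274)))) (.node (.node (.node (.leaf (0, 0)) (.leaf (14, 318))) (.leaf (0, 0))) (.node (.leaf (0, 0)) (.leaf (0, 0))))))

def certGVia29 : Janko.Tree (ℕ × ℕ) :=
  (.node (.node (.node (.node (.node (.leaf (0, 0)) (.leaf (0, 270))) (.leaf (25, 95))) (.node (.node (.leaf (0, 0)) (.leaf (33, 232))) (.leaf (0, 206)))) (.node (.node (.node (.leaf (0, 0)) (.leaf (0, 302))) (.leaf (33, 263))) (.node (.node (.leaf (0, 0)) (.leaf (29, 5))) (.leaf (32, 343))))) (.node (.node (.node (.node (.leaf (0, 0)) (.leaf (30, 340))) (.leaf (0, 0))) (.node (.node (.leaf (0, 0)) (.leaf (0, 350))) (.leaf (0, 222)))) (.node (.node (.node (.leaf (0, 0)) (.leaf (0, 0))) (.leaf (33, 260))) (.node (.leaf (12, 0)) (.leaf (23, 254))))))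

def certGVia30 : Janko.Tree (ℕ × ℕ) :=
  (.node (.node (.node (.node (.node (.leaf (0, 0)) (.leaf (10, 277))) (.leaf (0, 0))) (.node (.node (.leaf (0, 0)) (.leaf (1, 335))) (.leaf (0, 0)))) (.node (.node (.node (.leaf (0, 0)) (.leaf (0, 0))) (.leaf (28, 207))) (.node (.node (.leaf (18, 318)) (.leaf (30, 343))) (.leaf (0, 0))))) (.node (.node (.node (.node (.leaf (0, 0)) (.leaf (32, 307))) (.leaf (32, 318))) (.node (.node (.leaf (10, 58)) (.leaf (32, 349))) (.leaf (0, 0)))) (.node (.node (.node (.leaf (0, 0)) (.leaf (32, 319))) (.leaf (0, 0))) (.node (.leaf (29, 240)) (.leaf (0, 0))))))

def certGVia31 : Janko.Tree (ℕ × ℕ) :=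
  (.node (.node (.node (.node (.node (.leaf (0, 0)) (.leaf (0, 0))) (.leaf (28, 258))) (.node (.node (.leaf (8, 0)) (.leaf (33, 326))) (.leaf (25, 226)))) (.node (.node (.node (.leaf (0, 0)) (.leaf (6, 248))) (.leaf (0, 0))) (.node (.node (.leaf (0, 0)) (.leaf (31, 240))) (.leaf (33, 305))))) (.node (.node (.node (.node (.leaf (0, 0)) (.leaf (18, 264))) (.leaf (0, 0))) (.node (.node (.leaf (23, 199)) (.leaf (32, 351))) (.leaf (0, 0)))) (.node (.node (.node (.leaf (0, 0)) (.leaf (0, 0))) (.leaf (5, 0))) (.node (.leaf (11, 163)) (.leaf (33, 285))))))

def certGVia : Janko.Tree (ℕ × ℕ) :=
  (.node (.node (.node (.node (.node certGVia0 certGVia16) (.node certGVia8 certGVia24)) (.node (.node certGVia4 certGVia20) (.node certGVia12 certGVia28))) (.node (.node (.node certGVia2 certGVia18) (.node certGVia10 certGVia26)) (.node (.node certGVia6 certGVia22) (.node certGVia14 certGVia30)))) (.node (.node (.node (.node certGVia1 certGVia17) (.node certGVia9 certGVia25)) (.node (.node certGVia5 certGVia21) (.node certGVia13 certGVia29))) (.node (.node (.node certGVia3 certGVia19) (.node certGVia11 certGVia27)) (.node (.node certGVia7 certGVia23) (.node certGVia15 certGVia31)))))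

/-- Relators. -/
def certGRels : List (List Bool) :=
  [
   [true, true, true],
   [false, false, false, false, false, false, false, false, false, false, false],
   [false, true, false, true, false, true, false, true, false, true, false, true],
   [false, false, true, false, true, false, false, true, false, true, false, false, true, false, true],
   [false, true, false, true, false, true, true, true, true, false, true, false, true, false, true, true, true, true],
   [false, true, false, true, false, true, true, false, true, false, true, false, true, true, false, true, false, true, false, true, true],
   [false, true, false, true, true, true, true, false, true, false, true, true, true, true, false, true, false, true, true, true, true],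
   [false, false, true, false, true, true, false, false, true, false, true, true, false, false, true, false, true, true, false, false, true, false, true, true],
   [false, false, true, true, false, true, false, false, true, true, false, true, false, false, true, true, false, true, false, false, true, true, false, true],
   [false, false, true, false, true, true, true, true, false, false, true, false, true, true, true, true, false, false, true, false, true, true, true, true],
   [false, false, true, true, true, true, false, true, false, false, true, true, true, true, false, true, false, false, true, true, true, true, false, true],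
   [false, true, false, true, false, true, true, true, false, true, false, true, false, true, true, true, false, true, false, true, false, true, true, true],
   [false, false, false, true, false, false, false, true, false, false, false, true, false, false, false, true, false, false, false, true, false, false, false, true, false, false, false, true],
   [false, false, false, false, true, false, true, false, false, false, false, true, false, true, false, false, false, false, true, false, true, false, false, false, false, true, false, true],
   [false, true, true, true, true, false, true, true, true, true, false, true, true, true, true, false, true, true, true, true, false, true, true, true, true, false, true, true, true, true],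
   [false, false, true, false, true, true, false, true, false, false, true, false, true, true, false, true, false, false, true, false, true, true, false, true, false, false, true, false, true, true, false, true],
   [false, false, true, false, false, true, false, false, true, false, false, true, false, false, true, false, false, true, false, false, true, false, false, true, false, false, true, false, false, true, false, false, true],
   [false, true, true, false, true, true, false, true, true, false, true, true, false, true, true, false, true, true, false, true, true, false, true, true, false, true, true, false, true, true, false, true, true],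
   [false, false, false, true, false, false, true, false, true, false, false, false, true, false, false, true, false, true, false, false, false, true, false, false, true, false, true, false, false, false, true, false, false, true, false, true],
   [false, false, false, true, false, true, false, false, true, false, false, false, true, false, true, false, false, true, false, false, false, true, false, true, false, false, true, false, false, false, true, false, true, false, false, true],
   [false, false, true, false, true, true, true, true, true, false, false, true, false, true, true, true, true, true, false, false, true, false, true, true, true, true, true, false, false, true, false, true, true, true, true, true],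
   [false, false, true, true, false, true, true, true, true, false, false, true, true, false, true, true, true, true, false, false, true, true, false, true, true, true, true, false, false, true, true, false, true, true, true, true],
   [false, false, true, true, true, true, false, true, true, false, false, true, true, true, true, false, true, true, false, false, true, true, true, true, false, true, true, false, false, true, true, true, true, false, true, true],
   [false, false, true, true, true, true, true, false, true, false, false, true, true, true, true, true, false, true, false, false, true, true, true, true, true, false, true, false, false, true, true, true, true, true, false, true],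
   [false, true, false, true, true, false, true, true, true, false, true, false, true, true, false, true, true, true, false, true, false, true, true, false, true, true, true, false, true, false, true, true, false, true, true, true],
   [false, true, false, true, true, true, false, true, true, false, true, false, true, true, true, false, true, true, false, true, false, true, true, true, false, true, true, false, true, false, true, true, true, false, true, true],
   [false, false, false, false, true, false, false, false, false, true, false, false, false, false, true, false, false, false, false, true, false, false, false, false, true, false, false, false, false, true, false, false, false, false, true, false, false, false, false, true],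
   [false, false, false, true, true, false, false, false, true, true, false, false, false, true, true, false, false, false, true, true, false, false, false, true, true, false, false, false, true, true, false, false, false, true, true, false, false, false, true, true],
   [false, false, false, false, false, true, false, true, false, false, false, false, false, true, false, true, false, false, false, false, false, true, false, true, false, false, false, false, false, true, false, true, false, false, false, false, false, true, false, true],
   [false, false, false, false, false, true, false, false, false, false, false, true, false, false, false, false, false, true, false, false, false, false, false, true, false, false, false, false, false, true, false, false, false, false, false, true, false, false, false, false, false, true],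
   [false, false, true, true, false, false, true, true, false, false, true, true, false, false, true, true, false, false, true, true, false, false, true, true, false, false, true, true, false, false, true, true, false, false, true, true, false, false, true, true, false, false, true, true],
   [false, true, true, true, false, true, true, true, false, true, true, true, false, true, true, true, false, true, true, true, false, true, true, true, false, true, true, true, false, true, true, true, false, true, true, true, false, true, true, true, false, true, true, true],
   [false, false, false, false, true, true, false, false, true, false, false, false, false, true, true, false, false, true, false, false, false, false, true, true, false, false, true, false, false, false, false, true, true, false, false, true, false, false, false, false, true, true, false, false, true],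
   [false, false, false, true, true, false, true, false, true, false, false, false, true, true, false, true, false, true, false, false, false, true, true, false, true, false, true, false, false, false, true, true, false, true, false, true, false, false, false, true, true, false, true, false, true]]

/-- Combinations. -/
def certGCombos : List (List ℤ × List (ℤ × (ℕ × ℕ))) :=
  [
   ([2310, 0, 0, 0, 0, 0, 0, 0, 0, 0, 0, 0, 0, 0, 0, 0, 0, 0, 0],
    [((-5368173615), (5, 10)), (6021162420, (18, 14)), (2496579540, (7, 82)), ((-16227767010), (2, 1)), (1835720250, (8, 39)), ((-18770414985), (0, 197)), ((-671714543367), (0, 3)), (1321718580, (7, 6)), (524257578285, (6, 192)), (262067307390, (12, 192)), (128752438815, (19, 0)), (151754260455, (15, 70)), (1101432150, (8, 172)), ((-36111657330), (19, 101)), ((-112728586950), (15, 35)), (25603052265, (10, 37)), (57532153560, (2, 90)), ((-220286430), (7, 87)), (380180928645, (3, 52)), ((-75806153640), (5, 78)), ((-10508605065), (17, 16)), ((-3052915110), (1, 22)), ((-2863723590), (8, 70)), ((-30695317695), (15, 11)), (39834726120, (3, 128)), ((-1762291440), (8, 17)), (9403814910, (10, 210)), (111265877100, (25, 34))]),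
   ([0, 1155, 0, 0, 0, 0, 0, 0, 0, 0, 0, 0, 0, 0, 0, 0, 0, 0, 0],
    [((-715618575), (5, 10)), (5164492970, (18, 14)), (3402201530, (7, 82)), ((-12421707025), (2, 1)), (3071771885, (8, 39)), ((-8165737125), (0, 197)), ((-272992192830), (0, 3)), (660859290, (7, 6)), (212420136495, (6, 192)), (107503954425, (12, 192)), (43522773525, (19, 0)), (57323467215, (15, 70)), (550716075, (8, 172)), ((-12697358625), (19, 101)), ((-41781823650), (15, 35)), (9782071425, (10, 37)), (21678076245, (2, 90)), ((-110143215), (7, 87)), (139406400315, (3, 52)), ((-28927728900), (5, 78)), ((-2915287200), (17, 16)), ((-1174198725), (1, 22)), ((-1431861795), (8, 70)), ((-11127754890), (15, 11)), (15510458250, (3, 128)), ((-881145720), (8, 17)), (2963640540, (10, 210)), (38069388315, (25, 34))]),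
   ([0, 0, 1155, 0, 0, 0, 0, 0, 0, 0, 0, 0, 0, 0, 0, 0, 0, 0, 0],
    [((-385), (18, 14)), ((-385), (7, 82)), ((-385), (2, 1)), (770, (8, 39)), (30569, (0, 3)), ((-13475), (6, 192)), ((-5775), (12, 192)), ((-2310), (19, 0))]),
   ([(-1155), 0, 0, 1155, 0, 0, 0, 0, 0, 0, 0, 0, 0, 0, 0, 0, 0, 0, 0],
    [(77, (0, 3))]),
   ([0, 0, 0, 0, 1155, 0, 0, 0, 0, 0, 0, 0, 0, 0, 0, 0, 0, 0, 0],
    [((-5368173615), (5, 10)), (3867250660, (18, 14)), (6804403060, (7, 82)), ((-18381678770), (2, 1)), ((-318191510), (8, 39)), ((-18770414985), (0, 197)), ((-543169083786), (0, 3)), (1321718580, (7, 6)), (463948046310, (6, 192)), (236220365115, (12, 192)), (113244273450, (19, 0)), (151754260455, (15, 70)), (1101432150, (8, 172)), ((-36111657330), (19, 101)), ((-112728586950), (15, 35)), (25603052265, (10, 37)), (57532153560, (2, 90)), ((-220286430), (7, 87)), (380180928645, (3, 52)), ((-75806153640), (5, 78)), ((-10508605065), (17, 16)), ((-3052915110), (1, 22)), ((-2863723590), (8, 70)), ((-30695317695), (15, 11)), (39834726120, (3, 128)), ((-1762291440), (8, 17)), (9403814910, (10, 210)), (111265877100, (25, 34))]),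
   ([(-1155), 0, 0, 0, 0, 1155, 0, 0, 0, 0, 0, 0, 0, 0, 0, 0, 0, 0, 0],
    [((-670329765), (5, 10)), ((-9668126650), (18, 14)), ((-20241875290), (7, 82)), ((-144666993835), (2, 1)), (52489361015, (8, 39)), ((-3679166610), (0, 197)), (290662791972, (0, 3)), (3157438830, (7, 6)), (209116189450, (6, 192)), (147179841165, (12, 192)), (61358625405, (19, 0)), (154771129905, (15, 70)), (477287265, (8, 172)), ((-25659902205), (19, 101)), ((-107760350250), (15, 35)), (15386948640, (10, 37)), (59037550215, (2, 90)), ((-9141886845), (7, 87)), (328115991525, (3, 52)), ((-52866203040), (5, 78)), ((-10272953565), (17, 16)), (5104729665, (1, 22)), ((-2533293945), (8, 70)), ((-18460124655), (15, 11)), (63315874650, (3, 128)), (4405728600, (8, 17)), (6380766630, (10, 210)), (112503315750, (25, 34))]),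
   ([0, 0, 0, 0, 0, 0, 1155, 0, 0, 0, 0, 0, 0, 0, 0, 0, 0, 0, 0],
    [(4068365490, (5, 10)), (33826205140, (18, 14)), (69659464420, (7, 82)), (88383810970, (2, 1)), ((-133224337610), (8, 39)), (4069424835, (0, 197)), (385921021122, (0, 3)), ((-1321718580), (7, 6)), ((-421910513080), (6, 192)), ((-226969906590), (12, 192)), ((-96898520565), (19, 0)), ((-141444038610), (15, 70)), (24745508970, (8, 172)), (16785377280, (19, 101)), (72135748125, (15, 35)), ((-10952893665), (10, 37)), ((-55810351170), (2, 90)), (13143756990, (7, 87)), ((-234190847100), (3, 52)), (30237314940, (5, 78)), (5832483615, (17, 16)), ((-4351148865), (1, 22)), (22248929430, (8, 70)), (8971742745, (15, 11)), ((-49139022660), (3, 128)), (1762291440, (8, 17)), ((-4781464485), (10, 210)), ((-74593695015), (25, 34))]),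
   ([(-1155), 0, 0, 0, 0, 0, 0, 1155, 0, 0, 0, 0, 0, 0, 0, 0, 0, 0, 0],
    [(770, (0, 3)), ((-385), (6, 192))]),
   ([(-1155), 0, 0, 0, 0, 0, 0, 0, 1155, 0, 0, 0, 0, 0, 0, 0, 0, 0, 0],
    [((-1172642625), (5, 10)), ((-11846514680), (18, 14)), (20462161720, (7, 82)), ((-76463867480), (2, 1)), ((-21539117600), (8, 39)), (6016106250, (0, 197)), (139451803722, (0, 3)), ((-141151444665), (6, 192)), ((-79930342800), (12, 192)), ((-46505417805), (19, 0)), ((-46615199400), (15, 70)), ((-6461735280), (8, 172)), (10872962100, (19, 101)), (37363995900, (15, 35)), ((-8225494200), (10, 37)), ((-15943504500), (2, 90)), ((-111217802850), (3, 52)), (24563488950, (5, 78)), (2647467900, (17, 16)), ((-42688800), (1, 22)), (7895435625, (15, 11)), ((-17675147490), (3, 128)), ((-2106864375), (10, 210)), ((-36201947705), (25, 34))]),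
   ([(-1155), 0, 0, 0, 0, 0, 0, 0, 0, 1155, 0, 0, 0, 0, 0, 0, 0, 0, 0],
    [((-7371560070), (5, 10)), ((-2129435490), (18, 14)), ((-64397066370), (7, 82)), (179496726045, (2, 1)), (76182390375, (8, 39)), ((-14573154330), (0, 197)), ((-529997820723), (0, 3)), (3157438830, (7, 6)), (669721309810, (6, 192)), (372922865595, (12, 192)), (227463545925, (19, 0)), (275600981355, (15, 70)), (6939022545, (8, 172)), ((-57966744465), (19, 101)), ((-203454225450), (15, 35)), (35690261670, (10, 37)), (103333056855, (2, 90)), ((-9141886845), (7, 87)), (642070050405, (3, 52)), ((-113331083670), (5, 78)), ((-22276482795), (17, 16)), (3738383145, (1, 22)), ((-2533293945), (8, 70)), ((-43235176110), (15, 11)), (98618640225, (3, 128)), (4405728600, (8, 17)), (15440698665, (10, 210)), (218959463240, (25, 34))]),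
   ([(-1155), 0, 0, 0, 0, 0, 0, 0, 0, 0, 1155, 0, 0, 0, 0, 0, 0, 0, 0],
    [((-16978447080), (5, 10)), (1933625330, (18, 14)), (45403480850, (7, 82)), ((-134656199405), (2, 1)), ((-59930147095), (8, 39)), ((-35205723945), (0, 197)), ((-1080712218558), (0, 3)), (3891726930, (7, 6)), (941477969845, (6, 192)), (464109200730, (12, 192)), (258694599240, (19, 0)), (310337826120, (15, 70)), (5397017535, (8, 172)), ((-80050198410), (19, 101)), ((-243986212575), (15, 35)), (53254799955, (10, 37)), (120415491945, (2, 90)), (1505290605, (7, 87)), (843885457905, (3, 52)), ((-162504456030), (5, 78)), ((-26795398455), (17, 16)), ((-7722348795), (1, 22)), (6645307305, (8, 70)), ((-69869936850), (15, 11)), (76291564020, (3, 128)), ((-881145720), (8, 17)), (22505581420, (10, 210)), (248237896865, (25, 34))]),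
   ([(-1155), 0, 0, 0, 0, 0, 0, 0, 0, 0, 0, 1155, 0, 0, 0, 0, 0, 0, 0],
    [((-7416848880), (5, 10)), (8395360610, (18, 14)), (171333890, (7, 82)), (100658660375, (2, 1)), ((-9851698675), (8, 39)), ((-19059724845), (0, 197)), ((-712496563443), (0, 3)), (660859290, (7, 6)), (552406191750, (6, 192)), (281553094305, (12, 192)), (152764421040, (19, 0)), (178153318665, (15, 70)), (7012451355, (8, 172)), ((-45004200885), (19, 101)), ((-137475698850), (15, 35)), (30085384455, (10, 37)), (65973582885, (2, 90)), ((-110143215), (7, 87)), (453360459195, (3, 52)), ((-89392609530), (5, 78)), ((-14918816430), (17, 16)), ((-2540545245), (1, 22)), ((-1431861795), (8, 70)), ((-35902806345), (15, 11)), (50813223825, (3, 128)), ((-881145720), (8, 17)), (12023572575, (10, 210)), (144525536190, (25, 34))]),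
   ([(-1155), 0, 0, 0, 0, 0, 0, 0, 0, 0, 0, 0, 1155, 0, 0, 0, 0, 0, 0],
    [((-21539117600), (18, 14)), ((-47386058720), (7, 82)), (65694308680, (2, 1)), (65694308680, (8, 39)), (1875865782483, (0, 3)), ((-6461735280), (7, 6)), ((-1361994106935), (6, 192)), ((-654207609825), (12, 192)), ((-366903853470), (19, 0)), ((-357599413710), (15, 70)), ((-9692602920), (8, 172)), ((-140770827120), (2, 90)), ((-3230867640), (7, 87)), ((-1003485603120), (3, 52)), ((-16154338200), (8, 70)), (83725132260, (15, 11)), ((-86306974215), (3, 128)), ((-25177746825), (10, 210)), ((-279828615990), (25, 34)), (16777911150, (5, 10)), (44324210700, (0, 197)), (91837919250, (19, 101)), (287749019250, (15, 35)), ((-62789819400), (10, 37)), (195350670900, (5, 78)), (29048099850, (17, 16)), (10278229500, (1, 22))]),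
   ([0, 0, 0, 0, 0, 0, 0, 0, 0, 0, 0, 0, 0, 1155, 0, 0, 0, 0, 0],
    [((-30083872770), (5, 10)), (63026395250, (18, 14)), (149378675810, (7, 82)), ((-82472791765), (2, 1)), ((-229403840575), (8, 39)), ((-82868235030), (0, 197)), ((-3133886790405), (0, 3)), (8003740290, (7, 6)), (2196912734415, (6, 192)), (1042334358345, (12, 192)), (589305100230, (19, 0)), (572148934980, (15, 70)), (36824548215, (8, 172)), ((-163919826315), (19, 101)), ((-487854772650), (15, 35)), (112809588570, (10, 37)), (221977082355, (2, 90)), (15897337365, (7, 87)), (1708336976745, (3, 52)), ((-346352125770), (5, 78)), ((-51110237745), (17, 16)), ((-22871604105), (1, 22)), (38660268465, (8, 70)), ((-148628973465), (15, 11)), (126838165020, (3, 128)), ((-2056006680), (8, 17)), (44709967925, (10, 210)), (477659456715, (25, 34))]),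
   ([0, 0, 0, 0, 0, 0, 0, 0, 0, 0, 0, 0, 0, 0, 1155, 0, 0, 0, 0],
    [((-6461735280), (18, 2)), ((-3230867640), (18, 14)), (3230867640, (7, 82)), ((-113080367400), (2, 1)), (19667797380, (5, 10)), (12923470560, (8, 39)), (37564248645, (0, 197)), (1152206513766, (0, 3)), ((-969483069555), (6, 192)), ((-489389676930), (12, 192)), ((-306917135910), (19, 0)), ((-351681890175), (15, 70)), ((-6461735280), (8, 172)), (89111532510, (19, 101)), (265389391575, (15, 35)), ((-59184805680), (10, 37)), ((-130917457440), (2, 90)), ((-894343239405), (3, 52)), (175629942180, (5, 78)), (29926726830, (17, 16)), (7179992820, (1, 22)), (77430352230, (15, 11)), ((-91048378575), (3, 128)), ((-24533882835), (10, 210)), ((-278731108425), (25, 34))]),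
   ([0, 0, 0, 0, 0, 0, 0, 0, 0, 0, 0, 0, 0, 0, 0, 1155, 0, 0, 0],
    [(34031807040, (18, 2)), (63777411110, (18, 14)), (264874452710, (7, 82)), ((-86030216755), (2, 1)), ((-10868245038), (5, 10)), ((-379651233745), (8, 39)), (20152382313, (0, 197)), (207906169219, (0, 3)), ((-46697053410), (7, 6)), ((-1526903008001), (6, 192)), ((-934981929147), (12, 192)), ((-451260487293), (19, 0)), ((-760447538550), (15, 70)), (20641451145, (8, 172)), (111339805059, (19, 101)), (529669460880, (15, 35)), ((-67134757977), (10, 37)), ((-313609581516), (2, 90)), (33306697515, (7, 87)), ((-1641994997832), (3, 52)), (270487578837, (5, 78)), (44205047082, (17, 16)), ((-22739428572), (1, 22)), (16097431455, (8, 70)), (108660480222, (15, 11)), ((-289958293191), (3, 128)), ((-22816779720), (8, 17)), ((-28798380744), (10, 210)), ((-523860438871), (25, 34))]),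
   ([0, 0, 0, 0, 0, 0, 0, 0, 0, 0, 0, 0, 0, 0, 0, 0, 1155, 0, 0],
    [((-451003058310), (5, 10)), ((-70106159340), (18, 14)), (1569804000660, (7, 82)), ((-2474009465130), (2, 1)), ((-1998845496270), (8, 39)), ((-953989398915), (0, 197)), ((-37593907609818), (0, 3)), (29928360420, (7, 6)), (21642615840895, (6, 192)), (9624049726410, (12, 192)), (5107695241110, (19, 0)), (5072879847840, (15, 70)), ((-203553848610), (8, 172)), ((-1508437186620), (19, 101)), ((-3912352917375), (15, 35)), (1091225062410, (10, 37)), (2018336833170, (2, 90)), (199454073210, (7, 87)), (14852822392590, (3, 52)), ((-3088681933785), (5, 78)), ((-417212124210), (17, 16)), ((-344033864265), (1, 22)), ((-40792765230), (8, 70)), ((-1423705486035), (15, 11)), (539749556640, (3, 128)), ((-208268590320), (8, 17)), (441970593155, (10, 210)), (3763741166115, (25, 34))]),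
   ([(-1155), 0, 0, 0, 0, 0, 0, 0, 0, 0, 0, 0, 0, 0, 0, 0, 0, 1155, 0],
    [((-2554721085), (5, 10)), (8811458775, (18, 14)), ((-2545532535), (7, 82)), (21930741840, (2, 1)), (979050975, (8, 39)), ((-11261858790), (0, 197)), ((-446835313967), (0, 3)), (1566481560, (7, 6)), (385803524785, (6, 192)), (199479148260, (12, 192)), (100213839495, (19, 0)), (117069013320, (15, 70)), (4895254875, (8, 172)), ((-26726111370), (19, 101)), ((-89149681425), (15, 35)), (18120582060, (10, 37)), (43823164350, (2, 90)), ((-979050975), (7, 87)), (287674367820, (3, 52)), ((-56352701685), (5, 78)), ((-8605529310), (17, 16)), ((-624545565), (1, 22)), (195810195, (8, 70)), ((-22592812935), (15, 11)), (36689036265, (3, 128)), (783240780, (8, 17)), (6767027610, (10, 210)), (90440229040, (25, 34))]),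
   ([(-1155), 0, 0, 0, 0, 0, 0, 0, 0, 0, 0, 0, 0, 0, 0, 0, 0, 0, 1155],
    [(3001598662755, (5, 10)), (714425640390, (18, 14)), (2553866369670, (7, 82)), (2204865338445, (2, 1)), ((-5046144322065), (8, 39)), (4542826306095, (0, 197)), (144712387571829, (0, 3)), (156023990430, (7, 6)), ((-121225392321495), (6, 192)), ((-59900403192630), (12, 192)), ((-38840069274930), (19, 0)), ((-44273432005110), (15, 70)), (808861213545, (8, 172)), (11122772911635, (19, 101)), (33680775668925, (15, 35)), ((-6756378818805), (10, 37)), ((-16789435436235), (2, 90)), (390059976075, (7, 87)), ((-113661965748870), (3, 52)), (21342638014005, (5, 78)), (3840839599905, (17, 16)), (769119823395, (1, 22)), (131388623520, (26, 44)), (1063426671615, (8, 70)), (8881137799380, (15, 11)), ((-8538441516990), (3, 128)), (98541467640, (8, 17)), ((-2805677946225), (10, 210)), ((-32933888981840), (25, 34))])]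

/-- The certificate. -/
def certG : CentralTable.Cert where
  deg := 100
  m0 := 11
  m1 := 3
  N := 352
  rels := certGRels
  P := 19
  g0 := 3430379504080639232812969989586109651454160751742146318879706536964372633637954063356955997281500482562989690873594656291120761708849756832075277810408392229956682069775621537412674135997863134965889728211185432
  g1 := 724114342418236144952804052487022600757019637584277357342786543943869456961313761171661569684788068896435534404568697146319212226876090035512030396625382666562487823830461867435281792157280812196608924190037897
  h0 := 1625376203700475482972013817876725641914737119441532428627939435014212509363625890645583324347799365518619830818920764806715602631952910484140166178909466244923112910884594834165514721253432231444876311288578958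
  h1 := 3684512652528006283420530066646922716747451536138222427969343452705112288840956218663673725987376314812199880976103394166909393006591566925834762112407266550872672472682810462397791642541601282541304817914104109
  next := certGNext
  lab := certGLab
  word := certGWord
  perm := certGPerm
  par := certGPar
  L := certGL
  kind := certGKind
  rank := certGRank
  via := certGVia
  pv := [164, 156, 102, 28, 162, 383, 366, 616, 159, 262, 496, 250, 253, 344, 110, 243, 596, 275, 514]
  combos := certGCombos

end Cfsg.Agent.Lie.HigmanSimsMult
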