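import Mathlib
import Cfsg.Agent.Lib.Lie.CentralTable

/-!
Data for the multiplier of the Higman–Sims group: the unitary group of dimension three over twenty-five elements.
-/

set_option autoImplicit false
set_option maxRecDepth 40000
set_option maxHeartbeats 4000000

namespace Cfsg.Agent.Lie.HigmanSimsMult

open Cfsg.Agent.Lie

def certUNext0 : Janko.Tree (ℕ) :=
  (.node (.node (.node (.node (.leaf 0) (.leaf 44)) (.node (.leaf 22) (.leaf 24))) (.node (.node (.leaf 16) (.leaf 39)) (.leaf 5))) (.node (.node (.node (.leaf 8) (.leaf 46)) (.leaf 15)) (.node (.node (.leaf 23) (.leaf 48)) (.leaf 3))))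

def certUNext1 : Janko.Tree (ℕ) :=
  (.node (.node (.node (.node (.leaf 1) (.leaf 25)) (.node (.leaf 8) (.leaf 48))) (.node (.node (.leaf 4) (.leaf 35)) (.leaf 30))) (.node (.node (.node (.leaf 9) (.leaf 32)) (.leaf 29)) (.node (.node (.leaf 24) (.leaf 47)) (.leaf 41))))

def certUNext2 : Janko.Tree (ℕ) :=
  (.node (.node (.node (.node (.leaf 2) (.leaf 45)) (.node (.leaf 30) (.leaf 26))) (.node (.node (.leaf 17) (.leaf 43)) (.leaf 37))) (.node (.node (.node (.leaf 10) (.leaf 11)) (.leaf 33)) (.node (.node (.leaf 25) (.leaf 13)) (.leaf 18))))

def certUNext3 : Janko.Tree (ℕ) :=
  (.node (.node (.node (.node (.leaf 3) (.leaf 6)) (.node (.leaf 2) (.leaf 49))) (.node (.node (.leaf 18) (.leaf 45)) (.leaf 38))) (.node (.node (.node (.leaf 11) (.leaf 14)) (.leaf 21)) (.node (.node (.leaf 26) (.leaf 37)) (.leaf 42))))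

def certUNext4 : Janko.Tree (ℕ) :=
  (.node (.node (.node (.node (.leaf 4) (.leaf 1)) (.leaf 31)) (.node (.node (.leaf 19) (.leaf 28)) (.leaf 9))) (.node (.node (.node (.leaf 12) (.leaf 47)) (.leaf 34)) (.node (.node (.leaf 27) (.leaf 7)) (.leaf 38))))

def certUNext5 : Janko.Tree (ℕ) :=
  (.node (.node (.node (.node (.leaf 5) (.leaf 40)) (.leaf 16)) (.node (.node (.leaf 20) (.leaf 27)) (.leaf 39))) (.node (.node (.node (.leaf 13) (.leaf 23)) (.leaf 17)) (.node (.node (.leaf 28) (.leaf 12)) (.leaf 43))))

def certUNext6 : Janko.Tree (ℕ) :=
  (.node (.node (.node (.node (.leaf 6) (.leaf 42)) (.leaf 32)) (.node (.node (.leaf 21) (.leaf 20)) (.leaf 40))) (.node (.node (.node (.leaf 14) (.leaf 36)) (.leaf 35)) (.node (.node (.leaf 29) (.leaf 49)) (.leaf 41))))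

def certUNext7 : Janko.Tree (ℕ) :=
  (.node (.node (.node (.node (.leaf 7) (.leaf 44)) (.leaf 19)) (.node (.node (.leaf 22) (.leaf 46)) (.leaf 10))) (.node (.node (.node (.leaf 15) (.leaf 33)) (.leaf 36)) (.node (.node (.leaf 0) (.leaf 34)) (.leaf 31))))

def certUNext : Janko.Tree (ℕ) :=
  (.node (.node (.node certUNext0 certUNext4) (.node certUNext2 certUNext6)) (.node (.node certUNext1 certUNext5) (.node certUNext3 certUNext7)))

def certULab0 : Janko.Tree (List Bool) :=
  (.node (.node (.node (.node (.leaf [false]) (.leaf [])) (.node (.leaf [false, false, false, true, true, false, true, false, false, false, false]) (.leaf [false, false, false, true, true, false, false, true, true, false]))) (.node (.node (.leaf []) (.leaf [false, false, false, false, true, true, false, false, true, true, false, false, true])) (.leaf [true, false, true, true, false, true, false, false, false, true, false, true]))) (.node (.node (.node (.leaf []) (.leaf [])) (.leaf [false, false, false, false, false, false])) (.node (.node (.leaf []) (.leaf [])) (.leaf [true, true, false, true, true, false, false, false]))))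

def certULab1 : Janko.Tree (List Bool) :=
  (.node (.node (.node (.node (.leaf []) (.leaf [false, false, false, false, true, false, false, false, true])) (.node (.leaf [false, true, false, false, true, true, false, false, false, true, false]) (.leaf [false, true, true, false, false, false, true, false]))) (.node (.node (.leaf [true, false, false, true, true, false, false, true, true, false, true, true, false]) (.leaf [false, false, true, true, false, true, false, true, false])) (.leaf [false, true, false, true, false, true, false, true, false, false]))) (.node (.node (.node (.leaf []) (.leaf [true, false, false, true, false, false, false, false, true])) (.leaf [true, false, true, true, false, false, false, false, false, true, true])) (.node (.node (.leaf []) (.leaf [true, false, false, true, false, false, false, false])) (.leaf []))))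

def certULab2 : Janko.Tree (List Bool) :=
  (.node (.node (.node (.node (.leaf []) (.leaf [])) (.node (.leaf []) (.leaf [true, false, false, true, false, true, false, false]))) (.node (.node (.leaf []) (.leaf [false, false, true, false, true, false, false, true, false, true, true, false])) (.leaf []))) (.node (.node (.node (.leaf []) (.leaf [false, true, false, false, false, true, true, false, true, false, true, true, false])) (.leaf [])) (.node (.node (.leaf []) (.leaf [false, true, false, false, false, true, false, true, false, false, true, true])) (.leaf [true, true, false, true, false, true, true, false, true, false, false]))))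

def certULab3 : Janko.Tree (List Bool) :=
  (.node (.node (.node (.node (.leaf []) (.leaf [true, false, true, true, false, true, true, false])) (.node (.leaf [false, true, true, false, true, true, false, false]) (.leaf [true, false, true, true, false, false, false, true, true]))) (.node (.node (.leaf []) (.leaf [true, false, false, false, false, false, true, false, false, false, true, false, true, true])) (.leaf []))) (.node (.node (.node (.leaf []) (.leaf [false, false, true, false, true, false, false, true, false, true, true, false, false])) (.leaf [true, false, true, true, false, true, false, true, true, false, true, false, false, false])) (.node (.node (.leaf []) (.leaf [false, false, false, true, false, true, false, true, false, false, true, false])) (.leaf []))))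

def certULab4 : Janko.Tree (List Bool) :=
  (.node (.node (.node (.node (.leaf []) (.leaf [true, false, true, true, false, false, false, false, true, false])) (.leaf [])) (.node (.node (.leaf []) (.leaf [true, true, false, false, true, true, false, false, true, false, false, false, true])) (.leaf [false, false, true, false, false, false, false, false]))) (.node (.node (.node (.leaf []) (.leaf [])) (.leaf [])) (.node (.node (.leaf []) (.leaf [true, true, false, true, true, false, false, false, true])) (.leaf [false, true, false, true, false, false, true, false, false, false, false, true]))))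

def certULab5 : Janko.Tree (List Bool) :=
  (.node (.node (.node (.node (.leaf []) (.leaf [true, true, false, false, false, true, false, false, false, false, false, true])) (.leaf [false, false, false, false, true, false, true])) (.node (.node (.leaf []) (.leaf [false, true, false, false, false, true, false, true, false, false, true, false, true])) (.leaf []))) (.node (.node (.node (.leaf []) (.leaf [true, false, false, false, true, false, true, false, true, false, false, true, false])) (.leaf [false, true, true, false, true, true, false, false])) (.node (.node (.leaf []) (.leaf [false, true, false, false, false, true, false])) (.leaf []))))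

def certULab6 : Janko.Tree (List Bool) :=
  (.node (.node (.node (.node (.leaf []) (.leaf [true, true, false, false, false, true, true, false, false, false, false, true, true])) (.leaf [])) (.node (.node (.leaf []) (.leaf [false, false, true, true, false, true, true])) (.leaf []))) (.node (.node (.node (.leaf []) (.leaf [true, false, true, false, true, false, false, true, false, true, true])) (.leaf [])) (.node (.node (.leaf []) (.leaf [])) (.leaf [false, true, false, true, false, false, false, false, true, true]))))

def certULab7 : Janko.Tree (List Bool) :=
  (.node (.node (.node (.node (.leaf []) (.leaf [false, false, false, true, false, false, false, false, true, true, false, false])) (.leaf [true, true, false, false, false, true, true])) (.node (.node (.leaf []) (.leaf [true, false, false, false, true, false, false, true, true, false, true, true, false])) (.leaf [false, true, false, true, true, false, true, true, false, false, false]))) (.node (.node (.node (.leaf []) (.leaf [true, true, false, true, true, false, true])) (.leaf [])) (.node (.node (.leaf []) (.leaf [false, false, false, true, true, false, true, false, false, false, false])) (.leaf [false, true, true,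 false, false, false, false, true, false, false, false, false, false]))))

def certULab : Janko.Tree (List Bool) :=
  (.node (.node (.node certULab0 certULab4) (.node certULab2 certULab6)) (.node (.node certULab1 certULab5) (.node certULab3 certULab7)))

def certUWord0 : Janko.Tree (List Bool) :=
  (.node (.node (.node (.node (.leaf []) (.leaf [true, false, true, false, false, false])) (.node (.leaf [true, false, false, false, false]) (.leaf [true, false, true, false, false, false, false, false]))) (.node (.node (.leaf [true, false, false, false]) (.leaf [true, true, true, false, false, false])) (.leaf [true, true, false, false, true]))) (.node (.node (.node (.leaf [true, false, false]) (.leaf [true, true, false, false, false, true])) (.leaf [true, false, true, false, true])) (.node (.node (.leaf [true, true, false, false]) (.leaf [true, false, true, false, false, false, false])) (.leaf [true, true, true, false, true]))))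

def certUWord1 : Janko.Tree (List Bool) :=
  (.node (.node (.node (.node (.leaf [true]) (.leaf [true, false, true, true, false, false])) (.node (.leaf [true, false, false, true, false]) (.leaf [true, true, false, true, false, true, false, false]))) (.node (.node (.leaf [true, false, false, true]) (.leaf [true, true, true, false, true, true])) (.leaf [true, true, false, true, false]))) (.node (.node (.node (.leaf [true, false, true]) (.leaf [true, true, false, true, false, false])) (.leaf [true, false, true, true, false])) (.node (.node (.leaf [true, true, false, true]) (.leaf [true, false, true, true, false, false, false])) (.leaf [true, true, true, true, false]))))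

def certUWord2 : Janko.Tree (List Bool) :=
  (.node (.node (.node (.node (.leaf [true, false]) (.leaf [true, false, true, true, true, false])) (.leaf [true, false, false, true, true])) (.node (.node (.leaf [true, false, true, false]) (.leaf [true, true, true, true, false, true])) (.leaf [true, true, false, true, true]))) (.node (.node (.node (.leaf [true, true, false]) (.leaf [true, true, false, true, false, true])) (.leaf [true, false, true, true, true])) (.node (.node (.leaf [true, true, true, false]) (.leaf [true, true, false, false, false, true, false])) (.leaf [true, false, false, true, false, false]))))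

def certUWord3 : Janko.Tree (List Bool) :=
  (.node (.node (.node (.node (.leaf [true, true]) (.leaf [true, true, false, false, false, false])) (.leaf [true, false, true, false, false])) (.node (.node (.leaf [true, false, true, true]) (.leaf [true, false, false, true, false, false, true])) (.leaf [true, true, true, false, false]))) (.node (.node (.node (.leaf [true, true, true]) (.leaf [true, true, false, true, true, true])) (.leaf [true, true, false, false, false])) (.node (.node (.leaf [true, true, true, true]) (.leaf [true, true, false, true, false, true, false])) (.leaf [true, false, false, true, true, false]))))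

def certUWord : Janko.Tree (List Bool) :=
  (.node (.node certUWord0 certUWord2) (.node certUWord1 certUWord3))

def certUPerm0 : Janko.Tree (ℕ) :=
  (.node (.node (.node (.node (.leaf 4100094770554042515533122004313285236735003534074830538881045787921142082201184208296423565880205964959118971074454247199955378650214568923506906026203450061729621922836307612900092799561144844784840892852764800) (.leaf 1834948857665097881728306992138604139626142612897536973707280602596912137569440035711397595646688374282951412108980065909330345621688617154477651735028506045253777389559992170478757500248477954405516342910470690)) (.node (.leaf 3549067013342023530108609089058974645087776959880095134543974356626444646379309648149135699164087455928662409071884734364926077440144451121193568372271200725731685681038343307614181651197346709001640029281882258) (.leaf 507128952518007047306340588608318994511378609999048052128613479997632490488777009125994260011224337545294611511859930519715422853439744239264103197701709307378639187504009721173512612649895397222356372451086362))) (.node (.node (.leaf 540461339741502143880545512414836067136117385840616900151763263167872217422565181600400704189820084556214033363297463058148814292080536799919738391474144049686668815546885613101169720052941755749867390283028158)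 (.leaf 344657116557058748241342787013286422085952626537964428038304661487459281626732704745678981580976609226807561924726128723431412289275162014727140480153611420984570079336604050673081366497608022358030670155272671)) (.leaf 220301752436248591796890765664430784756841502488946972902140677950198978259235797534006789091994966578775461113254946771395452365580280536111401204125965723385529591241728553072951874496216714457537370182208662))) (.node (.node (.node (.leaf 512301957883141269225906541955805991008369304527805932853483410955008243649308868383347424255202633349684058874004230259131565340768571361064188819773038061072695438531926070480922198971520109886160674097004965) (.leaf 411767118993209465027967012691600271995968379321072016004362984934824049165618360013035378027224064054861116843838670477165291598338021757509978296928157874545225578211534309580815208239999815368841982630304648)) (.leaf 2555428684146682173513181243033617756409648764269270051331574439055769904915380801642300326529472068437470609586596972349494942196363019359016730248577271622111547005867298382950478079673607204846727988401097005)) (.node (.node (.leaf 642273904161662068883301040171012017298390873697431915390404167463569847449832742921401412613510293588263729345626844867893737614147024897066929534459598725316237266035714092828635524558289974082788092579596071)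 (.leaf 758404002806819432784521982904032504597692110656089943057287701949348359249980362674805277704008623803322224355705498827006321708903253938584125177942543934299704081267504767576065587746107158382248304182776662)) (.leaf 1629707083088965141263633136866260454540745672470651216251817261633595960858541068133322659256444309323809509389135480888783577621507920686528952372383832042797980721517935041472537726832674061211988992178578446))))

def certUPerm1 : Janko.Tree (ℕ) :=
  (.node (.node (.node (.node (.leaf 3684512652528006283420530066646922716747451536138222427969343452705112288840956218663673725987376314812199880976103394166909393006591566925834762112407266550872672472682810462397791642541601282541304817914104109) (.leaf 226541240121422739351226118377648543036003600779592861139862065428150159832967186734394067771527053024321750574463207143684603470649186127521728564477090264081501548026691509837883104467121680443241461965755020)) (.node (.leaf 187388870965806195935057766894486360141198986610128744725429465369379192253054455865925529796337862788912577566453423697832374541172216654064863461701604355231387819259570793678038159522250134920984728373058446) (.leaf 3560007160032690992924587331435927619072873116841810993632735062891888557130911200835418312689917914000010306183399368957674439575058351437573556174049580061098376233767203539423779291154760079713280245075658150)))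 (.node (.node (.leaf 2520798167509066108204652311762864420588538871859019640988347523305930463396873524324532997051352885317967594979173601502035628493004963434411075830801188875249595888713090354366754483541694543156628953786209167) (.leaf 766275065393684578419428956915557870081084046362961347080227452957783363761102821363930135671693733753537085384476220898950831574312596272396049351763924962816005405494165777033213574414504682538717828066872608)) (.leaf 2652741354508877643862635408042991233796392251013876267401142728570799364446666972541422442975782564189215328823024746096087462995896360064417629918336889948688175235305961745699607052201111933724927097417440986))) (.node (.node (.node (.leaf 2652289467902510570560217068392814618633167962766334565132825752200850833055536919441162308667646150060035437298691568830843152812860552178336904001203038696963944386319108729648673998495555270664477425654049556) (.leaf 338220865543026840381179718354975040122566294240032722860925026640742589822484146916719354667135374929897414950030186963326820295710929526273226026728314837050556005324210596563330056530378956071509739784555831)) (.leaf 2531901758639199869991731332281274128347687891869737745785523344763100535938866308386151623590324448213089960069167133399080920957195251220893565477414347125933928093814644600426390813577714904731155511459164047))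 (.node (.node (.leaf 1552096057162895454329916801601987530061272209561386503640265775615483128858937675976506753184294962290208726004531763394669596235254713159786970739286930672157073104381005034925231863215498102699938891776368387) (.leaf 1295320445111002983545997769828788894977045397029681315119735472733868648415087678555793968648172629628557690543993268321165265070409759108889869592769318218945964447052491156529728496644662985494479268400047256)) (.leaf 1542446923715364852404105939071857898574450439562213239418463045192410820851110285865638697623857639184672583423660687910660116625088442900912829648413759367397235950746251338290600838609436412191516156320635907))))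

def certUPerm2 : Janko.Tree (ℕ) :=
  (.node (.node (.node (.node (.leaf 1036735333528799479270410590333692988971765447335736298846981200106034561733002318383328015221999223513324660371484143732284152978553533301313509937721249415660630679853325926291500069798418609523530690895058977) (.leaf 2570726242821477776299790297198720534722076704010225667423118644948436238433696723409779711848002079196545603765924608563702237600854968344312800854008209845534900678839870623508737384204394546636692709468082733)) (.leaf 1301036677888149037543612828144134273551271208320748729274544203946394312196935625860777353514352369346758993219967872934159628668734496913311846381868984013291829235635140484579276620422086847980399547491591178)) (.node (.node (.leaf 186362399557381633963721398812547471934432630942223873212057504474681301902539700619288071947883521641828807999534897379223563449485372974096706814537454188736556343148746282582619966266118068341970482962156838) (.leaf 1057365283864226944637140456021279575718551228985878291023048499115262576949129913686442444746396713092731585962227548256889118699419893688026814537273352842989034781635259470416593580262005253457979997137809313)) (.leaf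 66304232183996510926947737447431093991787277423107540098135566252442777248650600389075229652140304155182999631430969419734933686448692013772510752031958177131889114001946418491058834029716926461385185848385442))) (.node (.node (.node (.leaf 191171446965931014898416959984688909617935002719811321441101559291444176046599090022672955264431797593276126612449752605871078285797653192574515294740703201063978752135407327230533903979535151910127639220169624) (.leaf 2980899855051862996620310578819419484197089961108476284433225269359088272761899208998960354100700122818423326117499120479420231968133369237319703467908294981544128145217707560529917255055084609826661331247761041)) (.leaf 260526146924273554171947326289240731111920955605598018994037296051838826467365450647607465739790206255132326570678387174668710653546687439788173273480647105904354763211778850283545432312231646032947898886000513)) (.node (.node (.leaf 2637696830258831568890680185295569071995194372439631164313169315176649478799165889544203396856143553923706877611893907829000565817565892255658496528432173209782404202260302710257486252513536351773846293680607764) (.leaf 2653067523018274572546624359478473041108733154613020225554418702950514231057471519395710766427256332373336435332680055918820419342521792188829835564610667776870917383812411908601664417144574659252148496497398554))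 (.leaf 1824092976302521345425789601685017078109150322471462104105567678048509302132038856840179063958466623224474898140841311860835512386523277828859152305936146971490528095571080262722568383403355009109429515077786713))))

def certUPerm3 : Janko.Tree (ℕ) :=
  (.node (.node (.node (.node (.leaf 1714949409203551281748641096237995223721519823005583471657328821952996242302621857876906660077692357648474318018358062122616188119701005926063121254690892665229879046063542475599914854430076637013444226266121873) (.leaf 2572200671108119031158727947428851089951371457827429160388036095877040935581826351874958091585620532102665427974699639217522976284472967555609621944351108599194150925734255033006323824132756434344236493200231437)) (.leaf 1954120953109369288776031696800841580421830844495741601193983810538161713595092046877637121610866689071178957556999510425757150480818973897652370321118231340366045573389743285242710159671295961113198289511309216)) (.node (.node (.leaf 345996040554320485091739322399414975733680133844264592860533490654475520457694836583565103817147652237342693861731949680657175902782785780367013078948444523763978646983241780780505788288023446468990456658957897) (.leaf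 17039669097348335490298187553600140411253253384417607044816476929062155020355811886962304914243924579731790690874426461150431246764095190895019721560790859560762801113425518437563697015699915817509673373091555)) (.leaf 928086245439260569940274819539955032652621779720840734373099061249619626312072269893961048732046956353591365016860843715651404871522800043138865430123757678398301343502855813967267307222734000824444472247193753))) (.node (.node (.node (.leaf 276160173102705162133289749320960563333109290887148810941264906311576113760164618386359520956924846025434148003897204503430447434510855110938456354868488505434763639243962596158759138181017697147117697810339747) (.leaf 1165622507163854780058895103803284262954085630158796112426863946864497707613614058888543782486033543029060436749142333275513032538008654816980832127438239440727894807780287409559161041090540498197721807540005650)) (.leaf 1940346215543219946071017652531348543739471599022263792987378670133458762912591009630244749325384658292461867188507299695660473754869339603944513107294609474451959519516393342529016982122248389681335875620669640)) (.node (.node (.leaf 1172951673849450974002270585735778184439544370414554370421721308301968738609232210482336113008134423333722802140334579334734345331485972114611409019611190299782766272452817033006145374511053092733410096230876170)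 (.leaf 210712753703295708579006099106019403518773970699731494339417264932971622382188624110406753127992593797556326264038635652941984116494896976892308376287609942252625363342679573047315925610098501922200722498143587)) (.leaf 1441442941047345803058435269551364400276346363702594994956514312154388574150299383227463064644855335874991115989202294200399327978566940610230254256004539580524401370376936690800544880888242662495055998950100015))))

def certUPerm : Janko.Tree (ℕ) :=
  (.node (.node certUPerm0 certUPerm2) (.node certUPerm1 certUPerm3))

def certUPar0 : Janko.Tree (ℕ × Bool) :=
  (.node (.node (.node (.node (.leaf (0, false)) (.leaf (19, false))) (.node (.leaf (8, false)) (.leaf (44, false)))) (.node (.node (.leaf (4, false)) (.leaf (27, false))) (.leaf (12, true)))) (.node (.node (.node (.leaf (2, false)) (.leaf (23, true))) (.leaf (10, true))) (.node (.node (.leaf (6, false)) (.leaf (32, false))) (.leaf (14, true)))))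

def certUPar1 : Janko.Tree (ℕ × Bool) :=
  (.node (.node (.node (.node (.leaf (0, true)) (.leaf (21, false))) (.node (.leaf (9, false)) (.leaf (47, false)))) (.node (.node (.leaf (4, true)) (.leaf (28, true))) (.leaf (13, false)))) (.node (.node (.node (.leaf (2, true)) (.leaf (25, false))) (.leaf (11, false))) (.node (.node (.leaf (6, true)) (.leaf (33, false))) (.leaf (15, false)))))

def certUPar2 : Janko.Tree (ℕ × Bool) :=
  (.node (.node (.node (.node (.leaf (1, false)) (.leaf (22, false))) (.leaf (9, true))) (.node (.node (.leaf (5, false)) (.leaf (29, true))) (.leaf (13, true)))) (.node (.node (.node (.leaf (3, false)) (.leaf (25, true))) (.leaf (11, true))) (.node (.node (.leaf (7, false)) (.leaf (36, false))) (.leaf (17, false)))))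

def certUPar3 : Janko.Tree (ℕ × Bool) :=
  (.node (.node (.node (.node (.leaf (1, true)) (.leaf (23, false))) (.leaf (10, false))) (.node (.node (.leaf (5, true)) (.leaf (30, true))) (.leaf (14, false)))) (.node (.node (.node (.leaf (3, true)) (.leaf (26, true))) (.leaf (12, false))) (.node (.node (.leaf (7, true)) (.leaf (38, false))) (.leaf (18, false)))))

def certUPar : Janko.Tree (ℕ × Bool) :=
  (.node (.node certUPar0 certUPar2) (.node certUPar1 certUPar3))

def certUL0 : Janko.Tree (List ℤ) :=
  (.node (.node (.node (.node (.leaf [212, (-47), (-262), (-91), (-105), 18, 58, (-13), (-35), 1, (-40), (-4), 22]) (.leaf [])) (.node (.leaf [0, (-1), 0, 0, 0, 0, 0, 0, 0, 0, 0, 0, 0]) (.leaf [0, 0, 0, 0, (-1), 0, 0, 0, 0, 0, 0, 0, 0]))) (.node (.node (.leaf []) (.leaf [0, 0, 0, 0, 0, 0, 0, 0, 1, 0, 0, 0, 0])) (.node (.leaf [0, 0, 0, 0, 1, 0, 0, 0, 0, 0, 0, 0, 0]) (.leaf [(-737), 228, 1332, 695, 124, (-461), 10, 294, 197, (-100), 104, 38, (-158)])))) (.node (.node (.node (.leaf []) (.leaf [])) (.node (.leaf [(-18), 12, 55, 22, 5, (-18), (-10), 4, 5, (-3), 5, 0, (-5)]) (.leaf [7, 0, 0, 1, (-3), (-2), 0, 0, 0, 1, 0, 0, 0]))) (.node (.node (.leaf []) (.leaf [])) (.node (.leaf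 [0, 0, 0, 0, 0, 0, 0, 0, 0, 0, 0, 0, 1]) (.leaf [8, 0, 0, 0, 4, 4, (-4), (-4), 0, 0, 0, 0, 0])))))

def certUL1 : Janko.Tree (List ℤ) :=
  (.node (.node (.node (.node (.leaf []) (.leaf [(-6), (-4), 0, 4, 2, 2, (-1), (-1), 0, (-1), (-1), 0, 0])) (.node (.leaf [0, 0, 0, 1, 0, 0, 0, 0, 0, 0, 0, 0, 0]) (.leaf [(-16), 4, 35, 23, (-2), (-14), 4, 8, 4, (-4), 1, 1, (-4)]))) (.node (.node (.leaf [0, 0, 1, 0, 0, 0, 0, 0, 0, 0, 0, 0, 0]) (.leaf [(-110), 31, 158, 69, 34, (-31), (-4), 27, 22, (-6), 16, 3, (-16)])) (.node (.leaf [13, (-8), (-40), (-19), (-1), 15, 7, (-2), (-4), 3, (-4), (-1), 3]) (.leaf [8, 0, 0, 0, (-4), 0, 4, 0, 0, 0, 0, 0, 0])))) (.node (.node (.node (.leaf []) (.leaf [(-2), 0, (-10), (-7), 5, 6, (-1), 1, 0, 2, 1, 1, 1])) (.node (.leaf [259, (-87), (-510), (-298), (-2), 220, (-47), (-146), (-81), 51, (-27), (-17), 69]) (.leaf [8, 0, 0, 0, (-4), (-4), 4, 4, 0, 0, 0, 0, 0]))) (.node (.node (.leaf []) (.leaf [(-9), 0, 13, 7, 2, 1, 0, (-2), 0, (-1), 0, (-1), (-1)])) (.node (.leaf []) (.leaf [(-581), 167, 969, 455, 157, (-259), (-41), 168, 135, (-51), 97, 24, (-103)])))))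

def certUL2 : Janko.Tree (List ℤ) :=
  (.node (.node (.node (.node (.leaf []) (.leaf [])) (.node (.leaf []) (.leaf [10, 0, 0, 0, (-5), (-5), 0, 0, 0, (-1), (-1), 0, 0]))) (.node (.node (.leaf []) (.leaf [88, (-14), (-90), (-20), (-62), (-8), 50, 13, (-13), (-3), (-21), (-2), 4])) (.node (.leaf []) (.leaf [0, (-4), 0, 4, 0, 0, 0, 0, 0, 0, 0, 0, 0])))) (.node (.node (.node (.leaf []) (.leaf [0, 0, 0, 0, 0, 0, 1, 0, 0, 0, 0, 0, 0])) (.node (.leaf []) (.leaf [0, 0, 7, 7, 0, 0, 0, 0, 0, 0, 0, 0, 0]))) (.node (.node (.leaf []) (.leaf [0, 0, 0, 0, 0, 0, (-1), 0, 0, 0, 0, 0, 0])) (.node (.leaf [(-691), 212, 1241, 651, 110, (-434), 21, 281, 187, (-94), 96, 36, (-150)]) (.leaf [10, 0, 0, 0, (-5), (-5), 0, 0, 0, 0, 0, 0, 0])))))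

def certUL3 : Janko.Tree (List ℤ) :=
  (.node (.node (.node (.node (.leaf []) (.leaf [0, 0, 0, 0, 0, 1, 0, 0, 0, 0, 0, 0, 0])) (.node (.leaf [1, 0, 0, 0, 0, 0, 0, 0, 0, 0, 0, 0, 0]) (.leaf [(-18), 2, 17, 8, 8, 1, (-3), 2, 2, 0, 3, 1, (-1)]))) (.node (.node (.leaf []) (.leaf [0, 0, 0, 0, 0, 0, 0, (-1), 0, 0, 0, (-1), 0])) (.node (.leaf []) (.leaf [68, (-16), (-60), (-12), (-36), (-12), 12, 0, (-8), (-4), (-12), 0, 4])))) (.node (.node (.node (.leaf []) (.leaf [0, 0, 0, 0, 0, 0, 0, 0, 0, 0, 0, 1, 0])) (.node (.leaf [2, 0, 0, 0, (-1), (-1), 0, 0, 0, 0, 0, 0, 0]) (.leaf [0, (-2), 4, 4, 0, 0, 0, 0, 0, 0, 0, 0, 0]))) (.node (.node (.leaf []) (.leaf [0, 0, 0, 0, 0, 0, 0, 1, 0, 0, 0, 0, 0])) (.node (.leaf []) (.leaf [23, 0, 0, (-1), (-12), (-13), 0, 0, 0, (-1), 0, 0, 0])))))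

def certUL4 : Janko.Tree (List ℤ) :=
  (.node (.node (.node (.node (.leaf []) (.leaf [0, 1, 0, 0, 0, 0, 0, 0, 0, 0, 0, 0, 0])) (.node (.leaf []) (.leaf []))) (.node (.node (.leaf []) (.leaf [97, (-21), (-122), (-40), (-45), 2, 20, (-4), (-13), (-2), (-20), (-1), 8])) (.node (.leaf [0, 0, 0, 0, 0, 0, 0, 0, 0, 1, 0, 0, 0]) (.leaf [4, 0, 8, 0, 0, 0, 0, 0, 0, 0, 0, 0, 0])))) (.node (.node (.node (.leaf []) (.leaf [])) (.node (.leaf []) (.leaf [0, (-4), (-4), (-4), 0, 0, 0, 0, 0, 0, 0, 0, 0]))) (.node (.node (.leaf []) (.leaf [(-15), 0, 5, 0, 11, 6, (-5), 0, 1, 1, 2, 1, 0])) (.node (.leaf [0, 0, 0, 0, 0, 0, 0, 0, 0, 0, 1, 0, 0]) (.leaf [92, (-13), (-84), (-21), (-49), (-13), 25, 5, (-10), (-5), (-18), (-1), 5])))))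

def certUL5 : Janko.Tree (List ℤ) :=
  (.node (.node (.node (.node (.leaf []) (.leaf [2, 0, 0, 0, 0, 1, (-1), (-1), (-1), 0, 0, 0, 0])) (.node (.leaf [0, 0, (-1), (-1), 0, 0, 0, 0, 0, 0, 0, 0, 0]) (.leaf []))) (.node (.node (.leaf []) (.leaf [115, (-26), (-126), (-38), (-56), (-10), 20, (-4), (-13), (-4), (-21), (-1), 8])) (.node (.leaf []) (.leaf [0, 0, 0, 0, 0, 0, 7, 7, 0, 0, 0, 0, 0])))) (.node (.node (.node (.leaf []) (.leaf [8, 4, 10, 3, (-7), (-8), 2, 0, 0, (-1), 0, (-1), (-1)])) (.node (.leaf [(-1), 0, 0, 0, 0, 0, 0, 0, 0, 0, 0, 0, 0]) (.leaf [2, 0, 0, 0, 0, 0, 0, 0, 0, 0, 0, 0, 0]))) (.node (.node (.leaf []) (.leaf [14, (-4), (-26), (-16), (-1), 8, 1, (-4), (-2), 2, (-3), (-1), 2])) (.node (.leaf []) (.leaf [(-13), 21, 118, 92, (-52), (-87), 55, 59, 17, (-20), (-5), 4, (-20)])))))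

def certUL6 : Janko.Tree (List ℤ) :=
  (.node (.node (.node (.node (.leaf []) (.leaf [(-97), 21, 122, 40, 45, (-2), (-20), 4, 13, 2, 20, 1, (-9)])) (.node (.leaf []) (.leaf [2, 0, 0, 0, 0, 0, 0, 0, 0, 0, 0, 0, 0]))) (.node (.node (.leaf []) (.leaf [4, 13, 73, 73, (-60), (-73), 66, 54, 12, (-18), (-10), 3, (-17)])) (.node (.leaf []) (.leaf [0, 0, 0, 0, 5, 5, 0, 0, 0, 0, 0, 0, 0])))) (.node (.node (.node (.leaf []) (.leaf [15, 0, (-5), 0, (-11), (-6), 5, 0, (-2), (-1), (-2), (-1), 0])) (.node (.leaf []) (.leaf [(-862), 250, 1464, 708, 216, (-428), (-52), 270, 212, (-86), 138, 38, (-162)]))) (.node (.node (.leaf []) (.leaf [])) (.node (.leaf [185, (-36), (-235), (-96), (-73), 30, 31, (-21), (-33), 3, (-32), (-4), 22]) (.leaf [(-74), 26, 155, 78, 7, (-57), 13, 38, 24, (-11), 11, 3, (-20)])))))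

def certUL7 : Janko.Tree (List ℤ) :=
  (.node (.node (.node (.node (.leaf []) (.leaf [115, (-30), (-171), (-76), (-36), 29, 5, (-24), (-21), 7, (-16), (-2), 17])) (.node (.leaf [3, 0, (-3), 0, (-1), (-1), 0, 1, 0, 0, 0, 0, 0]) (.leaf [3, 0, 3, 0, 0, 0, 0, 0, 0, 0, 0, 0, 0]))) (.node (.node (.leaf []) (.leaf [(-300), 82, 466, 202, 105, (-102), (-49), 58, 64, (-19), 54, 9, (-46)])) (.node (.leaf [5, 4, 3, (-4), (-1), (-1), 1, 0, 0, 1, 1, (-1), 0]) (.leaf [0, (-4), 4, 4, 0, 0, 0, 0, 0, 0, 0, 0, 0])))) (.node (.node (.node (.leaf []) (.leaf [0, 0, 0, 0, 0, (-1), 0, 0, 0, 0, 0, 0, 0])) (.node (.leaf []) (.leaf [0, 0, 0, 0, 0, (-6), (-6), 0, 0, 0, 0, 0, 0]))) (.node (.node (.leaf []) (.leaf [2, (-1), 0, 0, 0, 0, 0, 0, 0, 0, 0, 0, 0])) (.leaf [(-187), 34, 220, 88, 79, (-22), (-31), 21, 33, (-3), 31, 5, (-21)]))))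

def certUL : Janko.Tree (List ℤ) :=
  (.node (.node (.node certUL0 certUL4) (.node certUL2 certUL6)) (.node (.node certUL1 certUL5) (.node certUL3 certUL7)))

def certUKind0 : Janko.Tree (ℕ) :=
  (.node (.node (.node (.node (.leaf 3) (.leaf 0)) (.node (.leaf 3) (.leaf 3))) (.node (.node (.leaf 0) (.leaf 2)) (.node (.leaf 2) (.leaf 3)))) (.node (.node (.node (.leaf 0) (.leaf 0)) (.node (.leaf 3) (.leaf 3))) (.node (.node (.leaf 0) (.leaf 0)) (.node (.leaf 2) (.leaf 3)))))

def certUKind1 : Janko.Tree (ℕ) :=
  (.node (.node (.node (.node (.leaf 0) (.leaf 3)) (.node (.leaf 2) (.leaf 3))) (.node (.node (.leaf 2) (.leaf 3)) (.node (.leaf 3) (.leaf 3)))) (.node (.node (.node (.leaf 0) (.leaf 3)) (.node (.leaf 3) (.leaf 3))) (.node (.node (.leaf 0) (.leaf 3)) (.node (.leaf 0) (.leaf 3)))))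

def certUKind2 : Janko.Tree (ℕ) :=
  (.node (.node (.node (.node (.leaf 0) (.leaf 0)) (.node (.leaf 0) (.leaf 3))) (.node (.node (.leaf 0) (.leaf 3)) (.node (.leaf 0) (.leaf 3)))) (.node (.node (.node (.leaf 0) (.leaf 2)) (.node (.leaf 0) (.leaf 3))) (.node (.node (.leaf 0) (.leaf 3)) (.node (.leaf 3) (.leaf 3)))))

def certUKind3 : Janko.Tree (ℕ) :=
  (.node (.node (.node (.node (.leaf 0) (.leaf 2)) (.node (.leaf 2) (.leaf 3))) (.node (.node (.leaf 0) (.leaf 3)) (.node (.leaf 0) (.leaf 3)))) (.node (.node (.node (.leaf 0) (.leaf 2)) (.node (.leaf 3) (.leaf 3))) (.node (.node (.leaf 0) (.leaf 2)) (.node (.leaf 0) (.leaf 3)))))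

def certUKind4 : Janko.Tree (ℕ) :=
  (.node (.node (.node (.node (.leaf 0) (.leaf 2)) (.node (.leaf 0) (.leaf 1))) (.node (.node (.leaf 0) (.leaf 3)) (.node (.leaf 2) (.leaf 3)))) (.node (.node (.node (.leaf 0) (.leaf 0)) (.node (.leaf 0) (.leaf 3))) (.node (.node (.leaf 0) (.leaf 3)) (.node (.leaf 2) (.leaf 3)))))

def certUKind5 : Janko.Tree (ℕ) :=
  (.node (.node (.node (.node (.leaf 0) (.leaf 3)) (.node (.leaf 3) (.leaf 1))) (.node (.node (.leaf 0) (.leaf 3)) (.node (.leaf 0) (.leaf 3)))) (.node (.node (.node (.leaf 0) (.leaf 3)) (.node (.leaf 3) (.leaf 3))) (.node (.node (.leaf 0) (.leaf 3)) (.node (.leaf 0) (.leaf 3)))))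

def certUKind6 : Janko.Tree (ℕ) :=
  (.node (.node (.node (.node (.leaf 0) (.leaf 3)) (.node (.leaf 0) (.leaf 3))) (.node (.node (.leaf 0) (.leaf 3)) (.node (.leaf 0) (.leaf 3)))) (.node (.node (.node (.leaf 0) (.leaf 3)) (.node (.leaf 0) (.leaf 3))) (.node (.node (.leaf 0) (.leaf 0)) (.node (.leaf 3) (.leaf 3)))))

def certUKind7 : Janko.Tree (ℕ) :=
  (.node (.node (.node (.node (.leaf 0) (.leaf 3)) (.node (.leaf 3) (.leaf 3))) (.node (.node (.leaf 0) (.leaf 3)) (.node (.leaf 3) (.leaf 3)))) (.node (.node (.node (.leaf 0) (.leaf 3)) (.node (.leaf 0) (.leaf 3))) (.node (.node (.leaf 3) (.leaf 3)) (.leaf 3))))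

def certUKind : Janko.Tree (ℕ) :=
  (.node (.node (.node certUKind0 certUKind4) (.node certUKind2 certUKind6)) (.node (.node certUKind1 certUKind5) (.node certUKind3 certUKind7)))

def certURank0 : Janko.Tree (ℕ) :=
  (.node (.node (.node (.node (.leaf 67) (.leaf 0)) (.node (.leaf 7) (.leaf 20))) (.node (.node (.leaf 0) (.leaf 33)) (.node (.leaf 19) (.leaf 75)))) (.node (.node (.node (.leaf 0) (.leaf 0)) (.node (.leaf 61) (.leaf 37))) (.node (.node (.leaf 0) (.leaf 0)) (.node (.leaf 46) (.leaf 35)))))

def certURank1 : Janko.Tree (ℕ) :=
  (.node (.node (.node (.node (.leaf 0) (.leaf 41)) (.node (.leaf 11) (.leaf 59))) (.node (.node (.leaf 8) (.leaf 63)) (.node (.leaf 58) (.leaf 26)))) (.node (.node (.node (.leaf 0) (.leaf 48)) (.node (.leaf 72) (.leaf 32))) (.node (.node (.leaf 0) (.leaf 47)) (.node (.leaf 0) (.leaf 74)))))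

def certURank2 : Janko.Tree (ℕ) :=
  (.node (.node (.node (.node (.leaf 0) (.leaf 0)) (.node (.leaf 0) (.leaf 39))) (.node (.node (.leaf 0) (.leaf 69)) (.node (.leaf 0) (.leaf 13)))) (.node (.node (.node (.leaf 0) (.leaf 25)) (.node (.leaf 0) (.leaf 15))) (.node (.node (.leaf 0) (.leaf 27)) (.node (.leaf 73) (.leaf 28)))))

def certURank3 : Janko.Tree (ℕ) :=
  (.node (.node (.node (.node (.leaf 0) (.leaf 21)) (.node (.leaf 2) (.leaf 51))) (.node (.node (.leaf 0) (.leaf 45)) (.node (.leaf 0) (.leaf 50)))) (.node (.node (.node (.leaf 0) (.leaf 42)) (.node (.leaf 23) (.leaf 14))) (.node (.node (.leaf 0) (.leaf 30)) (.node (.leaf 0) (.leaf 40)))))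

def certURank4 : Janko.Tree (ℕ) :=
  (.node (.node (.node (.node (.leaf 0) (.leaf 5)) (.node (.leaf 0) (.leaf 0))) (.node (.node (.leaf 0) (.leaf 56)) (.node (.leaf 36) (.leaf 9)))) (.node (.node (.node (.leaf 0) (.leaf 0)) (.node (.leaf 0) (.leaf 18))) (.node (.node (.leaf 0) (.leaf 53)) (.node (.leaf 38) (.leaf 60)))))

def certURank5 : Janko.Tree (ℕ) :=
  (.node (.node (.node (.node (.leaf 0) (.leaf 34)) (.node (.leaf 16) (.leaf 0))) (.node (.node (.leaf 0) (.leaf 54)) (.node (.leaf 0) (.leaf 31)))) (.node (.node (.node (.leaf 0) (.leaf 57)) (.node (.leaf 4) (.leaf 17))) (.node (.node (.leaf 0) (.leaf 52)) (.node (.leaf 0) (.leaf 70)))))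

def certURank6 : Janko.Tree (ℕ) :=
  (.node (.node (.node (.node (.leaf 0) (.leaf 55)) (.node (.leaf 0) (.leaf 3))) (.node (.node (.leaf 0) (.leaf 71)) (.node (.leaf 0) (.leaf 22)))) (.node (.node (.node (.leaf 0) (.leaf 49)) (.node (.leaf 0) (.leaf 76))) (.node (.node (.leaf 0) (.leaf 0)) (.node (.leaf 65) (.leaf 64)))))

def certURank7 : Janko.Tree (ℕ) :=
  (.node (.node (.node (.node (.leaf 0) (.leaf 62)) (.node (.leaf 44) (.leaf 10))) (.node (.node (.leaf 0) (.leaf 68)) (.node (.leaf 43) (.leaf 12)))) (.node (.node (.node (.leaf 0) (.leaf 24)) (.node (.leaf 0) (.leaf 29))) (.node (.node (.leaf 1) (.leaf 6)) (.leaf 66))))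

def certURank : Janko.Tree (ℕ) :=
  (.node (.node (.node certURank0 certURank4) (.node certURank2 certURank6)) (.node (.node certURank1 certURank5) (.node certURank3 certURank7)))

def certUVia0 : Janko.Tree (ℕ × ℕ) :=
  (.node (.node (.node (.node (.leaf (26, 40)) (.leaf (0, 0))) (.node (.leaf (1, 34)) (.leaf (1, 48)))) (.node (.node (.leaf (0, 0)) (.leaf (8, 0))) (.node (.leaf (4, 0)) (.leaf (12, 48))))) (.node (.node (.node (.leaf (0, 0)) (.leaf (0, 0))) (.node (.leaf (24, 40)) (.leaf (4, 26)))) (.node (.node (.leaf (0, 0)) (.leaf (0, 0))) (.node (.leaf (12, 0)) (.leaf (20, 22))))))

def certUVia1 : Janko.Tree (ℕ × ℕ) :=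
  (.node (.node (.node (.node (.leaf (0, 0)) (.leaf (14, 21))) (.node (.leaf (3, 0)) (.leaf (17, 48)))) (.node (.node (.leaf (2, 0)) (.leaf (22, 47))) (.node (.leaf (19, 49)) (.leaf (13, 13))))) (.node (.node (.node (.leaf (0, 0)) (.leaf (3, 47))) (.node (.leaf (26, 46)) (.leaf (5, 37)))) (.node (.node (.leaf (0, 0)) (.leaf (6, 34))) (.node (.leaf (0, 0)) (.leaf (21, 49))))))

def certUVia2 : Janko.Tree (ℕ × ℕ) :=
  (.node (.node (.node (.node (.leaf (0, 0)) (.leaf (0, 0))) (.node (.leaf (0, 0)) (.leaf (22, 22)))) (.node (.node (.leaf (0, 0)) (.leaf (26, 49))) (.node (.leaf (0, 0)) (.leaf (14, 2))))) (.node (.node (.node (.leaf (0, 0)) (.leaf (6, 0))) (.node (.leaf (0, 0)) (.leaf (6, 4)))) (.node (.node (.leaf (0, 0)) (.leaf (1, 45))) (.node (.leaf (26, 45)) (.leaf (22, 21))))))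

def certUVia3 : Janko.Tree (ℕ × ℕ) :=
  (.node (.node (.node (.node (.leaf (0, 0)) (.leaf (5, 0))) (.node (.leaf (0, 0)) (.leaf (7, 38)))) (.node (.node (.leaf (0, 0)) (.leaf (0, 45))) (.node (.leaf (0, 0)) (.leaf (15, 38))))) (.node (.node (.node (.leaf (0, 0)) (.leaf (11, 0))) (.node (.leaf (2, 24)) (.leaf (7, 4)))) (.node (.node (.leaf (0, 0)) (.leaf (7, 0))) (.node (.leaf (0, 0)) (.leaf (23, 33))))))

def certUVia4 : Janko.Tree (ℕ × ℕ) :=
  (.node (.node (.node (.node (.leaf (0, 0)) (.leaf (1, 0))) (.node (.leaf (0, 0)) (.leaf (0, 0)))) (.node (.node (.leaf (0, 0)) (.leaf (22, 39))) (.node (.leaf (9, 0)) (.leaf (16, 2))))) (.node (.node (.node (.leaf (0, 0)) (.leaf (0, 0))) (.node (.leaf (0, 0)) (.leaf (8, 16)))) (.node (.node (.leaf (0, 0)) (.leaf (1, 46))) (.node (.leaf (10, 0)) (.leaf (24, 42))))))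

def certUVia5 : Janko.Tree (ℕ × ℕ) :=
  (.node (.node (.node (.node (.leaf (0, 0)) (.leaf (2, 40))) (.node (.leaf (0, 18)) (.leaf (0, 0)))) (.node (.node (.leaf (0, 0)) (.leaf (15, 49))) (.node (.leaf (0, 0)) (.leaf (17, 37))))) (.node (.node (.node (.leaf (0, 0)) (.leaf (22, 38))) (.node (.leaf (0, 22)) (.leaf (9, 9)))) (.node (.node (.leaf (0, 0)) (.leaf (3, 39))) (.node (.leaf (0, 0)) (.leaf (25, 46))))))

def certUVia6 : Janko.Tree (ℕ × ℕ) :=
  (.node (.node (.node (.node (.leaf (0, 0)) (.leaf (23, 28))) (.node (.leaf (0, 0)) (.leaf (2, 9)))) (.node (.node (.leaf (0, 0)) (.leaf (25, 43))) (.node (.leaf (0, 0)) (.leaf (18, 11))))) (.node (.node (.node (.leaf (0, 0)) (.leaf (13, 34))) (.node (.leaf (0, 0)) (.leaf (10, 29)))) (.node (.node (.leaf (0, 0)) (.leaf (0, 0))) (.node (.leaf (24, 34)) (.leaf (26, 48))))))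

def certUVia7 : Janko.Tree (ℕ × ℕ) :=
  (.node (.node (.node (.node (.leaf (0, 0)) (.leaf (15, 48))) (.node (.leaf (2, 25)) (.leaf (3, 2)))) (.node (.node (.leaf (0, 0)) (.leaf (26, 36))) (.node (.leaf (3, 34)) (.leaf (19, 4))))) (.node (.node (.node (.leaf (0, 0)) (.leaf (0, 39))) (.node (.leaf (0, 0)) (.leaf (11, 33)))) (.node (.node (.leaf (0, 15)) (.leaf (2, 38))) (.leaf (18, 49)))))

def certUVia : Janko.Tree (ℕ × ℕ) :=
  (.node (.node (.node certUVia0 certUVia4) (.node certUVia2 certUVia6)) (.node (.node certUVia1 certUVia5) (.node certUVia3 certUVia7)))

/-- Relators. -/
def certURels : List (List Bool) :=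
  [
   [true, true, true, true, true],
   [false, false, false, false, false, false, false],
   [false, true, false, true, false, true, false, true],
   [false, false, true, true, false, true, false, false, true, true, false, true, false, false, true, true, false, true],
   [false, true, true, true, false, true, true, true, false, true, true, true, false, true, true, true, false, true, true, true],
   [false, false, true, false, false, true, false, false, true, false, false, true, false, false, true, false, false, true, false, false, true, false, false, true],
   [false, false, true, true, false, false, true, true, false, false, true, true, false, false, true, true, false, false, true, true, false, false, true, true, false, false, true, true],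
   [false, false, true, false, false, true, true, false, false, true, false, false, true, true, false, false, true, false, false, true, true, false, false, true, false, false, true, true],
   [false, true, true, false, true, true, true, false, true, true, false, true, true, true, false, true, true, false, true, true, true, false, true, true, false, true, true, true],
   [false, true, true, true, true, true, true, false, true, true, true, true, true, true, false, true, true, true, true, true, true, false, true, true, true, true, true, true],
   [false, true, true, false, true, true, false, true, true, false, true, true, false, true, true, false, true, true, false, true, true, false, true, true, false, true, true, false, true, true],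
   [false, false, true, true, true, false, false, true, true, true, false, false, true, true, true, false, false, true, true, true, false, false, true, true, true, false, false, true, true, true],
   [false, false, false, true, false, false, false, true, false, false, false, true, false, false, false, true, false, false, false, true, false, false, false, true, false, false, false, true, false, false, false, true],
   [false, false, false, false, true, false, true, true, false, false, false, false, true, false, true, true, false, false, false, false, true, false, true, true, false, false, false, false, true, false, true, true],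
   [false, false, false, true, false, false, true, true, false, false, false, true, false, false, true, true, false, false, false, true, false, false, true, true, false, false, false, true, false, false, true, true],
   [false, false, false, true, false, true, true, true, false, false, false, true, false, true, true, true, false, false, false, true, false, true, true, true, false, false, false, true, false, true, true, true],
   [false, false, true, false, true, true, false, true, false, false, true, false, true, true, false, true, false, false, true, false, true, true, false, true, false, false, true, false, true, true, false, true],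
   [false, false, false, false, true, false, false, false, false, true, false, false, false, false, true, false, false, false, false, true, false, false, false, false, true, false, false, false, false, true, false, false, false, false, true],
   [false, false, true, false, true, false, true, false, false, true, false, true, false, true, false, false, true, false, true, false, true, false, false, true, false, true, false, true, false, false, true, false, true, false, true],
   [false, false, false, true, true, false, false, false, true, true, false, false, false, true, true, false, false, false, true, true, false, false, false, true, true, false, false, false, true, true, false, false, false, true, true, false, false, false, true, true],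
   [false, true, false, true, true, false, true, false, true, true, false, true, false, true, true, false, true, false, true, true, false, true, false, true, true, false, true, false, true, true, false, true, false, true, true, false, true, false, true, true],
   [false, true, true, true, true, false, true, true, true, true, false, true, true, true, true, false, true, true, true, true, false, true, true, true, true, false, true, true, true, true, false, true, true, true, true, false, true, true, true, true],
   [false, false, false, false, false, false, false, true, false, false, false, false, false, false, false, true, false, false, false, false, false, false, false, true, false, false, false, false, false, false, false, true, false, false, false, false, false, false, false, true],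
   [false, false, false, false, false, false, true, true, false, false, false, false, false, false, true, true, false, false, false, false, false, false, true, true, false, false, false, false, false, false, true, true, false, false, false, false, false, false, true, true],
   [false, false, true, false, false, true, false, true, false, false, true, false, false, true, false, true, false, false, true, false, false, true, false, true, false, false, true, false, false, true, false, true, false, false, true, false, false, true, false, true],
   [false, false, true, true, true, true, false, true, false, false, true, true, true, true, false, true, false, false, true, true, true, true, false, true, false, false, true, true, true, true, false, true, false, false, true, true, true, true, false, true],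
   [false, true, false, true, true, false, true, true, false, true, false, true, true, false, true, true, false, true, false, true, true, false, true, true, false, true, false, true, true, false, true, true, false, true, false, true, true, false, true, true]]

/-- Combinations. -/
def certUCombos : List (List ℤ × List (ℤ × (ℕ × ℕ))) :=
  [
   ([1155, 0, 0, 0, 0, 0, 0, 0, 0, 0, 0, 0, 0],
    [((-4061640), (2, 7)), ((-74304120), (2, 8)), ((-98196120), (2, 4)), (394970950, (3, 4)), (10273560, (7, 28)), (8403747, (0, 21)), (41758255, (11, 11)), ((-7160043), (18, 10)), (152507355, (2, 32)), (65893740, (7, 5)), ((-7406520), (7, 21)), (108966165, (7, 11)), ((-114022920), (17, 7)), (36394050, (3, 14)), (126202725, (5, 2)), (77626725, (7, 13)), ((-183279525), (3, 30)), ((-25426500), (11, 5))]),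
   ([0, 1155, 0, 0, 0, 0, 0, 0, 0, 0, 0, 0, 0],
    [(12958548240, (2, 7)), ((-7747050630), (2, 8)), (17324465070, (2, 4)), (83414038950, (3, 4)), ((-14507882070), (7, 28)), (213455414403, (0, 21)), ((-68488234155), (11, 11)), (43033708707, (18, 10)), ((-50765443080), (2, 32)), (26955617040, (7, 5)), ((-53101666530), (7, 21)), ((-44880), (16, 3)), (61211692905, (7, 11)), (39944603325, (17, 7)), ((-24927261975), (3, 14)), ((-53147264775), (5, 2)), (5600710170, (7, 13)), (8296657875, (3, 30)), (23633356230, (11, 5))]),
   ([0, 0, 1155, 0, 0, 0, 0, 0, 0, 0, 0, 0, 0],
    [((-2030820), (2, 7)), ((-37152060), (2, 8)), (56265660, (2, 4)), (82459025, (3, 4)), (5136780, (7, 28)), (101363361, (0, 21)), ((-55074635), (11, 11)), (26132931, (18, 10)), ((-77756910), (2, 32)), (31352970, (7, 5)), ((-3703260), (7, 21)), (61057920, (7, 11)), (50709615, (17, 7)), ((-14876400), (3, 14)), ((-38841825), (5, 2)), ((-36564825), (7, 13)), (41517300, (3, 30)), (27532725, (11, 5))]),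
   ([0, 0, 0, 1155, 0, 0, 0, 0, 0, 0, 0, 0, 0],
    [((-2030820), (2, 7)), (68211660, (2, 8)), ((-49098060), (2, 4)), (172027350, (3, 4)), (5136780, (7, 28)), ((-92959614), (0, 21)), (96832890, (11, 11)), ((-33292974), (18, 10)), (230264265, (2, 32)), (34540770, (7, 5)), ((-3703260), (7, 21)), (47908245, (7, 11)), ((-164732535), (17, 7)), (51270450, (3, 14)), (165044550, (5, 2)), (114191550, (7, 13)), ((-224796825), (3, 30)), ((-52959225), (11, 5))]),
   ([0, 0, 0, 0, 1155, 0, 0, 0, 0, 0, 0, 0, 0],
    [((-2244000), (2, 7)), (4628250, (2, 8)), ((-4852650), (2, 4)), ((-14928540), (3, 4)), (420750, (7, 28)), ((-20782674), (0, 21)), (3893010, (11, 11)), ((-3325377), (18, 10)), ((-2815890), (2, 32)), ((-7172055), (7, 5)), (4235550, (7, 21)), ((-14767335), (7, 11)), ((-117975), (17, 7)), ((-3199350), (3, 14)), ((-546975), (5, 2)), (1812525, (7, 13)), (5151795, (3, 30)), ((-1399035), (11, 5))]),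
   ([0, 0, 0, 0, 0, 1155, 0, 0, 0, 0, 0, 0, 0],
    [((-157117454340), (2, 7)), (657627125430, (2, 8)), (20965933890, (2, 4)), ((-2747870620440), (3, 4)), ((-8915917890), (7, 28)), ((-1640926942743), (0, 21)), (132561209220, (11, 11)), ((-228270075429), (18, 10)), ((-833009179200), (2, 32)), ((-820436768745), (7, 5)), (357370010910, (7, 21)), (112200, (16, 3)), ((-1581515813295), (7, 11)), (450909776295, (17, 7)), ((-394226191590), (3, 14)), ((-551454345255), (5, 2)), ((-173024188755), (7, 13)), (1137805330035, (3, 30)), ((-5601181245), (11, 5))]),
   ([0, 0, 0, 0, 0, 0, 1155, 0, 0, 0, 0, 0, 0],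
    [((-2045361450), (2, 7)), ((-14071841355), (2, 8)), (55960347135, (2, 4)), (81654837165, (3, 4)), (1636286025, (7, 28)), (118450693845, (0, 21)), ((-58366573870), (11, 11)), (29526923448, (18, 10)), ((-74181529290), (2, 32)), (29013347385, (7, 5)), ((-12926417295), (7, 21)), (9900, (16, 3)), (56034274065, (7, 11)), (45746097375, (17, 7)), ((-22903379730), (3, 14)), ((-39592109700), (5, 2)), ((-19723878900), (7, 13)), (30866570955, (3, 30)), (26435195820, (11, 5))]),
   ([0, 0, 0, 0, 0, 0, 0, 1155, 0, 0, 0, 0, 0],
    [((-2030820), (2, 7)), ((-37152060), (2, 8)), (266993100, (2, 4)), ((-147593875), (3, 4)), (5136780, (7, 28)), (295686336, (0, 21)), ((-206982160), (11, 11)), (85558605, (18, 10)), ((-385778085), (2, 32)), (28165170, (7, 5)), ((-3703260), (7, 21)), (74207595, (7, 11)), (266151765, (17, 7)), ((-81023250), (3, 14)), ((-242728200), (5, 2)), ((-187321200), (7, 13)), (307831425, (3, 30)), (108024675, (11, 5))]),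
   ([0, 0, 0, 0, 0, 0, 0, 0, 1155, 0, 0, 0, 0],
    [(233066460, (2, 7)), ((-407896170), (2, 8)), ((-539899470), (2, 4)), ((-845595575), (3, 4)), ((-30163650), (7, 28)), (277441923, (0, 21)), (323036945, (11, 11)), ((-132143385), (18, 10)), (887237505, (2, 32)), (61363170, (7, 5)), ((-249014370), (7, 21)), ((-105363720), (16, 3)), (313028100, (7, 11)), ((-144587190), (17, 7)), (427563675, (3, 14)), (148194750, (5, 2)), ((-325800750), (7, 13)), ((-72958875), (3, 30)), ((-182254875), (11, 5))]),
   ([0, 0, 0, 0, 0, 0, 0, 0, 0, 1155, 0, 0, 0],
    [(47103681900, (2, 7)), ((-176799263520), (2, 8)), ((-117918234720), (2, 4)), (716725871400, (3, 4)), (1750865820, (7, 28)), (268522454112, (0, 21)), (67741063610, (11, 11)), (14013188442, (18, 10)), (388457596065, (2, 32)), (196366555605, (7, 5)), ((-80998791060), (7, 21)), (175560, (16, 3)), (374912070390, (7, 11)), ((-225585056235), (17, 7)), (156684782100, (3, 14)), (246099278040, (5, 2)), (96626214300, (7, 13)), ((-408361187850), (3, 30)), ((-47327297325), (11, 5))]),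
   ([0, 0, 0, 0, 0, 0, 0, 0, 0, 0, 1155, 0, 0],
    [(670168649535, (2, 7)), ((-1737813427020), (2, 8)), ((-2819911780620), (2, 4)), (477353004645, (3, 4)), ((-295336701330), (7, 28)), (28058589933, (0, 21)), (1383980494875, (11, 11)), ((-414244980369), (18, 10)), (3249359463405, (2, 32)), (50834573625, (7, 5)), ((-577664994720), (7, 21)), (28380, (16, 3)), (419403341775, (7, 11)), ((-1479106467630), (17, 7)), (1485296641290, (3, 14)), (1199798180130, (5, 2)), (290243279370, (7, 13)), ((-1815257690565), (3, 30)), ((-723975611865), (11, 5))]),
   ([0, 0, 0, 0, 0, 0, 0, 0, 0, 0, 0, 1155, 0],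
    [(402913960680, (2, 7)), ((-199288291620), (2, 8)), ((-242182421580), (2, 4)), ((-5155651295355), (3, 4)), ((-187721308500), (7, 28)), ((-1131356581674), (0, 21)), (622548574010, (11, 11)), ((-371383479555), (18, 10)), (225376467195, (2, 32)), ((-814563234540), (7, 5)), (90848043660, (7, 21)), ((-44880), (16, 3)), ((-1185719559750), (7, 11)), (430695617715, (17, 7)), (675650462025, (3, 14)), ((-598076195145), (5, 2)), ((-1068741106620), (7, 13)), (1270702605315, (3, 30)), ((-191014315305), (11, 5))]),
   ([0, 0, 0, 0, 0, 0, 0, 0, 0, 0, 0, 0, 1155],
    [(243841371345, (2, 7)), ((-87669912330), (2, 8)), ((-115859348880), (2, 4)), ((-206196749550), (3, 4)), (12121775160, (7, 28)), ((-527056028268), (0, 21)), (856666410820, (11, 11)), ((-309410392401), (18, 10)), (1873806769560, (2, 32)), (306921698655, (7, 5)), ((-8738212230), (7, 21)), (79860, (16, 3)), (654305710245, (7, 11)), ((-967336284090), (17, 7)), (944490069600, (3, 14)), (1041887196075, (5, 2)), (38097517425, (7, 13)), ((-1218516072015), (3, 30)), ((-388154373420), (11, 5))])]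

/-- The certificate. -/
def certU : CentralTable.Cert where
  deg := 100
  m0 := 7
  m1 := 5
  N := 50
  rels := certURels
  P := 13
  g0 := 1625376203700475482972013817876725641914737119441532428627939435014212509363625890645583324347799365518619830818920764806715602631952910484140166178909466244923112910884594834165514721253432231444876311288578958
  g1 := 3684512652528006283420530066646922716747451536138222427969343452705112288840956218663673725987376314812199880976103394166909393006591566925834762112407266550872672472682810462397791642541601282541304817914104109
  h0 := 1625376203700475482972013817876725641914737119441532428627939435014212509363625890645583324347799365518619830818920764806715602631952910484140166178909466244923112910884594834165514721253432231444876311288578958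
  h1 := 1526752939389373430999897796977997979724138390678343852691215786959839697492805390655041775732699908126500528957116517886424681620407534248078314911276300578673922433500408797469069640455482871044067921570866328
  next := certUNext
  lab := certULab
  word := certUWord
  perm := certUPerm
  par := certUPar
  L := certUL
  kind := certUKind
  rank := certURank
  via := certUVia
  pv := [35, 68, 17, 33, 48, 67, 74, 91, 80, 52, 60, 75, 56]
  combos := certUCombos

end Cfsg.Agent.Lie.HigmanSimsMult
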