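import Mathlib
import Cfsg.Agent.Lib.Lie.CentralInject
import Cfsg.Agent.Lib.Lie.CentralBlocks
import Cfsg.Agent.Lib.Lie.HigmanSimsMult.DataA
import Cfsg.Agent.Lib.Lie.HigmanSimsMult.DataU
import Cfsg.Agent.Lib.Lie.HigmanSimsMult.DataG
import Cfsg.Agent.Lib.Lie.HigmanSimsMult.DataExtra

/-!
Definitions of the checks for the multiplier of the Higman–Sims group.
-/

set_option autoImplicit false
set_option maxRecDepth 20000

namespace Cfsg.Agent.Lie.HigmanSimsMult

open Cfsg.Agent.Lie CentralTable

/-- The permutations of the programs. -/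
def upPerms : List ℕ := slpPerm 100 basePerms upOps

/-- A special permutation. -/
def upPerm (j : ℕ) : ℕ := upPerms.getD (upRoots.getD j 0) 0

/-- The identity. -/
def idPerm : ℕ := (List.range 100).foldr (fun k m => m * 128 + k) 0

/-- The permutations of the chain. -/
def chainPerms : List ℕ := slpPerm 100 [certG.g0, certG.g1] chainOps ++ [idPerm]

/-- The programs are well formed. -/
def orderCheck : Bool :=
  slpOrdered 3 upOps && (slpOrdered 2 chainOps && (List.range 8).all fun j => Nat.blt (upRoots.getD j 0) (3 + upOps.length))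

/-- A word in the generators of the unitary group. -/
def evU (w : List Bool) (k : ℕ) : ℕ := Cert.evalP certU.g0 certU.g1 w k

/-- A word in the generators of the alternating group. -/
def evA (w : List Bool) (k : ℕ) : ℕ := Cert.evalP certA.g0 certA.g1 w k

/-- The generators agree and have the stated orders. -/
def genCheck (k : ℕ) : Bool :=
  (Nat.beq (pget (upPerm 0) k) (pget certA.g0 k) && (Nat.beq (pget (upPerm 2) k) (pget certA.g1 k) &&
    (Nat.beq (pget (upPerm 0) k) (pget certA.h0 k) && Nat.beq (pget (upPerm 0) k) (pget certA.h1 k)))) &&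
  ((Nat.beq (pget (upPerm 0) k) (pget certU.g0 k) && (Nat.beq (pget (upPerm 1) k) (pget certU.g1 k) &&
    (Nat.beq (pget (upPerm 0) k) (pget certU.h0 k) && Nat.beq (pget (upPerm 2) k) (pget certU.h1 k)))) &&
  ((Nat.beq (pget (upPerm 3) k) (pget certG.g0 k) && (Nat.beq (pget (upPerm 4) k) (pget certG.g1 k) &&
    (Nat.beq (pget (upPerm 0) k) (pget certG.h0 k) && Nat.beq (pget (upPerm 1) k) (pget certG.h1 k)))) &&
  ((Nat.beq (evA (List.replicate 7 false) k) k && Nat.beq (evA (List.replicate 3 true) k) k) &&
  ((Nat.beq (evU (List.replicate 7 false) k) k && Nat.beq (evU (List.replicate 5 true) k) k) &&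
    (Nat.beq (Cert.evalP certG.g0 certG.g1 (List.replicate 11 false) k) k &&
      Nat.beq (Cert.evalP certG.g0 certG.g1 (List.replicate 3 true) k) k)))))

/-- One level of the chain. -/
def levelCheck (l : List ℕ) (fixed : List ℕ) (b : ℕ) : Bool :=
  (l.all fun r => Nat.blt r (3 + chainOps.length) &&
    fixed.all fun p => Nat.beq (pget (chainPerms.getD r 0) p) p) &&
    decide ((l.map fun r => pget (chainPerms.getD r 0) b).Nodup)

/-- Identities between words in the unitary group and the second involution. -/
def fiveCheck (k : ℕ) : Bool :=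
  (Nat.beq (evU (wordA5 ++ wordB5) k) (evU (wordC5 ++ wordB5 ++ wordA5) k) &&
    (Nat.beq (evU (List.replicate 5 wordA5).flatten k) k && Nat.beq (evU (List.replicate 5 wordB5).flatten k) k)) &&
  ((Nat.beq (evU (wordC5 ++ wordA5) k) (evU (wordA5 ++ wordC5) k) &&
    Nat.beq (evU (wordC5 ++ wordB5) k) (evU (wordB5 ++ wordC5) k)) &&
  (Nat.beq (evU (wordT5 ++ wordA5) k) (evU (wordA5 ++ wordA5 ++ wordT5) k) &&
    (Nat.beq (evU (wordT5 ++ wordB5) k) (evU (wordB5 ++ wordB5 ++ wordT5) k) &&
      Nat.beq (evU (wordT5 ++ wordC5) k) (evU (wordC5 ++ wordC5 ++ wordC5 ++ wordC5 ++ wordT5) k))))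

/-- The central element of the group of order 125 is not trivial. -/
def fiveMoves : Bool := (List.range 100).any fun k => !Nat.beq (evU wordC5 k) k

/-- Identities for the group of order nine. -/
def threeCheck (k : ℕ) : Bool :=
  (Nat.beq (pget (upPerm 5) (pget (upPerm 6) k)) (pget (upPerm 6) (pget (upPerm 5) k)) &&
    Nat.beq (pget (upPerm 5) (pget (upPerm 5) (pget (upPerm 5) k))) k) &&
  (Nat.beq (pget (upPerm 7) (pget (upPerm 5) k)) (pget (upPerm 5) (pget (upPerm 5) (pget (upPerm 7) k))) &&
    Nat.beq (pget (upPerm 7) (pget (upPerm 6) k)) (pget (upPerm 6) (pget (upPerm 7) k)))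

/-- Identities for the semidihedral group. -/
def semiCheck (k : ℕ) : Bool :=
  Nat.beq (evA (wordS ++ wordS) k) k &&
    (Nat.beq (evA wordS (evU wordR8 k)) (evU (wordR8 ++ wordR8 ++ wordR8) (evA wordS k)) &&
      Nat.beq (evA wordI k) (evU (wordR8 ++ wordR8 ++ wordR8 ++ wordR8) k))

/-- A closed list of elements of a group given by two permutations. -/
def closedCheck (a b : ℕ) (words : List (List Bool)) (nxt : List ℕ) (i : ℕ) : Bool :=
  [false, true].all fun s =>
    Nat.blt (nxt.getD (Cert.edge i s) 0) words.length &&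
      (List.range 100).all fun k =>
        Nat.beq (Cert.evalP a b (words.getD i [] ++ [s]) k) (Cert.evalP a b (words.getD (nxt.getD (Cert.edge i s) 0) []) k)

/-- Images of a base as one number. -/
def signature (a b : ℕ) (w : List Bool) : ℕ :=
  chainBase.foldr (fun p m => m * 128 + Cert.evalP a b w p) 0

/-- The packed generators of the group of order 125. -/
def fiveGen (s : Bool) : ℕ :=
  (List.range 100).foldr (fun k m => m * 128 + evU (bif s then wordB5 else wordA5) k) 0

/-- Compatibility of the packed generators. -/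
def fiveGenCheck (k : ℕ) : Bool :=
  Nat.beq (pget (fiveGen false) k) (evU wordA5 k) && Nat.beq (pget (fiveGen true) k) (evU wordB5 k)

/-- The known equality of relators. -/
def pairWords : Bool :=
  (certA.rel 54 == wordI ++ wordS ++ wordI ++ wordS && certA.rel 55 == wordI ++ wordI ++ wordS ++ wordS) &&
    Nat.blt 55 certA.rels.length

end Cfsg.Agent.Lie.HigmanSimsMult
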