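import Mathlib
import Cfsg.Agent.Lib.Lie.HigmanSimsMult.Defs

/-!
Kernel checks for the multiplier of the Higman–Sims group: the coset tables.
-/

set_option autoImplicit false
set_option maxRecDepth 100000
set_option maxHeartbeats 0
set_option Elab.async false

namespace Cfsg.Agent.Lie.HigmanSimsMult

open Cfsg.Agent.Lie CentralTable

theorem a_edges : (List.range 360).all certA.edgeCheck = true := by decide +kernel

theorem a_tree : (List.range 360).all certA.treeCheck = true := by decide +kernel

theorem a_rels : certA.rels.all certA.relCheck = true := by decide +kernel

theorem a_vars : (List.range certA.V).all certA.varCheck = true := by decide +kernel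

theorem a_combos : certA.combos.all certA.comboCheck = true := by decide +kernel

theorem u_edges : (List.range 50).all certU.edgeCheck = true := by decide +kernel

theorem u_tree : (List.range 50).all certU.treeCheck = true := by decide +kernel

theorem u_rels : certU.rels.all certU.relCheck = true := by decide +kernel

theorem u_vars : (List.range certU.V).all certU.varCheck = true := by decide +kernel

theorem u_combos : certU.combos.all certU.comboCheck = true := by decide +kernel

theorem g_edges : (List.range 352).all certG.edgeCheck = true := by decide +kernel

theorem g_tree : (List.range 352).all certG.treeCheck = true := by decide +kernel

theorem g_rels : certG.rels.all certG.relCheck = true := by decide +kernel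

theorem g_vars : (List.range certG.V).all certG.varCheck = true := by decide +kernel

theorem g_combos : certG.combos.all certG.comboCheck = true := by decide +kernel

theorem a_targets : certA.lenCheck = true ∧ certA.pairTargets 1155 54 55 pairK = true := by decide +kernel

theorem u_targets : certU.lenCheck = true ∧ certU.killTargets 1155 = true := by decide +kernel

theorem g_targets : certG.lenCheck = true ∧ certG.twoTargets 1155 0 parityG = true := by decide +kernel

end Cfsg.Agent.Lie.HigmanSimsMult
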