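import Mathlib
import Cfsg.Agent.Lib.Lie.HigmanSimsMult.Defs

/-!
Kernel checks for the multiplier of the Higman–Sims group: elements, chain and small subgroups.
-/

set_option autoImplicit false
set_option maxRecDepth 100000
set_option maxHeartbeats 0
set_option Elab.async false

namespace Cfsg.Agent.Lie.HigmanSimsMult

open Cfsg.Agent.Lie CentralTable

theorem order_ok : orderCheck = true := by decide +kernel

theorem gen_ok : (List.range 100).all genCheck = true := by decide +kernel

theorem level0_ok : levelCheck chain0 [] 0 = true := by decide +kernel

theorem level1_ok : levelCheck chain1 [0] 1 = true := by decide +kernel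

theorem level2_ok : levelCheck chain2 [0, 1] 2 = true := by decide +kernel

theorem level3_ok : levelCheck chain3 [0, 1, 2] 3 = true := by decide +kernel

theorem level4_ok : levelCheck chain4 [0, 1, 2, 3] 4 = true := by decide +kernel

theorem level5_ok : levelCheck chain5 [0, 1, 2, 3, 4] 5 = true := by decide +kernel

theorem five_ok : (List.range 100).all fiveCheck = true ∧ fiveMoves = true := by decide +kernel

theorem three_ok : (List.range 100).all threeCheck = true := by decide +kernel

theorem semi_ok : (List.range 100).all semiCheck = true := by decide +kernel

theorem pair_ok : pairWords = true := by decide +kernel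

theorem five_gen_ok : (List.range 100).all fiveGenCheck = true := by decide +kernel

theorem five_closed : (List.range 125).all (closedCheck (fiveGen false) (fiveGen true) fiveWords fiveNext) = true ∧
    fiveWords.length = 125 ∧ fiveWords.getD 0 [] = [] ∧
    (fiveWords.map (signature (fiveGen false) (fiveGen true))).Nodup := by decide +kernel

theorem three_closed : (List.range 9).all (closedCheck (upPerm 5) (upPerm 6) threeWords threeNext) = true ∧
    threeWords.length = 9 ∧ threeWords.getD 0 [] = [] ∧
    (threeWords.map (signature (upPerm 5) (upPerm 6))).Nodup := by decide +kernel

end Cfsg.Agent.Lie.HigmanSimsMult
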