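import Cfsg.Prelude.Def_Spor_Conway
import Cfsg.Agent.Lib.Spor.HsConfig
import Cfsg.Agent.Lib.Spor.GolayPerm
import Cfsg.Agent.Lib.Lie.CentralTable
import Cfsg.Agent.Lib.Lie.HigmanSimsMult.DataExtra

/-!
The action of the Higman–Sims group on a hundred vectors, three elements with known permutations, and the
identification with the group of the definitions.
-/

set_option autoImplicit false
set_option maxRecDepth 100000

namespace Cfsg.Agent.Lie.HigmanSimsMult

open Cfsg Cfsg.Agent.Spor Cfsg.Agent.Lie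
open scoped Pointwise

local notation "Zv" => GolayPt → ℤ

/-- The group. -/
abbrev HG : Type := ↥(pairStab hsVec)

/-- A vector by number. -/
def vecL (i : ℕ) : List ℤ := hsList.getD i []

theorem hsList_len : hsList.length = 100 := hs_data.2.2.1

theorem vecL_mem {i : ℕ} (hi : i < 100) : vecL i ∈ hsList := by
  rw [vecL, List.getD_eq_getElem _ _ (hsList_len ▸ hi)]
  exact List.getElem_mem _

theorem lst_vecL {i : ℕ} (hi : i < 100) : lstOf (vecOf (vecL i)) = vecL i := by
  obtain ⟨t, ht, e⟩ := List.mem_map.1 (vecL_mem hi)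
  have h := List.all_eq_true.1 hs_data.1 t ht
  simp only [Bool.and_eq_true, decide_eq_true_eq] at h
  rw [← e]
  exact h.2

theorem vec_mem (i : Fin 100) : vecOf (vecL i) ∈ hs100 :=
  hs100_iff.2 (by rw [lst_vecL i.2]; exact vecL_mem i.2)

/-- A vector of the configuration in the lattice. -/
def vecPt (i : Fin 100) : ↥leechLattice := ⟨vecOf (vecL i), (vec_mem i).1.1⟩

theorem vecPt_injective : Function.Injective vecPt := fun i j h => by
  have h' : vecOf (vecL i) = vecOf (vecL j) := congrArg Subtype.val h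
  have h2 : vecL i = vecL j := by rw [← lst_vecL i.2, h', lst_vecL j.2]
  rw [vecL, vecL, List.getD_eq_getElem _ _ (show (i : ℕ) < hsList.length by rw [hsList_len]; exact i.2), List.getD_eq_getElem _ _ (show (j : ℕ) < hsList.length by rw [hsList_len]; exact j.2)] at h2
  exact Fin.ext ((hs_data.2.1.getElem_inj_iff).1 h2)

theorem image_exists (g : HG) (i : Fin 100) : ∃ j : Fin 100, g.1 • vecPt i = vecPt j := by
  have hg : g.1 • refU = refU ∧ g.1 • hsVec = hsVec := g.2
  have h1 := co0_dot g.1 refU (vecPt i)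
  have h2 := co0_dot g.1 hsVec (vecPt i)
  rw [hg.1] at h1
  rw [hg.2] at h2
  have hm : ((g.1 • vecPt i : ↥leechLattice) : Zv) ∈ hs100 :=
    ⟨⟨(g.1 • vecPt i).2, (g.1.2.2 _).trans (vec_mem i).1.2.1, h1.trans (vec_mem i).1.2.2⟩,
      h2.trans (vec_mem i).2⟩
  obtain ⟨j, hj, e⟩ := List.getElem_of_mem (hs100_iff.1 hm)
  refine ⟨⟨j, hsList_len ▸ hj⟩, Subtype.ext ?_⟩
  show _ = vecOf (vecL j)
  rw [vecL, List.getD_eq_getElem _ _ hj, e, vecOf_lstOf]

/-- The image of a point. -/
noncomputable def actPt (g : HG) (i : Fin 100) : Fin 100 := (image_exists g i).choose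

theorem actPt_spec (g : HG) (i : Fin 100) : g.1 • vecPt i = vecPt (actPt g i) := (image_exists g i).choose_spec

theorem actPt_mul (g h : HG) (i : Fin 100) : actPt (g * h) i = actPt g (actPt h i) := vecPt_injective (by
  rw [← actPt_spec, ← actPt_spec, ← actPt_spec, Subgroup.coe_mul, mul_smul])

theorem actPt_one (i : Fin 100) : actPt 1 i = i := vecPt_injective (by
  rw [← actPt_spec, Subgroup.coe_one, one_smul])

/-- The permutation representation. -/
noncomputable def perm100 : HG →* Equiv.Perm (Fin 100) where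
  toFun g :=
    { toFun := actPt g
      invFun := actPt g⁻¹
      left_inv := fun i => by rw [← actPt_mul, inv_mul_cancel, actPt_one]
      right_inv := fun i => by rw [← actPt_mul, mul_inv_cancel, actPt_one] }
  map_one' := Equiv.ext actPt_one
  map_mul' g h := Equiv.ext (actPt_mul g h)

theorem card_HG : Nat.card HG = 44352000 := hs_ref.1

instance finite_HG : Finite HG := Nat.finite_of_card_ne_zero (by rw [card_HG]; norm_num)

theorem rep_of_image {g : HG} {p : ℕ} (h : ∀ i : Fin 100, ∃ j : Fin 100, (j : ℕ) = CentralTable.pget p i ∧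
    g.1 • vecPt i = vecPt j) : CentralTable.Rep perm100 g p := fun i => by
  obtain ⟨j, hj, e⟩ := h i
  rw [← hj]
  exact congrArg Fin.val (vecPt_injective ((actPt_spec g i).symm.trans e))

/-- The involution on the starts of the traces. -/
def monoCheck (i : ℕ) : Bool :=
  Nat.blt (CentralTable.pget (basePerms.getD 0 0) i) 100 &&
    (lstOf (hsMap (vecOf ((hsTraces.getD i []).headD []))) ==
      (hsTraces.getD (CentralTable.pget (basePerms.getD 0 0) i) []).headD [])

theorem mono_ok : (List.range 100).all monoCheck = true := by decide +kernel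

theorem trace_len : hsTraces.length = 100 := by decide +kernel

theorem trace_mem {i : ℕ} (hi : i < 100) :
    hsTraces.getD i [] ∈ hsTraces ∧ vecL i = (hsTraces.getD i []).getLastD [] := by
  have hl : i < hsTraces.length := trace_len ▸ hi
  refine ⟨by rw [List.getD_eq_getElem _ _ hl]; exact List.getElem_mem _, ?_⟩
  rw [vecL, List.getD_eq_getElem _ _ (hsList_len ▸ hi), List.getD_eq_getElem _ _ hl]
  simp only [hsList, List.getElem_map]

theorem exists_inv_gen : ∃ g : HG, CentralTable.Rep perm100 g (basePerms.getD 0 0) := by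
  obtain ⟨mok, fok, fu, fX, ffix, -, -, -⟩ := hs_step
  obtain ⟨hd, -⟩ := hs_data
  rw [List.all_eq_true] at hd fok
  obtain ⟨x, hxi⟩ := exists_xi
  have hlen : hsFrame.length = 2 := rfl
  have hfr : ∀ i, i < 2 → hsFrame.getD i [] ∈ hsFrame := fun i hi => by
    rw [List.getD_eq_getElem _ _ (hlen ▸ hi)]; exact List.getElem_mem _
  obtain ⟨k, -, hk⟩ := word_elem ⊤ (fun _ _ => Subgroup.mem_top _) (Subgroup.mem_top x) hxi hsWord
    (trace_sound _ _ (fok _ (hfr 0 (by norm_num)))).1
  obtain ⟨m, -, hm⟩ := word_elem ⊤ (fun _ _ => Subgroup.mem_top _) (Subgroup.mem_top x) hxi hsMono mok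
  have key : ∀ (a b : ↥leechLattice) (la lb : List ℤ), wordApp hsWord (a : Zv) = vecOf la →
      wordApp hsWord (b : Zv) = vecOf lb → hsMap (vecOf la) = vecOf lb → (k⁻¹ * m * k) • a = b := by
    intro a b la lb h1 h2 h3
    rw [mul_smul, mul_smul, inv_smul_eq_iff]
    refine Subtype.ext ?_
    rw [hm, hk, hk, h1, h2]
    exact h3
  have frame : ∀ (i : ℕ) (a : ↥leechLattice), i < 2 → (a : Zv) = vecOf ((hsFrame.getD i []).getLastD []) →
      (k⁻¹ * m * k) • a = a := by
    intro i a hi ha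
    have e := (trace_sound _ _ (fok _ (hfr i hi))).2
    rw [← ha] at e
    exact key a a _ _ e e (funext (ffix i hi))
  have g1 : (k⁻¹ * m * k) • refU = refU := frame 0 refU (by norm_num) (funext fun p => (fu p).symm)
  have g2 : (k⁻¹ * m * k) • hsVec = hsVec := by
    have := frame 1 (-hsVec) (by norm_num) (funext fun p => by rw [fX p]; rfl)
    rwa [co0_neg, neg_inj] at this
  refine ⟨⟨k⁻¹ * m * k, g1, g2⟩, rep_of_image fun i => ?_⟩
  have hc := List.all_eq_true.1 mono_ok i (List.mem_range.2 i.2)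
  simp only [monoCheck, Bool.and_eq_true, Nat.blt_eq, beq_iff_eq] at hc
  refine ⟨⟨_, hc.1⟩, rfl, ?_⟩
  have tr : ∀ j : Fin 100, wordApp hsWord (vecPt j : Zv) = vecOf ((hsTraces.getD j []).headD []) := fun j => by
    obtain ⟨hmem, e⟩ := trace_mem j.2
    have h := hd _ hmem
    simp only [Bool.and_eq_true, decide_eq_true_eq] at h
    show wordApp hsWord (vecOf (vecL j)) = _
    rw [e]
    exact (trace_sound _ _ h.1.1.1.1.1).2
  refine key _ _ _ _ (tr i) (tr ⟨_, hc.1⟩) ?_
  rw [← hc.2, vecOf_lstOf]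

/-- A permutation of the code points with its action on the vectors. -/
def sigmaCheck (l : List ℕ) (p : ℕ) : Bool :=
  (codeBasis.all fun g => Nat.blt g (2 ^ 24) && codeMasks.elem (pmask l g)) &&
    ((Nat.beq (l.getD 23 0) 23 && Nat.beq (l.getD 0 0) 0) &&
      ((List.range 100).all fun i => Nat.blt (CentralTable.pget p i) 100 &&
        (List.range 24).all fun k => (vecL (CentralTable.pget p i)).getD (l.getD k 0) 0 == (vecL i).getD k 0))

theorem sigma_ok : sigmaCheck sigma1 (basePerms.getD 1 0) = true ∧ sigmaCheck sigma2 (basePerms.getD 2 0) = true := by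
  constructor <;> decide +kernel

theorem sigma_bij : Function.Bijective (fun p : GolayPt => pt (sigma1.getD (idx p) 0)) ∧
    Function.Bijective (fun p : GolayPt => pt (sigma2.getD (idx p) 0)) ∧
    (∀ i, i < 24 → sigma1.getD i 0 < 24 ∧ sigma2.getD i 0 < 24) := by
  refine ⟨?_, ?_, ?_⟩ <;> decide +kernel

theorem exists_sigma_gen {l : List ℕ} {p : ℕ} (h : sigmaCheck l p = true)
    (hb : Function.Bijective (fun q : GolayPt => pt (l.getD (idx q) 0))) (hl : ∀ i, i < 24 → l.getD i 0 < 24) :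
    ∃ g : HG, CentralTable.Rep perm100 g p := by
  simp only [sigmaCheck, Bool.and_eq_true, List.all_eq_true, Nat.blt_eq, Nat.beq_eq, List.mem_range,
    beq_iff_eq, List.elem_iff] at h
  obtain ⟨hcode, ⟨h23, h0⟩, hperm⟩ := h
  obtain ⟨σ, hσ⟩ : ∃ σ : Equiv.Perm GolayPt, ∀ q, σ q = pt (l.getD (idx q) 0) := ⟨Equiv.ofBijective _ hb, fun _ => rfl⟩
  have hrep : Spor.Rep σ l := fun q => by rw [hσ q, idx_pt _ (hl _ (idx_lt q))]
  have hM : σ ∈ M24 := mem_M24.2 fun g hg => by
    rw [hrep.mask_smul, mask_ofMask (hcode g hg).1]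
    exact (hcode g hg).2
  have hn : σ none = none := by rw [hσ, show idx none = 23 from rfl, h23]; rfl
  have hp0 : σ (pt 0) = pt 0 := by rw [hσ, idx_pt 0 (by norm_num), h0]
  obtain ⟨g, hg⟩ := exists_prm hM
  have i1 : ∀ q, σ q = none ↔ q = none := fun q => by conv_lhs => rw [← hn]; rw [σ.injective.eq_iff]
  have i2 : ∀ q, σ q = pt 0 ↔ q = pt 0 := fun q => by conv_lhs => rw [← hp0]; rw [σ.injective.eq_iff]
  have g1 : g • refU = refU := Subtype.ext (by
    rw [hg]; show prm σ uRef = uRef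
    rw [uRef, prm_setVec, Finset.smul_finset_singleton]
    show setVec 1 5 {σ none} = _
    rw [hn])
  have g2 : g • hsVec = hsVec := Subtype.ext (by
    rw [hg]; show prm σ (fourVec (-1)) = fourVec (-1)
    funext q
    obtain ⟨r, rfl⟩ := σ.surjective q
    simp [prm, fourVec, i1, i2])
  refine ⟨⟨g, g1, g2⟩, rep_of_image fun i => ⟨⟨_, (hperm i i.2).1⟩, rfl, Subtype.ext ?_⟩⟩
  rw [hg]
  funext q
  obtain ⟨r, rfl⟩ := σ.surjective q
  show prm σ (vecOf (vecL i)) (σ r) = vecOf (vecL (CentralTable.pget p i)) (σ r)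
  rw [prm, Equiv.symm_apply_apply]
  show (vecL i).getD (idx r) 0 = (vecL (CentralTable.pget p i)).getD (idx (σ r)) 0
  rw [← hrep r, (hperm i i.2).2 (idx r) (idx_lt r)]

/-- The three basic elements. -/
theorem exists_base : ∃ γ : List HG, γ.length = 3 ∧
    ∀ j < 3, CentralTable.Rep perm100 (γ.getD j 1) (basePerms.getD j 0) := by
  obtain ⟨g, hg⟩ := exists_inv_gen
  obtain ⟨b1, b2, hl⟩ := sigma_bij
  obtain ⟨s, hs⟩ := exists_sigma_gen sigma_ok.1 b1 fun i hi => (hl i hi).1
  obtain ⟨t, ht⟩ := exists_sigma_gen sigma_ok.2 b2 fun i hi => (hl i hi).2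
  refine ⟨[g, s, t], rfl, fun j hj => ?_⟩
  interval_cases j
  exacts [hg, hs, ht]

theorem perm100_injective : Function.Injective perm100 := by
  haveI : IsSimpleGroup HG := hs_ref.2
  rw [← MonoidHom.ker_eq_bot_iff]
  refine (perm100.normal_ker.eq_bot_or_eq_top).resolve_right fun htop => ?_
  obtain ⟨g, hg⟩ := exists_inv_gen
  have h1 : perm100 g = 1 := MonoidHom.mem_ker.1 (htop ▸ Subgroup.mem_top g)
  have h := hg ⟨0, by norm_num⟩
  rw [h1] at h
  exact absurd h (by decide +kernel)

/-- The group of the definitions. -/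
theorem hs_iso : Nonempty (↥Cfsg.Spor.HS ≃* HG) := by
  have hp : pt 0 = some 0 := by decide +kernel
  have hU : (Cfsg.Spor.leechU' : ↥leechLattice) = hsVec := Subtype.ext (by
    show Cfsg.Spor.vecU' = fourVec (-1)
    funext q
    simp only [Cfsg.Spor.vecU', fourVec, hp]
    norm_num)
  have hV : (Cfsg.Spor.leechV : ↥leechLattice) = -refU := Subtype.ext (by
    show Cfsg.Spor.vecV = -uRef
    funext q
    simp only [Cfsg.Spor.vecV, Pi.neg_apply, uRef, setVec, Finset.mem_singleton]
    split_ifs <;> rfl)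
  have key : ∀ f : ↥Co0, ((f : Equiv.Perm ↥leechLattice) • (Cfsg.Spor.leechV : ↥leechLattice) = Cfsg.Spor.leechV ∧
      (f : Equiv.Perm ↥leechLattice) • (Cfsg.Spor.leechU' : ↥leechLattice) = Cfsg.Spor.leechU') ↔
      f ∈ pairStab hsVec := by
    intro f
    rw [hU, hV]
    show f • (-refU) = -refU ∧ f • hsVec = hsVec ↔ f • refU = refU ∧ f • hsVec = hsVec
    rw [co0_neg, neg_inj]
  refine ⟨{ toFun := fun g => ⟨⟨g.1, g.2.1.1⟩, (key ⟨g.1, g.2.1.1⟩).1 ⟨g.2.1.2, g.2.2⟩⟩
            invFun := fun f => ⟨(f.1 : Equiv.Perm ↥leechLattice), ⟨f.1.2, ((key f.1).2 f.2).1⟩, ((key f.1).2 f.2).2⟩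
            left_inv := fun _ => rfl
            right_inv := fun _ => rfl
            map_mul' := fun _ _ => rfl }⟩

end Cfsg.Agent.Lie.HigmanSimsMult
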