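import Mathlib
import Cfsg.Agent.Lib.Lie.HigmanSimsMult.Defs

/-!
Kernel checks for the multiplier of the Higman–Sims group: the signed blocks.
-/

set_option autoImplicit false
set_option maxRecDepth 100000
set_option maxHeartbeats 0
set_option Elab.async false

namespace Cfsg.Agent.Lie.HigmanSimsMult

open Cfsg.Agent.Lie CentralTable

theorem sign_blocks0 : (List.range 88).all (fun j => signs.blockCheck certG (0 + j)) = true := by decide +kernel

theorem sign_blocks1 : (List.range 88).all (fun j => signs.blockCheck certG (88 + j)) = true := by decide +kernel

theorem sign_blocks2 : (List.range 88).all (fun j => signs.blockCheck certG (176 + j)) = true := by decide +kernel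

theorem sign_blocks3 : (List.range 88).all (fun j => signs.blockCheck certG (264 + j)) = true := by decide +kernel

theorem sign_blocks : (List.range 352).all (signs.blockCheck certG) = true := by
  rw [List.all_eq_true]
  intro i hi
  rw [List.mem_range] at hi
  have key : ∀ c, (List.range 88).all (fun j => signs.blockCheck certG (c + j)) = true → c ≤ i → i < c + 88 →
      signs.blockCheck certG i = true := fun c h h1 h2 => by
    have := List.all_eq_true.1 h (i - c) (List.mem_range.2 (by omega))
    rwa [Nat.add_sub_cancel' h1] at this
  rcases Nat.lt_or_ge i 88 with h0 | h0
  · exact key 0 sign_blocks0 (Nat.zero_le i) (by omega)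
  rcases Nat.lt_or_ge i 176 with h1 | h1
  · exact key 88 sign_blocks1 h0 (by omega)
  rcases Nat.lt_or_ge i 264 with h2 | h2
  · exact key 176 sign_blocks2 h1 (by omega)
  · exact key 264 sign_blocks3 h2 (by omega)

theorem sign_distinct0 : (List.range 88).all (fun j => signs.distinctCheck (0 + j)) = true := by decide +kernel

theorem sign_distinct1 : (List.range 88).all (fun j => signs.distinctCheck (88 + j)) = true := by decide +kernel

theorem sign_distinct2 : (List.range 88).all (fun j => signs.distinctCheck (176 + j)) = true := by decide +kernel

theorem sign_distinct3 : (List.range 88).all (fun j => signs.distinctCheck (264 + j)) = true := by decide +kernel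

theorem sign_distinct : (List.range 352).all (signs.distinctCheck) = true := by
  rw [List.all_eq_true]
  intro i hi
  rw [List.mem_range] at hi
  have key : ∀ c, (List.range 88).all (fun j => signs.distinctCheck (c + j)) = true → c ≤ i → i < c + 88 →
      signs.distinctCheck i = true := fun c h h1 h2 => by
    have := List.all_eq_true.1 h (i - c) (List.mem_range.2 (by omega))
    rwa [Nat.add_sub_cancel' h1] at this
  rcases Nat.lt_or_ge i 88 with h0 | h0
  · exact key 0 sign_distinct0 (Nat.zero_le i) (by omega)
  rcases Nat.lt_or_ge i 176 with h1 | h1
  · exact key 88 sign_distinct1 h0 (by omega)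
  rcases Nat.lt_or_ge i 264 with h2 | h2
  · exact key 176 sign_distinct2 h1 (by omega)
  · exact key 264 sign_distinct3 h2 (by omega)

theorem sign_tree : (List.range 352).all (signs.treeOK 352) = true := by decide +kernel

theorem sign_words : signs.wordOK certG = true := by decide +kernel

end Cfsg.Agent.Lie.HigmanSimsMult
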