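import Mathlib
import Cfsg.Agent.Lib.Lie.CentralTorsion
import Cfsg.Agent.Lib.Small.PSLThreeTwo
import Cfsg.Agent.Lib.Lie.HigmanSimsMult.Points
import Cfsg.Agent.Lib.Lie.HigmanSimsMult.Checks
import Cfsg.Agent.Lib.Lie.HigmanSimsMult.ElementChecks
import Cfsg.Agent.Lib.Lie.HigmanSimsMult.SignChecks

/-!
The Schur multiplier of the Higman–Sims group has order two: central coset tables through the alternating group
of degree seven and the unitary group of dimension three, and a signed coset table with invariant blocks.
-/

set_option autoImplicit false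
set_option maxRecDepth 100000
set_option linter.style.haveILetI false

namespace Cfsg.Agent.Lie.HigmanSimsMult

open Cfsg Cfsg.Agent.Lie CentralTable

attribute [local irreducible] CentralTable.pget CentralTable.Cert.evalP CentralTable.Cert.edgeCheck
  CentralTable.Cert.treeCheck CentralTable.Cert.varCheck CentralTable.Cert.comboCheck CentralTable.slpPerm
  CentralTable.slpElt CentralTable.Blocks.blockCheck CentralTable.Blocks.distinctCheck CentralTable.Blocks.treeOK
  CentralTable.Blocks.wordOK

theorem validA : certA.Valid where
  npos := by show 0 < 360; norm_num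
  edges i hi := List.all_eq_true.1 a_edges i (List.mem_range.2 hi)
  tree i hi := List.all_eq_true.1 a_tree i (List.mem_range.2 hi)
  rels := List.all_eq_true.1 a_rels
  vars v hv := List.all_eq_true.1 a_vars v (List.mem_range.2 hv)
  combos := List.all_eq_true.1 a_combos

theorem validU : certU.Valid where
  npos := by show 0 < 50; norm_num
  edges i hi := List.all_eq_true.1 u_edges i (List.mem_range.2 hi)
  tree i hi := List.all_eq_true.1 u_tree i (List.mem_range.2 hi)
  rels := List.all_eq_true.1 u_rels
  vars v hv := List.all_eq_true.1 u_vars v (List.mem_range.2 hv)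
  combos := List.all_eq_true.1 u_combos

theorem validG : certG.Valid where
  npos := by show 0 < 352; norm_num
  edges i hi := List.all_eq_true.1 g_edges i (List.mem_range.2 hi)
  tree i hi := List.all_eq_true.1 g_tree i (List.mem_range.2 hi)
  rels := List.all_eq_true.1 g_rels
  vars v hv := List.all_eq_true.1 g_vars v (List.mem_range.2 hv)
  combos := List.all_eq_true.1 g_combos

theorem order_facts : slpOrdered 3 upOps = true ∧ slpOrdered 2 chainOps = true ∧
    ∀ j < 8, upRoots.getD j 0 < 3 + upOps.length := by
  have h := order_ok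
  simp only [orderCheck, Bool.and_eq_true, List.all_eq_true, List.mem_range, Nat.blt_eq] at h
  exact h

/-- The basic elements. -/
noncomputable def base : List HG := exists_base.choose

theorem base_spec : base.length = 3 ∧ ∀ j < 3, Rep perm100 (base.getD j 1) (basePerms.getD j 0) :=
  exists_base.choose_spec

/-- A special element. -/
noncomputable def el (j : ℕ) : HG := (slpElt base upOps).getD (upRoots.getD j 0) 1

theorem rep_el {j : ℕ} (hj : j < 8) : Rep perm100 (el j) (upPerm j) := by
  refine slp_rep perm100 upOps base basePerms ?_ (fun i hi => base_spec.2 i (base_spec.1 ▸ hi)) ?_ _ ?_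
  · rw [base_spec.1]; rfl
  · rw [base_spec.1]; exact slpOrdered_spec _ _ order_facts.1
  · rw [base_spec.1]; exact order_facts.2.2 j hj

/-- Generators of the alternating group. -/
noncomputable def xA (s : Bool) : HG := bif s then el 2 else el 0

/-- The generator of order seven. -/
noncomputable def yA (_ : Bool) : HG := el 0

/-- Generators of the unitary group. -/
noncomputable def xU (s : Bool) : HG := bif s then el 1 else el 0

/-- Generators of the group. -/
noncomputable def xG (s : Bool) : HG := bif s then el 4 else el 3

theorem gen_facts (k : Fin 100) :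
    (pget (upPerm 0) k = pget certA.g0 k ∧ pget (upPerm 2) k = pget certA.g1 k ∧
      pget (upPerm 0) k = pget certA.h0 k ∧ pget (upPerm 0) k = pget certA.h1 k) ∧
    (pget (upPerm 0) k = pget certU.g0 k ∧ pget (upPerm 1) k = pget certU.g1 k ∧
      pget (upPerm 0) k = pget certU.h0 k ∧ pget (upPerm 2) k = pget certU.h1 k) ∧
    (pget (upPerm 3) k = pget certG.g0 k ∧ pget (upPerm 4) k = pget certG.g1 k ∧
      pget (upPerm 0) k = pget certG.h0 k ∧ pget (upPerm 1) k = pget certG.h1 k) ∧
    (evA (List.replicate 7 false) k = k ∧ evA (List.replicate 3 true) k = k) ∧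
    (evU (List.replicate 7 false) k = k ∧ evU (List.replicate 5 true) k = k) ∧
    Cert.evalP certG.g0 certG.g1 (List.replicate 11 false) k = k ∧
    Cert.evalP certG.g0 certG.g1 (List.replicate 3 true) k = k := by
  have h := List.all_eq_true.1 gen_ok k (List.mem_range.2 k.2)
  simp only [genCheck, Bool.and_eq_true, Nat.beq_eq] at h
  exact h

theorem rep_xA (s : Bool) : Rep perm100 (xA s) (bif s then certA.g1 else certA.g0) := fun k => by
  cases s
  · exact (rep_el (by norm_num) k).trans (gen_facts k).1.1
  · exact (rep_el (by norm_num) k).trans (gen_facts k).1.2.1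

theorem rep_yA (s : Bool) : Rep perm100 (yA s) (bif s then certA.h1 else certA.h0) := fun k => by
  cases s
  · exact (rep_el (by norm_num) k).trans (gen_facts k).1.2.2.1
  · exact (rep_el (by norm_num) k).trans (gen_facts k).1.2.2.2

theorem rep_xU (s : Bool) : Rep perm100 (xU s) (bif s then certU.g1 else certU.g0) := fun k => by
  cases s
  · exact (rep_el (by norm_num) k).trans (gen_facts k).2.1.1
  · exact (rep_el (by norm_num) k).trans (gen_facts k).2.1.2.1

theorem rep_yU (s : Bool) : Rep perm100 (xA s) (bif s then certU.h1 else certU.h0) := fun k => by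
  cases s
  · exact (rep_el (by norm_num) k).trans (gen_facts k).2.1.2.2.1
  · exact (rep_el (by norm_num) k).trans (gen_facts k).2.1.2.2.2

theorem rep_xG (s : Bool) : Rep perm100 (xG s) (bif s then certG.g1 else certG.g0) := fun k => by
  cases s
  · exact (rep_el (by norm_num) k).trans (gen_facts k).2.2.1.1
  · exact (rep_el (by norm_num) k).trans (gen_facts k).2.2.1.2.1

theorem rep_yG (s : Bool) : Rep perm100 (xU s) (bif s then certG.h1 else certG.h0) := fun k => by
  cases s
  · exact (rep_el (by norm_num) k).trans (gen_facts k).2.2.1.2.2.1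
  · exact (rep_el (by norm_num) k).trans (gen_facts k).2.2.1.2.2.2

theorem pow_eq_one {x : Bool → HG} {a b : ℕ} (h : ∀ s, Rep perm100 (x s) (bif s then b else a)) (s : Bool) (n : ℕ)
    (hw : ∀ k : Fin 100, Cert.evalP a b (List.replicate n s) k = k) : x s ^ n = 1 := by
  refine eq_of_rep perm100_injective fun k => ?_
  have e : x s ^ n = ev x (List.replicate n s) := by rw [ev, List.map_replicate, List.prod_replicate]
  rw [e, rep_ev h, hw k, map_one]
  rfl

theorem pow_xA (s : Bool) : xA s ^ (bif s then certA.m1 else certA.m0) = 1 := by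
  cases s
  · exact pow_eq_one rep_xA false 7 fun k => (gen_facts k).2.2.2.1.1
  · exact pow_eq_one rep_xA true 3 fun k => (gen_facts k).2.2.2.1.2

theorem pow_xU (s : Bool) : xU s ^ (bif s then certU.m1 else certU.m0) = 1 := by
  cases s
  · exact pow_eq_one rep_xU false 7 fun k => (gen_facts k).2.2.2.2.1.1
  · exact pow_eq_one rep_xU true 5 fun k => (gen_facts k).2.2.2.2.1.2

theorem pow_xG (s : Bool) : xG s ^ (bif s then certG.m1 else certG.m0) = 1 := by
  cases s
  · exact pow_eq_one rep_xG false 11 fun k => (gen_facts k).2.2.2.2.2.1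
  · exact pow_eq_one rep_xG true 3 fun k => (gen_facts k).2.2.2.2.2.2

theorem ker_id_le : (MonoidHom.id HG).ker ≤ Subgroup.center HG := by rw [MonoidHom.ker_id]; exact bot_le

/-- The first table in the group. -/
noncomputable def setA : Setup certA HG HG where
  σ := MonoidHom.id _
  φ := perm100
  faithful := perm100_injective
  central := ker_id_le
  x := xA
  y := yA
  rep_x := rep_xA
  rep_y := rep_yA
  pow_x := pow_xA
  inj := fun _ h => h
  valid := validA

/-- The second table in the group. -/
noncomputable def setU : Setup certU HG HG where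
  σ := MonoidHom.id _
  φ := perm100
  faithful := perm100_injective
  central := ker_id_le
  x := xU
  y := xA
  rep_x := rep_xU
  rep_y := rep_yU
  pow_x := pow_xU
  inj := fun _ h => h
  valid := validU

/-- The third table in the group. -/
noncomputable def setG : Setup certG HG HG where
  σ := MonoidHom.id _
  φ := perm100
  faithful := perm100_injective
  central := ker_id_le
  x := xG
  y := xU
  rep_x := rep_xG
  rep_y := rep_yG
  pow_x := pow_xG
  inj := fun _ h => h
  valid := validG

theorem vanish_id {C : Cert} (S : Setup C HG HG) (hσ : S.σ = MonoidHom.id _) : S.Vanish := by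
  intro p _
  refine Additive.toMul.injective (Subtype.ext ?_)
  have h := (Additive.toMul (S.u p)).2
  have h2 := DFunLike.congr_fun hσ (Additive.toMul (S.u p)).1
  rw [MonoidHom.mem_ker] at h
  rw [h] at h2
  exact h2.symm

/-! ### the stabiliser chain -/

/-- An element of the chain. -/
noncomputable def chEl (r : ℕ) : HG := (slpElt [xG false, xG true] chainOps ++ [1]).getD r 1

theorem slpElt_length : ∀ (es : List (ℕ × ℕ)) (acc : List HG), (slpElt acc es).length = acc.length + es.length
  | [], acc => by simp [slpElt]
  | e :: es, acc => by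
    rw [slpElt, slpElt_length es]
    simp only [List.length_append, List.length_cons, List.length_nil]
    omega

theorem slpPerm_length : ∀ (es : List (ℕ × ℕ)) (acc : List ℕ), (slpPerm 100 acc es).length = acc.length + es.length
  | [], acc => by simp [slpPerm]
  | e :: es, acc => by
    rw [slpPerm, slpPerm_length es]
    simp only [List.length_append, List.length_cons, List.length_nil]
    omega

theorem rep_chEl {r : ℕ} (hr : r < 3 + chainOps.length) : Rep perm100 (chEl r) (chainPerms.getD r 0) := by
  have hl : (slpElt [xG false, xG true] chainOps).length = 2 + chainOps.length := slpElt_length _ _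
  have hp : (slpPerm 100 [certG.g0, certG.g1] chainOps).length = 2 + chainOps.length := slpPerm_length _ _
  rw [chEl, chainPerms]
  rcases Nat.lt_or_ge r (2 + chainOps.length) with h | h
  · rw [List.getD_append _ _ _ _ (hl.symm ▸ h), List.getD_append _ _ _ _ (hp.symm ▸ h)]
    refine slp_rep perm100 chainOps _ _ rfl (fun i hi => ?_) ?_ r (by simpa using h)
    · have hi' : i < 2 := by simpa using hi
      interval_cases i
      exacts [rep_xG false, rep_xG true]
    · exact slpOrdered_spec _ _ order_facts.2.1
  · rw [List.getD_append_right _ _ _ _ (hl.symm ▸ h), List.getD_append_right _ _ _ _ (hp.symm ▸ h), hl, hp,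
      show r - (2 + chainOps.length) = 0 by omega]
    intro k
    show (perm100 1 k : ℕ) = pget idPerm k
    rw [map_one]
    have hid : (List.range 100).all (fun j => Nat.beq (pget idPerm j) j) = true := by decide +kernel
    exact (Nat.eq_of_beq_eq_true (List.all_eq_true.1 hid k (List.mem_range.2 k.2))).symm

theorem chEl_mem (r : ℕ) : chEl r ∈ Subgroup.closure (Set.range xG) := by
  rw [chEl]
  rcases Nat.lt_or_ge r (slpElt [xG false, xG true] chainOps).length with h | h
  · rw [List.getD_append _ _ _ _ h]
    refine slp_mem _ _ _ (fun j => ?_) r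
    match j with
    | 0 => exact Subgroup.subset_closure ⟨false, rfl⟩
    | 1 => exact Subgroup.subset_closure ⟨true, rfl⟩
    | j + 2 => exact one_mem _
  · rw [List.getD_append_right _ _ _ _ h]
    match r - (slpElt [xG false, xG true] chainOps).length with
    | 0 => exact one_mem _
    | j + 1 => exact one_mem _

/-- The subgroup fixing given points. -/
noncomputable def fixing (l : List ℕ) : Subgroup HG where
  carrier := {g | g ∈ Subgroup.closure (Set.range xG) ∧ ∀ p : Fin 100, (p : ℕ) ∈ l → perm100 g p = p}
  one_mem' := ⟨one_mem _, fun p _ => by rw [map_one]; rfl⟩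
  mul_mem' := fun {a b} ha hb => ⟨mul_mem ha.1 hb.1, fun p hp => by
    rw [map_mul, Equiv.Perm.mul_apply, hb.2 p hp, ha.2 p hp]⟩
  inv_mem' := fun {a} ha => ⟨inv_mem ha.1, fun p hp => by
    rw [map_inv]; exact Equiv.Perm.inv_eq_iff_eq.2 (ha.2 p hp).symm⟩

theorem level_le {l fixed : List ℕ} {b : Fin 100} (h : levelCheck l fixed b = true) :
    l.length * Nat.card (fixing (fixed ++ [(b : ℕ)])) ≤ Nat.card (fixing fixed) := by
  simp only [levelCheck, Bool.and_eq_true, List.all_eq_true, Nat.blt_eq, Nat.beq_eq, decide_eq_true_eq] at h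
  obtain ⟨hl, hnd⟩ := h
  refine card_orbit_mul_le perm100 (fixing fixed) (fixing (fixed ++ [(b : ℕ)])) b (fun g hg => ⟨hg.1, fun p hp => hg.2 p (List.mem_append_left _ hp)⟩)
    (fun g hg => hg.2 b (List.mem_append_right _ List.mem_cons_self)) (fun i : Fin l.length => chEl l[i])
    (fun i => ⟨chEl_mem _, fun p hp => Fin.ext ?_⟩) (fun i j e => ?_)
  · obtain ⟨hr, hf⟩ := hl _ (List.getElem_mem i.2)
    exact (rep_chEl hr p).trans (hf p hp)
  · have ei := rep_chEl (hl _ (List.getElem_mem i.2)).1 b
    have ej := rep_chEl (hl _ (List.getElem_mem j.2)).1 b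
    have e' : pget (chainPerms.getD l[(i : ℕ)] 0) b = pget (chainPerms.getD l[(j : ℕ)] 0) b := by
      rw [← ei, ← ej]
      exact congrArg Fin.val e
    refine Fin.ext ((hnd.getElem_inj_iff (hi := by simpa using i.2) (hj := by simpa using j.2)).1 ?_)
    simpa using e'

theorem gen_xG : Subgroup.closure (Set.range xG) = ⊤ := by
  refine Subgroup.eq_top_of_le_card _ ?_
  have e : fixing [] = Subgroup.closure (Set.range xG) := by
    ext g
    exact ⟨fun h => h.1, fun h => ⟨h, fun p hp => absurd hp List.not_mem_nil⟩⟩
  have h0 := level_le (b := (⟨0, by norm_num⟩ : Fin 100)) level0_ok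
  have h1 := level_le (b := (⟨1, by norm_num⟩ : Fin 100)) level1_ok
  have h2 := level_le (b := (⟨2, by norm_num⟩ : Fin 100)) level2_ok
  have h3 := level_le (b := (⟨3, by norm_num⟩ : Fin 100)) level3_ok
  have h4 := level_le (b := (⟨4, by norm_num⟩ : Fin 100)) level4_ok
  have h5 := level_le (b := (⟨5, by norm_num⟩ : Fin 100)) level5_ok
  have hpos : 1 ≤ Nat.card (fixing [0, 1, 2, 3, 4, 5]) := Nat.card_pos
  simp only [List.nil_append, List.cons_append, e, show chain0.length = 100 from rfl,
    show chain1.length = 22 from rfl, show chain2.length = 21 from rfl, show chain3.length = 16 from rfl,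
    show chain4.length = 10 from rfl, show chain5.length = 6 from rfl] at h0 h1 h2 h3 h4 h5
  rw [card_HG]
  omega

/-! ### orders of the subgroups -/

/-- The alternating group of degree seven. -/
noncomputable def subA : Subgroup HG := Subgroup.closure (Set.range xA)

/-- The unitary group. -/
noncomputable def subU : Subgroup HG := Subgroup.closure (Set.range xU)

theorem card_cyclic {Γ : Type*} [Group Γ] [Finite Γ] {a : Γ} (ha : a ^ 7 = 1) :
    Nat.card (Subgroup.closure (Set.range fun _ : Bool => a)) ≤ 7 := by
  rw [Set.range_const, ← Subgroup.zpowers_eq_closure, Nat.card_zpowers]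
  exact Nat.le_of_dvd (by norm_num) (orderOf_dvd_of_pow_eq_one ha)

theorem card_subA_le : Nat.card subA ≤ 2520 := by
  refine ((setA.card_le (vanish_id setA rfl) a_targets.1).trans
    (Nat.mul_le_mul_left _ (card_cyclic (pow_xA false)))).trans ?_
  show 360 * 7 ≤ 2520
  norm_num

theorem card_subU_le : Nat.card subU ≤ 50 * Nat.card subA := setU.card_le (vanish_id setU rfl) u_targets.1

theorem card_HG_le : 44352000 ≤ 352 * Nat.card subU := by
  have hsurj : Function.Surjective fun p : subU × Fin 352 => (p.1 : HG) * setG.t p.2 := fun g => by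
    obtain ⟨k, hk, hm⟩ := setG.exists_coset subU (fun s => Subgroup.subset_closure ⟨s, rfl⟩) gen_xG g
    exact ⟨(⟨_, hm⟩, ⟨k, hk⟩), inv_mul_cancel_right _ _⟩
  have := Nat.card_le_card_of_surjective _ hsurj
  rw [Nat.card_prod, Nat.card_fin, card_HG] at this
  omega

theorem card_subA : 2520 ≤ Nat.card subA := by
  have := card_subA_le; have := card_subU_le; have := card_HG_le
  omega

theorem card_subU : Nat.card subU = 126000 := by
  have := card_subA_le; have := card_subU_le; have := card_HG_le
  omega

/-! ### small subgroups -/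

theorem closed_card {x : Bool → HG} {a b : ℕ} (h : ∀ s, Rep perm100 (x s) (bif s then b else a))
    {words : List (List Bool)} {nxt : List ℕ} {n : ℕ}
    (hc : (List.range n).all (closedCheck a b words nxt) = true) (hn : words.length = n)
    (h0 : words.getD 0 [] = []) (hlen : 0 < n) (hnd : (words.map (signature a b)).Nodup) :
    Nat.card (Subgroup.closure (Set.range x)) = n := by
  let f : Fin n → HG := fun i => ev x (words.getD i [])
  have hinj : Function.Injective f := fun i j e => by
    have e2 : signature a b (words.getD i []) = signature a b (words.getD j []) := by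
      have hk : ∀ p < 100, Cert.evalP a b (words.getD i []) p = Cert.evalP a b (words.getD j []) p := fun p hp => by
        rw [← rep_ev h _ (⟨p, hp⟩ : Fin 100), ← rep_ev h _ (⟨p, hp⟩ : Fin 100)]
        rw [show ev x (words.getD i []) = ev x (words.getD j []) from e]
      simp only [signature, chainBase, List.foldr_cons, List.foldr_nil, hk 0 (by norm_num), hk 1 (by norm_num),
        hk 2 (by norm_num), hk 3 (by norm_num), hk 4 (by norm_num), hk 5 (by norm_num)]
    rw [List.getD_eq_getElem _ _ (hn.symm ▸ i.2), List.getD_eq_getElem _ _ (hn.symm ▸ j.2)] at e2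
    exact Fin.ext ((hnd.getElem_inj_iff (hi := by simpa [hn] using i.2) (hj := by simpa [hn] using j.2)).1
      (by simpa using e2))
  have hset : (Subgroup.closure (Set.range x) : Set HG) = Set.range f := by
    refine Set.Subset.antisymm (fun g hg => ?_) ?_
    · have hg' : g ∈ Submonoid.closure (Set.range x) := by
        have : g ∈ (Subgroup.closure (Set.range x)).toSubmonoid := hg
        rwa [Subgroup.closure_toSubmonoid_of_finite] at this
      clear hg
      induction hg' using Submonoid.closure_induction_right with
      | one => exact ⟨⟨0, hlen⟩, by show ev x (words.getD 0 []) = 1; rw [h0]; rfl⟩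
      | mul_right g hg y hy ih =>
        obtain ⟨s, rfl⟩ := hy
        obtain ⟨i, rfl⟩ := ih
        have hi := List.all_eq_true.1 hc i (List.mem_range.2 i.2)
        simp only [closedCheck, List.all_cons, List.all_nil, Bool.and_true, Bool.and_eq_true, Nat.blt_eq,
          List.all_eq_true, List.mem_range, Nat.beq_eq] at hi
        obtain ⟨hj, hk⟩ : nxt.getD (Cert.edge i s) 0 < words.length ∧ ∀ k < 100,
            Cert.evalP a b (words.getD i [] ++ [s]) k = Cert.evalP a b (words.getD (nxt.getD (Cert.edge i s) 0) []) k := by
          cases s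
          exacts [hi.1, hi.2]
        refine ⟨⟨_, hn ▸ hj⟩, ?_⟩
        refine eq_of_rep perm100_injective fun k => ?_
        show (perm100 (ev x (words.getD (nxt.getD (Cert.edge i s) 0) [])) k : ℕ) = perm100 (ev x (words.getD i []) * x s) k
        rw [show ev x (words.getD i []) * x s = ev x (words.getD i [] ++ [s]) by rw [ev_append]; simp [ev],
          rep_ev h, rep_ev h, hk k k.2]
    · rintro _ ⟨i, rfl⟩
      exact ev_mem _ _
  rw [← SetLike.coe_sort_coe, Nat.card_coe_set_eq, hset, Set.ncard_range_of_injective hinj, Nat.card_fin]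

theorem index_coprime {H : Subgroup HG} {n q : ℕ} (hH : Nat.card H = n) (m : ℕ) (hm : 44352000 = n * m)
    (hq : ¬ q ∣ m) : ¬ q ∣ H.index := by
  have := H.card_mul_index
  rw [hH, card_HG, hm] at this
  have hn : 0 < n := by
    rcases Nat.eq_zero_or_pos n with h | h
    · subst h; omega
    · exact h
  rwa [Nat.eq_of_mul_eq_mul_left hn this]

theorem repU : ∀ s, Rep perm100 (xU s) (bif s then certU.g1 else certU.g0) := rep_xU

theorem word_eq {u v : List Bool} (h : ∀ k : Fin 100, evU u k = evU v k) : ev xU u = ev xU v :=
  eq_of_rep perm100_injective fun k => by rw [rep_ev rep_xU, rep_ev rep_xU]; exact h k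

/-- Elements for the prime five. -/
noncomputable def fiveX (s : Bool) : HG := ev xU (bif s then wordB5 else wordA5)

theorem rep_five (s : Bool) : Rep perm100 (fiveX s) (bif s then fiveGen true else fiveGen false) := fun k => by
  have h := List.all_eq_true.1 five_gen_ok k (List.mem_range.2 k.2)
  simp only [fiveGenCheck, Bool.and_eq_true, Nat.beq_eq] at h
  cases s
  · exact (rep_ev rep_xU _ k).trans h.1.symm
  · exact (rep_ev rep_xU _ k).trans h.2.symm

theorem no_five {Γ : Type*} [Group Γ] [Finite Γ] {σ : Γ →* HG} (hσ : Cfsg.IsStemExtension σ) :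
    ∀ z : σ.ker, z ^ 5 = 1 → z = 1 := by
  obtain ⟨hf, hmove⟩ := five_ok
  have hk : ∀ k : Fin 100, _ := fun k : Fin 100 => List.all_eq_true.1 hf k (List.mem_range.2 k.2)
  simp only [fiveCheck, Bool.and_eq_true, Nat.beq_eq] at hk
  have eab := word_eq fun k => (hk k).1.1
  have eca := word_eq fun k => (hk k).2.1.1
  have ecb := word_eq fun k => (hk k).2.1.2
  have eta := word_eq fun k => (hk k).2.2.1
  have etb := word_eq fun k => (hk k).2.2.2.1
  have etc := word_eq fun k => (hk k).2.2.2.2
  have ea : ev xU (List.replicate 5 wordA5).flatten = ev xU [] := word_eq fun k => (hk k).1.2.1.trans (by simp [evU, Cert.evalP])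
  have eb : ev xU (List.replicate 5 wordB5).flatten = ev xU [] := word_eq fun k => (hk k).1.2.2.trans (by simp [evU, Cert.evalP])
  simp only [ev_append] at eab eca ecb eta etb etc
  simp only [List.replicate, List.flatten_cons, List.flatten_nil, List.append_nil, ev_append,
    show ev xU ([] : List Bool) = 1 from rfl] at ea eb
  have hcard := index_coprime (closed_card rep_five five_closed.1 five_closed.2.1 five_closed.2.2.1 (by norm_num) five_closed.2.2.2)
    354816 (by norm_num) (q := 5) (by norm_num)
  have hrange : Set.range fiveX = {ev xU wordA5, ev xU wordB5} := by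
    ext g
    simp only [Set.mem_range, Bool.exists_bool, Set.mem_insert_iff, Set.mem_singleton_iff, fiveX, cond_false,
      cond_true, eq_comm (a := g)]
  rw [hrange] at hcard
  refine ker_no_five hσ (c := ev xU wordC5) (t := ev xU wordT5) ?_ ?_ ?_ ?_ eca ecb ?_ ?_ ?_ hcard
  · rw [eab, mul_inv_cancel_right]
  · rw [← ea]; simp only [pow_succ, pow_zero, one_mul, mul_assoc]
  · rw [← eb]; simp only [pow_succ, pow_zero, one_mul, mul_assoc]
  · intro e
    rw [fiveMoves, List.any_eq_true] at hmove
    obtain ⟨k, hk', hne⟩ := hmove
    rw [List.mem_range] at hk'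
    simp only [Bool.not_eq_true', ← Bool.not_eq_true, Nat.beq_eq] at hne
    refine hne ?_
    have := rep_ev rep_xU wordC5 (⟨k, hk'⟩ : Fin 100)
    rw [e, map_one] at this
    exact this.symm
  · rw [eta, mul_inv_cancel_right, pow_two]
  · rw [etb, mul_inv_cancel_right, pow_two]
  · rw [etc, mul_inv_cancel_right]; simp only [pow_succ, pow_zero, one_mul, mul_assoc]

/-- Elements for the prime three. -/
noncomputable def threeX (s : Bool) : HG := bif s then el 6 else el 5

theorem rep_three (s : Bool) : Rep perm100 (threeX s) (bif s then upPerm 6 else upPerm 5) := by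
  cases s
  · exact rep_el (by norm_num)
  · exact rep_el (by norm_num)

theorem no_three {Γ : Type*} [Group Γ] [Finite Γ] {σ : Γ →* HG} (hσ : Cfsg.IsStemExtension σ) :
    ∀ z : σ.ker, z ^ 3 = 1 → z = 1 := by
  have hk : ∀ k : Fin 100, _ := fun k : Fin 100 => List.all_eq_true.1 three_ok k (List.mem_range.2 k.2)
  simp only [threeCheck, Bool.and_eq_true, Nat.beq_eq] at hk
  have r : ∀ (j : ℕ), j < 8 → ∀ k : Fin 100, ((perm100 (el j) k : Fin 100) : ℕ) = pget (upPerm j) k :=
    fun j hj k => rep_el hj k
  have hab : el 5 * el 6 = el 6 * el 5 := eq_of_rep perm100_injective fun k => by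
    simp only [map_mul, Equiv.Perm.mul_apply]
    rw [r 5 (by norm_num), r 6 (by norm_num), r 6 (by norm_num), r 5 (by norm_num)]
    exact (hk k).1.1
  have ha : el 5 ^ 3 = 1 := eq_of_rep perm100_injective fun k => by
    simp only [pow_succ, pow_zero, one_mul, map_mul, map_one, Equiv.Perm.mul_apply]
    rw [r 5 (by norm_num), r 5 (by norm_num), r 5 (by norm_num)]
    exact (hk k).1.2
  have hta : el 7 * el 5 = el 5 * el 5 * el 7 := eq_of_rep perm100_injective fun k => by
    simp only [map_mul, Equiv.Perm.mul_apply]
    rw [r 7 (by norm_num), r 5 (by norm_num), r 5 (by norm_num), r 5 (by norm_num), r 7 (by norm_num)]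
    exact (hk k).2.1
  have htb : el 7 * el 6 = el 6 * el 7 := eq_of_rep perm100_injective fun k => by
    simp only [map_mul, Equiv.Perm.mul_apply]
    rw [r 7 (by norm_num), r 6 (by norm_num), r 6 (by norm_num), r 7 (by norm_num)]
    exact (hk k).2.2
  have hcard := index_coprime (closed_card rep_three three_closed.1 three_closed.2.1 three_closed.2.2.1
    (by norm_num) three_closed.2.2.2) 4928000 (by norm_num) (q := 3) (by norm_num)
  have hrange : Set.range threeX = {el 5, el 6} := by
    ext g
    simp only [Set.mem_range, Bool.exists_bool, Set.mem_insert_iff, Set.mem_singleton_iff, threeX, cond_false,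
      cond_true, eq_comm (a := g)]
  rw [hrange] at hcard
  exact ker_no_three hσ hab ha (t := el 7) (by rw [hta, mul_inv_cancel_right, pow_two])
    (by rw [htb, mul_inv_cancel_right]) hcard

theorem no_torsion {Γ : Type*} [Group Γ] [Finite Γ] {σ : Γ →* HG} (hσ : Cfsg.IsStemExtension σ) :
    ∀ z : σ.ker, z ^ 1155 = 1 → z = 1 :=
  no_torsion_mul (m := 3) (n := 385) (no_three hσ) (no_torsion_mul (m := 5) (n := 77) (no_five hσ)
    (no_torsion_mul (m := 7) (n := 11) (ker_no_torsion hσ (by norm_num) (by rw [card_HG]; decide))
      (ker_no_torsion hσ (by norm_num) (by rw [card_HG]; decide))))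

theorem no_torsion_dvd {Γ : Type*} [Group Γ] [Finite Γ] {σ : Γ →* HG} (hσ : Cfsg.IsStemExtension σ) {m : ℕ}
    (hm : m ∣ 1155) : ∀ z : σ.ker, z ^ m = 1 → z = 1 := fun z hz => by
  obtain ⟨c, hc⟩ := hm
  exact no_torsion hσ z (by rw [hc, pow_mul, hz, one_pow])

/-! ### the bound -/

theorem upper (Γ : Type*) [Group Γ] [Finite Γ] (σ : Γ →* HG) (hσ : Cfsg.IsStemExtension σ) :
    ∃ g : σ.ker, g ^ 2 = 1 ∧ ∀ k : σ.ker, k ∈ Subgroup.zpowers g := by
  have hker := no_torsion hσ
  choose A hA hAp using fun s => exists_lift hσ.1 hσ.2.1
    (no_torsion_dvd hσ (m := bif s then certA.m1 else certA.m0) (by cases s <;> decide)) (pow_xA s)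
  choose U hU hUp using fun s => exists_lift hσ.1 hσ.2.1
    (no_torsion_dvd hσ (m := bif s then certU.m1 else certU.m0) (by cases s <;> decide)) (pow_xU s)
  choose X hX hXp using fun s => exists_lift hσ.1 hσ.2.1
    (no_torsion_dvd hσ (m := bif s then certG.m1 else certG.m0) (by cases s <;> decide)) (pow_xG s)
  let S1 : Setup certA Γ HG :=
    { σ := σ, φ := perm100, faithful := perm100_injective, central := hσ.2.1, x := A, y := fun _ => A false
      rep_x := fun s => (hA s).symm ▸ rep_xA s
      rep_y := fun s => by rw [hA]; exact rep_yA s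
      pow_x := hAp
      inj := fun w hw => by
        rw [CentralTable.ev, List.map_const', List.prod_replicate] at hw ⊢
        rw [map_pow, hA] at hw
        haveI : Fact (Nat.Prime 7) := ⟨by norm_num⟩
        have hne : xA false ≠ 1 := fun e => by
          have := card_subA
          have h1 : Nat.card subA ≤ 360 * 1 := by
            refine (setA.card_le (vanish_id setA rfl) a_targets.1).trans (Nat.mul_le_mul_left _ ?_)
            show Nat.card (Subgroup.closure (Set.range fun _ : Bool => xA false)) ≤ 1
            rw [Set.range_const, ← Subgroup.zpowers_eq_closure, Nat.card_zpowers, e, orderOf_one]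
          omega
        obtain ⟨m, hm⟩ := (orderOf_eq_prime (show xA false ^ 7 = 1 from pow_xA false) hne) ▸
          orderOf_dvd_of_pow_eq_one hw
        rw [hm, pow_mul, show A false ^ 7 = 1 from hAp false, one_pow]
      valid := validA }
  have heq : ev A (certA.rel 54) = ev A (certA.rel 55) := by
    obtain ⟨⟨h54, h55⟩, -⟩ : (certA.rel 54 = wordI ++ wordS ++ wordI ++ wordS ∧
        certA.rel 55 = wordI ++ wordI ++ wordS ++ wordS) ∧ 55 < certA.rels.length := by
      simpa [pairWords, Bool.and_eq_true, Nat.blt_eq] using pair_ok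
    have hk : ∀ k : Fin 100, _ := fun k : Fin 100 => List.all_eq_true.1 semi_ok k (List.mem_range.2 k.2)
    simp only [semiCheck, Bool.and_eq_true, Nat.beq_eq] at hk
    obtain ⟨r, hr⟩ := hσ.1 (ev xU wordR8)
    have hσA : ∀ w, σ (ev A w) = ev xA w := fun w => by rw [map_ev, show (fun s => σ (A s)) = xA from funext hA]
    have es : ev xA wordS ^ 2 = 1 := eq_of_rep perm100_injective fun k => by
      rw [pow_two, ← ev_append, rep_ev rep_xA, map_one]
      exact (hk k).1
    have econ : ev xA wordS * ev xU wordR8 = ev xU wordR8 ^ 3 * ev xA wordS := eq_of_rep perm100_injective fun k => by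
      rw [show ev xU wordR8 ^ 3 = ev xU (wordR8 ++ wordR8 ++ wordR8) by simp only [ev_append, pow_succ, pow_zero, one_mul],
        map_mul, map_mul, Equiv.Perm.mul_apply, Equiv.Perm.mul_apply, rep_ev rep_xA, rep_ev rep_xU, rep_ev rep_xU,
        rep_ev rep_xA]
      exact (hk k).2.1
    have ei : ev xA wordI = ev xU wordR8 ^ 4 := eq_of_rep perm100_injective fun k => by
      rw [show ev xU wordR8 ^ 4 = ev xU (wordR8 ++ wordR8 ++ wordR8 ++ wordR8) by
        simp only [ev_append, pow_succ, pow_zero, one_mul], rep_ev rep_xA, rep_ev rep_xU]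
      exact (hk k).2.2
    have hc := semidihedral_commute hσ.2.1 (x := ev A wordI) (s := ev A wordS) (r := r)
      (by rw [hσA]; exact es) (by rw [hσA, hr, econ, mul_inv_cancel_right]) (by rw [hσA, hr, ei])
    rw [h54, h55]
    simp only [ev_append]
    rw [mul_assoc (ev A wordI) (ev A wordS) (ev A wordI), ← hc, ← mul_assoc]
  have hlenA := a_targets.1
  have hv1 : S1.Vanish := S1.vanish_of_pair pairK hker
    (by have := pair_ok; simp [pairWords] at this; omega) (by have := pair_ok; simp [pairWords] at this; omega)
    heq a_targets.2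
  have hmapA : (Subgroup.closure (Set.range A)).map σ = subA := by
    rw [MonoidHom.map_closure, ← Set.range_comp, show σ ∘ A = xA from funext hA]
    rfl
  have hinjA := S1.inj_of_vanish hv1 hlenA (card_cyclic (hAp false)) (by
    show 360 * 7 ≤ Nat.card ((Subgroup.closure (Set.range A)).map σ)
    rw [hmapA]
    exact card_subA)
  let S2 : Setup certU Γ HG :=
    { σ := σ, φ := perm100, faithful := perm100_injective, central := hσ.2.1, x := U, y := A
      rep_x := fun s => (hU s).symm ▸ rep_xU s
      rep_y := fun s => (hA s).symm ▸ rep_yU s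
      pow_x := hUp
      inj := fun w hw => hinjA _ (ev_mem _ _) hw
      valid := validU }
  have hcA : Nat.card (Subgroup.closure (Set.range A)) ≤ 2520 :=
    (S1.card_le hv1 hlenA).trans ((Nat.mul_le_mul_left _ (card_cyclic (hAp false))).trans (le_of_eq rfl))
  have hmapU : (Subgroup.closure (Set.range U)).map σ = subU := by
    rw [MonoidHom.map_closure, ← Set.range_comp, show σ ∘ U = xU from funext hU]
    rfl
  have hinjU := S2.inj_of_vanish (S2.vanish_of_targets hker u_targets.2) u_targets.1 hcA (by
    show 50 * 2520 ≤ Nat.card ((Subgroup.closure (Set.range U)).map σ)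
    rw [hmapU, card_subU])
  let S3 : Setup certG Γ HG :=
    { σ := σ, φ := perm100, faithful := perm100_injective, central := hσ.2.1, x := X, y := U
      rep_x := fun s => (hX s).symm ▸ rep_xG s
      rep_y := fun s => (hU s).symm ▸ rep_yG s
      pow_x := hXp
      inj := fun w hw => hinjU _ (ev_mem _ _) hw
      valid := validG }
  exact S3.two_stage hσ subU (fun s => (hU s).symm ▸ Subgroup.subset_closure ⟨s, rfl⟩)
    (by show Subgroup.closure (Set.range fun s => σ (X s)) = ⊤
        rw [show (fun s => σ (X s)) = xG from funext hX]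
        exact gen_xG)
    (by show 352 * Nat.card subU ≤ Nat.card HG
        rw [card_subU, card_HG])
    parityG hker (show 0 < 19 by norm_num) g_targets.1 g_targets.2

theorem coset_bound : certG.N * Nat.card subU ≤ Nat.card HG := by
  rw [card_subU, card_HG]
  show 352 * 126000 ≤ 44352000
  norm_num

theorem multiplier_HG : Cfsg.HasCyclicSchurMultiplier HG 2 := by
  refine BlockSetup.hasCyclicSchur (G := HG) (C := certG) (D := signs)
    { φ := perm100
      faithful := perm100_injective
      x := xG
      rep_x := rep_xG
      H := subU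
      t := fun i => setG.t i
      step_lt := fun i hi s => setG.step_lt hi s
      edge := fun i s => by
        rw [show setG.t i * xG s = _ from setG.edge_image i.2 s]
        show CentralTable.ev xU _ * _ * _ ∈ subU
        rw [mul_inv_cancel_right]
        exact CentralTable.ev_mem _ _
      inj := fun i j h => Fin.ext (setG.coset_inj subU (fun s => Subgroup.subset_closure ⟨s, rfl⟩) gen_xG
        coset_bound i.2 j.2 h)
      gen := gen_xG
      npos := validG.npos
      odd := ⟨⟨5, rfl⟩, ⟨1, rfl⟩⟩
      blocks := fun j hj => List.all_eq_true.1 sign_blocks j (List.mem_range.2 hj)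
      distinct := fun j hj => List.all_eq_true.1 sign_distinct j (List.mem_range.2 hj)
      tree := fun i hi => List.all_eq_true.1 sign_tree i (List.mem_range.2 hi)
      words := sign_words } ?_
  intro Γ _ _ σ hσ
  exact upper Γ σ hσ

/-- The Schur multiplier of the Higman–Sims group has order two. -/
theorem multiplier : Cfsg.HasCyclicSchurMultiplier ↥Cfsg.Spor.HS 2 := by
  obtain ⟨e⟩ := hs_iso
  exact Cfsg.Agent.Small.PSLThreeTwo.transport e.symm multiplier_HG

end Cfsg.Agent.Lie.HigmanSimsMult
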